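import Groth.Agent.S19374
import Mathlib

/-!
# Quasi-concave functions on convex subsets of the projective realization of a fan (helper83)

`main`: a rational local maximum of a lower semicontinuous quasi-concave function on a convex subset
is a global maximum; uniqueness under strict quasi-concavity.
-/

set_option autoImplicit false
universe u v
open CategoryTheory Opposite Instab
open Instab Instab.Fan

namespace Groth.Agent.Lib.Helper83.FanMax

open Groth.Agent.S19374 (mk_smul realMap_id)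

variable {F : Fan.{u}}

instance : Subsingleton (Fin (Fan.one.dim : ℕ)) := (inferInstance : Subsingleton (Fin 1))

theorem exists_mk (x : Fan.P F) : ∃ (n : ICone) (ξ : F.obj (op n)) (v : Fan.Orth n), x = Fan.P.mk ξ v := by
  induction x using Quot.ind with
  | mk p =>
    obtain ⟨⟨n, ξ⟩, v⟩ := p
    exact ⟨n, ξ, v, rfl⟩

theorem continuous_mk {n : ICone} (ξ : F.obj (op n)) : Continuous (Fan.P.mk ξ) := by
  have : Fan.P.mk ξ = (Quot.mk (Fan.Rel F)) ∘ (Sigma.mk (⟨n, ξ⟩ : Σ n : ICone, F.obj (op n))) := rfl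
  rw [this]
  exact continuous_quot_mk.comp continuous_sigmaMk

/-- the integral ray through a nonzero nonnegative integer vector. -/
def rayHom {n : ICone} (z : Fin n.dim → ℤ) (hz : ∀ i, 0 ≤ z i) (hz0 : z ≠ 0) : Fan.one ⟶ n where
  toLin := LinearMap.toSpanSingleton ℤ (Fin n.dim → ℤ) z ∘ₗ
    (LinearMap.proj (0 : Fin Fan.one.dim) : (Fin Fan.one.dim → ℤ) →ₗ[ℤ] ℤ)
  injective := by
    intro a b hab
    simp only [LinearMap.coe_comp, Function.comp_apply, LinearMap.proj_apply,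
      LinearMap.toSpanSingleton_apply] at hab
    obtain ⟨i, hi⟩ : ∃ i, z i ≠ 0 := by
      by_contra h
      push Not at h
      exact hz0 (funext h)
    have h1 := congrFun hab i
    simp only [Pi.smul_apply, smul_eq_mul] at h1
    have h2 : a 0 = b 0 := mul_right_cancel₀ hi h1
    funext j
    have : j = 0 := Subsingleton.elim _ _
    rw [this]; exact h2
  nonneg := by
    intro v hv j
    simp only [LinearMap.coe_comp, Function.comp_apply, LinearMap.proj_apply,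
      LinearMap.toSpanSingleton_apply, Pi.smul_apply, smul_eq_mul]
    exact mul_nonneg (hv 0) (hz j)

theorem isRational_mk_int {n : ICone} (ξ : F.obj (op n)) (z : Fin n.dim → ℤ) (hz : ∀ i, 0 ≤ z i)
    (hz0 : z ≠ 0) (w : Fan.Orth n) (hw : w.1 = fun j => (z j : ℝ)) :
    (Fan.P.mk ξ w).IsRational := by
  refine ⟨F.map (rayHom z hz hz0).op ξ, ?_⟩
  symm
  apply Quot.sound
  refine Fan.Rel.glue (rayHom z hz hz0) ξ (Fan.Orth.ones Fan.one) w 1 one_pos ?_
  rw [one_smul, hw]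
  funext j
  change (z j : ℝ) = ∑ i, (((rayHom z hz hz0).toLin (Pi.single i 1) j : ℤ) : ℝ) * (1 : ℝ)
  rw [Fintype.sum_eq_single (0 : Fin Fan.one.dim)]
  · simp only [rayHom, LinearMap.coe_comp, Function.comp_apply, LinearMap.proj_apply,
      Pi.single_eq_same, LinearMap.toSpanSingleton_apply, one_smul, mul_one]
  · intro i hi
    exact absurd (Subsingleton.elim i 0) hi

theorem exists_cell {U : Set (Fan.P F)} (hU : Fan.IsRealizable U) (y : Fan.P F) (hy : y ∈ U) :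
    ∃ (n : ICone) (ξ : F.obj (op n)) (v : Fan.Orth n), y = Fan.P.mk ξ v ∧ Fan.P.cell ξ ⊆ U := by
  obtain ⟨S, rfl⟩ := hU
  obtain ⟨y₀, rfl⟩ := hy
  obtain ⟨n, ξ', v, rfl⟩ := exists_mk y₀
  refine ⟨n, S.ι.app (op n) ξ', v, rfl, ?_⟩
  rintro _ ⟨w, rfl⟩
  exact ⟨Fan.P.mk ξ' w, rfl⟩

theorem exists_int_approx {n : ICone} (O : Set (Fan.Orth n)) (hO : IsOpen O) (v : Fan.Orth n)
    (hv : v ∈ O) :
    ∃ (z : Fin n.dim → ℤ) (_ : ∀ i, 0 ≤ z i) (_ : z ≠ 0) (w : Fan.Orth n) (c : ℝ),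
      w ∈ O ∧ 0 < c ∧ (fun j => (z j : ℝ)) = c • w.1 := by
  obtain ⟨t, ht, rfl⟩ := isOpen_induced_iff.1 hO
  obtain ⟨ε, hε, hball⟩ := Metric.isOpen_iff.1 ht v.1 hv
  obtain ⟨N, hN⟩ := exists_nat_one_div_lt hε
  set M : ℝ := (N : ℝ) + 1 with hM
  have hMpos : 0 < M := by positivity
  let z : Fin n.dim → ℤ := fun i => ⌈M * v.1 i⌉
  have hz : ∀ i, 0 ≤ z i := fun i => Int.ceil_nonneg (mul_nonneg hMpos.le (v.2.1 i))
  obtain ⟨i₀, hi₀⟩ : ∃ i, v.1 i ≠ 0 := by
    by_contra h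
    push Not at h
    exact v.2.2 (funext h)
  have hz0 : z ≠ 0 := by
    intro h
    have h1 : z i₀ = 0 := congrFun h i₀
    have h2 : 0 < M * v.1 i₀ := mul_pos hMpos (lt_of_le_of_ne (v.2.1 i₀) (Ne.symm hi₀))
    have h3 : 0 < z i₀ := Int.ceil_pos.2 h2
    omega
  have hwnn : ∀ i, 0 ≤ (fun j => (z j : ℝ) / M) i := fun i =>
    div_nonneg (by exact_mod_cast hz i) hMpos.le
  have hwne : (fun j => (z j : ℝ) / M) ≠ 0 := by
    intro h
    apply hz0
    funext i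
    have h1 := congrFun h i
    simp only [Pi.zero_apply, div_eq_zero_iff, hMpos.ne', or_false] at h1
    exact_mod_cast h1
  refine ⟨z, hz, hz0, ⟨fun j => (z j : ℝ) / M, hwnn, hwne⟩, M, ?_, hMpos, ?_⟩
  · apply hball
    rw [Metric.mem_ball, dist_pi_lt_iff hε]
    intro i
    rw [Real.dist_eq]
    have h1 : M * v.1 i ≤ (z i : ℝ) := Int.le_ceil _
    have h2 : (z i : ℝ) < M * v.1 i + 1 := Int.ceil_lt_add_one _
    have h3 : (z i : ℝ) / M - v.1 i = ((z i : ℝ) - M * v.1 i) / M := by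
      field_simp
    rw [h3, abs_of_nonneg (div_nonneg (by linarith) hMpos.le)]
    calc ((z i : ℝ) - M * v.1 i) / M < 1 / M := by
          apply div_lt_div_of_pos_right _ hMpos
          linarith
      _ < ε := hN
  · funext j
    simp only [Pi.smul_apply, smul_eq_mul]
    field_simp

theorem fin_two_cases (j : Fin (Fan.two.dim : ℕ)) : j = 0 ∨ j = 1 := by
  change Fin 2 at j
  fin_cases j
  · left; rfl
  · right; rfl

theorem one_ne_zero' : (1 : Fin (Fan.two.dim : ℕ)) ≠ 0 := by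
  intro h
  have : ((1 : Fin (Fan.two.dim : ℕ)) : ℕ) = ((0 : Fin (Fan.two.dim : ℕ)) : ℕ) := congrArg _ h
  revert this
  decide

/-- the point `(1, |t|)` of the punctured quadrant. -/
noncomputable def vt (t : ℝ) : Fan.Orth Fan.two :=
  ⟨fun j => if j = 0 then 1 else |t|, fun j => by
    dsimp only
    split_ifs
    · exact zero_le_one
    · exact abs_nonneg t, fun h => by
    have h1 := congr_fun h 0
    dsimp only at h1
    rw [if_pos rfl] at h1
    exact one_ne_zero h1⟩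

theorem vt_apply (t : ℝ) (j : Fin (Fan.two.dim : ℕ)) : (vt t).1 j = if j = 0 then 1 else |t| := rfl

theorem basis_apply (i j : Fin (Fan.two.dim : ℕ)) :
    (Fan.Orth.basis Fan.two i).1 j = if j = i then 1 else 0 := rfl

theorem vt_zero : vt 0 = Fan.Orth.basis Fan.two 0 := by
  apply Subtype.ext
  funext j
  rw [vt_apply, basis_apply, abs_zero]

theorem vt_eq (t : ℝ) :
    (vt t).1 = (1 : ℝ) • (Fan.Orth.basis Fan.two 0).1 + |t| • (Fan.Orth.basis Fan.two 1).1 := by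
  funext j
  rw [Pi.add_apply, Pi.smul_apply, Pi.smul_apply, vt_apply, basis_apply, basis_apply]
  rcases fin_two_cases j with rfl | rfl
  · rw [if_pos rfl, if_pos rfl, if_neg one_ne_zero'.symm]
    simp
  · rw [if_neg one_ne_zero', if_neg one_ne_zero', if_pos rfl]
    simp

theorem continuous_vt : Continuous vt := by
  apply Continuous.subtype_mk
  apply continuous_pi
  intro j
  by_cases h : j = 0
  · simp only [if_pos h]; exact continuous_const
  · simp only [if_neg h]; exact continuous_abs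

theorem not_prop : ¬ ∃ c : ℝ, (Fan.Orth.basis Fan.two 1).1 = c • (Fan.Orth.basis Fan.two 0).1 := by
  rintro ⟨c, hc⟩
  have := congrFun hc 1
  rw [Pi.smul_apply, basis_apply, basis_apply, if_pos rfl, if_neg one_ne_zero'] at this
  simp at this


theorem part1 (F : Fan.{u}) (U : Set (Fan.P F))
    (hU : Fan.IsConvex U) {Γ : Type v} [LinearOrder Γ] (Φ : U → Γ) (hΦ : Fan.IsQuasiConcaveOn U Φ)
    (hlsc : ∀ c : Γ, IsClosed {x : U | Φ x ≤ c})
    (x : U) (hxrat : (x : Fan.P F).IsRational) (hmax : IsLocalMax Φ x) (y : U) : Φ y ≤ Φ x := by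
  by_contra hcon
  rw [not_le] at hcon
  obtain ⟨hLC, hR, hseg⟩ := hU
  obtain ⟨n, ξ, v, hyv, hcell⟩ := exists_cell hR y.1 y.2
  let g : Fan.Orth n → U := fun w => ⟨Fan.P.mk ξ w, hcell ⟨w, rfl⟩⟩
  have hg : Continuous g := (continuous_mk ξ).subtype_mk _
  have hWopen : IsOpen {z : U | Φ x < Φ z} := by
    have : {z : U | Φ x < Φ z} = {z : U | Φ z ≤ Φ x}ᶜ := by
      ext z
      simp only [Set.mem_ofPred_eq, Set.mem_compl_iff, not_le]
    rw [this]
    exact (hlsc (Φ x)).isOpen_compl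
  have hO : IsOpen (g ⁻¹' {z : U | Φ x < Φ z}) := hWopen.preimage hg
  have hgv : g v = y := Subtype.ext hyv.symm
  have hvO : v ∈ g ⁻¹' {z : U | Φ x < Φ z} := by
    change Φ x < Φ (g v)
    rw [hgv]; exact hcon
  obtain ⟨z, hz, hz0, w, c, hwO, hc, hzw⟩ := exists_int_approx _ hO v hvO
  have hw'1 : ∀ i, 0 ≤ (fun j => (z j : ℝ)) i := fun i => by
    change (0 : ℝ) ≤ (z i : ℝ)
    exact_mod_cast hz i
  have hw'2 : (fun j => (z j : ℝ)) ≠ 0 := by
    intro h
    apply hz0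
    funext i
    have h1 : (z i : ℝ) = 0 := congrFun h i
    change z i = 0
    exact_mod_cast h1
  let w' : Fan.Orth n := ⟨fun j => (z j : ℝ), hw'1, hw'2⟩
  have hww' : Fan.P.mk ξ w = Fan.P.mk ξ w' := mk_smul ξ w w' c hc hzw
  have hy'rat : ((g w : U) : Fan.P F).IsRational := by
    change (Fan.P.mk ξ w).IsRational
    rw [hww']
    exact isRational_mk_int ξ z hz hz0 w' rfl
  have hlt : Φ x < Φ (g w) := hwO
  have hne : (x : Fan.P F) ≠ ((g w : U) : Fan.P F) := by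
    intro h
    have : x = g w := Subtype.ext h
    rw [← this] at hlt
    exact lt_irrefl _ hlt
  obtain ⟨τ, hτU, hτ0, hτ1⟩ := hseg x.1 (g w).1 x.2 (g w).2 hxrat hy'rat hne
  let γ : ℝ → U := fun t => ⟨Fan.P.mk τ (vt t), hτU ⟨vt t, rfl⟩⟩
  have hγ : Continuous γ := ((continuous_mk τ).comp continuous_vt).subtype_mk _
  have hγ0 : γ 0 = x := by
    apply Subtype.ext
    change Fan.P.mk τ (vt 0) = x.1
    rw [vt_zero, hτ0]
  have hev : ∀ᶠ t in nhds (0 : ℝ), Φ (γ t) ≤ Φ x := by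
    have h1 : Filter.Tendsto γ (nhds 0) (nhds x) := by
      have := hγ.tendsto 0
      rwa [hγ0] at this
    exact h1.eventually hmax
  obtain ⟨δ, hδ, hδP⟩ := Metric.eventually_nhds_iff.1 hev
  have ht0 : (δ / 2) ≠ 0 := by positivity
  have hle : Φ (γ (δ / 2)) ≤ Φ x := by
    apply hδP
    rw [Real.dist_eq, sub_zero, abs_of_pos (by positivity)]
    linarith
  -- quasi-concavity
  have h₀ : Fan.P.mk τ (Fan.Orth.basis Fan.two 0) ∈ U := hτU ⟨_, rfl⟩
  have h₂ : Fan.P.mk τ (Fan.Orth.basis Fan.two 1) ∈ U := hτU ⟨_, rfl⟩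
  have h₁ : Fan.P.mk τ (vt (δ / 2)) ∈ U := hτU ⟨_, rfl⟩
  have hq := hΦ Fan.two τ (Fan.Orth.basis Fan.two 0) (vt (δ / 2)) (Fan.Orth.basis Fan.two 1)
    h₀ h₁ h₂ not_prop ⟨1, |δ / 2|, one_pos, abs_pos.2 ht0, vt_eq _⟩
  have e0 : (⟨_, h₀⟩ : U) = x := Subtype.ext hτ0
  have e2 : (⟨_, h₂⟩ : U) = g w := Subtype.ext hτ1
  have e1 : (⟨_, h₁⟩ : U) = γ (δ / 2) := rfl
  rw [e0, e2, e1, min_eq_left hlt.le] at hq
  have h3 : Φ (γ (δ / 2)) = Φ x := le_antisymm hle hq.1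
  have h4 := hq.2 h3
  rw [h4] at hlt
  exact lt_irrefl _ hlt

theorem main (F : Fan.{u}) (U : Set (Fan.P F))
    (hU : Fan.IsConvex U) {Γ : Type v} [LinearOrder Γ] (Φ : U → Γ) (hΦ : Fan.IsQuasiConcaveOn U Φ)
    (hlsc : ∀ c : Γ, IsClosed {x : U | Φ x ≤ c}) :
    (∀ x : U, (x : Fan.P F).IsRational → IsLocalMax Φ x → ∀ y : U, Φ y ≤ Φ x) ∧
    (Fan.IsStrictQuasiConcaveOn U Φ → ∀ x y : U, (x : Fan.P F).IsRational → (y : Fan.P F).IsRational →
      IsLocalMax Φ x → IsLocalMax Φ y → x = y) := by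
  refine ⟨fun x hx hmax y => part1 F U hU Φ hΦ hlsc x hx hmax y, ?_⟩
  intro hS x y hx hy hmx hmy
  by_contra hxy
  have hxy' : (x : Fan.P F) ≠ (y : Fan.P F) := fun h => hxy (Subtype.ext h)
  have hle1 : Φ y ≤ Φ x := part1 F U hU Φ hΦ hlsc x hx hmx y
  have hle2 : Φ x ≤ Φ y := part1 F U hU Φ hΦ hlsc y hy hmy x
  obtain ⟨τ, hτU, hτ0, hτ1⟩ := hU.2.2 x.1 y.1 x.2 y.2 hx hy hxy'
  have h₀ : Fan.P.mk τ (Fan.Orth.basis Fan.two 0) ∈ U := hτU ⟨_, rfl⟩
  have h₂ : Fan.P.mk τ (Fan.Orth.basis Fan.two 1) ∈ U := hτU ⟨_, rfl⟩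
  have h₁ : Fan.P.mk τ (vt 1) ∈ U := hτU ⟨_, rfl⟩
  have hq := hS Fan.two τ (Fan.Orth.basis Fan.two 0) (vt 1) (Fan.Orth.basis Fan.two 1)
    h₀ h₁ h₂ not_prop ⟨1, |(1 : ℝ)|, one_pos, abs_pos.2 one_ne_zero, vt_eq _⟩
  have e0 : (⟨_, h₀⟩ : U) = x := Subtype.ext hτ0
  have e2 : (⟨_, h₂⟩ : U) = y := Subtype.ext hτ1
  rw [e0, e2, min_eq_left hle2] at hq
  have := part1 F U hU Φ hΦ hlsc x hx hmx ⟨_, h₁⟩
  exact lt_irrefl _ (lt_of_lt_of_le hq this)

end Groth.Agent.Lib.Helper83.FanMax
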