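import Mathlib

set_option autoImplicit false

namespace Groth.Agent.Lib.Helper83.RatCara

open Finset

/-- A real nonnegative solution of a rational homogeneous linear system can be replaced by a
rational solution with the same support (positive exactly where the real one is). -/
theorem exists_rat_same_support {ι κ : Type*} [Fintype ι] (M : ι → κ → ℚ) (p : ι → ℝ)
    (hM : ∀ j, ∑ i, (M i j : ℝ) * p i = 0) :
    ∃ q : ι → ℚ, (∀ i, 0 < p i → 0 < q i) ∧ (∀ i, p i = 0 → q i = 0) ∧
      ∀ j, ∑ i, M i j * q i = 0 := by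
  classical
  let b := Module.Basis.ofVectorSpace ℚ ℝ
  let T : Finset (Module.Basis.ofVectorSpaceIndex ℚ ℝ) :=
    Finset.univ.biUnion fun i => (b.repr (p i)).support
  have hsum : ∀ i, p i = ∑ s ∈ T, ((b.repr (p i) s : ℚ) : ℝ) * (b s) := by
    intro i
    conv_lhs => rw [← b.linearCombination_repr (p i)]
    rw [Finsupp.linearCombination_apply, Finsupp.sum_of_support_subset (s := T)]
    · refine Finset.sum_congr rfl fun s _ => ?_
      rw [Rat.smul_def]
    · intro s hs
      exact Finset.mem_biUnion.2 ⟨i, Finset.mem_univ i, hs⟩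
    · intro s _
      simp
  have hMQ : ∀ s j, ∑ i, M i j * b.repr (p i) s = 0 := by
    intro s j
    have h0 : (∑ i, M i j • p i) = 0 := by
      rw [← hM j]
      refine Finset.sum_congr rfl fun i _ => ?_
      rw [Rat.smul_def]
    have h1 := congrArg (fun x => b.repr x s) h0
    simpa [map_sum, Finsupp.finsetSum_apply] using h1
  let g : ι → (Module.Basis.ofVectorSpaceIndex ℚ ℝ → ℝ) → ℝ :=
    fun i x => ∑ s ∈ T, ((b.repr (p i) s : ℚ) : ℝ) * x s
  have hg : ∀ i, Continuous (g i) := fun i =>
    continuous_finsetSum _ fun s _ => continuous_const.mul (continuous_apply s)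
  let U : Set (Module.Basis.ofVectorSpaceIndex ℚ ℝ → ℝ) := {x | ∀ i, 0 < p i → 0 < g i x}
  have hU : IsOpen U := by
    have : U = ⋂ i, {x | 0 < p i → 0 < g i x} := by
      ext x; simp [U]
    rw [this]
    refine isOpen_iInter_of_finite fun i => ?_
    by_cases h : 0 < p i
    · simp only [h, true_imp_iff]
      exact isOpen_lt continuous_const (hg i)
    · simp [h]
  have hbU : (fun s => (b s : ℝ)) ∈ U := by
    intro i hi
    change 0 < ∑ s ∈ T, ((b.repr (p i) s : ℚ) : ℝ) * (b s)
    rw [← hsum i]; exact hi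
  have hdense : DenseRange (Pi.map fun (_ : Module.Basis.ofVectorSpaceIndex ℚ ℝ) => ((↑) : ℚ → ℝ)) :=
    DenseRange.piMap fun _ => Rat.denseRange_cast
  obtain ⟨r, hr⟩ := hdense.exists_mem_open hU ⟨_, hbU⟩
  refine ⟨fun i => ∑ s ∈ T, b.repr (p i) s * r s, ?_, ?_, ?_⟩
  · intro i hi
    have h1 := hr i hi
    have h2 : ((∑ s ∈ T, b.repr (p i) s * r s : ℚ) : ℝ) = g i (Pi.map (fun _ => ((↑) : ℚ → ℝ)) r) := by
      simp [g, Pi.map]
    have : (0 : ℝ) < ((∑ s ∈ T, b.repr (p i) s * r s : ℚ) : ℝ) := by rw [h2]; exact h1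
    exact_mod_cast this
  · intro i hi
    simp [hi]
  · intro j
    simp_rw [Finset.mul_sum]
    rw [Finset.sum_comm]
    refine Finset.sum_eq_zero fun s _ => ?_
    have := hMQ s j
    calc ∑ i, M i j * (b.repr (p i) s * r s) = (∑ i, M i j * b.repr (p i) s) * r s := by
          rw [Finset.sum_mul]; exact Finset.sum_congr rfl fun i _ => by ring
      _ = 0 := by rw [this, zero_mul]

/-- Integer version. -/
theorem exists_int_same_support {ι κ : Type*} [Fintype ι] (M : ι → κ → ℤ) (p : ι → ℝ)
    (hM : ∀ j, ∑ i, (M i j : ℝ) * p i = 0) :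
    ∃ w : ι → ℤ, (∀ i, 0 < p i → 0 < w i) ∧ (∀ i, p i = 0 → w i = 0) ∧
      ∀ j, ∑ i, M i j * w i = 0 := by
  classical
  obtain ⟨q, hq1, hq2, hq3⟩ := exists_rat_same_support (fun i j => (M i j : ℚ)) p (by
    intro j; simpa using hM j)
  let D : ℕ := ∏ i, (q i).den
  have hD : 0 < D := Finset.prod_pos fun i _ => (q i).den_pos
  have hdvd : ∀ i, (q i).den ∣ D := fun i => Finset.dvd_prod_of_mem _ (Finset.mem_univ i)
  let w : ι → ℤ := fun i => ((D / (q i).den : ℕ) : ℤ) * (q i).num
  have hw : ∀ i, ((w i : ℤ) : ℚ) = (D : ℚ) * q i := by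
    intro i
    have h1 : ((q i).num : ℚ) = q i * (q i).den := (Rat.mul_den_eq_num (q i)).symm
    have h2 : ((D / (q i).den : ℕ) : ℚ) * ((q i).den : ℚ) = (D : ℚ) := by
      rw [← Nat.cast_mul, Nat.div_mul_cancel (hdvd i)]
    simp only [w, Int.cast_mul, Int.cast_natCast, h1]
    rw [← h2]; ring
  have hDq : (0 : ℚ) < D := by exact_mod_cast hD
  refine ⟨w, ?_, ?_, ?_⟩
  · intro i hi
    have : (0 : ℚ) < (w i : ℚ) := by rw [hw]; exact mul_pos hDq (hq1 i hi)
    exact_mod_cast this
  · intro i hi
    have : (w i : ℚ) = 0 := by rw [hw, hq2 i hi, mul_zero]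
    exact_mod_cast this
  · intro j
    have : ((∑ i, M i j * w i : ℤ) : ℚ) = 0 := by
      push_cast
      simp_rw [hw]
      calc ∑ i, (M i j : ℚ) * ((D : ℚ) * q i) = (D : ℚ) * ∑ i, (M i j : ℚ) * q i := by
            rw [Finset.mul_sum]; exact Finset.sum_congr rfl fun i _ => by ring
        _ = 0 := by rw [hq3 j, mul_zero]
    exact_mod_cast this

/-- Rational Caratheodory: a real nonnegative solution of an integer homogeneous linear system is a
positive combination of linearly independent nonnegative integer solutions. -/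
theorem caratheodory {ι κ : Type*} [Fintype ι] (M : ι → κ → ℤ) :
    ∀ (N : ℕ) (p : ι → ℝ), (Finset.univ.filter fun i => p i ≠ 0).card = N → (∀ i, 0 ≤ p i) →
      (∀ j, ∑ i, (M i j : ℝ) * p i = 0) →
      ∃ (l : ℕ) (q : Fin l → ι → ℤ) (z : Fin l → ℝ),
        (∀ s i, 0 ≤ q s i) ∧ (∀ s j, ∑ i, M i j * q s i = 0) ∧ (∀ s, 0 < z s) ∧
        (∀ i, p i = ∑ s, z s * (q s i : ℝ)) ∧
        (∀ m : Fin l → ℤ, (∀ i, ∑ s, m s * q s i = 0) → m = 0) := by
  classical
  intro N
  induction N using Nat.strong_induction_on with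
  | _ N ih =>
    intro p hN hp hM
    by_cases h0 : ∀ i, p i = 0
    · refine ⟨0, Fin.elim0, Fin.elim0, fun s => s.elim0, fun s => s.elim0, fun s => s.elim0, ?_, ?_⟩
      · intro i; simp [h0 i]
      · intro m _; funext s; exact s.elim0
    · push Not at h0
      obtain ⟨i₁, hi₁⟩ := h0
      obtain ⟨w, hw1, hw2, hw3⟩ := exists_int_same_support M p hM
      have hIne : (Finset.univ.filter fun i => p i ≠ 0).Nonempty := ⟨i₁, by simp [hi₁]⟩
      obtain ⟨i₀, hi₀I, hmin⟩ := Finset.exists_min_image _ (fun i => p i / (w i : ℝ)) hIne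
      have hpos : ∀ i, p i ≠ 0 → 0 < p i ∧ (0 : ℝ) < w i := by
        intro i hi
        have h1 : 0 < p i := lt_of_le_of_ne (hp i) (Ne.symm hi)
        exact ⟨h1, by exact_mod_cast hw1 i h1⟩
      have hi₀ : p i₀ ≠ 0 := by simpa using hi₀I
      obtain ⟨hp₀, hw₀⟩ := hpos i₀ hi₀
      set θ : ℝ := p i₀ / (w i₀ : ℝ) with hθ
      have hθpos : 0 < θ := div_pos hp₀ hw₀
      let p' : ι → ℝ := fun i => p i - θ * (w i : ℝ)
      have hp'0 : ∀ i, p i = 0 → p' i = 0 := by
        intro i hi
        simp [p', hi, hw2 i hi]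
      have hp'i₀ : p' i₀ = 0 := by
        simp only [p', hθ]
        field_simp
        ring
      have hp'nn : ∀ i, 0 ≤ p' i := by
        intro i
        by_cases hi : p i = 0
        · rw [hp'0 i hi]
        · obtain ⟨h1, h2⟩ := hpos i hi
          have h3 : θ ≤ p i / (w i : ℝ) := hmin i (by simp [hi])
          have h4 : θ * (w i : ℝ) ≤ p i := (le_div_iff₀ h2).1 h3
          simp only [p']; linarith
      have hcard : (Finset.univ.filter fun i => p' i ≠ 0).card < N := by
        rw [← hN]
        apply Finset.card_lt_card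
        refine ⟨?_, ?_⟩
        · intro i hi
          simp only [Finset.mem_filter, Finset.mem_univ, true_and] at hi ⊢
          exact fun h => hi (hp'0 i h)
        · intro hsub
          have := hsub hi₀I
          simp only [Finset.mem_filter, Finset.mem_univ, true_and] at this
          exact this hp'i₀
      have hM' : ∀ j, ∑ i, (M i j : ℝ) * p' i = 0 := by
        intro j
        have h1 : (∑ i, (M i j : ℝ) * (w i : ℝ)) = 0 := by
          have := hw3 j
          exact_mod_cast this
        calc ∑ i, (M i j : ℝ) * p' i = (∑ i, (M i j : ℝ) * p i) - θ * ∑ i, (M i j : ℝ) * (w i : ℝ) := by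
              rw [Finset.mul_sum, ← Finset.sum_sub_distrib]
              exact Finset.sum_congr rfl fun i _ => by simp only [p']; ring
          _ = 0 := by rw [hM j, h1]; ring
      obtain ⟨l, q, z, hq1, hq2, hz, hpz, hind⟩ := ih _ hcard p' rfl hp'nn hM'
      have hqi₀ : ∀ s, q s i₀ = 0 := by
        intro s
        have h1 := hpz i₀
        rw [hp'i₀] at h1
        have h2 := (Finset.sum_eq_zero_iff_of_nonneg (fun s _ =>
          mul_nonneg (hz s).le (by exact_mod_cast hq1 s i₀))).1 h1.symm s (Finset.mem_univ s)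
        have h3 : ((q s i₀ : ℤ) : ℝ) = 0 := by
          rcases mul_eq_zero.1 h2 with h | h
          · exact absurd h (hz s).ne'
          · exact h
        exact_mod_cast h3
      refine ⟨l + 1, Fin.cons w q, Fin.cons θ z, ?_, ?_, ?_, ?_, ?_⟩
      · intro s i
        refine Fin.cases ?_ (fun s => ?_) s
        · simp only [Fin.cons_zero]
          by_cases hi : p i = 0
          · rw [hw2 i hi]
          · exact (hw1 i (hpos i hi).1).le
        · simp only [Fin.cons_succ]; exact hq1 s i
      · intro s j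
        refine Fin.cases ?_ (fun s => ?_) s
        · simp only [Fin.cons_zero]; exact hw3 j
        · simp only [Fin.cons_succ]; exact hq2 s j
      · intro s
        refine Fin.cases ?_ (fun s => ?_) s
        · simp only [Fin.cons_zero]; exact hθpos
        · simp only [Fin.cons_succ]; exact hz s
      · intro i
        rw [Fin.sum_univ_succ]
        simp only [Fin.cons_zero, Fin.cons_succ]
        rw [← hpz i]
        simp only [p']; ring
      · intro m hm
        have hm0 : m 0 = 0 := by
          have h1 := hm i₀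
          rw [Fin.sum_univ_succ] at h1
          simp only [Fin.cons_zero, Fin.cons_succ, hqi₀, mul_zero, Finset.sum_const_zero,
            add_zero] at h1
          have hw₀' : w i₀ ≠ 0 := by
            intro h; rw [h] at hw₀; simp at hw₀
          rcases mul_eq_zero.1 h1 with h | h
          · exact h
          · exact absurd h hw₀'
        have hm1 : (fun s => m (Fin.succ s)) = 0 := by
          apply hind
          intro i
          have h1 := hm i
          rw [Fin.sum_univ_succ] at h1
          simpa only [Fin.cons_zero, Fin.cons_succ, hm0, zero_mul, zero_add] using h1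
        funext s
        refine Fin.cases ?_ (fun s => ?_) s
        · exact hm0
        · exact congrFun hm1 s

end Groth.Agent.Lib.Helper83.RatCara
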