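import Groth.Prelude.Def_W4c6instabfans3Fan
import Groth.Agent.Lib.Helper83.RatCara
import Mathlib

/-!
# Points of the projective realization of a fan: equality = common sub-cone (helper83)

`S F a b`: the two points `a b : Fan.Pt F` lie in a common sub-cone. `S_of_eqvGen`: the equivalence
relation generated by `Fan.Rel F` is contained in `S F`. `main`: `P.mk σ₁ v₁ = P.mk σ₂ v₂` implies a
common sub-cone. Uses rational Caratheodory (`RatCara.caratheodory`) for transitivity.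
-/

set_option autoImplicit false
universe u
open CategoryTheory Opposite Instab
open Instab Instab.Fan

namespace Groth.Agent.Lib.Helper83.FanSub

variable {F : Fan.{u}}

theorem realMap_id (n : ICone) (v : Fin n.dim → ℝ) : (𝟙 n : n ⟶ n).realMap v = v := by
  funext j
  change ∑ i, (((LinearMap.id : (Fin n.dim → ℤ) →ₗ[ℤ] (Fin n.dim → ℤ)) (Pi.single i 1) j : ℤ) : ℝ)
    * v i = v j
  simp only [LinearMap.id_apply]
  rw [Finset.sum_eq_single j]
  · simp
  · intro i _ hij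
    simp [hij.symm]
  · intro h
    exact absurd (Finset.mem_univ j) h

theorem toLin_apply {k n : ICone} (φ : k ⟶ n) (w : Fin k.dim → ℤ) (j : Fin n.dim) :
    φ.toLin w j = ∑ i, w i * φ.toLin (Pi.single i 1) j := by
  have h := LinearMap.pi_apply_eq_sum_univ φ.toLin w
  have h2 : ∀ i : Fin k.dim, (fun j => if i = j then (1 : ℤ) else 0) = Pi.single i 1 := by
    intro i; funext j
    by_cases hij : i = j
    · subst hij; simp
    · simp [hij, Ne.symm hij]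
  rw [h]
  simp only [h2, Finset.sum_apply, Pi.smul_apply, smul_eq_mul]

theorem realMap_apply {k n : ICone} (φ : k ⟶ n) (v : Fin k.dim → ℝ) (j : Fin n.dim) :
    φ.realMap v j = ∑ i, (φ.toLin (Pi.single i 1) j : ℝ) * v i := rfl

theorem comp_toLin {l k n : ICone} (α : l ⟶ k) (φ : k ⟶ n) :
    (α ≫ φ).toLin = φ.toLin.comp α.toLin := rfl

theorem realMap_comp {l k n : ICone} (α : l ⟶ k) (φ : k ⟶ n) (v : Fin l.dim → ℝ) :
    (α ≫ φ).realMap v = φ.realMap (α.realMap v) := by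
  funext j
  rw [realMap_apply, realMap_apply]
  simp only [realMap_apply, comp_toLin, LinearMap.comp_apply]
  have h1 : ∀ s : Fin l.dim, ((φ.toLin (α.toLin (Pi.single s 1)) j : ℤ) : ℝ)
      = ∑ i, ((α.toLin (Pi.single s 1) i : ℤ) : ℝ) * ((φ.toLin (Pi.single i 1) j : ℤ) : ℝ) := by
    intro s
    rw [toLin_apply φ]
    push_cast
    rfl
  simp_rw [h1, Finset.sum_mul, Finset.mul_sum]
  rw [Finset.sum_comm]
  refine Finset.sum_congr rfl fun i _ => Finset.sum_congr rfl fun s _ => by ring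

theorem realMap_smul {k n : ICone} (φ : k ⟶ n) (a : ℝ) (v : Fin k.dim → ℝ) :
    φ.realMap (a • v) = a • φ.realMap v := by
  funext j
  simp only [realMap_apply, Pi.smul_apply, smul_eq_mul, Finset.mul_sum]
  refine Finset.sum_congr rfl fun i _ => by ring

/-- Two points of the disjoint union lie in a common sub-cone. -/
def S (F : Fan.{u}) (a b : Fan.Pt F) : Prop :=
  ∃ (k : ICone) (φ₁ : k ⟶ a.1.1) (φ₂ : k ⟶ b.1.1) (y : Fan.Orth k) (c₁ c₂ : ℝ),
    F.map φ₁.op a.1.2 = F.map φ₂.op b.1.2 ∧ 0 < c₁ ∧ 0 < c₂ ∧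
      a.2.1 = c₁ • φ₁.realMap y.1 ∧ b.2.1 = c₂ • φ₂.realMap y.1

theorem S_refl (a : Fan.Pt F) : S F a a :=
  ⟨a.1.1, 𝟙 _, 𝟙 _, a.2, 1, 1, rfl, one_pos, one_pos, by rw [realMap_id, one_smul],
    by rw [realMap_id, one_smul]⟩

theorem S_symm {a b : Fan.Pt F} (h : S F a b) : S F b a := by
  obtain ⟨k, φ₁, φ₂, y, c₁, c₂, h1, h2, h3, h4, h5⟩ := h
  exact ⟨k, φ₂, φ₁, y, c₂, c₁, h1.symm, h3, h2, h5, h4⟩

theorem S_of_rel {a b : Fan.Pt F} (h : Fan.Rel F a b) : S F a b := by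
  rcases h with @⟨k, n, φ, ξ, v, w, c, hc, h⟩
  refine ⟨k, 𝟙 k, φ, v, 1, c, ?_, one_pos, hc, ?_, h⟩
  · change F.map (𝟙 k : k ⟶ k).op (F.map φ.op ξ) = F.map φ.op ξ
    rw [op_id, F.map_id]
    rfl
  · change v.1 = (1 : ℝ) • (𝟙 k : k ⟶ k).realMap v.1
    rw [realMap_id, one_smul]

/-- Build the two legs of the fibre product from linearly independent integer solutions. -/
theorem build {k k' n L : ICone} (A : k ⟶ n) (B : k' ⟶ n)
    (q : Fin L.dim → (Fin k.dim ⊕ Fin k'.dim) → ℤ)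
    (hq1 : ∀ s i, 0 ≤ q s i)
    (hq2 : ∀ s j, ∑ i, (Sum.elim (fun i j => A.toLin (Pi.single i 1) j)
      (fun i j => - B.toLin (Pi.single i 1) j) i j) * q s i = 0)
    (hind : ∀ m : Fin L.dim → ℤ, (∀ i, ∑ s, m s * q s i = 0) → m = 0) :
    ∃ (α : L ⟶ k) (α' : L ⟶ k'), α ≫ A = α' ≫ B ∧
      (∀ s i, α.toLin (Pi.single s 1) i = q s (Sum.inl i)) ∧
      (∀ s i, α'.toLin (Pi.single s 1) i = q s (Sum.inr i)) := by
  classical
  let a : Fin L.dim → (Fin k.dim → ℤ) := fun s i => q s (Sum.inl i)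
  let b : Fin L.dim → (Fin k'.dim → ℤ) := fun s i => q s (Sum.inr i)
  let αl : (Fin L.dim → ℤ) →ₗ[ℤ] (Fin k.dim → ℤ) := Fintype.linearCombination ℤ a
  let βl : (Fin L.dim → ℤ) →ₗ[ℤ] (Fin k'.dim → ℤ) := Fintype.linearCombination ℤ b
  have hαl : ∀ m i, αl m i = ∑ s, m s * q s (Sum.inl i) := by
    intro m i
    simp only [αl, Fintype.linearCombination_apply, Finset.sum_apply, Pi.smul_apply, smul_eq_mul, a]
  have hβl : ∀ m i, βl m i = ∑ s, m s * q s (Sum.inr i) := by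
    intro m i
    simp only [βl, Fintype.linearCombination_apply, Finset.sum_apply, Pi.smul_apply, smul_eq_mul, b]
  have hab : ∀ s, A.toLin (a s) = B.toLin (b s) := by
    intro s
    funext j
    rw [toLin_apply A, toLin_apply B]
    have h := hq2 s j
    rw [Fintype.sum_sum_type] at h
    simp only [Sum.elim_inl, Sum.elim_inr] at h
    have e1 : ∑ i, a s i * A.toLin (Pi.single i 1) j
        = ∑ i, A.toLin (Pi.single i 1) j * q s (Sum.inl i) :=
      Finset.sum_congr rfl fun i _ => mul_comm _ _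
    have e2 : ∑ i, b s i * B.toLin (Pi.single i 1) j
        = - ∑ i, (- B.toLin (Pi.single i 1) j) * q s (Sum.inr i) := by
      rw [← Finset.sum_neg_distrib]
      exact Finset.sum_congr rfl fun i _ => by simp only [b]; ring
    rw [e1, e2]; linarith
  have key : ∀ m, A.toLin (αl m) = B.toLin (βl m) := by
    intro m
    simp only [αl, βl, Fintype.linearCombination_apply, map_sum, map_smul, hab]
  have hαinj : Function.Injective αl := by
    refine (injective_iff_map_eq_zero αl).2 fun m hm => hind m ?_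
    have hm' : βl m = 0 := by
      apply B.injective
      rw [← key m, hm, map_zero, map_zero]
    rintro (i | i)
    · rw [← hαl, hm]; rfl
    · rw [← hβl, hm']; rfl
  have hβinj : Function.Injective βl := by
    refine (injective_iff_map_eq_zero βl).2 fun m hm => hind m ?_
    have hm' : αl m = 0 := by
      apply A.injective
      rw [key m, hm, map_zero, map_zero]
    rintro (i | i)
    · rw [← hαl, hm']; rfl
    · rw [← hβl, hm]; rfl
  refine ⟨⟨αl, hαinj, ?_⟩, ⟨βl, hβinj, ?_⟩, ?_, ?_, ?_⟩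
  · intro v hv j
    rw [hαl]
    exact Finset.sum_nonneg fun s _ => mul_nonneg (hv s) (hq1 s _)
  · intro v hv j
    rw [hβl]
    exact Finset.sum_nonneg fun s _ => mul_nonneg (hv s) (hq1 s _)
  · apply ICone.Hom.ext
    change A.toLin.comp αl = B.toLin.comp βl
    exact LinearMap.ext key
  · intro s i
    change αl (Pi.single s 1) i = _
    rw [hαl, Finset.sum_eq_single s]
    · simp
    · intro t _ hts
      simp [hts]
    · intro h; exact absurd (Finset.mem_univ s) h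
  · intro s i
    change βl (Pi.single s 1) i = _
    rw [hβl, Finset.sum_eq_single s]
    · simp
    · intro t _ hts
      simp [hts]
    · intro h; exact absurd (Finset.mem_univ s) h

/-- The fibre product of two cones over a third contains every pair of real points with the same
image, inside a simplicial sub-cone. -/
theorem exists_fiber {k k' n : ICone} (A : k ⟶ n) (B : k' ⟶ n) (y : Fan.Orth k) (y' : Fan.Orth k')
    (c d : ℝ) (hc : 0 < c) (hd : ∀ i, 0 ≤ d * y'.1 i) (h : c • A.realMap y.1 = d • B.realMap y'.1) :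
    ∃ (l : ICone) (α : l ⟶ k) (α' : l ⟶ k') (z : Fan.Orth l),
      α ≫ A = α' ≫ B ∧ c • y.1 = α.realMap z.1 ∧ d • y'.1 = α'.realMap z.1 := by
  classical
  let M : (Fin k.dim ⊕ Fin k'.dim) → Fin n.dim → ℤ :=
    Sum.elim (fun i j => A.toLin (Pi.single i 1) j) (fun i j => - B.toLin (Pi.single i 1) j)
  let p : (Fin k.dim ⊕ Fin k'.dim) → ℝ := Sum.elim (c • y.1) (d • y'.1)
  have hM : ∀ j, ∑ i, (M i j : ℝ) * p i = 0 := by
    intro j
    have hj := congrFun h j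
    simp only [Pi.smul_apply, smul_eq_mul, realMap_apply] at hj
    rw [Fintype.sum_sum_type]
    simp only [M, p, Sum.elim_inl, Sum.elim_inr, Pi.smul_apply, smul_eq_mul, Int.cast_neg]
    have h1 : ∑ i, ((A.toLin (Pi.single i 1) j : ℤ) : ℝ) * (c * y.1 i)
        = c * ∑ i, ((A.toLin (Pi.single i 1) j : ℤ) : ℝ) * y.1 i := by
      rw [Finset.mul_sum]; exact Finset.sum_congr rfl fun i _ => by ring
    have h2 : ∑ i, -((B.toLin (Pi.single i 1) j : ℤ) : ℝ) * (d * y'.1 i)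
        = - (d * ∑ i, ((B.toLin (Pi.single i 1) j : ℤ) : ℝ) * y'.1 i) := by
      rw [Finset.mul_sum, ← Finset.sum_neg_distrib]; exact Finset.sum_congr rfl fun i _ => by ring
    rw [h1, h2, hj]; ring
  have hp : ∀ i, 0 ≤ p i := by
    rintro (i | i)
    · exact mul_nonneg hc.le (y.2.1 i)
    · -- sign of d: from the equation, `d` may be arbitrary; we need `0 ≤ d * y' i`.
      exact hd i
  obtain ⟨l, q, z, hq1, hq2, hz, hpz, hind⟩ := RatCara.caratheodory M _ p rfl hp hM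
  rcases l with _ | l
  · exfalso
    apply y.2.2
    funext i
    have h1 := hpz (Sum.inl i)
    simp only [p, Sum.elim_inl, Pi.smul_apply, smul_eq_mul, Finset.univ_eq_empty,
      Finset.sum_empty] at h1
    rcases mul_eq_zero.1 h1 with h2 | h2
    · exact absurd h2 hc.ne'
    · exact h2
  · let L : ICone := ⟨⟨l + 1, Nat.succ_pos l⟩⟩
    obtain ⟨α, α', hcomm, hα, hα'⟩ := build (L := L) A B q hq1 hq2 hind
    let z' : Fan.Orth L := ⟨z, fun s => (hz s).le, fun h0 => (hz 0).ne' (congrFun h0 0)⟩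
    refine ⟨L, α, α', z', hcomm, ?_, ?_⟩
    · funext i
      rw [realMap_apply]
      simp_rw [hα]
      have h1 := hpz (Sum.inl i)
      simp only [p, Sum.elim_inl] at h1
      rw [h1]
      exact Finset.sum_congr rfl fun s _ => mul_comm _ _
    · funext i
      rw [realMap_apply]
      simp_rw [hα']
      have h1 := hpz (Sum.inr i)
      simp only [p, Sum.elim_inr] at h1
      rw [h1]
      exact Finset.sum_congr rfl fun s _ => mul_comm _ _

theorem S_trans {a b c : Fan.Pt F} (hab : S F a b) (hbc : S F b c) : S F a c := by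
  obtain ⟨⟨n₁, σ₁⟩, v₁⟩ := a
  obtain ⟨⟨n₂, σ₂⟩, v₂⟩ := b
  obtain ⟨⟨n₃, σ₃⟩, v₃⟩ := c
  obtain ⟨k, φ₁, φ₂, y, c₁, c₂, hF, hc₁, hc₂, h1, h2⟩ := hab
  obtain ⟨k', ψ₂, ψ₃, y', d₂, d₃, hG, hd₂, hd₃, h3, h4⟩ := hbc
  change F.map φ₁.op σ₁ = F.map φ₂.op σ₂ at hF
  change F.map ψ₂.op σ₂ = F.map ψ₃.op σ₃ at hG
  change v₁.1 = c₁ • φ₁.realMap y.1 at h1
  change v₂.1 = c₂ • φ₂.realMap y.1 at h2
  change v₂.1 = d₂ • ψ₂.realMap y'.1 at h3
  change v₃.1 = d₃ • ψ₃.realMap y'.1 at h4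
  obtain ⟨l, α, α', z, hcomm, hy, hy'⟩ := exists_fiber φ₂ ψ₂ y y' c₂ d₂ hc₂
    (fun i => mul_nonneg hd₂.le (y'.2.1 i)) (h2.symm.trans h3)
  have hy1 : y.1 = c₂⁻¹ • α.realMap z.1 := by
    rw [← hy, smul_smul, inv_mul_cancel₀ hc₂.ne', one_smul]
  have hy2 : y'.1 = d₂⁻¹ • α'.realMap z.1 := by
    rw [← hy', smul_smul, inv_mul_cancel₀ hd₂.ne', one_smul]
  refine ⟨l, α ≫ φ₁, α' ≫ ψ₃, z, c₁ * c₂⁻¹, d₃ * d₂⁻¹, ?_, mul_pos hc₁ (inv_pos.2 hc₂),
    mul_pos hd₃ (inv_pos.2 hd₂), ?_, ?_⟩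
  · change F.map (α ≫ φ₁).op σ₁ = F.map (α' ≫ ψ₃).op σ₃
    rw [op_comp, op_comp, Functor.map_comp_apply, Functor.map_comp_apply, hF, ← hG,
      ← Functor.map_comp_apply, ← Functor.map_comp_apply, ← op_comp, ← op_comp, hcomm]
  · change v₁.1 = (c₁ * c₂⁻¹) • (α ≫ φ₁).realMap z.1
    rw [h1, hy1, realMap_comp, realMap_smul, smul_smul]
  · change v₃.1 = (d₃ * d₂⁻¹) • (α' ≫ ψ₃).realMap z.1
    rw [h4, hy2, realMap_comp, realMap_smul, smul_smul]

theorem S_of_eqvGen {a b : Fan.Pt F} (h : Relation.EqvGen (Fan.Rel F) a b) : S F a b := by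
  induction h with
  | rel x y hxy => exact S_of_rel hxy
  | refl x => exact S_refl x
  | symm x y _ ih => exact S_symm ih
  | trans x y z _ _ ih1 ih2 => exact S_trans ih1 ih2

theorem main (F : Fan.{u}) {n₁ n₂ : ICone}
    (σ₁ : F.obj (op n₁)) (σ₂ : F.obj (op n₂)) (v₁ : Fan.Orth n₁) (v₂ : Fan.Orth n₂)
    (h : Fan.P.mk σ₁ v₁ = Fan.P.mk σ₂ v₂) :
    ∃ (k : ICone) (φ₁ : k ⟶ n₁) (φ₂ : k ⟶ n₂) (y : Fan.Orth k) (c₁ c₂ : ℝ),
      F.map φ₁.op σ₁ = F.map φ₂.op σ₂ ∧ 0 < c₁ ∧ 0 < c₂ ∧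
        v₁.1 = c₁ • φ₁.realMap y.1 ∧ v₂.1 = c₂ • φ₂.realMap y.1 :=
  S_of_eqvGen (Quot.eqvGen_exact h)

/-- Converse: a common sub-cone gives equal points. -/
theorem mk_eq_of_S {a b : Fan.Pt F} (h : S F a b) :
    (Quot.mk (Fan.Rel F) a : Fan.P F) = Quot.mk (Fan.Rel F) b := by
  obtain ⟨⟨n₁, σ₁⟩, v₁⟩ := a
  obtain ⟨⟨n₂, σ₂⟩, v₂⟩ := b
  obtain ⟨k, φ₁, φ₂, y, c₁, c₂, hF, hc₁, hc₂, h1, h2⟩ := h
  change F.map φ₁.op σ₁ = F.map φ₂.op σ₂ at hF
  have e1 : (Quot.mk (Fan.Rel F) ⟨⟨k, F.map φ₁.op σ₁⟩, y⟩ : Fan.P F)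
      = Quot.mk (Fan.Rel F) ⟨⟨n₁, σ₁⟩, v₁⟩ := Quot.sound (Fan.Rel.glue φ₁ σ₁ y v₁ c₁ hc₁ h1)
  have e2 : (Quot.mk (Fan.Rel F) ⟨⟨k, F.map φ₂.op σ₂⟩, y⟩ : Fan.P F)
      = Quot.mk (Fan.Rel F) ⟨⟨n₂, σ₂⟩, v₂⟩ := Quot.sound (Fan.Rel.glue φ₂ σ₂ y v₂ c₂ hc₂ h2)
  rw [← e1, ← e2, hF]

end Groth.Agent.Lib.Helper83.FanSub
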