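import Groth.Prelude.Def_W4c6instabfans3Fan
import Groth.Agent.Lib.Helper83.FanSub
import Mathlib

/-!
# Maps of fans and projective realizations (helper83)
-/

set_option autoImplicit false
universe u
open CategoryTheory Opposite Instab Limits
open Instab Instab.Fan

namespace Groth.Agent.Lib.Helper83.FanMap

open Groth.Agent.Lib.Helper83.FanSub

variable {F G : Fan.{u}}

theorem exists_mk (x : Fan.P F) : ∃ (n : ICone) (ξ : F.obj (op n)) (v : Fan.Orth n), x = Fan.P.mk ξ v := by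
  induction x using Quot.ind with
  | mk p =>
    obtain ⟨⟨n, ξ⟩, v⟩ := p
    exact ⟨n, ξ, v, rfl⟩

theorem map_mk (f : F ⟶ G) {n : ICone} (ξ : F.obj (op n)) (v : Fan.Orth n) :
    Fan.P.map f (Fan.P.mk ξ v) = Fan.P.mk (f.app _ ξ) v := rfl

theorem map_comp {H : Fan.{u}} (f : F ⟶ G) (g : G ⟶ H) (x : Fan.P F) :
    Fan.P.map (f ≫ g) x = Fan.P.map g (Fan.P.map f x) := by
  obtain ⟨n, ξ, v, rfl⟩ := exists_mk x
  rfl

theorem map_comp' {H : Fan.{u}} (f : F ⟶ G) (g : G ⟶ H) :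
    Fan.P.map (f ≫ g) = Fan.P.map g ∘ Fan.P.map f := funext (map_comp f g)

theorem mk_glue {k n : ICone} (φ : k ⟶ n) (ξ : F.obj (op n)) (v : Fan.Orth k) (w : Fan.Orth n)
    (c : ℝ) (hc : 0 < c) (h : w.1 = c • φ.realMap v.1) :
    Fan.P.mk (F.map φ.op ξ) v = Fan.P.mk ξ w :=
  Quot.sound (Fan.Rel.glue φ ξ v w c hc h)

theorem map_surjective (f : F ⟶ G) (hf : ∀ n : ICone, Function.Surjective (f.app (op n))) :
    Function.Surjective (Fan.P.map f) := by
  intro x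
  obtain ⟨n, ξ, v, rfl⟩ := exists_mk x
  obtain ⟨σ, rfl⟩ := hf n ξ
  exact ⟨Fan.P.mk σ v, rfl⟩

theorem map_injective (f : F ⟶ G) (hf : ∀ n : ICone, Function.Injective (f.app (op n))) :
    Function.Injective (Fan.P.map f) := by
  intro x x' h
  obtain ⟨n, σ, v, rfl⟩ := exists_mk x
  obtain ⟨n', σ', v', rfl⟩ := exists_mk x'
  rw [map_mk, map_mk] at h
  obtain ⟨k, φ₁, φ₂, y, c₁, c₂, hG, hc₁, hc₂, h1, h2⟩ := FanSub.main G _ _ _ _ h
  have e1 : f.app _ (F.map φ₁.op σ) = G.map φ₁.op (f.app _ σ) := NatTrans.naturality_apply f φ₁.op σ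
  have e2 : f.app _ (F.map φ₂.op σ') = G.map φ₂.op (f.app _ σ') := NatTrans.naturality_apply f φ₂.op σ'
  have e3 : F.map φ₁.op σ = F.map φ₂.op σ' := hf k (by rw [e1, e2, hG])
  rw [← mk_glue φ₁ σ y v c₁ hc₁ h1, ← mk_glue φ₂ σ' y v' c₂ hc₂ h2, e3]

theorem pb_exists {F' : Fan.{u}} (f : F ⟶ G) (g : F' ⟶ G) (k : ICone) (a : F.obj (op k))
    (b : F'.obj (op k)) (h : f.app _ a = g.app _ b) :
    ∃ τ : (Limits.pullback f g).obj (op k),
      (pullback.fst f g).app _ τ = a ∧ (pullback.snd f g).app _ τ = b := by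
  have hp := (IsPullback.of_hasPullback f g).map ((evaluation _ _).obj (op k))
  exact Limits.Types.exists_of_isPullback hp a b h

theorem pb_ext {F' : Fan.{u}} (f : F ⟶ G) (g : F' ⟶ G) (k : ICone)
    (τ τ' : (Limits.pullback f g).obj (op k))
    (h1 : (pullback.fst f g).app _ τ = (pullback.fst f g).app _ τ')
    (h2 : (pullback.snd f g).app _ τ = (pullback.snd f g).app _ τ') : τ = τ' := by
  have hp := (IsPullback.of_hasPullback f g).map ((evaluation _ _).obj (op k))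
  exact Limits.Types.ext_of_isPullback hp h1 h2

/-- S19360 -/
theorem fiber_surjective {F' : Fan.{u}} (f : F ⟶ G) (g : F' ⟶ G)
    (x : Fan.P F) (x' : Fan.P F') (h : Fan.P.map f x = Fan.P.map g x') :
    ∃ y : Fan.P (Limits.pullback f g),
      Fan.P.map (Limits.pullback.fst f g) y = x ∧ Fan.P.map (Limits.pullback.snd f g) y = x' := by
  obtain ⟨n, σ, v, rfl⟩ := exists_mk x
  obtain ⟨n', σ', v', rfl⟩ := exists_mk x'
  rw [map_mk, map_mk] at h
  obtain ⟨k, φ₁, φ₂, y, c₁, c₂, hG, hc₁, hc₂, h1, h2⟩ := FanSub.main G _ _ _ _ h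
  have e1 : f.app _ (F.map φ₁.op σ) = G.map φ₁.op (f.app _ σ) := NatTrans.naturality_apply f φ₁.op σ
  have e2 : g.app _ (F'.map φ₂.op σ') = G.map φ₂.op (g.app _ σ') := NatTrans.naturality_apply g φ₂.op σ'
  obtain ⟨τ, hτ1, hτ2⟩ := pb_exists f g k (F.map φ₁.op σ) (F'.map φ₂.op σ') (by rw [e1, e2, hG])
  refine ⟨Fan.P.mk τ y, ?_, ?_⟩
  · rw [map_mk, hτ1]
    exact mk_glue φ₁ σ y v c₁ hc₁ h1
  · rw [map_mk, hτ2]
    exact mk_glue φ₂ σ' y v' c₂ hc₂ h2

/-- S19362 -/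
theorem range_map {G' : Fan.{u}} (f : F ⟶ G) (g : G' ⟶ G) :
    Set.range (Fan.P.map f) = Set.range (Fan.P.map (Subfunctor.range f).ι) ∧
    Set.range (Fan.P.map (Limits.pullback.snd f g)) = Fan.P.map g ⁻¹' Set.range (Fan.P.map f) := by
  constructor
  · have h1 : Subfunctor.toRange f ≫ (Subfunctor.range f).ι = f := Subfunctor.toRange_ι f
    have h2 : Function.Surjective (Fan.P.map (Subfunctor.toRange f)) := by
      apply map_surjective
      intro n
      rintro ⟨y, hy⟩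
      obtain ⟨x, rfl⟩ := hy
      exact ⟨x, rfl⟩
    conv_lhs => rw [← h1, map_comp']
    exact h2.range_comp _
  · ext x'
    constructor
    · rintro ⟨y, rfl⟩
      refine ⟨Fan.P.map (pullback.fst f g) y, ?_⟩
      rw [← map_comp, ← map_comp, pullback.condition]
    · rintro ⟨x, hx⟩
      obtain ⟨y, _, hy⟩ := fiber_surjective f g x x' hx
      exact ⟨y, hy⟩

end Groth.Agent.Lib.Helper83.FanMap
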