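import Groth.Prelude.Def_W4c6instabfans3Fan
import Groth.Agent.Lib.Helper83.FanMap
import Mathlib

/-!
# Representable fans, cone maps, and pairs of simplices in a quasi-separated fan (helper83)
-/

set_option autoImplicit false
universe u
open CategoryTheory Opposite Instab Limits
open Instab Instab.Fan

namespace Groth.Agent.Lib.Helper83.FanCone

open Groth.Agent.Lib.Helper83.FanSub Groth.Agent.Lib.Helper83.FanMap

variable {F G : Fan.{u}}

theorem entry_nonneg {k n : ICone} (φ : k ⟶ n) (i : Fin k.dim) (j : Fin n.dim) :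
    0 ≤ φ.toLin (Pi.single i 1) j := by
  classical
  apply φ.nonneg
  intro i'
  by_cases h : i' = i
  · subst h; simp
  · simp [h]

theorem realMap_nonneg {k n : ICone} (φ : k ⟶ n) (y : Fin k.dim → ℝ) (hy : ∀ i, 0 ≤ y i)
    (j : Fin n.dim) : 0 ≤ φ.realMap y j := by
  rw [realMap_apply]
  exact Finset.sum_nonneg fun i _ => mul_nonneg (by exact_mod_cast entry_nonneg φ i j) (hy i)

theorem realMap_ne_zero {k n : ICone} (φ : k ⟶ n) (y : Fin k.dim → ℝ) (hy : ∀ i, 0 ≤ y i)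
    (hy0 : y ≠ 0) : φ.realMap y ≠ 0 := by
  classical
  obtain ⟨i, hi⟩ : ∃ i, y i ≠ 0 := by
    by_contra h
    push Not at h
    exact hy0 (funext h)
  have hcol : φ.toLin (Pi.single i 1) ≠ 0 := by
    intro h
    have h2 : (Pi.single i 1 : Fin k.dim → ℤ) = 0 := φ.injective (by rw [h, map_zero])
    have := congrFun h2 i
    simp at this
  obtain ⟨j, hj⟩ : ∃ j, φ.toLin (Pi.single i 1) j ≠ 0 := by
    by_contra h
    push Not at h
    exact hcol (funext h)
  intro h0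
  have h1 := congrFun h0 j
  rw [realMap_apply] at h1
  have h2 := (Finset.sum_eq_zero_iff_of_nonneg (fun i _ =>
    mul_nonneg (by exact_mod_cast entry_nonneg φ i j) (hy i))).1 h1 i (Finset.mem_univ i)
  rcases mul_eq_zero.1 h2 with h3 | h3
  · exact hj (by exact_mod_cast h3)
  · exact hi h3

/-- Push a point of the orthant forward along a cone morphism. -/
def push {k n : ICone} (φ : k ⟶ n) (y : Fan.Orth k) : Fan.Orth n :=
  ⟨φ.realMap y.1, realMap_nonneg φ y.1 y.2.1, realMap_ne_zero φ y.1 y.2.1 y.2.2⟩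

@[simp] theorem push_val {k n : ICone} (φ : k ⟶ n) (y : Fan.Orth k) :
    (push φ y).1 = φ.realMap y.1 := rfl

theorem mk_push {k n : ICone} (φ : k ⟶ n) (ξ : F.obj (op n)) (y : Fan.Orth k) :
    Fan.P.mk (F.map φ.op ξ) y = Fan.P.mk ξ (push φ y) :=
  mk_glue φ ξ y (push φ y) 1 one_pos (by rw [one_smul]; rfl)

theorem mk_eq_of_smul {n : ICone} (ξ : F.obj (op n)) (v w : Fan.Orth n) (c : ℝ) (hc : 0 < c)
    (h : w.1 = c • v.1) : Fan.P.mk ξ v = Fan.P.mk ξ w := by
  have h1 := mk_glue (𝟙 n) ξ v w c hc (by rw [realMap_id]; exact h)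
  rw [op_id, F.map_id] at h1
  exact h1

theorem coneMap_app {n k : ICone} (σ : F.obj (op n)) (a : (uliftYoneda.{u}.obj n).obj (op k)) :
    (Fan.coneMap σ).app (op k) a = F.map a.down.op σ := rfl

theorem coneMap_comp {n : ICone} (σ : F.obj (op n)) (f : F ⟶ G) :
    Fan.coneMap σ ≫ f = Fan.coneMap (f.app _ σ) :=
  uliftYonedaEquiv_symm_comp σ f

/-- the element of the representable fan `h_n` given by a cone morphism. -/
def yel {n k : ICone} (φ : k ⟶ n) : (uliftYoneda.{u}.obj n).obj (op k) := ULift.up φ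

@[simp] theorem yel_down {n k : ICone} (φ : k ⟶ n) : (yel.{u} φ).down = φ := rfl

theorem yel_eta {n k : ICone} (a : (uliftYoneda.{u}.obj n).obj (op k)) : yel.{u} a.down = a := rfl

theorem yoneda_map {n k l : ICone} (α : l ⟶ k) (a : (uliftYoneda.{u}.obj n).obj (op k)) :
    (uliftYoneda.{u}.obj n).map α.op a = yel.{u} (α ≫ a.down) := rfl

/-- In the realization of a representable fan, equal points have proportional pushforwards. -/
theorem yoneda_mk_eq {n k k' : ICone} (a : (uliftYoneda.{u}.obj n).obj (op k))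
    (a' : (uliftYoneda.{u}.obj n).obj (op k')) (y : Fan.Orth k) (y' : Fan.Orth k')
    (h : Fan.P.mk a y = Fan.P.mk a' y') :
    ∃ c : ℝ, 0 < c ∧ a.down.realMap y.1 = c • a'.down.realMap y'.1 := by
  obtain ⟨l, α, α', z, c₁, c₂, hG, hc₁, hc₂, h1, h2⟩ := FanSub.main _ _ _ _ _ h
  rw [yoneda_map, yoneda_map] at hG
  have hG' : α ≫ a.down = α' ≫ a'.down := congrArg ULift.down hG
  refine ⟨c₁ * c₂⁻¹, mul_pos hc₁ (inv_pos.2 hc₂), ?_⟩
  rw [h1, h2, realMap_smul, realMap_smul, ← realMap_comp, ← realMap_comp, hG', smul_smul,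
    mul_assoc, inv_mul_cancel₀ hc₂.ne', mul_one]

theorem map_coneMap_mk {n k : ICone} (σ : F.obj (op n)) (a : (uliftYoneda.{u}.obj n).obj (op k))
    (y : Fan.Orth k) :
    Fan.P.map (Fan.coneMap σ) (Fan.P.mk a y) = Fan.P.mk (F.map a.down.op σ) y := rfl

theorem map_coneMap_id {n : ICone} (σ : F.obj (op n)) (v : Fan.Orth n) :
    Fan.P.map (Fan.coneMap σ) (Fan.P.mk (yel.{u} (𝟙 n)) v) = Fan.P.mk σ v := by
  rw [map_coneMap_mk, yel_down, op_id, F.map_id]
  rfl

/-- every point of the realization of a representable fan lies in the top cell. -/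
theorem yoneda_mk {n k : ICone} (a : (uliftYoneda.{u}.obj n).obj (op k)) (y : Fan.Orth k) :
    Fan.P.mk a y = Fan.P.mk (yel.{u} (𝟙 n)) (push a.down y) := by
  rw [← mk_push a.down, yoneda_map, yel_down, Category.comp_id, yel_eta]

theorem range_map_coneMap {n : ICone} (σ : F.obj (op n)) :
    Set.range (Fan.P.map (Fan.coneMap σ)) = Fan.P.cell σ := by
  ext x
  constructor
  · rintro ⟨y, rfl⟩
    obtain ⟨k, a, v, rfl⟩ := exists_mk y
    rw [yoneda_mk, map_coneMap_id]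
    exact ⟨_, rfl⟩
  · rintro ⟨v, rfl⟩
    exact ⟨_, map_coneMap_id σ v⟩

/-- S19373 -/
theorem pairs (G : Fan.{u}) (hG : G.IsQuasiSeparated)
    {n n' : ICone} (ξ : G.obj (op n)) (ξ' : G.obj (op n')) :
    ∃ s : Finset (Σ k : ICone, (k ⟶ n) × (k ⟶ n')),
      (∀ e ∈ s, G.map e.2.1.op ξ = G.map e.2.2.op ξ') ∧
      ∀ (v : Fan.Orth n) (w : Fan.Orth n'), Fan.P.mk ξ v = Fan.P.mk ξ' w ↔
        ∃ e ∈ s, ∃ (y : Fan.Orth e.1) (c c' : ℝ), 0 < c ∧ 0 < c' ∧
          v.1 = c • e.2.1.realMap y.1 ∧ w.1 = c' • e.2.2.realMap y.1 := by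
  classical
  obtain ⟨s₀, hs₀⟩ := hG n n' ξ ξ'
  let E : (Σ k : ICone, (Limits.pullback (Fan.coneMap ξ) (Fan.coneMap ξ')).obj (op k)) →
      (Σ k : ICone, (k ⟶ n) × (k ⟶ n')) := fun e =>
    ⟨e.1, (((pullback.fst (Fan.coneMap ξ) (Fan.coneMap ξ')).app _ e.2).down,
      ((pullback.snd (Fan.coneMap ξ) (Fan.coneMap ξ')).app _ e.2).down)⟩
  have hcond : ∀ e : (Σ k : ICone, (Limits.pullback (Fan.coneMap ξ) (Fan.coneMap ξ')).obj (op k)),
      G.map (E e).2.1.op ξ = G.map (E e).2.2.op ξ' := by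
    rintro ⟨k, τ⟩
    have h1 := congrArg (fun m => m.app (op k) τ)
      (pullback.condition (f := Fan.coneMap ξ) (g := Fan.coneMap ξ'))
    exact h1
  refine ⟨s₀.image E, ?_, ?_⟩
  · intro e he
    obtain ⟨e₀, _, rfl⟩ := Finset.mem_image.1 he
    exact hcond e₀
  · intro v w
    constructor
    · intro h
      have h' : Fan.P.map (Fan.coneMap ξ) (Fan.P.mk (yel.{u} (𝟙 n)) v)
          = Fan.P.map (Fan.coneMap ξ') (Fan.P.mk (yel.{u} (𝟙 n')) w) := by
        rw [map_coneMap_id, map_coneMap_id, h]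
      obtain ⟨y₀, hy1, hy2⟩ := fiber_surjective _ _ _ _ h'
      obtain ⟨e₀, he₀, y, rfl⟩ := hs₀ y₀
      rw [map_mk] at hy1 hy2
      obtain ⟨c, hc, h1⟩ := yoneda_mk_eq _ _ _ _ hy1
      obtain ⟨c', hc', h2⟩ := yoneda_mk_eq _ _ _ _ hy2
      refine ⟨E e₀, Finset.mem_image_of_mem E he₀, y, c⁻¹, c'⁻¹, inv_pos.2 hc, inv_pos.2 hc', ?_, ?_⟩
      · change v.1 = c⁻¹ • ((pullback.fst (Fan.coneMap ξ) (Fan.coneMap ξ')).app _ e₀.2).down.realMap y.1
        rw [h1, smul_smul, inv_mul_cancel₀ hc.ne', one_smul]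
        rw [yel_down, realMap_id]
      · change w.1 = c'⁻¹ • ((pullback.snd (Fan.coneMap ξ) (Fan.coneMap ξ')).app _ e₀.2).down.realMap y.1
        rw [h2, smul_smul, inv_mul_cancel₀ hc'.ne', one_smul]
        rw [yel_down, realMap_id]
    · rintro ⟨e, he, y, c, c', hc, hc', h1, h2⟩
      obtain ⟨e₀, _, rfl⟩ := Finset.mem_image.1 he
      rw [← mk_glue _ ξ y v c hc h1, ← mk_glue _ ξ' y w c' hc' h2, hcond e₀]

end Groth.Agent.Lib.Helper83.FanCone
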