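import Groth.Prelude.Def_W4c6instabfans3Fan
import Groth.Agent.Lib.Helper83.FanCone
import Mathlib

/-!
# Bounded fans, bounded maps and quasi-separated fans (helper83)
-/

set_option autoImplicit false
universe u
open CategoryTheory Opposite Instab Limits
open Instab Instab.Fan

namespace Groth.Agent.Lib.Helper83.FanBdd

open Groth.Agent.Lib.Helper83.FanSub Groth.Agent.Lib.Helper83.FanMap Groth.Agent.Lib.Helper83.FanCone

variable {F G : Fan.{u}}

theorem map_id (x : Fan.P F) : Fan.P.map (𝟙 F) x = x := by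
  obtain ⟨n, ξ, v, rfl⟩ := exists_mk x
  rfl

theorem isBounded_yoneda (n : ICone) : Fan.IsBounded (uliftYoneda.{u}.obj n) := by
  refine ⟨{⟨n, yel.{u} (𝟙 n)⟩}, fun x => ?_⟩
  obtain ⟨k, a, y, rfl⟩ := exists_mk x
  exact ⟨_, Finset.mem_singleton_self _, _, (yoneda_mk a y).symm⟩

theorem isBounded_of_cover {W : Fan.{u}} {J : Type*} (t : Finset J) (W' : J → Fan.{u})
    (g : ∀ j, W' j ⟶ W) (hb : ∀ j ∈ t, Fan.IsBounded (W' j))
    (hcov : ∀ x : Fan.P W, ∃ j ∈ t, x ∈ Set.range (Fan.P.map (g j))) : Fan.IsBounded W := by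
  classical
  have hb' : ∀ j : J, ∃ s : Finset (Σ n : ICone, (W' j).obj (op n)), j ∈ t →
      ∀ x : Fan.P (W' j), ∃ e ∈ s, x ∈ Fan.P.cell e.2 := by
    intro j
    by_cases hj : j ∈ t
    · obtain ⟨s, hs⟩ := hb j hj
      exact ⟨s, fun _ => hs⟩
    · exact ⟨∅, fun h => absurd h hj⟩
  choose s hs using hb'
  refine ⟨t.biUnion fun j => (s j).image fun e => ⟨e.1, (g j).app _ e.2⟩, fun x => ?_⟩
  obtain ⟨j, hj, y, rfl⟩ := hcov x
  obtain ⟨e, he, v, rfl⟩ := hs j hj y
  refine ⟨⟨e.1, (g j).app _ e.2⟩, ?_, v, rfl⟩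
  exact Finset.mem_biUnion.2 ⟨j, hj, Finset.mem_image_of_mem _ he⟩

theorem isBounded_of_surjective {W W' : Fan.{u}} (g : W' ⟶ W) (hb : Fan.IsBounded W')
    (hg : Function.Surjective (Fan.P.map g)) : Fan.IsBounded W :=
  isBounded_of_cover (J := Unit) {()} (fun _ => W') (fun _ => g) (fun _ _ => hb)
    (fun x => ⟨(), Finset.mem_singleton_self _, hg x⟩)

theorem isBounded_of_iso {W W' : Fan.{u}} (e : W' ≅ W) (hb : Fan.IsBounded W') : Fan.IsBounded W := by
  refine isBounded_of_surjective e.hom hb fun x => ⟨Fan.P.map e.inv x, ?_⟩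
  rw [← map_comp, e.inv_hom_id, map_id]

/-- S19359 -/
theorem qsep_iff (G : Fan.{u}) :
    G.IsQuasiSeparated ↔
      ∀ (F : Fan.{u}) (f : F ⟶ G), F.IsBounded → Fan.IsBoundedMap f := by
  constructor
  · intro hG F f hF n ξ
    obtain ⟨sF, hsF⟩ := hF
    let fstW := pullback.fst f (Fan.coneMap ξ)
    let sndW := pullback.snd f (Fan.coneMap ξ)
    refine isBounded_of_cover sF
      (fun e => Limits.pullback (Fan.coneMap e.2) fstW)
      (fun e => pullback.snd (Fan.coneMap e.2) fstW) ?_ ?_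
    · rintro ⟨m, σ⟩ _
      have hL : IsPullback (pullback.fst (Fan.coneMap σ) fstW) (pullback.snd (Fan.coneMap σ) fstW)
          (Fan.coneMap σ) fstW := IsPullback.of_hasPullback _ _
      have hR : IsPullback fstW sndW f (Fan.coneMap ξ) := IsPullback.of_hasPullback _ _
      have hP := hL.paste_vert hR
      rw [coneMap_comp] at hP
      exact isBounded_of_iso hP.isoPullback.symm (hG m n (f.app _ σ) ξ)
    · intro x
      obtain ⟨e, he, hx⟩ := hsF (Fan.P.map fstW x)
      refine ⟨e, he, ?_⟩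
      rw [(range_map (Fan.coneMap e.2) fstW).2, Set.mem_preimage, range_map_coneMap]
      exact hx
  · intro h n₀ n₁ σ₀ σ₁
    exact h _ (Fan.coneMap σ₀) (isBounded_yoneda n₀) n₁ σ₁

end Groth.Agent.Lib.Helper83.FanBdd
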