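import Groth.Prelude.Def_W4c6instabfans3Fan
import Groth.Agent.Lib.Helper83.FanBdd
import Groth.Agent.Lib.Helper83.FanMax
import Mathlib

/-!
# Topology of projective realizations of fans: closed maps (helper83)
-/

set_option autoImplicit false
universe u
open CategoryTheory Opposite Instab Limits
open Instab Instab.Fan

namespace Groth.Agent.Lib.Helper83.FanClosed

open Groth.Agent.Lib.Helper83.FanSub Groth.Agent.Lib.Helper83.FanMap Groth.Agent.Lib.Helper83.FanCone
  Groth.Agent.Lib.Helper83.FanBdd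

variable {F G : Fan.{u}}

/-- `realMap` as a linear map. -/
def realLin {k n : ICone} (φ : k ⟶ n) : (Fin k.dim → ℝ) →ₗ[ℝ] (Fin n.dim → ℝ) where
  toFun := φ.realMap
  map_add' v w := by
    funext j
    simp only [realMap_apply, Pi.add_apply, mul_add, Finset.sum_add_distrib]
  map_smul' a v := by simpa using realMap_smul φ a v

@[simp] theorem realLin_apply {k n : ICone} (φ : k ⟶ n) (v : Fin k.dim → ℝ) :
    realLin φ v = φ.realMap v := rfl

theorem realLin_injective {k n : ICone} (φ : k ⟶ n) : Function.Injective (realLin φ) := by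
  rw [← LinearMap.ker_eq_bot, LinearMap.ker_eq_bot']
  intro p hp
  by_contra hne
  obtain ⟨i, hi⟩ : ∃ i, p i ≠ 0 := by
    by_contra h
    push Not at h
    exact hne (funext h)
  obtain ⟨p', hp', hp'i⟩ : ∃ p' : Fin k.dim → ℝ, realLin φ p' = 0 ∧ 0 < p' i := by
    rcases lt_or_gt_of_ne hi with h | h
    · exact ⟨-p, by rw [map_neg, hp, neg_zero], by simpa using h⟩
    · exact ⟨p, hp, h⟩
  obtain ⟨w, hw1, hw2, hw3⟩ := RatCara.exists_int_same_support
    (fun i j => φ.toLin (Pi.single i 1) j) p' (fun j => by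
      have := congrFun hp' j
      rw [realLin_apply, realMap_apply] at this
      exact this)
  have hw0 : φ.toLin w = 0 := by
    funext j
    rw [toLin_apply]
    have := hw3 j
    simp only [Pi.zero_apply]
    rw [← this]
    exact Finset.sum_congr rfl fun i _ => mul_comm _ _
  have hw : w = 0 := φ.injective (by rw [hw0, map_zero])
  have := hw1 i hp'i
  rw [hw] at this
  simp at this

theorem realMap_injective {k n : ICone} (φ : k ⟶ n) : Function.Injective φ.realMap :=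
  realLin_injective φ

theorem isClosed_nonneg (k : ICone) : IsClosed {v : Fin k.dim → ℝ | ∀ i, 0 ≤ v i} := by
  simp only [Set.ofPred_forall]
  exact isClosed_iInter fun i => isClosed_le continuous_const (continuous_apply i)

theorem isClosedMap_push {k n : ICone} (φ : k ⟶ n) : IsClosedMap (push φ) := by
  intro C hC
  obtain ⟨t, ht, rfl⟩ := isClosed_induced_iff.1 hC
  have hemb : Topology.IsClosedEmbedding (realLin φ) :=
    LinearMap.isClosedEmbedding_of_injective (LinearMap.ker_eq_bot.2 (realLin_injective φ))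
  have hcl : IsClosed ((realLin φ) '' (t ∩ {v | ∀ i, 0 ≤ v i})) :=
    hemb.isClosedMap _ (ht.inter (isClosed_nonneg k))
  have h : push φ '' (Subtype.val ⁻¹' t)
      = (Subtype.val : Fan.Orth n → (Fin n.dim → ℝ)) ⁻¹'
        ((realLin φ) '' (t ∩ {v | ∀ i, 0 ≤ v i})) := by
    ext w
    constructor
    · rintro ⟨y, hy, rfl⟩
      exact ⟨y.1, ⟨hy, y.2.1⟩, rfl⟩
    · rintro ⟨u, ⟨hu, hu0⟩, huw⟩
      have hune : u ≠ 0 := by
        rintro rfl
        exact w.2.2 (by rw [← huw, map_zero])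
      exact ⟨⟨u, hu0, hune⟩, hu, Subtype.ext huw⟩
  rw [h]
  exact hcl.preimage continuous_subtype_val

theorem continuous_push {k n : ICone} (φ : k ⟶ n) : Continuous (push φ) := by
  apply Continuous.subtype_mk
  exact (LinearMap.continuous_of_finiteDimensional (realLin φ)).comp continuous_subtype_val

/-- rescale a point of the orthant. -/
def scale {k : ICone} (c : ℝ) (hc : 0 < c) (y : Fan.Orth k) : Fan.Orth k :=
  ⟨c • y.1, fun i => mul_nonneg hc.le (y.2.1 i), fun h => y.2.2 (by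
    have := (smul_eq_zero.1 h)
    rcases this with h1 | h1
    · exact absurd h1 hc.ne'
    · exact h1)⟩

@[simp] theorem scale_val {k : ICone} (c : ℝ) (hc : 0 < c) (y : Fan.Orth k) :
    (scale c hc y).1 = c • y.1 := rfl

theorem mk_scale {k : ICone} (ξ : F.obj (op k)) (c : ℝ) (hc : 0 < c) (y : Fan.Orth k) :
    Fan.P.mk ξ (scale c hc y) = Fan.P.mk ξ y :=
  (mk_eq_of_smul ξ y (scale c hc y) c hc rfl).symm

theorem push_scale {k n : ICone} (φ : k ⟶ n) (c : ℝ) (hc : 0 < c) (y : Fan.Orth k) :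
    push φ (scale c hc y) = scale c hc (push φ y) :=
  Subtype.ext (realMap_smul φ c y.1)

theorem continuous_mk {n : ICone} (ξ : F.obj (op n)) : Continuous (Fan.P.mk ξ) := by
  have : Fan.P.mk ξ = (Quot.mk (Fan.Rel F)) ∘ (Sigma.mk (⟨n, ξ⟩ : Σ n : ICone, F.obj (op n))) := rfl
  rw [this]
  exact continuous_quot_mk.comp continuous_sigmaMk

theorem isClosed_iff (S : Set (Fan.P F)) :
    IsClosed S ↔ ∀ (n : ICone) (ξ : F.obj (op n)), IsClosed (Fan.P.mk ξ ⁻¹' S) := by
  refine ((isQuotientMap_quot_mk (r := Fan.Rel F)).isClosed_preimage (s := S)).symm.trans ?_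
  refine (isClosed_sigma_iff (s := (Quot.mk (Fan.Rel F) ⁻¹' S : Set (Σ e : (Σ n : ICone, F.obj (op n)), Fan.Orth e.1)))).trans ?_
  constructor
  · intro h n ξ
    exact h ⟨n, ξ⟩
  · rintro h ⟨n, ξ⟩
    exact h n ξ

theorem continuous_map (f : F ⟶ G) : Continuous (Fan.P.map f) := by
  refine (isQuotientMap_quot_mk (r := Fan.Rel F)).continuous_iff.2 ?_
  change Continuous (Quot.mk (Fan.Rel G) ∘
    (fun p : (Σ e : (Σ n : ICone, F.obj (op n)), Fan.Orth e.1) =>
      ((⟨⟨p.1.1, f.app _ p.1.2⟩, p.2⟩ : Σ e : (Σ n : ICone, G.obj (op n)), Fan.Orth e.1))))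
  refine (continuous_quot_mk (r := Fan.Rel G)).comp ?_
  refine (continuous_sigma_iff (f := fun p : (Σ e : (Σ n : ICone, F.obj (op n)), Fan.Orth e.1) =>
    ((⟨⟨p.1.1, f.app _ p.1.2⟩, p.2⟩ : Σ e : (Σ n : ICone, G.obj (op n)), Fan.Orth e.1)))).2 ?_
  rintro ⟨n, ξ⟩
  exact continuous_sigmaMk (σ := fun e : (Σ n : ICone, G.obj (op n)) => Fan.Orth e.1)
    (i := ⟨n, f.app _ ξ⟩)

/-- Structure of images under a map whose base change to a cone is covered by finitely many
cells. -/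
theorem mem_image_iff (ψ : F ⟶ G) {n : ICone} (ξ : G.obj (op n))
    (s : Finset (Σ k : ICone, (Limits.pullback ψ (Fan.coneMap ξ)).obj (op k)))
    (hs : ∀ x : Fan.P (Limits.pullback ψ (Fan.coneMap ξ)), ∃ e ∈ s, x ∈ Fan.P.cell e.2)
    (T : Set (Fan.P F)) (v : Fan.Orth n) :
    Fan.P.mk ξ v ∈ Fan.P.map ψ '' T ↔
      ∃ e ∈ s, ∃ y : Fan.Orth e.1,
        Fan.P.mk ((pullback.fst ψ (Fan.coneMap ξ)).app _ e.2) y ∈ T ∧
        push ((pullback.snd ψ (Fan.coneMap ξ)).app _ e.2).down y = v := by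
  constructor
  · rintro ⟨t, ht, hψt⟩
    rw [← map_coneMap_id ξ v] at hψt
    obtain ⟨y₀, hy1, hy2⟩ := fiber_surjective _ _ _ _ hψt
    obtain ⟨e, he, y, rfl⟩ := hs y₀
    rw [map_mk] at hy1 hy2
    obtain ⟨c, hc, h1⟩ := yoneda_mk_eq _ _ _ _ hy2
    rw [yel_down, realMap_id] at h1
    refine ⟨e, he, scale c⁻¹ (inv_pos.2 hc) y, ?_, ?_⟩
    · rw [mk_scale, hy1]; exact ht
    · rw [push_scale]
      apply Subtype.ext
      rw [scale_val, push_val, h1, smul_smul, inv_mul_cancel₀ hc.ne', one_smul]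
  · rintro ⟨e, he, y, hyT, rfl⟩
    refine ⟨_, hyT, ?_⟩
    rw [map_mk, ← mk_push]
    congr 1
    exact congrArg (fun m => m.app (op e.1) e.2)
      (pullback.condition (f := ψ) (g := Fan.coneMap ξ))

/-- S19363 -/
theorem bounded_map {F G : Fan.{u}} (ψ : F ⟶ G) (hψ : Fan.IsBoundedMap ψ) :
    IsClosedMap (Fan.P.map ψ) ∧ (∀ y : Fan.P G, (Fan.P.map ψ ⁻¹' {y}).Finite) ∧
    ∀ (n : ICone) (ξ : G.obj (op n)), ∃ s : Finset (Σ k : ICone, k ⟶ n),
      {v : Fan.Orth n | Fan.P.mk ξ v ∈ Set.range (Fan.P.map ψ)} =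
        ⋃ e ∈ s, {v : Fan.Orth n | ∃ (y : Fan.Orth e.1) (c : ℝ), 0 < c ∧ v.1 = c • e.2.realMap y.1} := by
  classical
  refine ⟨?_, ?_, ?_⟩
  · intro T hT
    rw [isClosed_iff]
    intro n ξ
    obtain ⟨s, hs⟩ := hψ n ξ
    have h : Fan.P.mk ξ ⁻¹' (Fan.P.map ψ '' T) = ⋃ e ∈ s,
        push ((pullback.snd ψ (Fan.coneMap ξ)).app _ e.2).down ''
          (Fan.P.mk ((pullback.fst ψ (Fan.coneMap ξ)).app _ e.2) ⁻¹' T) := by
      ext v
      rw [Set.mem_preimage, mem_image_iff ψ ξ s hs T v]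
      simp only [Set.mem_iUnion, Set.mem_image, Set.mem_preimage, exists_prop]
    rw [h]
    exact isClosed_biUnion_finset fun e _ =>
      isClosedMap_push _ _ (hT.preimage (continuous_mk _))
  · intro y₁
    obtain ⟨n, ξ, v, rfl⟩ := exists_mk y₁
    obtain ⟨s, hs⟩ := hψ n ξ
    let A : (Σ k : ICone, (Limits.pullback ψ (Fan.coneMap ξ)).obj (op k)) → Set (Fan.P F) :=
      fun e => {t | ∃ y : Fan.Orth e.1,
        Fan.P.mk ((pullback.fst ψ (Fan.coneMap ξ)).app _ e.2) y = t ∧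
        push ((pullback.snd ψ (Fan.coneMap ξ)).app _ e.2).down y = v}
    have hA : ∀ e, (A e).Subsingleton := by
      rintro e t ⟨y, rfl, hy⟩ t' ⟨y', rfl, hy'⟩
      have h1 : y.1 = y'.1 := realMap_injective _ (congrArg Subtype.val (hy.trans hy'.symm))
      rw [Subtype.ext h1]
    have hsub : Fan.P.map ψ ⁻¹' {Fan.P.mk ξ v} ⊆ ⋃ e ∈ s, A e := by
      intro t ht
      have h1 : Fan.P.mk ξ v ∈ Fan.P.map ψ '' {t} := ⟨t, rfl, ht⟩
      obtain ⟨e, he, y, hy1, hy2⟩ := (mem_image_iff ψ ξ s hs {t} v).1 h1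
      exact Set.mem_biUnion he ⟨y, hy1, hy2⟩
    exact (Set.Finite.biUnion s.finite_toSet fun e _ => (hA e).finite).subset hsub
  · intro n ξ
    obtain ⟨s, hs⟩ := hψ n ξ
    refine ⟨s.image fun e => ⟨e.1, ((pullback.snd ψ (Fan.coneMap ξ)).app _ e.2).down⟩, ?_⟩
    ext v
    rw [Set.mem_ofPred_eq, ← Set.image_univ, mem_image_iff ψ ξ s hs Set.univ v]
    simp only [Set.mem_univ, true_and, Set.mem_iUnion, Finset.mem_image, exists_prop]
    constructor
    · rintro ⟨e, he, y, rfl⟩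
      exact ⟨_, ⟨e, he, rfl⟩, y, 1, one_pos, by rw [one_smul]; rfl⟩
    · rintro ⟨_, ⟨e, he, rfl⟩, y, c, hc, hv⟩
      refine ⟨e, he, scale c hc y, ?_⟩
      rw [push_scale]
      exact Subtype.ext hv.symm

/-- S19365 -/
theorem closedEmbedding {F G : Fan.{u}} (ψ : F ⟶ G)
    (hψ : Fan.IsBoundedMap ψ) (hinj : ∀ n : ICone, Function.Injective (ψ.app (op n))) :
    Topology.IsClosedEmbedding (Fan.P.map ψ) :=
  Topology.IsClosedEmbedding.of_continuous_injective_isClosedMap (continuous_map ψ)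
    (map_injective ψ hinj) (bounded_map ψ hψ).1

end Groth.Agent.Lib.Helper83.FanClosed
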