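import Groth.Prelude.Def_W4c6instabfans3Fan
import Groth.Agent.Lib.Helper83.FanClosed
import Mathlib

/-!
# Topology of the projective realization of a quasi-separated fan (helper83)
-/

set_option autoImplicit false
universe u
open CategoryTheory Opposite Instab Limits
open Instab Instab.Fan

namespace Groth.Agent.Lib.Helper83.FanTop

open Groth.Agent.Lib.Helper83.FanSub Groth.Agent.Lib.Helper83.FanMap Groth.Agent.Lib.Helper83.FanCone
  Groth.Agent.Lib.Helper83.FanBdd Groth.Agent.Lib.Helper83.FanClosed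

variable {F G : Fan.{u}}

theorem isBoundedMap_coneMap (hF : F.IsQuasiSeparated) {n : ICone} (ξ : F.obj (op n)) :
    Fan.IsBoundedMap (Fan.coneMap ξ) := fun n' σ' => hF n n' ξ σ'

/-- the image in `P (h_n)` of a closed saturated subset of the orthant is closed. -/
theorem isClosed_yoneda_image {n : ICone} (S : Set (Fan.Orth n)) (hS : IsClosed S)
    (hsat : ∀ v w : Fan.Orth n, v ∈ S → ∀ c : ℝ, 0 < c → w.1 = c • v.1 → w ∈ S) :
    IsClosed (Fan.P.mk (yel.{u} (𝟙 n)) '' S) := by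
  rw [isClosed_iff]
  intro k a
  have h : Fan.P.mk a ⁻¹' (Fan.P.mk (yel.{u} (𝟙 n)) '' S) = push a.down ⁻¹' S := by
    ext y
    constructor
    · rintro ⟨v, hv, hvy⟩
      rw [yoneda_mk a y] at hvy
      obtain ⟨c, hc, h1⟩ := yoneda_mk_eq _ _ _ _ hvy
      rw [yel_down, realMap_id, realMap_id] at h1
      refine hsat v _ hv c⁻¹ (inv_pos.2 hc) ?_
      rw [h1, smul_smul, inv_mul_cancel₀ hc.ne', one_smul]
    · intro hy
      exact ⟨push a.down y, hy, (yoneda_mk a y).symm⟩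
  rw [h]
  exact hS.preimage (continuous_push _)

theorem isClosed_image_mk (hF : F.IsQuasiSeparated) {n : ICone} (ξ : F.obj (op n))
    (S : Set (Fan.Orth n)) (hS : IsClosed S)
    (hsat : ∀ v w : Fan.Orth n, v ∈ S → ∀ c : ℝ, 0 < c → w.1 = c • v.1 → w ∈ S) :
    IsClosed (Fan.P.mk ξ '' S) := by
  have h : Fan.P.mk ξ '' S
      = Fan.P.map (Fan.coneMap ξ) '' (Fan.P.mk (yel.{u} (𝟙 n)) '' S) := by
    rw [Set.image_image]
    exact Set.image_congr fun v _ => (map_coneMap_id ξ v).symm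
  rw [h]
  exact (bounded_map _ (isBoundedMap_coneMap hF ξ)).1 _ (isClosed_yoneda_image S hS hsat)

/-- S19366 -/
theorem qsep_top (F : Fan.{u}) (hF : F.IsQuasiSeparated) :
    (∀ (n : ICone) (ξ : F.obj (op n)) (S : Set (Fan.Orth n)), IsClosed S →
      (∀ v w : Fan.Orth n, v ∈ S → ∀ c : ℝ, 0 < c → w.1 = c • v.1 → w ∈ S) →
        IsClosed (Fan.P.mk ξ '' S)) ∧
    ∀ S : Set (Fan.P F), IsClosed S ↔ ∀ (n : ICone) (ξ : F.obj (op n)), IsClosed (S ∩ Fan.P.cell ξ) := by
  refine ⟨fun n ξ S hS hsat => isClosed_image_mk hF ξ S hS hsat, fun S => ?_⟩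
  constructor
  · intro hS n ξ
    refine hS.inter ?_
    have : Fan.P.cell ξ = Fan.P.mk ξ '' Set.univ := by rw [Set.image_univ]; rfl
    rw [this]
    exact isClosed_image_mk hF ξ Set.univ isClosed_univ fun _ _ _ _ _ _ => Set.mem_univ _
  · intro h
    rw [isClosed_iff]
    intro n ξ
    have : Fan.P.mk ξ ⁻¹' S = Fan.P.mk ξ ⁻¹' (S ∩ Fan.P.cell ξ) := by
      ext v
      simp only [Set.mem_preimage, Set.mem_inter_iff]
      exact ⟨fun hv => ⟨hv, v, rfl⟩, fun hv => hv.1⟩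
    rw [this]
    exact (h n ξ).preimage (continuous_mk ξ)

/-- the integer point as a point of the orthant. -/
def intPt {n : ICone} (z : Fin n.dim → ℤ) (hz : ∀ i, 0 ≤ z i) (hz0 : z ≠ 0) : Fan.Orth n :=
  ⟨fun j => (z j : ℝ), fun i => by
    change (0 : ℝ) ≤ (z i : ℝ)
    exact_mod_cast hz i, fun h => hz0 (by
    funext i
    have := congrFun h i
    simpa using this)⟩

/-- a closed saturated subset of the orthant containing all integer points is everything. -/
theorem eq_univ_of_int {n : ICone} (A : Set (Fan.Orth n)) (hA : IsClosed A)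
    (hsat : ∀ v w : Fan.Orth n, v ∈ A → ∀ c : ℝ, 0 < c → w.1 = c • v.1 → w ∈ A)
    (hint : ∀ (z : Fin n.dim → ℤ) (hz : ∀ i, 0 ≤ z i) (hz0 : z ≠ 0), intPt z hz hz0 ∈ A) :
    ∀ v, v ∈ A := by
  intro v
  by_contra hv
  obtain ⟨z, hz, hz0, w, c, hw, hc, hzw⟩ :=
    FanMax.exists_int_approx Aᶜ hA.isOpen_compl v hv
  apply hw
  refine hsat (intPt z hz hz0) w (hint z hz hz0) c⁻¹ (inv_pos.2 hc) ?_
  change w.1 = c⁻¹ • (fun j => (z j : ℝ))
  rw [hzw, smul_smul, inv_mul_cancel₀ hc.ne', one_smul]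

/-- S19364 -/
theorem surj_iff {F G : Fan.{u}} (ψ : F ⟶ G) (hψ : Fan.IsBoundedMap ψ) :
    Function.Surjective (Fan.P.map ψ) ↔
      ∀ y : Fan.P G, y.IsRational → y ∈ Set.range (Fan.P.map ψ) := by
  constructor
  · intro h y _
    exact h y
  · intro h y₁
    obtain ⟨n, ξ, v, rfl⟩ := exists_mk y₁
    have hcl : IsClosed (Fan.P.mk ξ ⁻¹' Set.range (Fan.P.map ψ)) := by
      rw [← Set.image_univ]
      exact ((bounded_map ψ hψ).1 _ isClosed_univ).preimage (continuous_mk ξ)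
    refine eq_univ_of_int _ hcl ?_ ?_ v
    · intro v w hv c hc hw
      change Fan.P.mk ξ w ∈ Set.range (Fan.P.map ψ)
      rw [← mk_eq_of_smul ξ v w c hc hw]
      exact hv
    · intro z hz hz0
      exact h _ (FanMax.isRational_mk_int ξ z hz hz0 _ rfl)

end Groth.Agent.Lib.Helper83.FanTop
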