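import Groth.Prelude.Def_W4c6instabfans3Fan
import Groth.Agent.Lib.Helper83.FanTop
import Mathlib

/-!
# Injectivity on rational points for maps out of a quasi-separated fan (helper83)
-/

set_option autoImplicit false
universe u
open CategoryTheory Opposite Instab Limits
open Instab Instab.Fan

namespace Groth.Agent.Lib.Helper83.FanInj

open Groth.Agent.Lib.Helper83.FanSub Groth.Agent.Lib.Helper83.FanMap Groth.Agent.Lib.Helper83.FanCone
  Groth.Agent.Lib.Helper83.FanBdd Groth.Agent.Lib.Helper83.FanClosed Groth.Agent.Lib.Helper83.FanTop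

variable {F G : Fan.{u}}

/-- total mass of a point of the orthant. -/
def tot {n : ICone} (w : Fan.Orth n) : ℝ := ∑ j, w.1 j

theorem tot_pos {n : ICone} (w : Fan.Orth n) : 0 < tot w := by
  obtain ⟨i, hi⟩ : ∃ i, w.1 i ≠ 0 := by
    by_contra h
    push Not at h
    exact w.2.2 (funext h)
  exact Finset.sum_pos' (fun j _ => w.2.1 j) ⟨i, Finset.mem_univ i, lt_of_le_of_ne (w.2.1 i) (Ne.symm hi)⟩

theorem continuous_tot {n : ICone} : Continuous (tot (n := n)) := by
  unfold tot
  exact continuous_finsetSum _ fun j _ => (continuous_apply j).comp continuous_subtype_val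

/-- proportionality of two points of the orthant is a closed condition. -/
theorem prop_iff {n : ICone} (v w : Fan.Orth n) :
    (∃ c : ℝ, 0 < c ∧ v.1 = c • w.1) ↔ tot w • v.1 = tot v • w.1 := by
  constructor
  · rintro ⟨c, hc, h⟩
    have h1 : tot v = c * tot w := by
      unfold tot
      rw [h, Finset.mul_sum]
      rfl
    rw [h1, h, smul_smul, mul_comm]
  · intro h
    refine ⟨tot v / tot w, div_pos (tot_pos v) (tot_pos w), ?_⟩
    have h2 : v.1 = (tot w)⁻¹ • (tot w • v.1) := by
      rw [smul_smul, inv_mul_cancel₀ (tot_pos w).ne', one_smul]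
    rw [h2, h, smul_smul, div_eq_inv_mul]

theorem isClosed_prop {l k : ICone} (α β : l ⟶ k) :
    IsClosed {t : Fan.Orth l | ∃ c : ℝ, 0 < c ∧ (push α t).1 = c • (push β t).1} := by
  simp only [prop_iff]
  refine isClosed_eq ?_ ?_
  · exact ((continuous_tot.comp (continuous_push β)).smul
      (continuous_subtype_val.comp (continuous_push α)))
  · exact ((continuous_tot.comp (continuous_push α)).smul
      (continuous_subtype_val.comp (continuous_push β)))

/-- For a quasi-separated fan, the locus where two cones of the same dimension give the same point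
is closed. -/
theorem isClosed_eqLocus (hF : F.IsQuasiSeparated) {k : ICone} (ξ₁ ξ₂ : F.obj (op k)) :
    IsClosed {u : Fan.Orth k | Fan.P.mk ξ₁ u = Fan.P.mk ξ₂ u} := by
  classical
  obtain ⟨s, hs1, hs2⟩ := pairs F hF ξ₁ ξ₂
  have h : {u : Fan.Orth k | Fan.P.mk ξ₁ u = Fan.P.mk ξ₂ u} = ⋃ e ∈ s,
      push e.2.1 '' {t : Fan.Orth e.1 | ∃ c : ℝ, 0 < c ∧ (push e.2.1 t).1 = c • (push e.2.2 t).1} := by
    ext u
    simp only [Set.mem_ofPred_eq, hs2 u u, Set.mem_iUnion, Set.mem_image, exists_prop]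
    constructor
    · rintro ⟨e, he, y, c, c', hc, hc', h1, h2⟩
      refine ⟨e, he, scale c hc y, ⟨c' * c⁻¹, mul_pos hc' (inv_pos.2 hc), ?_⟩, ?_⟩
      · rw [push_scale, push_scale, scale_val, scale_val, push_val, push_val, ← h1, smul_smul,
          mul_assoc, inv_mul_cancel₀ hc.ne', mul_one, ← h2]
      · rw [push_scale]
        exact Subtype.ext h1.symm
    · rintro ⟨e, he, t, ⟨c, hc, h1⟩, rfl⟩
      refine ⟨e, he, t, 1, c, one_pos, hc, by rw [one_smul]; rfl, h1⟩
  rw [h]
  exact isClosed_biUnion_finset fun e _ => isClosedMap_push _ _ (isClosed_prop _ _)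

/-- S19367 -/
theorem inj_iff {F G : Fan.{u}} (ψ : F ⟶ G) (hF : F.IsQuasiSeparated) :
    Function.Injective (Fan.P.map ψ) ↔
      ∀ x y : Fan.P F, x.IsRational → y.IsRational → Fan.P.map ψ x = Fan.P.map ψ y → x = y := by
  constructor
  · intro h x y _ _ hxy
    exact h hxy
  · intro H x x' hxx'
    obtain ⟨n, ξ, v, rfl⟩ := exists_mk x
    obtain ⟨n', ξ', v', rfl⟩ := exists_mk x'
    rw [map_mk, map_mk] at hxx'
    obtain ⟨k, φ, φ', y, c, c', hG, hc, hc', h1, h2⟩ := FanSub.main G _ _ _ _ hxx'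
    have e1 : ψ.app _ (F.map φ.op ξ) = G.map φ.op (ψ.app _ ξ) := NatTrans.naturality_apply ψ φ.op ξ
    have e2 : ψ.app _ (F.map φ'.op ξ') = G.map φ'.op (ψ.app _ ξ') :=
      NatTrans.naturality_apply ψ φ'.op ξ'
    have hall : ∀ u : Fan.Orth k, u ∈ {u : Fan.Orth k | Fan.P.mk (F.map φ.op ξ) u
        = Fan.P.mk (F.map φ'.op ξ') u} := by
      refine eq_univ_of_int _ (isClosed_eqLocus hF _ _) ?_ ?_
      · intro u w hu c hc hw
        change Fan.P.mk _ w = Fan.P.mk _ w
        rw [← mk_eq_of_smul _ u w c hc hw, ← mk_eq_of_smul _ u w c hc hw]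
        exact hu
      · intro z hz hz0
        refine H _ _ (FanMax.isRational_mk_int _ z hz hz0 _ rfl)
          (FanMax.isRational_mk_int _ z hz hz0 _ rfl) ?_
        rw [map_mk, map_mk, e1, e2, hG]
    have := hall y
    rw [← mk_glue φ ξ y v c hc h1, ← mk_glue φ' ξ' y v' c' hc' h2]
    exact this

end Groth.Agent.Lib.Helper83.FanInj
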