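import Groth.Prelude.Def_W4c6instabfans3Fan
import Groth.Agent.Lib.Helper83.FanInj
import Mathlib

/-!
# Convergent sequences in the projective realization of a quasi-separated fan (helper83)
-/

set_option autoImplicit false
universe u
open CategoryTheory Opposite Instab Limits Filter Topology
open Instab Instab.Fan

namespace Groth.Agent.Lib.Helper83.FanSeq

open Groth.Agent.Lib.Helper83.FanSub Groth.Agent.Lib.Helper83.FanMap Groth.Agent.Lib.Helper83.FanCone
  Groth.Agent.Lib.Helper83.FanBdd Groth.Agent.Lib.Helper83.FanClosed Groth.Agent.Lib.Helper83.FanTop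
  Groth.Agent.Lib.Helper83.FanInj

variable {F G : Fan.{u}}

theorem continuous_val {n : ICone} : Continuous (fun w : Fan.Orth n => w.1) :=
  continuous_subtype_val

theorem isClosed_ray {n : ICone} (v : Fan.Orth n) :
    IsClosed {w : Fan.Orth n | ∃ c : ℝ, 0 < c ∧ w.1 = c • v.1} := by
  have h1 : Continuous fun w : Fan.Orth n => tot v • w.1 :=
    continuous_val.const_smul (tot v)
  have h2 : Continuous fun w : Fan.Orth n => tot w • v.1 := continuous_tot.smul continuous_const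
  simp only [prop_iff]
  exact isClosed_eq h1 h2

theorem isClosed_singleton (hF : F.IsQuasiSeparated) (p : Fan.P F) : IsClosed ({p} : Set (Fan.P F)) := by
  obtain ⟨n, ξ, v, rfl⟩ := exists_mk p
  have h : ({Fan.P.mk ξ v} : Set (Fan.P F))
      = Fan.P.mk ξ '' {w : Fan.Orth n | ∃ c : ℝ, 0 < c ∧ w.1 = c • v.1} := by
    ext q
    constructor
    · rintro rfl
      exact ⟨v, ⟨1, one_pos, by rw [one_smul]⟩, rfl⟩
    · rintro ⟨w, ⟨c, hc, hw⟩, rfl⟩
      exact (mk_eq_of_smul ξ v w c hc hw).symm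
  rw [h]
  refine isClosed_image_mk hF ξ _ (isClosed_ray v) ?_
  rintro a b ⟨c, hc, ha⟩ d hd hb
  exact ⟨d * c, mul_pos hd hc, by rw [hb, ha, smul_smul]⟩

theorem t1Space (hF : F.IsQuasiSeparated) : T1Space (Fan.P F) := ⟨isClosed_singleton hF⟩

/-- normalize a point of the orthant to total mass one. -/
noncomputable def nrm {n : ICone} (w : Fan.Orth n) : Fan.Orth n := scale (tot w)⁻¹ (inv_pos.2 (tot_pos w)) w

theorem nrm_val {n : ICone} (w : Fan.Orth n) : (nrm w).1 = (tot w)⁻¹ • w.1 := rfl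

theorem mk_nrm {n : ICone} (ξ : F.obj (op n)) (w : Fan.Orth n) : Fan.P.mk ξ (nrm w) = Fan.P.mk ξ w :=
  mk_scale ξ _ _ w

theorem tot_smul {n : ICone} (w v : Fan.Orth n) (c : ℝ) (h : w.1 = c • v.1) : tot w = c * tot v := by
  unfold tot
  rw [h, Finset.mul_sum]
  rfl

theorem tot_nrm {n : ICone} (w : Fan.Orth n) : tot (nrm w) = 1 := by
  rw [tot_smul (nrm w) w _ (nrm_val w), inv_mul_cancel₀ (tot_pos w).ne']

theorem nrm_of_tot {n : ICone} (w : Fan.Orth n) (h : tot w = 1) : nrm w = w := by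
  apply Subtype.ext
  rw [nrm_val, h, inv_one, one_smul]

theorem nrm_smul {n : ICone} (w v : Fan.Orth n) (c : ℝ) (hc : 0 < c) (h : w.1 = c • v.1) :
    nrm w = nrm v := by
  apply Subtype.ext
  rw [nrm_val, nrm_val, tot_smul w v c h, h, smul_smul, mul_inv, mul_assoc, mul_comm (tot v)⁻¹,
    ← mul_assoc, inv_mul_cancel₀ hc.ne', one_mul]

theorem continuous_nrm {n : ICone} : Continuous (nrm (n := n)) := by
  apply Continuous.subtype_mk
  exact (continuous_tot.inv₀ fun w => (tot_pos w).ne').smul continuous_val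

theorem mem_stdSimplex_nrm {n : ICone} (w : Fan.Orth n) :
    (nrm w).1 ∈ stdSimplex ℝ (Fin n.dim) :=
  ⟨(nrm w).2.1, tot_nrm w⟩

/-- S19369 -/
theorem seq_lift (F : Fan.{u}) (hF : F.IsQuasiSeparated)
    (x : ℕ → Fan.P F) (x₀ : Fan.P F) (hx : Filter.Tendsto x Filter.atTop (nhds x₀)) :
    ∃ (n : ICone) (σ : F.obj (op n)) (r : ℕ → ℕ) (v : ℕ → Fan.Orth n) (v₀ : Fan.Orth n),
      StrictMono r ∧ (∀ j, Fan.P.mk σ (v j) = x (r j)) ∧ Fan.P.mk σ v₀ = x₀ ∧
        Filter.Tendsto v Filter.atTop (nhds v₀) := by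
  have : T1Space (Fan.P F) := t1Space hF
  by_cases hfreq : ∃ᶠ i in atTop, x i = x₀
  · obtain ⟨r, hr, hrx⟩ := Filter.extraction_of_frequently_atTop hfreq
    obtain ⟨n, σ, v₀, rfl⟩ := exists_mk x₀
    exact ⟨n, σ, r, fun _ => v₀, v₀, hr, fun j => (hrx j).symm, rfl, tendsto_const_nhds⟩
  · rw [Filter.not_frequently] at hfreq
    obtain ⟨N, hN⟩ := Filter.eventually_atTop.1 hfreq
    have step1 : ∃ (n : ICone) (σ : F.obj (op n)), ∃ᶠ i in atTop, x i ∈ Fan.P.cell σ := by
      by_contra hcon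
      push Not at hcon
      let S : Set (Fan.P F) := x '' {i | N ≤ i}
      have hS : IsClosed S := by
        rw [(qsep_top F hF).2]
        intro n ξ
        have hfin : (S ∩ Fan.P.cell ξ).Finite := by
          have h1 := hcon n ξ
          rw [Filter.eventually_atTop] at h1
          obtain ⟨M, hM⟩ := h1
          refine ((Set.finite_lt_nat M).image x).subset ?_
          rintro p ⟨⟨i, _, rfl⟩, hp⟩
          refine ⟨i, ?_, rfl⟩
          by_contra hlt
          exact hM i (not_lt.1 hlt) hp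
        exact hfin.isClosed
      have hx₀ : x₀ ∉ S := by
        rintro ⟨i, hi, h⟩
        exact hN i hi h
      have h2 : ∀ᶠ i in atTop, x i ∈ Sᶜ := hx (hS.isOpen_compl.mem_nhds hx₀)
      obtain ⟨M, hM⟩ := Filter.eventually_atTop.1 h2
      exact hM (max M N) (le_max_left _ _) ⟨max M N, (le_max_right M N : N ≤ max M N), rfl⟩
    obtain ⟨n, σ, hσ⟩ := step1
    have hσ' : ∃ᶠ i in atTop, x i ∈ Fan.P.cell σ ∧ ¬ x i = x₀ := hσ.and_eventually hfreq
    obtain ⟨r₀, hr₀, hr₀x⟩ := Filter.extraction_of_frequently_atTop hσ'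
    choose u hu using fun j => (hr₀x j).1
    obtain ⟨a, haΔ, φ, hφ, hlim⟩ := (isCompact_stdSimplex ℝ (Fin n.dim)).tendsto_subseq
      (x := fun j => (nrm (u j)).1) (fun j => mem_stdSimplex_nrm (u j))
    let a' : Fan.Orth n := ⟨a, haΔ.1, fun h => by
      have h1 := haΔ.2
      rw [h] at h1
      simp at h1⟩
    have hta : tot a' = 1 := haΔ.2
    let v : ℕ → Fan.Orth n := fun j => nrm (u (φ j))
    have hv : Tendsto v atTop (𝓝 a') := tendsto_subtype_rng.2 hlim
    have hmkv : ∀ j, Fan.P.mk σ (v j) = x (r₀ (φ j)) := fun j => by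
      rw [mk_nrm]; exact hu (φ j)
    have hK : IsCompact (insert a' (Set.range v)) := hv.isCompact_insert_range
    have : T2Space (Fan.Orth n) := inferInstanceAs (T2Space {v : Fin n.dim → ℝ // (∀ i, 0 ≤ v i) ∧ v ≠ 0})
    have hKcl : IsClosed (insert a' (Set.range v)) := hK.isClosed
    have hC : IsClosed (nrm ⁻¹' (insert a' (Set.range v))) := hKcl.preimage continuous_nrm
    have hT : IsClosed (Fan.P.mk σ '' (nrm ⁻¹' (insert a' (Set.range v)))) := by
      refine isClosed_image_mk hF σ _ hC ?_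
      intro p q hp c hc hq
      rw [Set.mem_preimage] at hp ⊢
      rw [nrm_smul q p c hc hq]
      exact hp
    have hxT : ∀ j, x (r₀ (φ j)) ∈ Fan.P.mk σ '' (nrm ⁻¹' (insert a' (Set.range v))) := fun j =>
      ⟨v j, Or.inr ⟨j, (nrm_of_tot _ (tot_nrm _)).symm⟩, hmkv j⟩
    have hx₀T : x₀ ∈ Fan.P.mk σ '' (nrm ⁻¹' (insert a' (Set.range v))) := by
      by_contra h
      have h3 : ∀ᶠ j in atTop, x (r₀ (φ j)) ∈ (Fan.P.mk σ '' (nrm ⁻¹' (insert a' (Set.range v))))ᶜ :=
        (hx.comp (hr₀.comp hφ).tendsto_atTop) (hT.isOpen_compl.mem_nhds h)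
      obtain ⟨j, hj⟩ := h3.exists
      exact hj (hxT j)
    obtain ⟨w, hwC, hw⟩ := hx₀T
    rcases hwC with hwa | ⟨j, hj⟩
    · refine ⟨n, σ, r₀ ∘ φ, v, a', hr₀.comp hφ, hmkv, ?_, hv⟩
      rw [← hw, ← mk_nrm σ w, hwa]
    · exfalso
      apply (hr₀x (φ j)).2
      rw [← hmkv j, hj, mk_nrm, hw]

end Groth.Agent.Lib.Helper83.FanSeq
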