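import Mathlib
import Groth.Agent.Lib.Helper58.PairHensQuot
import Groth.Agent.Lib.Helper58.PairHensProps

set_option autoImplicit false

namespace Groth.Agent.Lib.Helper83.ZarLaur

open Polynomial Groth.Agent.Lib.Helper58.PairHens Groth.Agent.Lib.Helper58.HenselPair

universe u

/-- Henselianity only depends on the ideal up to "radical": if `(A, I)` is henselian and
`J ^ k ≤ I` then `(A, J)` is henselian. -/
theorem henselian_of_pow_le {A : Type*} [CommRing A] (I J : Ideal A) [HenselianRing A I] (k : ℕ)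
    (hJ : J ^ k ≤ I) : HenselianRing A J := by
  have hIjac : I ≤ Ideal.jacobson ⊥ := HenselianRing.jac
  have hJjac : J ≤ Ideal.jacobson ⊥ := by
    intro x hx
    have h1 : x ^ k ∈ Ideal.jacobson (⊥ : Ideal A) := hIjac (hJ (Ideal.pow_mem_pow hx k))
    rw [Ideal.jacobson, Ideal.mem_sInf] at h1 ⊢
    intro M hM
    exact hM.2.isPrime.mem_of_pow_mem k (h1 hM)
  refine ⟨hJjac, ?_⟩
  intro f hf a₀ h₁ h₂
  have hu0 : IsUnit (f.derivative.eval a₀) := isUnit_of_isUnit_mk hJjac h₂
  have hnil : (J.map (Ideal.Quotient.mk I)) ^ k = ⊥ := by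
    rw [← Ideal.map_pow, eq_bot_iff]
    exact (Ideal.map_mono hJ).trans (by rw [Ideal.map_quotient_self])
  have hHq : HenselianRing (A ⧸ I) (J.map (Ideal.Quotient.mk I)) :=
    henselian_of_pow_eq_bot _ k hnil
  have e1 : (f.map (Ideal.Quotient.mk I)).eval (Ideal.Quotient.mk I a₀) ∈
      J.map (Ideal.Quotient.mk I) := by
    rw [Polynomial.eval_map_apply]; exact Ideal.mem_map_of_mem _ h₁
  have e2 : IsUnit (Ideal.Quotient.mk (J.map (Ideal.Quotient.mk I))
      ((f.map (Ideal.Quotient.mk I)).derivative.eval (Ideal.Quotient.mk I a₀))) := by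
    rw [Polynomial.derivative_map, Polynomial.eval_map_apply]
    exact (hu0.map _).map _
  obtain ⟨ab, hab, habJ⟩ := hHq.is_henselian (f.map (Ideal.Quotient.mk I)) (hf.map _)
    (Ideal.Quotient.mk I a₀) e1 e2
  obtain ⟨j, hj, hjab⟩ := (Ideal.mem_map_iff_of_surjective _ Ideal.Quotient.mk_surjective).mp habJ
  have ha₁ : Ideal.Quotient.mk I (a₀ + j) = ab := by rw [map_add, hjab]; ring
  have hfa₁ : f.eval (a₀ + j) ∈ I := by
    rw [← Ideal.Quotient.eq_zero_iff_mem, ← Polynomial.eval_map_apply, ha₁]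
    exact hab
  have hu1 : IsUnit (f.derivative.eval (a₀ + j)) := by
    apply isUnit_of_isUnit_mk hJjac
    have : Ideal.Quotient.mk J (f.derivative.eval (a₀ + j)) =
        Ideal.Quotient.mk J (f.derivative.eval a₀) := by
      rw [Ideal.Quotient.eq]
      have h3 : (a₀ + j) - a₀ ∣ f.derivative.eval (a₀ + j) - f.derivative.eval a₀ :=
        Polynomial.sub_dvd_eval_sub _ _ _
      obtain ⟨c, hc⟩ := h3
      rw [hc, add_sub_cancel_left]
      exact J.mul_mem_right _ hj
    rw [this]; exact h₂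
  obtain ⟨a, ha, haI⟩ := HenselianRing.is_henselian f hf (a₀ + j) hfa₁ (hu1.map _)
  refine ⟨a, ha, ?_⟩
  obtain ⟨c, hc⟩ := f.binomExpansion a₀ (a - a₀)
  rw [add_sub_cancel, ha.eq_zero] at hc
  have hd : a - a₀ ∈ Ideal.jacobson (⊥ : Ideal A) := by
    have : a - a₀ = (a - (a₀ + j)) + j := by ring
    rw [this]
    exact Ideal.add_mem _ (hIjac haI) (hJjac hj)
  have hw : IsUnit (f.derivative.eval a₀ + c * (a - a₀)) := by
    apply isUnit_of_isUnit_mk (le_refl (Ideal.jacobson (⊥ : Ideal A)))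
    have : Ideal.Quotient.mk (Ideal.jacobson (⊥ : Ideal A)) (f.derivative.eval a₀ + c * (a - a₀)) =
        Ideal.Quotient.mk _ (f.derivative.eval a₀) := by
      rw [Ideal.Quotient.eq, add_sub_cancel_left]
      exact Ideal.mul_mem_left _ _ hd
    rw [this]; exact hu0.map _
  obtain ⟨w, hw'⟩ := hw
  have h5 : (a - a₀) * (w : A) = - f.eval a₀ := by
    rw [hw']; linear_combination -hc
  have h6 : a - a₀ = - f.eval a₀ * ↑w⁻¹ := by
    rw [← h5, mul_assoc, Units.mul_inv, mul_one]
  rw [h6]
  exact J.mul_mem_right _ (J.neg_mem h₁)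

/-- A henselian pair is its own henselization. -/
theorem isPairHenselization_self {D : Type u} [CommRing D] (J : Ideal D) [hJ : HenselianRing D J] :
    Hens2.IsPairHenselization D J D := by
  refine ⟨?_, ?_⟩
  · rw [Algebra.algebraMap_self, Ideal.map_id]; exact hJ
  · intro C _ J' f _ _
    refine ⟨f, ?_, ?_⟩
    · ext x; simp
    · intro g hg
      rw [← hg]; ext x; simp


section W

open IsLocalRing

variable {R : Type u} [CommRing R] [HenselianLocalRing R]

theorem henselian_quot (P : R[X]) (hP : P.Monic) (k : ℕ)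
    (hPk : P - X ^ k ∈ (maximalIdeal R).map (C : R →+* R[X])) :
    HenselianRing (R[X] ⧸ Ideal.span {P})
      ((Ideal.span {(X : R[X])}).map (Ideal.Quotient.mk (Ideal.span {P}))) := by
  have hfin : Module.Finite R (R[X] ⧸ Ideal.span {P}) := hP.finite_quotient
  have hint : Algebra.IsIntegral R (R[X] ⧸ Ideal.span {P}) := Algebra.IsIntegral.of_finite R _
  have h1 : HenselianRing (R[X] ⧸ Ideal.span {P})
      ((maximalIdeal R).map (algebraMap R (R[X] ⧸ Ideal.span {P}))) :=
    henselian_of_isIntegral (A := R) (I := maximalIdeal R) _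
  refine henselian_of_pow_le ((maximalIdeal R).map (algebraMap R (R[X] ⧸ Ideal.span {P}))) _ k ?_
  rw [Ideal.map_span, Set.image_singleton, Ideal.span_singleton_pow, Ideal.span_singleton_le_iff_mem,
    ← map_pow]
  have h2 : Ideal.Quotient.mk (Ideal.span {P}) (X ^ k) =
      - Ideal.Quotient.mk (Ideal.span {P}) (P - X ^ k) := by
    rw [map_sub, Ideal.Quotient.eq_zero_iff_mem.mpr (Ideal.mem_span_singleton_self P)]; ring
  rw [h2, neg_mem_iff]
  have h3 : (maximalIdeal R).map (algebraMap R (R[X] ⧸ Ideal.span {P})) =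
      ((maximalIdeal R).map (C : R →+* R[X])).map (Ideal.Quotient.mk (Ideal.span {P})) := by
    rw [Ideal.map_map]; rfl
  rw [h3]
  exact Ideal.mem_map_of_mem _ hPk

variable {B : Type u} [CommRing B] [Algebra R[X] B]
  (hB : Hens2.IsPairHenselization R[X] (Ideal.span {(X : R[X])}) B)

include hB in
theorem quot_bijective (P : R[X]) (hP : P.Monic) (k : ℕ)
    (hPk : P - X ^ k ∈ (maximalIdeal R).map (C : R →+* R[X])) :
    Function.Bijective (algebraMap (R[X] ⧸ Ideal.span {P})
      (B ⧸ (Ideal.span {P}).map (algebraMap R[X] B))) := by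
  have h1 := isPairHenselization_quotient hB (Ideal.span {P})
  have hh := henselian_quot P hP k hPk
  have h2 := isPairHenselization_self
    ((Ideal.span {(X : R[X])}).map (Ideal.Quotient.mk (Ideal.span {P})))
  obtain ⟨e⟩ := nonempty_algEquiv_of_isPairHenselization h1 h2
  have : ⇑(algebraMap (R[X] ⧸ Ideal.span {P}) (B ⧸ (Ideal.span {P}).map (algebraMap R[X] B))) =
      ⇑e.symm := by
    funext x
    have := e.symm.commutes x
    rw [Algebra.algebraMap_self, RingHom.id_apply] at this
    exact this.symm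
  rw [this]
  exact e.symm.bijective

include hB in
theorem W1 (P : R[X]) (hP : P.Monic) (k : ℕ)
    (hPk : P - X ^ k ∈ (maximalIdeal R).map (C : R →+* R[X])) (b : B) :
    ∃ q : R[X], algebraMap R[X] B q - b ∈ Ideal.span {algebraMap R[X] B P} := by
  obtain ⟨x, hx⟩ := (quot_bijective hB P hP k hPk).2 (Ideal.Quotient.mk _ b)
  obtain ⟨q, rfl⟩ := Ideal.Quotient.mk_surjective x
  refine ⟨q, ?_⟩
  rw [Ideal.Quotient.algebraMap_quotient_map_quotient, Ideal.Quotient.eq, Ideal.map_span,
    Set.image_singleton] at hx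
  exact hx

include hB in
theorem W2 (P : R[X]) (hP : P.Monic) (k : ℕ)
    (hPk : P - X ^ k ∈ (maximalIdeal R).map (C : R →+* R[X])) (q : R[X])
    (hq : algebraMap R[X] B q ∈ Ideal.span {algebraMap R[X] B P}) : q ∈ Ideal.span {P} := by
  have hinj := (quot_bijective hB P hP k hPk).1
  rw [← Ideal.Quotient.eq_zero_iff_mem]
  apply hinj
  rw [map_zero, Ideal.Quotient.algebraMap_quotient_map_quotient, Ideal.Quotient.eq_zero_iff_mem,
    Ideal.map_span, Set.image_singleton]
  exact hq

end W

end Groth.Agent.Lib.Helper83.ZarLaur
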