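import Mathlib

set_option autoImplicit false
open TensorProduct
universe u

namespace Groth.Agent.Lib.Helper83.TensorFieldsAss

section

variable {k K L : Type u} [Field k] [Field K] [Field L] [Algebra k K] [Algebra k L]

/-- `A ⊗ L` is a domain for `A` the polynomial subalgebra generated by an algebraically independent
family. -/
theorem isDomain_adjoin_tensor {ι : Type u} (x : ι → K) (hx : AlgebraicIndependent k x) :
    IsDomain ((Algebra.adjoin k (Set.range x)) ⊗[k] L) := by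
  let A := Algebra.adjoin k (Set.range x)
  let e1 : (A ⊗[k] L) ≃ₐ[k] (L ⊗[k] A) := Algebra.TensorProduct.comm k A L
  let e2 : (L ⊗[k] A) ≃ₐ[L] (L ⊗[k] MvPolynomial ι k) :=
    Algebra.TensorProduct.congr AlgEquiv.refl hx.aevalEquiv.symm
  let e3 : (L ⊗[k] MvPolynomial ι k) ≃ₐ[L] MvPolynomial ι L :=
    MvPolynomial.algebraTensorAlgEquiv k L
  let e : (A ⊗[k] L) ≃+* MvPolynomial ι L :=
    e1.toRingEquiv.trans (e2.toRingEquiv.trans e3.toRingEquiv)
  exact e.toMulEquiv.isDomain (MvPolynomial ι L)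


/-- A field is flat over any subalgebra. -/
theorem flat_subalgebra (A : Subalgebra k K) : Module.Flat A K := by
  have hinj : Function.Injective (algebraMap A K) := Subtype.val_injective
  have : FaithfulSMul A K := (faithfulSMul_iff_algebraMap_injective A K).mpr hinj
  let _ : Algebra (FractionRing A) K := FractionRing.liftAlgebra A K
  have : IsScalarTower A (FractionRing A) K := FractionRing.isScalarTower_liftAlgebra A K
  have hfree : Module.Free (FractionRing A) K := Module.Free.of_divisionRing _ _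
  have hflat : Module.Flat (FractionRing A) K := Module.Flat.of_free
  exact Module.Flat.trans A (FractionRing A) K


/-- the comparison map -/
noncomputable def jmap (A : Subalgebra k K) : (A ⊗[k] L) →ₐ[k] (K ⊗[k] L) :=
  Algebra.TensorProduct.map A.val (AlgHom.id k L)

theorem jmap_tmul (A : Subalgebra k K) (a : A) (l : L) :
    jmap (L := L) A (a ⊗ₜ[k] l) = (a : K) ⊗ₜ[k] l := rfl

theorem cancel_aux (A : Subalgebra k K) (m : K) (s : A ⊗[k] L) :
    TensorProduct.AlgebraTensorModule.cancelBaseChange k A A K L (m ⊗ₜ[A] s) =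
      (m ⊗ₜ[k] (1 : L)) * jmap A s := by
  induction s using TensorProduct.induction_on with
  | zero => rw [TensorProduct.tmul_zero, LinearEquiv.map_zero, map_zero (jmap A), mul_zero]
  | tmul a n =>
    rw [TensorProduct.AlgebraTensorModule.cancelBaseChange_tmul, jmap_tmul,
      Algebra.TensorProduct.tmul_mul_tmul, one_mul, Subalgebra.smul_def, smul_eq_mul, mul_comm]
  | add s₁ s₂ h₁ h₂ =>
    rw [TensorProduct.tmul_add, LinearEquiv.map_add, h₁, h₂, map_add (jmap A), mul_add]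

theorem cancel_key (A : Subalgebra k K) (d : A ⊗[k] L) (t : K ⊗[A] (A ⊗[k] L)) :
    TensorProduct.AlgebraTensorModule.cancelBaseChange k A A K L
      ((LinearMap.mulLeft A d).lTensor K t) =
      jmap A d * TensorProduct.AlgebraTensorModule.cancelBaseChange k A A K L t := by
  induction t using TensorProduct.induction_on with
  | zero => rw [LinearMap.map_zero, LinearEquiv.map_zero, mul_zero]
  | tmul m s =>
    rw [LinearMap.lTensor_tmul, LinearMap.mulLeft_apply, cancel_aux, cancel_aux,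
      map_mul (jmap A)]
    ring
  | add t₁ t₂ h₁ h₂ => rw [LinearMap.map_add, LinearEquiv.map_add, h₁, h₂, LinearEquiv.map_add,
      mul_add]

theorem eq_zero_of_jmap_mul_eq_zero (A : Subalgebra k K) [IsDomain (A ⊗[k] L)]
    (d : A ⊗[k] L) (hd : d ≠ 0) (r : K ⊗[k] L) (h : jmap A d * r = 0) : r = 0 := by
  have hflat : Module.Flat A K := flat_subalgebra A
  let e := TensorProduct.AlgebraTensorModule.cancelBaseChange k A A K L
  obtain ⟨t, rfl⟩ := e.surjective r
  have h1 : e ((LinearMap.mulLeft A d).lTensor K t) = 0 := by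
    rw [cancel_key]; exact h
  have h2 : (LinearMap.mulLeft A d).lTensor K t = 0 := by
    rw [← e.map_eq_zero_iff]; exact h1
  have hinj : Function.Injective (LinearMap.mulLeft A d) := by
    intro a b hab
    simp only [LinearMap.mulLeft_apply] at hab
    exact mul_left_cancel₀ hd hab
  have h3 := Module.Flat.lTensor_preserves_injective_linearMap (M := K) _ hinj
  have h4 : t = 0 := h3 (by rw [h2, LinearMap.map_zero])
  rw [h4, LinearEquiv.map_zero]


theorem isIntegralElem_tmul_one (A : Subalgebra k K) (z : K) (hz : IsIntegral A z) :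
    (jmap (L := L) A).toRingHom.IsIntegralElem (z ⊗ₜ[k] (1 : L)) := by
  obtain ⟨p, hp, hpz⟩ := hz
  refine ⟨p.map (Algebra.TensorProduct.includeLeftRingHom : A →+* A ⊗[k] L), hp.map _, ?_⟩
  rw [Polynomial.eval₂_map]
  have hcomp : ((jmap (L := L) A).toRingHom.comp
      (Algebra.TensorProduct.includeLeftRingHom : A →+* A ⊗[k] L)) =
      (Algebra.TensorProduct.includeLeftRingHom : K →+* K ⊗[k] L).comp (algebraMap A K) := by
    ext a
    rfl
  rw [hcomp]
  have := Polynomial.hom_eval₂ p (algebraMap A K)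
    (Algebra.TensorProduct.includeLeftRingHom : K →+* K ⊗[k] L) z
  rw [hpz, map_zero] at this
  exact this.symm

theorem exists_integral_multiple' (A : Subalgebra k K) [Algebra.IsAlgebraic A K]
    (y : K ⊗[k] L) :
    ∃ a : A, a ≠ 0 ∧ (jmap (L := L) A).toRingHom.IsIntegralElem
      (jmap A (a ⊗ₜ[k] (1 : L)) * y) := by
  induction y using TensorProduct.induction_on with
  | zero =>
    refine ⟨1, one_ne_zero, ?_⟩
    rw [mul_zero]
    exact RingHom.isIntegralElem_zero _
  | tmul κ l =>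
    obtain ⟨a, ha, hint⟩ := (Algebra.IsAlgebraic.isAlgebraic (R := A) κ).exists_integral_multiple
    refine ⟨a, ha, ?_⟩
    have h1 : jmap A (a ⊗ₜ[k] (1 : L)) * (κ ⊗ₜ[k] l) =
        ((a • κ) ⊗ₜ[k] (1 : L)) * (jmap A).toRingHom ((1 : A) ⊗ₜ[k] l) := by
      change jmap A (a ⊗ₜ[k] (1 : L)) * (κ ⊗ₜ[k] l) = ((a • κ) ⊗ₜ[k] (1 : L)) * jmap A ((1 : A) ⊗ₜ[k] l)
      rw [jmap_tmul, jmap_tmul, Algebra.TensorProduct.tmul_mul_tmul,
        Algebra.TensorProduct.tmul_mul_tmul, Subalgebra.smul_def, smul_eq_mul]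
      simp
    rw [h1]
    exact RingHom.IsIntegralElem.mul _ (isIntegralElem_tmul_one A _ hint)
      (RingHom.isIntegralElem_map _)
  | add y₁ y₂ h₁ h₂ =>
    obtain ⟨a₁, ha₁, hi₁⟩ := h₁
    obtain ⟨a₂, ha₂, hi₂⟩ := h₂
    refine ⟨a₁ * a₂, mul_ne_zero ha₁ ha₂, ?_⟩
    have h1 : jmap A ((a₁ * a₂) ⊗ₜ[k] (1 : L)) * (y₁ + y₂) =
        (jmap A).toRingHom (a₂ ⊗ₜ[k] (1 : L)) * (jmap A (a₁ ⊗ₜ[k] (1 : L)) * y₁) +
        (jmap A).toRingHom (a₁ ⊗ₜ[k] (1 : L)) * (jmap A (a₂ ⊗ₜ[k] (1 : L)) * y₂) := by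
      change jmap A ((a₁ * a₂) ⊗ₜ[k] (1 : L)) * (y₁ + y₂) =
        jmap A (a₂ ⊗ₜ[k] (1 : L)) * (jmap A (a₁ ⊗ₜ[k] (1 : L)) * y₁) +
        jmap A (a₁ ⊗ₜ[k] (1 : L)) * (jmap A (a₂ ⊗ₜ[k] (1 : L)) * y₂)
      have h2 : jmap A ((a₁ * a₂) ⊗ₜ[k] (1 : L)) =
          jmap A (a₁ ⊗ₜ[k] (1 : L)) * jmap A (a₂ ⊗ₜ[k] (1 : L)) := by
        rw [← map_mul, Algebra.TensorProduct.tmul_mul_tmul, mul_one]
      rw [h2]
      ring
    rw [h1]
    exact RingHom.IsIntegralElem.add _
      (RingHom.IsIntegralElem.mul _ (RingHom.isIntegralElem_map _) hi₁)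
      (RingHom.IsIntegralElem.mul _ (RingHom.isIntegralElem_map _) hi₂)


theorem main : associatedPrimes (K ⊗[k] L) (K ⊗[k] L) ⊆ minimalPrimes (K ⊗[k] L) := by
  obtain ⟨s, hs⟩ := exists_isTranscendenceBasis k K
  let A := Algebra.adjoin k (Set.range ((↑) : s → K))
  have hD : IsDomain (A ⊗[k] L) := isDomain_adjoin_tensor _ hs.1
  have halg : Algebra.IsAlgebraic A K := hs.isAlgebraic
  intro P hP
  have hPp : P.IsPrime := hP.toIsPrime
  obtain ⟨r₀, hr₀⟩ := hP.eq_radical_colon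
  have hr₀ne : r₀ ≠ 0 := by
    rintro rfl
    apply hPp.ne_top
    rw [hr₀, Ideal.eq_top_iff_one]
    apply Ideal.le_radical
    rw [Submodule.mem_colon_singleton]
    simp
  have hcomap : ∀ d : A ⊗[k] L, jmap A d ∈ P → d = 0 := by
    intro d hd
    rw [hr₀] at hd
    obtain ⟨n, hn⟩ := hd
    rw [Submodule.mem_colon_singleton, Submodule.mem_bot, smul_eq_mul, ← map_pow] at hn
    by_contra hne
    exact hr₀ne (eq_zero_of_jmap_mul_eq_zero A (d ^ n) (pow_ne_zero n hne) r₀ hn)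
  refine ⟨⟨hPp, bot_le⟩, ?_⟩
  rintro Q ⟨hQp, -⟩ hQP
  by_contra hPQ
  obtain ⟨y, hyP, hyQ⟩ := SetLike.not_le_iff_exists.mp hPQ
  obtain ⟨a, ha, hint⟩ := exists_integral_multiple' (L := L) A y
  have haQ : jmap A (a ⊗ₜ[k] (1 : L)) ∉ Q := by
    intro h
    have h0 := hcomap _ (hQP h)
    have hinj : Function.Injective (Algebra.TensorProduct.includeLeft : A →ₐ[k] A ⊗[k] L) :=
      Algebra.TensorProduct.includeLeft_injective (S := k) (FaithfulSMul.algebraMap_injective k L)
    exact ha (hinj (by rw [map_zero]; exact h0))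
  have hzP : jmap A (a ⊗ₜ[k] (1 : L)) * y ∈ P := P.mul_mem_left _ hyP
  have hzQ : jmap A (a ⊗ₜ[k] (1 : L)) * y ∉ Q := fun h =>
    (hQp.mem_or_mem h).elim haQ hyQ
  let _ : Algebra (A ⊗[k] L) (K ⊗[k] L) := (jmap A).toRingHom.toAlgebra
  have hlt := Ideal.comap_lt_comap_of_integral_mem_sdiff (R := A ⊗[k] L) hQP
    (x := jmap A (a ⊗ₜ[k] (1 : L)) * y) ⟨hzP, hzQ⟩ hint
  have hbot : P.comap (algebraMap (A ⊗[k] L) (K ⊗[k] L)) = ⊥ := by
    rw [eq_bot_iff]
    intro d hd
    exact (Submodule.mem_bot _).mpr (hcomap d hd)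
  rw [hbot] at hlt
  exact not_lt_bot hlt

end

end Groth.Agent.Lib.Helper83.TensorFieldsAss
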