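import Groth.Prelude.Def_HopfRep
import Mathlib

/-!
# The operators `T f = (id ⊗ f) ∘ ρ` on a comodule (helper83)

For a right comodule `V` over a coalgebra `A` and a functional `f : A → k`, the operator
`T f = (id ⊗ f) ∘ ρ : V → V`, with the right/left translates `Rt f = (id ⊗ f) ∘ Δ`,
`Lt f = (f ⊗ id) ∘ Δ` on `A`.  Formulas: `ρ ∘ T f = (id ⊗ Rt f) ∘ ρ`, `(T f ⊗ id) ∘ ρ = (id ⊗ Lt f) ∘ ρ`,
`T ε = id`, `T f ∘ T g = T (f ∘ Rt g)`.  Subcomodules are stable under all `T f`.
-/

set_option autoImplicit false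
universe u v w
open TensorProduct

namespace Groth.Agent.Lib.Helper83.ComodOps

variable {k : Type u} [CommRing k] {A : Type v} [AddCommGroup A] [Module k A] [Coalgebra k A]
  {V : Type w} [AddCommGroup V] [Module k V] [HopfRep.Comod k A V]

variable (k A V) in
/-- the coaction -/
noncomputable abbrev coact : V →ₗ[k] V ⊗[k] A := HopfRep.Comod.coact (k := k) (A := A) (V := V)

/-- `T f = (id ⊗ f) ∘ ρ`. -/
noncomputable def T (f : A →ₗ[k] k) : V →ₗ[k] V :=
  (TensorProduct.rid k V).toLinearMap ∘ₗ f.lTensor V ∘ₗ coact k A V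

/-- `Rt f = (id ⊗ f) ∘ Δ`. -/
noncomputable def Rt (f : A →ₗ[k] k) : A →ₗ[k] A :=
  (TensorProduct.rid k A).toLinearMap ∘ₗ f.lTensor A ∘ₗ Coalgebra.comul

/-- `Lt f = (f ⊗ id) ∘ Δ`. -/
noncomputable def Lt (f : A →ₗ[k] k) : A →ₗ[k] A :=
  (TensorProduct.lid k A).toLinearMap ∘ₗ f.rTensor A ∘ₗ Coalgebra.comul

theorem T_apply (f : A →ₗ[k] k) (v : V) :
    T f v = TensorProduct.rid k V (f.lTensor V (coact k A V v)) := rfl

theorem coassoc_apply (v : V) :
    TensorProduct.assoc k V A A ((coact k A V).rTensor A (coact k A V v)) =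
      (Coalgebra.comul (R := k) (A := A)).lTensor V (coact k A V v) :=
  LinearMap.congr_fun (HopfRep.Comod.coassoc (k := k) (A := A) (V := V)) v

/-- auxiliary: `V ⊗ (A ⊗ A) → V ⊗ A`, `v ⊗ (a ⊗ a') ↦ f a' • (v ⊗ a)` -/
noncomputable def auxR (f : A →ₗ[k] k) : V ⊗[k] (A ⊗[k] A) →ₗ[k] V ⊗[k] A :=
  ((TensorProduct.rid k A).toLinearMap ∘ₗ f.lTensor A).lTensor V

theorem auxR_assoc (f : A →ₗ[k] k) (y : (V ⊗[k] A) ⊗[k] A) :
    auxR f (TensorProduct.assoc k V A A y) = TensorProduct.rid k (V ⊗[k] A) (f.lTensor (V ⊗[k] A) y) := by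
  induction y using TensorProduct.induction_on with
  | zero => simp
  | add x y hx hy => simp only [map_add, hx, hy]
  | tmul x a =>
    induction x using TensorProduct.induction_on with
    | zero => simp
    | add x y hx hy => simp only [TensorProduct.add_tmul, map_add, hx, hy]
    | tmul v a' => simp [auxR, TensorProduct.tmul_smul]

theorem rid_lTensor_rTensor_coact (f : A →ₗ[k] k) (t : V ⊗[k] A) :
    TensorProduct.rid k (V ⊗[k] A) (f.lTensor (V ⊗[k] A) ((coact k A V).rTensor A t)) =
      coact k A V (TensorProduct.rid k V (f.lTensor V t)) := by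
  induction t using TensorProduct.induction_on with
  | zero => simp
  | add x y hx hy => simp only [map_add, hx, hy]
  | tmul v a => simp

/-- `ρ (T f v) = (id ⊗ Rt f) (ρ v)`. -/
theorem coact_T (f : A →ₗ[k] k) (v : V) :
    coact k A V (T f v) = (Rt f).lTensor V (coact k A V v) := by
  rw [T_apply, ← rid_lTensor_rTensor_coact, ← auxR_assoc, coassoc_apply]
  unfold auxR Rt
  rw [← LinearMap.lTensor_comp_apply]
  rfl

/-- auxiliary: `V ⊗ (A ⊗ A) → V ⊗ A`, `v ⊗ (a ⊗ a') ↦ f a • (v ⊗ a')` -/
noncomputable def auxL (f : A →ₗ[k] k) : V ⊗[k] (A ⊗[k] A) →ₗ[k] V ⊗[k] A :=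
  ((TensorProduct.lid k A).toLinearMap ∘ₗ f.rTensor A).lTensor V

theorem auxL_assoc (f : A →ₗ[k] k) (y : (V ⊗[k] A) ⊗[k] A) :
    auxL f (TensorProduct.assoc k V A A y) =
      ((TensorProduct.rid k V).toLinearMap ∘ₗ f.lTensor V).rTensor A y := by
  induction y using TensorProduct.induction_on with
  | zero => simp
  | add x y hx hy => simp only [map_add, hx, hy]
  | tmul x a =>
    induction x using TensorProduct.induction_on with
    | zero => simp
    | add x y hx hy => simp only [TensorProduct.add_tmul, map_add, hx, hy]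
    | tmul v a' => simp [auxL, TensorProduct.tmul_smul, TensorProduct.smul_tmul']

/-- `(T f ⊗ id) (ρ v) = (id ⊗ Lt f) (ρ v)`. -/
theorem rTensor_T_coact (f : A →ₗ[k] k) (v : V) :
    (T f).rTensor A (coact k A V v) = (Lt f).lTensor V (coact k A V v) := by
  have h1 : (T f).rTensor A (coact k A V v) =
      ((TensorProduct.rid k V).toLinearMap ∘ₗ f.lTensor V).rTensor A
        ((coact k A V).rTensor A (coact k A V v)) := by
    rw [← LinearMap.rTensor_comp_apply]
    rfl
  rw [h1, ← auxL_assoc, coassoc_apply]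
  unfold auxL Lt
  rw [← LinearMap.lTensor_comp_apply]
  rfl

theorem T_counit (v : V) : T (Coalgebra.counit (R := k) (A := A)) v = v := by
  rw [T_apply]
  have := LinearMap.congr_fun (HopfRep.Comod.counit_comp (k := k) (A := A) (V := V)) v
  simp only [LinearMap.comp_apply] at this
  rw [this]
  simp

theorem T_T (f g : A →ₗ[k] k) (v : V) : T f (T g v) = T (f ∘ₗ Rt g) v := by
  rw [T_apply, coact_T, T_apply, ← LinearMap.lTensor_comp_apply]

theorem coact_injective : Function.Injective (coact k A V) := by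
  intro v w h
  rw [← T_counit (k := k) (A := A) v, ← T_counit (k := k) (A := A) w, T_apply, T_apply, h]

omit [Coalgebra k A] [HopfRep.Comod k A V] in
theorem rid_lTensor_rTensor_subtype (W : Submodule k V) (f : A →ₗ[k] k) (y : W ⊗[k] A) :
    TensorProduct.rid k V (f.lTensor V (W.subtype.rTensor A y)) =
      W.subtype (TensorProduct.rid k W (f.lTensor W y)) := by
  induction y using TensorProduct.induction_on with
  | zero => simp
  | add x y hx hy => simp only [map_add, hx, hy]
  | tmul x a => simp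

/-- Subcomodules are stable under the operators `T f`. -/
theorem T_mem_of_isSubcomod (W : Submodule k V) (hW : HopfRep.IsSubcomod (k := k) (A := A) W)
    (f : A →ₗ[k] k) {w : V} (hw : w ∈ W) : T f w ∈ W := by
  obtain ⟨y, hy⟩ := hW w hw
  rw [T_apply]
  change TensorProduct.rid k V (f.lTensor V (coact k A V w)) ∈ W
  rw [show coact k A V w = W.subtype.rTensor A y from hy.symm, rid_lTensor_rTensor_subtype]
  exact (TensorProduct.rid k W (f.lTensor W y)).2

end Groth.Agent.Lib.Helper83.ComodOps
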