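import Mathlib

/-!
# Change of projective coordinates for the differential `dx / f_y` of a plane curve
-/

namespace Groth.Agent.Lib.Helper83.PlaneCoord

open MvPolynomial

/-- Chain rule for a derivation applied to `aeval v f`. -/
theorem deriv_aeval {k B M σ : Type*} [Fintype σ] [DecidableEq σ] [CommRing k] [CommRing B]
    [Algebra k B] [AddCommGroup M] [Module B M] [Module k M] [IsScalarTower k B M]
    (D : Derivation k B M) (v : σ → B) (f : MvPolynomial σ k) :
    D (aeval v f) = ∑ i, aeval v (pderiv i f) • D (v i) := by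
  induction f using MvPolynomial.induction_on with
  | C a => simp
  | add p q hp hq => simp [hp, hq, add_smul, Finset.sum_add_distrib]
  | mul_X p j hp =>
    rw [map_mul, aeval_X, Derivation.leibniz, hp]
    have h1 : ∀ i, aeval v (pderiv i (p * X j)) • D (v i) =
        v j • (aeval v (pderiv i p) • D (v i)) + (if i = j then aeval v p • D (v i) else 0) := by
      intro i
      rw [Derivation.leibniz, pderiv_X]
      simp only [smul_eq_mul, map_add, map_mul, aeval_X, add_smul]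
      rw [add_comm]
      congr 1
      · rw [smul_smul, mul_comm]
      · by_cases hij : i = j
        · subst hij; simp
        · simp [hij, Ne.symm hij]
    simp_rw [h1]
    rw [Finset.sum_add_distrib, ← Finset.smul_sum, add_comm]
    congr 1
    simp

/-- Evaluating a homogeneous polynomial at a rescaled point. -/
theorem aeval_smul_of_isHomogeneous {k K σ : Type*} [Fintype σ] [CommRing k] [CommRing K]
    [Algebra k K] {f : MvPolynomial σ k} {n : ℕ} (hf : f.IsHomogeneous n) (c : K) (v : σ → K) :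
    aeval (fun i => c * v i) f = c ^ n * aeval v f := by
  rw [aeval_def, aeval_def, eval₂_eq', eval₂_eq', Finset.mul_sum]
  apply Finset.sum_congr rfl
  intro d hd
  have hd' : coeff d f ≠ 0 := by simpa using hd
  have hdeg := hf hd'
  simp only [mul_pow, Finset.prod_mul_distrib, Finset.prod_pow_eq_pow_sum]
  have : ∑ i, d i = n := by
    rw [← hdeg, Finsupp.weight_apply, Finsupp.sum_fintype]
    · simp
    · simp
  rw [this]
  ring

/-- `Aᵀ ((A u) × (A du)) = det A • (u × du)`, third component. -/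
theorem cross_identity {K M : Type*} [CommRing K] [AddCommGroup M] [Module K M]
    (a : Fin 3 → Fin 3 → K) (u : Fin 3 → K) (du : Fin 3 → M)
    (P : Fin 3 → K) (dP : Fin 3 → M)
    (hP : ∀ i, P i = a i 0 * u 0 + a i 1 * u 1 + a i 2 * u 2)
    (hdP : ∀ i, dP i = a i 0 • du 0 + a i 1 • du 1 + a i 2 • du 2) :
    a 0 2 • (P 1 • dP 2 - P 2 • dP 1) + a 1 2 • (P 2 • dP 0 - P 0 • dP 2)
      + a 2 2 • (P 0 • dP 1 - P 1 • dP 0) =
    (Matrix.of a).det • (u 0 • du 1 - u 1 • du 0) := by
  simp only [hP, hdP, Matrix.det_fin_three, Matrix.of_apply]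
  module

/-- If `g ⬝ P = 0` and `g ⬝ dP = 0` then `P × dP` is parallel to `g`. -/
theorem cross_parallel {K M : Type*} [CommRing K] [AddCommGroup M] [Module K M]
    (a02 a12 a22 : K) (P g : Fin 3 → K) (dP : Fin 3 → M)
    (E1 : P 0 * g 0 + P 1 * g 1 + P 2 * g 2 = 0)
    (E2 : g 0 • dP 0 + g 1 • dP 1 + g 2 • dP 2 = 0) :
    g 2 • (a02 • (P 1 • dP 2 - P 2 • dP 1) + a12 • (P 2 • dP 0 - P 0 • dP 2)
      + a22 • (P 0 • dP 1 - P 1 • dP 0)) =
    (a02 * g 0 + a12 * g 1 + a22 * g 2) • (P 0 • dP 1 - P 1 • dP 0) := by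
  linear_combination (norm := module)
    E1 • (-a02 • dP 1 + a12 • dP 0) + (a02 * P 1 - a12 * P 0) • E2

theorem main (k K : Type*) [Field k] [Field K] [Algebra k K]
    (f : MvPolynomial (Fin 3) k) (e : ℕ) (hf : f.IsHomogeneous e)
    (x y : K) (hfxy : aeval ![(1 : K), x, y] f = 0)
    (A : Matrix (Fin 3) (Fin 3) k)
    (u : Fin 3 → K) (hu : ∀ i, ∑ j, algebraMap k K (A i j) * u j = ![(1 : K), x, y] i)
    (hu0 : u 0 ≠ 0)
    (hfy : aeval ![(1 : K), x, y] (pderiv 2 f) ≠ 0)
    (hfy' : aeval ![(1 : K), u 1 / u 0, u 2 / u 0]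
      (pderiv 2 (aeval (fun i : Fin 3 => ∑ j, C (A i j) * X j) f)) ≠ 0) :
    (aeval ![(1 : K), x, y] (pderiv 2 f))⁻¹ • KaehlerDifferential.D k K x =
      (algebraMap k K A.det * (u 0)⁻¹ ^ ((e : ℤ) - 3) *
        (aeval ![(1 : K), u 1 / u 0, u 2 / u 0]
          (pderiv 2 (aeval (fun i : Fin 3 => ∑ j, C (A i j) * X j) f)))⁻¹) •
        KaehlerDifferential.D k K (u 1 / u 0) := by
  classical
  set P : Fin 3 → K := ![(1 : K), x, y] with hPdef
  set Q : Fin 3 → K := ![(1 : K), u 1 / u 0, u 2 / u 0] with hQdef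
  set L : Fin 3 → MvPolynomial (Fin 3) k := fun i => ∑ j, C (A i j) * X j with hLdef
  let D := KaehlerDifferential.D k K
  let a : Fin 3 → Fin 3 → K := fun i j => algebraMap k K (A i j)
  let g : Fin 3 → K := fun i => aeval P (pderiv i f)
  -- `e ≥ 1`
  have he : 1 ≤ e := by
    by_contra h
    have h0 : e = 0 := by omega
    subst h0
    rw [← totalDegree_zero_iff_isHomogeneous, totalDegree_eq_zero_iff_eq_C] at hf
    apply hfy
    rw [hf, pderiv_C, map_zero]
  have hPu : ∀ i, P i = a i 0 * u 0 + a i 1 * u 1 + a i 2 * u 2 := by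
    intro i
    rw [← hu i, Fin.sum_univ_three]
  have E1 : P 0 * g 0 + P 1 * g 1 + P 2 * g 2 = 0 := by
    have := congrArg (aeval P) hf.sum_X_mul_pderiv
    simp only [map_add, map_mul, aeval_X, Fin.sum_univ_three, map_nsmul, hfxy, smul_zero] at this
    exact this
  have E2 : g 0 • D (P 0) + g 1 • D (P 1) + g 2 • D (P 2) = 0 := by
    have := deriv_aeval D P f
    rw [hfxy, map_zero, Fin.sum_univ_three] at this
    exact this.symm
  have hDc : ∀ (c : k) (w : K), D (algebraMap k K c * w) = algebraMap k K c • D w := by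
    intro c w
    rw [← Algebra.smul_def, D.map_smul, algebraMap_smul]
  have hdP : ∀ i, D (P i) = a i 0 • D (u 0) + a i 1 • D (u 1) + a i 2 • D (u 2) := by
    intro i
    rw [hPu i]
    simp only [map_add, a, hDc]
  have hdet : (Matrix.of a).det = algebraMap k K A.det := by
    rw [RingHom.map_det]
    rfl
  have key : (a 0 2 * g 0 + a 1 2 * g 1 + a 2 2 * g 2) • D x =
      (g 2 * algebraMap k K A.det) • (u 0 • D (u 1) - u 1 • D (u 0)) := by
    have c1 := cross_identity a u (fun j => D (u j)) P (fun i => D (P i)) hPu hdP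
    have c2 := cross_parallel (a 0 2) (a 1 2) (a 2 2) P g (fun i => D (P i)) E1 E2
    rw [c1, hdet] at c2
    have hP0 : P 0 = 1 := rfl
    have hP1 : P 1 = x := rfl
    have hD0 : D (P 0) = 0 := by rw [hP0]; exact D.map_one_eq_zero
    rw [hD0, hP0, hP1, smul_zero, sub_zero, one_smul] at c2
    rw [← c2, smul_smul]
  have hQ : aeval Q (pderiv 2 (aeval L f)) =
      (u 0)⁻¹ ^ (e - 1) * (a 0 2 * g 0 + a 1 2 * g 1 + a 2 2 * g 2) := by
    have h1 := deriv_aeval (pderiv (2 : Fin 3)) L f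
    have h2 : ∀ i, pderiv (2 : Fin 3) (L i) = C (A i 2) := by
      intro i
      simp [L, Fin.sum_univ_three, pderiv_X]
    have h3 : ∀ h : MvPolynomial (Fin 3) k, h.IsHomogeneous (e - 1) →
        aeval Q (aeval L h) = (u 0)⁻¹ ^ (e - 1) * aeval P h := by
      intro h hh
      rw [comp_aeval_apply]
      have : (fun i => aeval Q (L i)) = fun i => (u 0)⁻¹ * P i := by
        funext i
        have hq0 : Q 0 = 1 := rfl
        have hq1 : Q 1 = u 1 / u 0 := rfl
        have hq2 : Q 2 = u 2 / u 0 := rfl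
        simp only [L, map_add, map_mul, aeval_C, aeval_X, Fin.sum_univ_three, hq0, hq1, hq2]
        rw [hPu i]
        simp only [a]
        field_simp
      rw [this, aeval_smul_of_isHomogeneous hh]
    rw [h1, Fin.sum_univ_three]
    simp only [h2, smul_eq_mul, map_add, map_mul, aeval_C]
    rw [h3 _ hf.pderiv, h3 _ hf.pderiv, h3 _ hf.pderiv]
    simp only [g, a]
    ring
  rw [hQ]
  have hG : a 0 2 * g 0 + a 1 2 * g 1 + a 2 2 * g 2 ≠ 0 := by
    intro h
    apply hfy'
    rw [hQ, h, mul_zero]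
  have hg2 : g 2 ≠ 0 := hfy
  have hDx : D x = ((a 0 2 * g 0 + a 1 2 * g 1 + a 2 2 * g 2)⁻¹ * (g 2 * algebraMap k K A.det)) •
      (u 0 • D (u 1) - u 1 • D (u 0)) := by
    rw [← smul_smul, ← key, smul_smul, inv_mul_cancel₀ hG, one_smul]
  change (g 2)⁻¹ • D x = _ • D (u 1 / u 0)
  rw [hDx, Derivation.leibniz_div, smul_smul, smul_smul]
  congr 1
  obtain ⟨m, rfl⟩ : ∃ m, e = m + 1 := ⟨e - 1, by omega⟩
  have hu0' : (u 0)⁻¹ ≠ 0 := inv_ne_zero hu0
  have hz : (u 0)⁻¹ ^ (((m + 1 : ℕ) : ℤ) - 3) = (u 0)⁻¹ ^ m / (u 0)⁻¹ ^ 2 := by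
    have : (((m + 1 : ℕ) : ℤ) - 3) = (m : ℤ) - 2 := by push_cast; ring
    rw [this, zpow_sub₀ hu0', zpow_natCast, zpow_ofNat]
  rw [hz, Nat.add_sub_cancel]
  field_simp

end Groth.Agent.Lib.Helper83.PlaneCoord
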