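import Mathlib
import Groth.Prelude.Def_Conn
import Groth.Prelude.Def_W4swconnpcurvhiggsLogLam

set_option autoImplicit false
universe v u

namespace Groth.Agent.Lib.Helper83.LogPiece

open TensorProduct LogConn

section

variable {A : Type v} {B L E : Type u} [CommRing A] [CommRing B]
    [Algebra A B] [AddCommGroup L] [Module B L] [Module A L] [IsScalarTower A B L]
    [AddCommGroup E] [Module B E] [Module A E] [IsScalarTower A B E]
    {n : ℕ}

/-- partial derivative w.r.t. the basis `bΩ`. -/
noncomputable def pd (bΩ : Module.Basis (Fin n) B (KaehlerDifferential A B)) (a : Fin n) (b : B) : B :=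
  bΩ.coord a (KaehlerDifferential.D A B b)

theorem pd_mul (bΩ : Module.Basis (Fin n) B (KaehlerDifferential A B)) (a : Fin n) (b c : B) :
    pd bΩ a (b * c) = b * pd bΩ a c + c * pd bΩ a b := by
  unfold pd
  rw [Derivation.leibniz, map_add, map_smul, map_smul, smul_eq_mul, smul_eq_mul]

theorem pd_one (bΩ : Module.Basis (Fin n) B (KaehlerDifferential A B)) (a : Fin n) :
    pd bΩ a (1 : B) = 0 := by
  unfold pd
  rw [Derivation.map_one_eq_zero, map_zero]

theorem pd_t (t : Fin n → B) (bΩ : Module.Basis (Fin n) B (KaehlerDifferential A B))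
    (hbΩ : ∀ i, bΩ i = KaehlerDifferential.D A B (t i)) (a j : Fin n) :
    pd bΩ a (t j) = if j = a then 1 else 0 := by
  unfold pd
  rw [← hbΩ, Module.Basis.coord_apply, Module.Basis.repr_self, Finsupp.single_apply]

theorem pd_prod (t : Fin n → B) (bΩ : Module.Basis (Fin n) B (KaehlerDifferential A B))
    (hbΩ : ∀ i, bΩ i = KaehlerDifferential.D A B (t i)) (a : Fin n) (K : Finset (Fin n))
    (ha : a ∉ K) : pd bΩ a (∏ j ∈ K, t j) = 0 := by
  classical
  induction K using Finset.induction_on with
  | empty => rw [Finset.prod_empty, pd_one]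
  | insert j K hj ih =>
    rw [Finset.prod_insert hj, pd_mul, ih (fun h => ha (Finset.mem_insert_of_mem h)),
      pd_t t bΩ hbΩ, if_neg, mul_zero, mul_zero, add_zero]
    rintro rfl
    exact ha (Finset.mem_insert_self _ _)

omit [Module A L] [IsScalarTower A B L] in
theorem coord_ι (t : Fin n → B) (bΩ : Module.Basis (Fin n) B (KaehlerDifferential A B))
    (hbΩ : ∀ i, bΩ i = KaehlerDifferential.D A B (t i))
    (ω : Module.Basis (Fin n) B L) (ι : KaehlerDifferential A B →ₗ[B] L)
    (hι : ∀ i, ι (KaehlerDifferential.D A B (t i)) = t i • ω i) (a : Fin n) (b : B) :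
    ω.coord a (ι (KaehlerDifferential.D A B b)) = pd bΩ a b * t a := by
  classical
  conv_lhs => rw [← bΩ.sum_repr (KaehlerDifferential.D A B b)]
  simp only [map_sum, map_smul, hbΩ, hι, Module.Basis.coord_apply, Module.Basis.repr_self,
    smul_eq_mul, Finsupp.single_apply]
  simp only [mul_ite, mul_one, mul_zero, Finset.sum_ite_eq', Finset.mem_univ, if_true]
  unfold pd
  rw [Module.Basis.coord_apply]

theorem comp_smul (lam : B) (t : Fin n → B)
    (bΩ : Module.Basis (Fin n) B (KaehlerDifferential A B))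
    (hbΩ : ∀ i, bΩ i = KaehlerDifferential.D A B (t i))
    (ω : Module.Basis (Fin n) B L) (ι : KaehlerDifferential A B →ₗ[B] L)
    (hι : ∀ i, ι (KaehlerDifferential.D A B (t i)) = t i • ω i)
    (nabla : E →ₗ[A] E ⊗[B] L)
    (hc : Conn.IsLamConn (ι.compDer (KaehlerDifferential.D A B)) lam nabla)
    (a : Fin n) (b : B) (e : E) :
    comp nabla ω a (b • e) = b • comp nabla ω a e + (lam * pd bΩ a b) • (t a • e) := by
  unfold comp
  rw [Conn.along_apply, Conn.along_apply, hc b e, map_add, map_add, map_smul, map_smul, map_smul,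
    map_smul, TensorProduct.map_tmul, TensorProduct.rid_tmul, LinearMap.id_apply]
  congr 1
  have : (ι.compDer (KaehlerDifferential.D A B)) b = ι (KaehlerDifferential.D A B b) := rfl
  rw [this, coord_ι t bΩ hbΩ ω ι hι, smul_smul, smul_smul, mul_assoc]


omit [Module A L] [IsScalarTower A B L] in
theorem compProd_empty (nabla : E →ₗ[A] E ⊗[B] L) (ω : Module.Basis (Fin n) B L) :
    compProd nabla ω ∅ = LinearMap.id := by
  unfold compProd
  rw [Finset.sort_empty, List.foldr_nil]

omit [Module A L] [IsScalarTower A B L] in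
theorem compProd_insert (nabla : E →ₗ[A] E ⊗[B] L) (ω : Module.Basis (Fin n) B L)
    (a : Fin n) (s : Finset (Fin n)) (h : ∀ x ∈ s, a < x) :
    compProd nabla ω (insert a s) = comp nabla ω a ∘ₗ compProd nabla ω s := by
  unfold compProd
  have ha : a ∉ s := fun hh => lt_irrefl a (h a hh)
  rw [Finset.sort_insert (· ≤ ·) (fun b hb => (h b hb).le) ha, List.foldr_cons]

/-- generator of the piece. -/
noncomputable def gen (nabla : E →ₗ[A] E ⊗[B] L) (ω : Module.Basis (Fin n) B L)
    (t : Fin n → B) (I J : Finset (Fin n)) (e : E) : E :=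
  (∏ i ∈ I \ J, t i) • compProd nabla ω J e

omit [Module A L] [IsScalarTower A B L] in
theorem gen_mem (nabla : E →ₗ[A] E ⊗[B] L) (ω : Module.Basis (Fin n) B L)
    (t : Fin n → B) (I J : Finset (Fin n)) (hJ : J ⊆ I) (e : E) :
    gen nabla ω t I J e ∈ piece nabla ω t I := by
  unfold piece
  refine Submodule.mem_iSup_of_mem J (Submodule.mem_iSup_of_mem (Finset.mem_powerset.mpr hJ) ?_)
  exact ⟨e, rfl⟩

omit [Module A L] [IsScalarTower A B L] in
/-- To show `piece I ≤ N` it suffices to check generators. -/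
theorem piece_le (nabla : E →ₗ[A] E ⊗[B] L) (ω : Module.Basis (Fin n) B L)
    (t : Fin n → B) (I : Finset (Fin n)) (N : Submodule A E)
    (h : ∀ J, J ⊆ I → ∀ e, gen nabla ω t I J e ∈ N) : piece nabla ω t I ≤ N := by
  unfold piece
  refine iSup₂_le fun J hJ => ?_
  rintro _ ⟨e, rfl⟩
  exact h J (Finset.mem_powerset.mp hJ) e

omit [Module A L] [IsScalarTower A B L] in
theorem smul_piece_mem (nabla : E →ₗ[A] E ⊗[B] L) (ω : Module.Basis (Fin n) B L)
    (t : Fin n → B) (I J : Finset (Fin n)) (hJ : J ⊆ I) (x : E) (hx : x ∈ piece nabla ω t J) :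
    (∏ i ∈ I \ J, t i) • x ∈ piece nabla ω t I := by
  classical
  have := piece_le nabla ω t J ((piece nabla ω t I).comap
    ((LinearMap.lsmul B E (∏ i ∈ I \ J, t i)).restrictScalars A)) ?_
  · exact this hx
  intro J' hJ' e
  rw [Submodule.mem_comap]
  change (∏ i ∈ I \ J, t i) • gen nabla ω t J J' e ∈ _
  unfold gen
  rw [smul_smul]
  have hprod : (∏ i ∈ I \ J, t i) * (∏ i ∈ J \ J', t i) = ∏ i ∈ I \ J', t i := by
    rw [← Finset.prod_union]
    · congr 1
      ext i
      simp only [Finset.mem_union, Finset.mem_sdiff]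
      constructor
      · rintro (⟨h1, h2⟩ | ⟨h1, h2⟩)
        · exact ⟨h1, fun h => h2 (hJ' h)⟩
        · exact ⟨hJ h1, h2⟩
      · rintro ⟨h1, h2⟩
        by_cases h3 : i ∈ J
        · exact Or.inr ⟨h3, h2⟩
        · exact Or.inl ⟨h1, h3⟩
    · rw [Finset.disjoint_left]
      intro i h1 h2
      exact (Finset.mem_sdiff.mp h1).2 (Finset.mem_sdiff.mp h2).1
  rw [hprod]
  exact gen_mem nabla ω t I J' (hJ'.trans hJ) e


omit [Module A L] [IsScalarTower A B L] in
theorem t_smul_piece_mem (nabla : E →ₗ[A] E ⊗[B] L) (ω : Module.Basis (Fin n) B L)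
    (t : Fin n → B) (a : Fin n) (s : Finset (Fin n)) (ha : a ∉ s) (x : E)
    (hx : x ∈ piece nabla ω t s) : t a • x ∈ piece nabla ω t (insert a s) := by
  classical
  have := smul_piece_mem nabla ω t (insert a s) s (Finset.subset_insert a s) x hx
  have h1 : insert a s \ s = {a} := by
    ext i
    simp only [Finset.mem_sdiff, Finset.mem_insert, Finset.mem_singleton]
    constructor
    · rintro ⟨h1 | h1, h2⟩
      · exact h1
      · exact absurd h1 h2
    · rintro rfl
      exact ⟨Or.inl rfl, ha⟩
  rwa [h1, Finset.prod_singleton] at this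

theorem comp_piece_mem (lam : B) (t : Fin n → B)
    (bΩ : Module.Basis (Fin n) B (KaehlerDifferential A B))
    (hbΩ : ∀ i, bΩ i = KaehlerDifferential.D A B (t i))
    (ω : Module.Basis (Fin n) B L) (ι : KaehlerDifferential A B →ₗ[B] L)
    (hι : ∀ i, ι (KaehlerDifferential.D A B (t i)) = t i • ω i)
    (nabla : E →ₗ[A] E ⊗[B] L)
    (hc : Conn.IsLamConn (ι.compDer (KaehlerDifferential.D A B)) lam nabla)
    (a : Fin n) (s : Finset (Fin n)) (h : ∀ x ∈ s, a < x) (x : E)
    (hx : x ∈ piece nabla ω t s) : comp nabla ω a x ∈ piece nabla ω t (insert a s) := by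
  classical
  have ha : a ∉ s := fun hh => lt_irrefl a (h a hh)
  have := piece_le nabla ω t s ((piece nabla ω t (insert a s)).comap (comp nabla ω a)) ?_
  · exact this hx
  intro J' hJ' e
  rw [Submodule.mem_comap]
  unfold gen
  rw [comp_smul lam t bΩ hbΩ ω ι hι nabla hc, pd_prod t bΩ hbΩ a (s \ J')
    (fun hh => ha (Finset.mem_sdiff.mp hh).1), mul_zero, zero_smul, add_zero]
  have h1 : comp nabla ω a (compProd nabla ω J' e) = compProd nabla ω (insert a J') e := by
    rw [compProd_insert nabla ω a J' (fun x hx => h x (hJ' hx))]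
    rfl
  have h2 : s \ J' = insert a s \ insert a J' := by
    ext i
    simp only [Finset.mem_sdiff, Finset.mem_insert]
    constructor
    · rintro ⟨k1, k2⟩
      refine ⟨Or.inr k1, ?_⟩
      rintro (k3 | k3)
      · exact ha (k3 ▸ k1)
      · exact k2 k3
    · rintro ⟨k1 | k1, k2⟩
      · exact absurd (Or.inl k1) k2
      · exact ⟨k1, fun k3 => k2 (Or.inr k3)⟩
  rw [h1, h2]
  exact gen_mem nabla ω t (insert a s) (insert a J') (Finset.insert_subset_insert a hJ') e

theorem smul_compProd_mem (lam : B) (t : Fin n → B)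
    (bΩ : Module.Basis (Fin n) B (KaehlerDifferential A B))
    (hbΩ : ∀ i, bΩ i = KaehlerDifferential.D A B (t i))
    (ω : Module.Basis (Fin n) B L) (ι : KaehlerDifferential A B →ₗ[B] L)
    (hι : ∀ i, ι (KaehlerDifferential.D A B (t i)) = t i • ω i)
    (nabla : E →ₗ[A] E ⊗[B] L)
    (hc : Conn.IsLamConn (ι.compDer (KaehlerDifferential.D A B)) lam nabla)
    (J : Finset (Fin n)) : ∀ (b : B) (e : E), b • compProd nabla ω J e ∈ piece nabla ω t J := by
  classical
  induction J using Finset.induction_on_min with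
  | empty =>
    intro b e
    have := gen_mem nabla ω t ∅ ∅ (Finset.Subset.refl _) (b • e)
    unfold gen at this
    rwa [Finset.sdiff_self, Finset.prod_empty, one_smul, compProd_empty, LinearMap.id_apply,
      ← LinearMap.id_apply (R := A) (M := E) e, ← compProd_empty nabla ω] at this
  | insert a s h ih =>
    intro b e
    have ha : a ∉ s := fun hh => lt_irrefl a (h a hh)
    rw [compProd_insert nabla ω a s h, LinearMap.comp_apply]
    set y := compProd nabla ω s e with hy
    have h1 := comp_smul lam t bΩ hbΩ ω ι hι nabla hc a b y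
    have h2 : b • comp nabla ω a y = comp nabla ω a (b • y) - t a • ((lam * pd bΩ a b) • y) := by
      rw [h1, smul_comm (t a)]
      abel
    rw [h2]
    refine Submodule.sub_mem _ ?_ ?_
    · exact comp_piece_mem lam t bΩ hbΩ ω ι hι nabla hc a s h _ (ih b e)
    · exact t_smul_piece_mem nabla ω t a s ha _ (ih _ e)

theorem smul_mem_piece (lam : B) (t : Fin n → B)
    (bΩ : Module.Basis (Fin n) B (KaehlerDifferential A B))
    (hbΩ : ∀ i, bΩ i = KaehlerDifferential.D A B (t i))
    (ω : Module.Basis (Fin n) B L) (ι : KaehlerDifferential A B →ₗ[B] L)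
    (hι : ∀ i, ι (KaehlerDifferential.D A B (t i)) = t i • ω i)
    (nabla : E →ₗ[A] E ⊗[B] L)
    (hc : Conn.IsLamConn (ι.compDer (KaehlerDifferential.D A B)) lam nabla)
    (I : Finset (Fin n)) (b : B) (x : E) (hx : x ∈ LogConn.piece nabla ω t I) :
    b • x ∈ LogConn.piece nabla ω t I := by
  have := piece_le nabla ω t I ((piece nabla ω t I).comap
    ((LinearMap.lsmul B E b).restrictScalars A)) ?_
  · exact this hx
  intro J hJ e
  rw [Submodule.mem_comap]
  change b • gen nabla ω t I J e ∈ _
  unfold gen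
  rw [smul_comm]
  exact smul_piece_mem nabla ω t I J hJ _
    (smul_compProd_mem lam t bΩ hbΩ ω ι hι nabla hc J b e)

end

end Groth.Agent.Lib.Helper83.LogPiece
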