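import Groth.Agent.Lib.Helper83.LogPiece

set_option autoImplicit false
universe v u

namespace Groth.Agent.Lib.Helper83.LogPiece

open TensorProduct LogConn

section

variable {A : Type v} {B L E : Type u} [CommRing A] [CommRing B]
    [Algebra A B] [AddCommGroup L] [Module B L] [Module A L] [IsScalarTower A B L]
    [AddCommGroup E] [Module B E] [Module A E] [IsScalarTower A B E]
    {n : ℕ}

omit [Module A L] [IsScalarTower A B L] in
theorem smul_gen (nabla : E →ₗ[A] E ⊗[B] L) (ω : Module.Basis (Fin n) B L)
    (t : Fin n → B) (I J J' : Finset (Fin n)) (hJ : J ⊆ I) (hJ' : J' ⊆ J) (e : E) :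
    (∏ i ∈ I \ J, t i) • gen nabla ω t J J' e = gen nabla ω t I J' e := by
  classical
  unfold gen
  rw [smul_smul]
  have hprod : (∏ i ∈ I \ J, t i) * (∏ i ∈ J \ J', t i) = ∏ i ∈ I \ J', t i := by
    rw [← Finset.prod_union]
    · congr 1
      ext i
      simp only [Finset.mem_union, Finset.mem_sdiff]
      constructor
      · rintro (⟨h1, h2⟩ | ⟨h1, h2⟩)
        · exact ⟨h1, fun h => h2 (hJ' h)⟩
        · exact ⟨hJ h1, h2⟩
      · rintro ⟨h1, h2⟩
        by_cases h3 : i ∈ J
        · exact Or.inr ⟨h3, h2⟩
        · exact Or.inl ⟨h1, h3⟩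
    · rw [Finset.disjoint_left]
      intro i h1 h2
      exact (Finset.mem_sdiff.mp h1).2 (Finset.mem_sdiff.mp h2).1
  rw [hprod]

omit [Module A L] [IsScalarTower A B L] in
theorem t_smul_gen (nabla : E →ₗ[A] E ⊗[B] L) (ω : Module.Basis (Fin n) B L)
    (t : Fin n → B) (a : Fin n) (s J' : Finset (Fin n)) (ha : a ∉ s) (hJ' : J' ⊆ s) (e : E) :
    t a • gen nabla ω t s J' e = gen nabla ω t (insert a s) J' e := by
  classical
  have := smul_gen nabla ω t (insert a s) s J' (Finset.subset_insert a s) hJ' e
  have h1 : insert a s \ s = {a} := by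
    ext i
    simp only [Finset.mem_sdiff, Finset.mem_insert, Finset.mem_singleton]
    constructor
    · rintro ⟨h1 | h1, h2⟩
      · exact h1
      · exact absurd h1 h2
    · rintro rfl
      exact ⟨Or.inl rfl, ha⟩
  rwa [h1, Finset.prod_singleton] at this

theorem comp_gen (lam : B) (t : Fin n → B)
    (bΩ : Module.Basis (Fin n) B (KaehlerDifferential A B))
    (hbΩ : ∀ i, bΩ i = KaehlerDifferential.D A B (t i))
    (ω : Module.Basis (Fin n) B L) (ι : KaehlerDifferential A B →ₗ[B] L)
    (hι : ∀ i, ι (KaehlerDifferential.D A B (t i)) = t i • ω i)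
    (nabla : E →ₗ[A] E ⊗[B] L)
    (hc : Conn.IsLamConn (ι.compDer (KaehlerDifferential.D A B)) lam nabla)
    (a : Fin n) (s J' : Finset (Fin n)) (h : ∀ x ∈ s, a < x) (hJ' : J' ⊆ s) (e : E) :
    comp nabla ω a (gen nabla ω t s J' e) = gen nabla ω t (insert a s) (insert a J') e := by
  classical
  have ha : a ∉ s := fun hh => lt_irrefl a (h a hh)
  unfold gen
  rw [comp_smul lam t bΩ hbΩ ω ι hι nabla hc, pd_prod t bΩ hbΩ a (s \ J')
    (fun hh => ha (Finset.mem_sdiff.mp hh).1), mul_zero, zero_smul, add_zero]
  have h1 : comp nabla ω a (compProd nabla ω J' e) = compProd nabla ω (insert a J') e := by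
    rw [compProd_insert nabla ω a J' (fun x hx => h x (hJ' hx))]
    rfl
  have h2 : s \ J' = insert a s \ insert a J' := by
    ext i
    simp only [Finset.mem_sdiff, Finset.mem_insert]
    constructor
    · rintro ⟨k1, k2⟩
      refine ⟨Or.inr k1, ?_⟩
      rintro (k3 | k3)
      · exact ha (k3 ▸ k1)
      · exact k2 k3
    · rintro ⟨k1 | k1, k2⟩
      · exact absurd (Or.inl k1) k2
      · exact ⟨k1, fun k3 => k2 (Or.inr k3)⟩
  rw [h1, h2]

/-- the generating set -/
def gset (nabla : E →ₗ[A] E ⊗[B] L) (ω : Module.Basis (Fin n) B L)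
    (t : Fin n → B) {m : ℕ} (e : Fin m → E) (I : Finset (Fin n)) : Set E :=
  ⋃ J ∈ I.powerset, Set.range (fun k : Fin m =>
        (∏ i ∈ I \ J, t i) • LogConn.compProd nabla ω J (e k))

omit [Module A L] [IsScalarTower A B L] in
theorem gen_mem_gset (nabla : E →ₗ[A] E ⊗[B] L) (ω : Module.Basis (Fin n) B L)
    (t : Fin n → B) {m : ℕ} (e : Fin m → E) (I J : Finset (Fin n)) (hJ : J ⊆ I) (k : Fin m) :
    gen nabla ω t I J (e k) ∈ gset nabla ω t e I := by
  unfold gset
  simp only [Set.mem_iUnion, Set.mem_range]
  exact ⟨J, Finset.mem_powerset.mpr hJ, k, rfl⟩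

omit [Module A L] [IsScalarTower A B L] in
theorem gset_ind (nabla : E →ₗ[A] E ⊗[B] L) (ω : Module.Basis (Fin n) B L)
    (t : Fin n → B) {m : ℕ} (e : Fin m → E) (I : Finset (Fin n)) (P : E → Prop)
    (h : ∀ J, J ⊆ I → ∀ k, P (gen nabla ω t I J (e k))) : ∀ x ∈ gset nabla ω t e I, P x := by
  intro x hx
  unfold gset at hx
  simp only [Set.mem_iUnion, Set.mem_range] at hx
  obtain ⟨J, hJ, k, rfl⟩ := hx
  exact h J (Finset.mem_powerset.mp hJ) k

theorem compProd_mem_span (lam : B) (t : Fin n → B)
    (bΩ : Module.Basis (Fin n) B (KaehlerDifferential A B))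
    (hbΩ : ∀ i, bΩ i = KaehlerDifferential.D A B (t i))
    (ω : Module.Basis (Fin n) B L) (ι : KaehlerDifferential A B →ₗ[B] L)
    (hι : ∀ i, ι (KaehlerDifferential.D A B (t i)) = t i • ω i)
    (nabla : E →ₗ[A] E ⊗[B] L)
    (hc : Conn.IsLamConn (ι.compDer (KaehlerDifferential.D A B)) lam nabla)
    {m : ℕ} (e : Fin m → E) (he : Submodule.span B (Set.range e) = ⊤)
    (J : Finset (Fin n)) : ∀ e' : E, compProd nabla ω J e' ∈ Submodule.span B (gset nabla ω t e J) := by
  classical
  induction J using Finset.induction_on_min with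
  | empty =>
    intro e'
    have hg : gset nabla ω t e ∅ = Set.range e := by
      unfold gset
      simp [compProd_empty]
    rw [hg, he]
    exact Submodule.mem_top
  | insert a s h ih =>
    intro e'
    have ha : a ∉ s := fun hh => lt_irrefl a (h a hh)
    rw [compProd_insert nabla ω a s h, LinearMap.comp_apply]
    have key : ∀ x ∈ Submodule.span B (gset nabla ω t e s),
        comp nabla ω a x ∈ Submodule.span B (gset nabla ω t e (insert a s)) ∧
        t a • x ∈ Submodule.span B (gset nabla ω t e (insert a s)) := by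
      intro x hx
      induction hx using Submodule.span_induction with
      | mem x hx =>
        revert x
        apply gset_ind
        intro J' hJ' k
        constructor
        · rw [comp_gen lam t bΩ hbΩ ω ι hι nabla hc a s J' h hJ']
          exact Submodule.subset_span (gen_mem_gset nabla ω t e _ _
            (Finset.insert_subset_insert a hJ') k)
        · rw [t_smul_gen nabla ω t a s J' ha hJ']
          exact Submodule.subset_span (gen_mem_gset nabla ω t e _ _
            (hJ'.trans (Finset.subset_insert a s)) k)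
      | zero =>
        rw [map_zero, smul_zero]
        exact ⟨Submodule.zero_mem _, Submodule.zero_mem _⟩
      | add x y _ _ hx hy =>
        rw [map_add, smul_add]
        exact ⟨Submodule.add_mem _ hx.1 hy.1, Submodule.add_mem _ hx.2 hy.2⟩
      | smul b x _ hx =>
        rw [comp_smul lam t bΩ hbΩ ω ι hι nabla hc, smul_comm (t a)]
        exact ⟨Submodule.add_mem _ (Submodule.smul_mem _ _ hx.1) (Submodule.smul_mem _ _ hx.2),
          Submodule.smul_mem _ _ hx.2⟩
    exact (key _ (ih e')).1

theorem span_eq_piece (lam : B) (t : Fin n → B)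
    (bΩ : Module.Basis (Fin n) B (KaehlerDifferential A B))
    (hbΩ : ∀ i, bΩ i = KaehlerDifferential.D A B (t i))
    (ω : Module.Basis (Fin n) B L) (ι : KaehlerDifferential A B →ₗ[B] L)
    (hι : ∀ i, ι (KaehlerDifferential.D A B (t i)) = t i • ω i)
    (nabla : E →ₗ[A] E ⊗[B] L)
    (hc : Conn.IsLamConn (ι.compDer (KaehlerDifferential.D A B)) lam nabla)
    {m : ℕ} (e : Fin m → E) (he : Submodule.span B (Set.range e) = ⊤) (I : Finset (Fin n)) :
    (Submodule.span B (⋃ J ∈ I.powerset, Set.range (fun k : Fin m =>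
        (∏ i ∈ I \ J, t i) • LogConn.compProd nabla ω J (e k)))).restrictScalars A =
      LogConn.piece nabla ω t I := by
  change (Submodule.span B (gset nabla ω t e I)).restrictScalars A = _
  apply le_antisymm
  · intro x hx
    rw [Submodule.restrictScalars_mem] at hx
    induction hx using Submodule.span_induction with
    | mem x hx =>
      revert x
      apply gset_ind
      intro J hJ k
      exact gen_mem nabla ω t I J hJ (e k)
    | zero => exact Submodule.zero_mem _
    | add x y _ _ hx hy => exact Submodule.add_mem _ hx hy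
    | smul b x _ hx => exact smul_mem_piece lam t bΩ hbΩ ω ι hι nabla hc I b x hx
  · apply piece_le
    intro J hJ e'
    rw [Submodule.restrictScalars_mem]
    have h1 := compProd_mem_span lam t bΩ hbΩ ω ι hι nabla hc e he J e'
    -- multiply by the product
    have key : ∀ x ∈ Submodule.span B (gset nabla ω t e J),
        (∏ i ∈ I \ J, t i) • x ∈ Submodule.span B (gset nabla ω t e I) := by
      intro x hx
      induction hx using Submodule.span_induction with
      | mem x hx =>
        revert x
        apply gset_ind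
        intro J' hJ' k
        rw [smul_gen nabla ω t I J J' hJ hJ']
        exact Submodule.subset_span (gen_mem_gset nabla ω t e _ _ (hJ'.trans hJ) k)
      | zero => rw [smul_zero]; exact Submodule.zero_mem _
      | add x y _ _ hx hy => rw [smul_add]; exact Submodule.add_mem _ hx hy
      | smul b x _ hx => rw [smul_comm]; exact Submodule.smul_mem _ _ hx
    exact key _ h1

end

end Groth.Agent.Lib.Helper83.LogPiece
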