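import Groth.Prelude.Def_SGA3b
import Mathlib

/-!
Rigidity of homomorphisms from groups of multiplicative type (Hopf algebra form) modulo a
nilpotent ideal (helper83).
-/

set_option autoImplicit false
universe u
open TensorProduct Coalgebra WithConv

namespace Groth.Agent.Lib.Helper83.MultRigid

section Coeff

variable {R : Type u} [CommRing R] {M : Type u} [Monoid M]

/-- coefficient functional on a monoid algebra -/
noncomputable def coeffL (m : M) : MonoidAlgebra R M →ₗ[R] R :=
  (Finsupp.lapply m) ∘ₗ (MonoidAlgebra.coeffLinearEquiv R).toLinearMap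

theorem coeffL_apply (m : M) (x : MonoidAlgebra R M) : coeffL m x = x.coeff m := rfl

open Classical in
theorem coeffL_single (m g : M) (r : R) :
    coeffL m (MonoidAlgebra.single g r) = if g = m then r else 0 := by
  rw [coeffL_apply, MonoidAlgebra.coeff_single, Finsupp.single_apply]

open Classical in
/-- the coefficient functionals are orthogonal idempotents for convolution -/
theorem coeffL_convMul (m n : M) :
    toConv (coeffL (R := R) m) * toConv (coeffL n) =
      if m = n then toConv (coeffL (R := R) m) else 0 := by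
  apply WithConv.ofConv_injective
  apply MonoidAlgebra.lhom_ext'
  intro g
  apply LinearMap.ext_ring
  simp only [LinearMap.comp_apply, MonoidAlgebra.lsingle_apply]
  have key : (toConv (coeffL (R := R) m) * toConv (coeffL n)).ofConv (MonoidAlgebra.single g 1) =
      (if g = m then (1 : R) else 0) * (if g = n then (1 : R) else 0) := by
    rw [LinearMap.convMul_def]
    simp only [LinearMap.comp_apply, MonoidAlgebra.comul_single,
      CommSemiring.comul_apply, TensorProduct.map_tmul,
      MonoidAlgebra.lsingle_apply, LinearMap.mul'_apply, coeffL_single]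
  rw [key]
  by_cases hmn : m = n
  · subst hmn
    rw [if_pos rfl]
    change _ = coeffL m (MonoidAlgebra.single g 1)
    rw [coeffL_single]
    split_ifs <;> simp
  · rw [if_neg hmn]
    change _ = (0 : R)
    split_ifs with h1 h2
    · exact absurd (h1.symm.trans h2) hmn
    · simp
    · simp
    · simp

end Coeff

section Conv

variable {R : Type u} [CommRing R] {C : Type u} [AddCommGroup C] [Module R C] [Coalgebra R C]

theorem convMul_mem (f g : WithConv (C →ₗ[R] R)) (I J : Ideal R) (hf : ∀ c, f c ∈ I)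
    (hg : ∀ c, g c ∈ J) (c : C) : (f * g) c ∈ I * J := by
  rw [(ℛ R c).convMul_apply]
  exact Ideal.sum_mem _ fun i _ => Ideal.mul_mem_mul (hf _) (hg _)

/-- an element of the convolution algebra with values in a nilpotent ideal which absorbs a factor
with values in that ideal vanishes -/
theorem eq_zero_of_eq_mul (d x : WithConv (C →ₗ[R] R)) (h : d = d * x) (I : Ideal R)
    (hI : IsNilpotent I) (hx : ∀ c, x c ∈ I) : d = 0 := by
  have key : ∀ k : ℕ, ∀ c, d c ∈ I ^ k := by
    intro k
    induction k with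
    | zero => intro c; simp
    | succ k ih =>
      intro c
      rw [h, pow_succ]
      exact convMul_mem d x _ _ ih hx c
  obtain ⟨n, hn⟩ := hI
  ext c
  have := key n c
  rw [hn] at this
  simpa using this

end Conv

section Diag

variable {R : Type u} [CommRing R] {M : Type u} [Monoid M]
  {C : Type u} [AddCommGroup C] [Module R C] [Coalgebra R C]

/-- the coefficient functionals of a coalgebra map into a monoid algebra -/
noncomputable def coeffHom (φ : C →ₗc[R] MonoidAlgebra R M) (m : M) : WithConv (C →ₗ[R] R) :=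
  toConv ((coeffL m).comp φ.toLinearMap)

theorem coeffHom_apply (φ : C →ₗc[R] MonoidAlgebra R M) (m : M) (c : C) :
    coeffHom φ m c = (φ c).coeff m := rfl

open Classical in
theorem coeffHom_mul (φ : C →ₗc[R] MonoidAlgebra R M) (m n : M) :
    coeffHom φ m * coeffHom φ n = if m = n then coeffHom φ m else 0 := by
  have h := LinearMap.convMul_comp_coalgHom_distrib (toConv (coeffL (R := R) m))
    (toConv (coeffL n)) φ
  rw [coeffL_convMul] at h
  apply WithConv.ofConv_injective
  change _ = (toConv ((toConv (coeffL (R := R) m)).ofConv.comp φ.toLinearMap) *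
    toConv ((toConv (coeffL n)).ofConv.comp φ.toLinearMap)).ofConv at h
  change (toConv ((toConv (coeffL (R := R) m)).ofConv.comp φ.toLinearMap) *
    toConv ((toConv (coeffL n)).ofConv.comp φ.toLinearMap)).ofConv = _
  rw [← h]
  split_ifs
  · rfl
  · ext c
    simp

theorem counit_eq_sum (x : MonoidAlgebra R M) :
    Coalgebra.counit (R := R) x = x.coeff.sum fun _ r => r := by
  conv_lhs => rw [← MonoidAlgebra.sum_coeff_single x]
  rw [Finsupp.sum, map_sum]
  simp [Finsupp.sum]

/-- rigidity, diagonalizable case, one homomorphism -/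
theorem rigid_diag (φ : C →ₗc[R] MonoidAlgebra R M) (I : Ideal R) (hI : IsNilpotent I)
    (h : ∀ (c : C) (m : M), m ≠ 1 → (φ c).coeff m ∈ I) (c : C) :
    φ c = MonoidAlgebra.single 1 (Coalgebra.counit (R := R) c) := by
  classical
  have hz : ∀ m : M, m ≠ 1 → coeffHom φ m = 0 := by
    intro m hm
    apply eq_zero_of_eq_mul (coeffHom φ m) (coeffHom φ m) _ I hI (fun c => h c m hm)
    rw [coeffHom_mul, if_pos rfl]
  have hc : ∀ m : M, m ≠ 1 → (φ c).coeff m = 0 := by
    intro m hm
    have := hz m hm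
    rw [← coeffHom_apply, this]
    rfl
  have h1 : φ c = MonoidAlgebra.single 1 ((φ c).coeff 1) := by
    apply MonoidAlgebra.coeff_injective
    ext m
    rw [MonoidAlgebra.coeff_single, Finsupp.single_apply]
    split_ifs with hm
    · rw [hm]
    · exact hc m (Ne.symm hm)
  have h3 : (φ c).coeff 1 = Coalgebra.counit (R := R) c := by
    have h2 : Coalgebra.counit (R := R) (φ c) = Coalgebra.counit (R := R) c :=
      CoalgHomClass.counit_comp_apply φ c
    rw [h1, MonoidAlgebra.counit_single] at h2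
    exact h2
  calc φ c = MonoidAlgebra.single 1 ((φ c).coeff 1) := h1
    _ = MonoidAlgebra.single 1 (Coalgebra.counit (R := R) c) := by rw [h3]

/-- rigidity, diagonalizable case, two homomorphisms from a cocommutative coalgebra -/
theorem rigid2_diag [IsCocomm R C] (φ ψ : C →ₗc[R] MonoidAlgebra R M) (I : Ideal R)
    (hI : IsNilpotent I)
    (h : ∀ (c : C) (m : M), (φ c).coeff m - (ψ c).coeff m ∈ I) (c : C) : φ c = ψ c := by
  have hz : ∀ m : M, coeffHom φ m - coeffHom ψ m = 0 := by
    intro m
    have h1 : coeffHom φ m * coeffHom φ m = coeffHom φ m := by rw [coeffHom_mul, if_pos rfl]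
    have h2 : coeffHom ψ m * coeffHom ψ m = coeffHom ψ m := by rw [coeffHom_mul, if_pos rfl]
    have hd : ∀ c, (coeffHom φ m - coeffHom ψ m) c ∈ I := fun c => h c m
    apply eq_zero_of_eq_mul _
      ((coeffHom φ m - coeffHom ψ m) * (coeffHom φ m - coeffHom ψ m)) _ I hI
    · intro c
      have := convMul_mem _ _ I I hd hd c
      exact Ideal.mul_le_left this
    · linear_combination (-(coeffHom φ m + 1 - 3 * coeffHom ψ m)) * h1 +
        (-(3 * coeffHom φ m - coeffHom ψ m - 1)) * h2
  apply MonoidAlgebra.coeff_injective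
  ext m
  have := hz m
  rw [sub_eq_zero] at this
  rw [← coeffHom_apply, ← coeffHom_apply, this]

end Diag

section Hyp

variable {R : Type u} [CommRing R]

/-- reduction modulo `I` in tensor form gives membership in `I • ⊤` -/
theorem sub_mem_smul_top_of_tmul_eq {N : Type u} [AddCommGroup N] [Module R N] (I : Ideal R)
    (x y : N) (h : (1 : R ⧸ I) ⊗ₜ[R] x = (1 : R ⧸ I) ⊗ₜ[R] y) :
    x - y ∈ I • (⊤ : Submodule R N) := by
  have h1 := congrArg (TensorProduct.quotTensorEquivQuotSMul N I) h
  rw [TensorProduct.quotTensorEquivQuotSMul_mk_one_tmul,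
    TensorProduct.quotTensorEquivQuotSMul_mk_one_tmul] at h1
  exact (Submodule.Quotient.eq _).mp h1

theorem coeff_mem_of_mem_smul_top {M : Type u} [Monoid M] (I : Ideal R) (x : MonoidAlgebra R M)
    (hx : x ∈ I • (⊤ : Submodule R (MonoidAlgebra R M))) (m : M) : x.coeff m ∈ I := by
  refine Submodule.smul_induction_on (p := fun x => x.coeff m ∈ I) hx ?_ ?_
  · intro r hr n _
    rw [MonoidAlgebra.coeff_smul_apply]
    exact Ideal.mul_mem_right _ _ hr
  · intro x y hx hy
    rw [MonoidAlgebra.coeff_add, Finsupp.add_apply]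
    exact Ideal.add_mem _ hx hy

theorem map_mem_smul_top {N N' : Type u} [AddCommGroup N] [Module R N] [AddCommGroup N']
    [Module R N'] (f : N →ₗ[R] N') (I : Ideal R) (x : N) (hx : x ∈ I • (⊤ : Submodule R N)) :
    f x ∈ I • (⊤ : Submodule R N') := by
  refine Submodule.smul_induction_on (p := fun x => f x ∈ I • (⊤ : Submodule R N')) hx ?_ ?_
  · intro r hr n _
    rw [map_smul]
    exact Submodule.smul_mem_smul hr Submodule.mem_top
  · intro x y hx hy
    rw [map_add]
    exact Submodule.add_mem _ hx hy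

end Hyp

section Rigid

/-- rigidity of the unit homomorphism modulo nilpotents -/
def Rigid (R A : Type u) [CommRing R] [CommRing A] [Bialgebra R A] : Prop :=
  ∀ (I : Ideal R), IsNilpotent I → ∀ (C : Type u) [CommRing C] [Bialgebra R C] (φ : C →ₐc[R] A),
    (∀ c, φ c - algebraMap R A (Coalgebra.counit c) ∈ I • (⊤ : Submodule R A)) →
      ∀ c, φ c = algebraMap R A (Coalgebra.counit c)

/-- rigidity of homomorphisms from commutative groups modulo nilpotents -/
def Rigid2 (R A : Type u) [CommRing R] [CommRing A] [Bialgebra R A] : Prop :=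
  ∀ (I : Ideal R), IsNilpotent I → ∀ (C : Type u) [CommRing C] [Bialgebra R C]
    [Coalgebra.IsCocomm R C] (φ ψ : C →ₐc[R] A),
    (∀ c, φ c - ψ c ∈ I • (⊤ : Submodule R A)) → ∀ c, φ c = ψ c

variable {R : Type u} [CommRing R] {A : Type u} [CommRing A] [Bialgebra R A]

theorem rigid_of_equiv {M : Type u} [Monoid M] (e : A ≃ₐc[R] MonoidAlgebra R M) : Rigid R A := by
  intro I hI C _ _ φ h c
  let φ' : C →ₗc[R] MonoidAlgebra R M := ((e : A →ₐc[R] MonoidAlgebra R M).comp φ : C →ₗc[R] _)
  have hφ' : ∀ c, φ' c = e (φ c) := fun c => rfl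
  have he1 : ∀ r : R, e (algebraMap R A r) = MonoidAlgebra.single 1 r := by
    intro r
    have : e (algebraMap R A r) = algebraMap R (MonoidAlgebra R M) r :=
      (e : A →ₐ[R] MonoidAlgebra R M).commutes r
    rw [this]
    rfl
  have key := rigid_diag φ' I hI (fun c m hm => by
    have h1 := map_mem_smul_top ((e : A →ₐc[R] MonoidAlgebra R M) : A →ₗ[R] MonoidAlgebra R M)
      I _ (h c)
    have h2 := coeff_mem_of_mem_smul_top I _ h1 m
    have h3 : (((e : A →ₐc[R] MonoidAlgebra R M) : A →ₗ[R] MonoidAlgebra R M)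
        (φ c - algebraMap R A (Coalgebra.counit c))) =
        e (φ c) - MonoidAlgebra.single 1 (Coalgebra.counit c) := by
      rw [map_sub]
      congr 1
      exact he1 _
    rw [h3, MonoidAlgebra.coeff_sub, Finsupp.sub_apply, MonoidAlgebra.coeff_single,
      Finsupp.single_eq_of_ne hm, sub_zero] at h2
    exact h2) c
  rw [hφ'] at key
  have hinj : Function.Injective (e : A → MonoidAlgebra R M) := e.injective
  apply hinj
  rw [key, he1]

theorem rigid2_of_equiv {M : Type u} [Monoid M] (e : A ≃ₐc[R] MonoidAlgebra R M) :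
    Rigid2 R A := by
  intro I hI C _ _ _ φ ψ h c
  let φ' : C →ₗc[R] MonoidAlgebra R M := ((e : A →ₐc[R] MonoidAlgebra R M).comp φ : C →ₗc[R] _)
  let ψ' : C →ₗc[R] MonoidAlgebra R M := ((e : A →ₐc[R] MonoidAlgebra R M).comp ψ : C →ₗc[R] _)
  have key := rigid2_diag φ' ψ' I hI (fun c m => by
    have h1 := map_mem_smul_top ((e : A →ₐc[R] MonoidAlgebra R M) : A →ₗ[R] MonoidAlgebra R M)
      I _ (h c)
    have h2 := coeff_mem_of_mem_smul_top I _ h1 m
    have h3 : (((e : A →ₐc[R] MonoidAlgebra R M) : A →ₗ[R] MonoidAlgebra R M)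
        (φ c - ψ c)) = e (φ c) - e (ψ c) := map_sub _ _ _
    rw [h3, MonoidAlgebra.coeff_sub, Finsupp.sub_apply] at h2
    exact h2) c
  have hinj : Function.Injective (e : A → MonoidAlgebra R M) := e.injective
  apply hinj
  exact key

end Rigid

section BaseChange

variable {R : Type u} [CommRing R] {A : Type u} [CommRing A] [Bialgebra R A]
  (S : Type u) [CommRing S] [Algebra R S]

theorem isNilpotent_map {I : Ideal R} (hI : IsNilpotent I) :
    IsNilpotent (I.map (algebraMap R S)) := by
  obtain ⟨n, hn⟩ := hI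
  refine ⟨n, ?_⟩
  rw [← Ideal.map_pow, hn]
  simp

variable {C : Type u} [CommRing C] [Bialgebra R C]

/-- base change of a bialgebra homomorphism -/
noncomputable def bc (φ : C →ₐc[R] A) : S ⊗[R] C →ₐc[S] S ⊗[R] A :=
  Bialgebra.TensorProduct.map (BialgHom.id S S) φ

theorem bc_tmul (φ : C →ₐc[R] A) (s : S) (c : C) : bc S φ (s ⊗ₜ c) = s ⊗ₜ φ c := rfl

theorem tmul_mem_smul_top (I : Ideal R) (s : S) (y : A) (hy : y ∈ I • (⊤ : Submodule R A)) :
    s ⊗ₜ[R] y ∈ (I.map (algebraMap R S)) • (⊤ : Submodule S (S ⊗[R] A)) := by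
  refine Submodule.smul_induction_on
    (p := fun y => s ⊗ₜ[R] y ∈ (I.map (algebraMap R S)) • (⊤ : Submodule S (S ⊗[R] A))) hy ?_ ?_
  · intro i hi a _
    have h1 : s ⊗ₜ[R] (i • a) = (algebraMap R S i) • (s ⊗ₜ[R] a) := by
      rw [TensorProduct.tmul_smul, TensorProduct.smul_tmul', TensorProduct.smul_tmul',
        Algebra.smul_def, smul_eq_mul]
    rw [h1]
    exact Submodule.smul_mem_smul (Ideal.mem_map_of_mem _ hi) Submodule.mem_top
  · intro x y hx hy
    rw [TensorProduct.tmul_add]
    exact Submodule.add_mem _ hx hy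

theorem algebraMap_counit_tmul (s : S) (c : C) :
    algebraMap S (S ⊗[R] A) (Coalgebra.counit (R := S) (s ⊗ₜ[R] c)) =
      s ⊗ₜ[R] algebraMap R A (Coalgebra.counit (R := R) c) := by
  rw [TensorProduct.counit_tmul, Algebra.TensorProduct.algebraMap_apply]
  simp only [CommSemiring.counit_apply, Algebra.algebraMap_self, RingHom.id_apply]
  rw [Algebra.algebraMap_eq_smul_one, TensorProduct.tmul_smul, TensorProduct.smul_tmul']

theorem bc_hyp (I : Ideal R) (φ : C →ₐc[R] A)
    (h : ∀ c, φ c - algebraMap R A (Coalgebra.counit c) ∈ I • (⊤ : Submodule R A))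
    (c' : S ⊗[R] C) :
    bc S φ c' - algebraMap S (S ⊗[R] A) (Coalgebra.counit c') ∈
      (I.map (algebraMap R S)) • (⊤ : Submodule S (S ⊗[R] A)) := by
  induction c' using TensorProduct.induction_on with
  | zero => simp
  | tmul s c =>
    rw [bc_tmul, algebraMap_counit_tmul, ← TensorProduct.tmul_sub]
    exact tmul_mem_smul_top S I s _ (h c)
  | add x y hx hy =>
    rw [map_add, map_add, map_add, add_sub_add_comm]
    exact Submodule.add_mem _ hx hy

theorem bc_hyp2 (I : Ideal R) (φ ψ : C →ₐc[R] A)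
    (h : ∀ c, φ c - ψ c ∈ I • (⊤ : Submodule R A)) (c' : S ⊗[R] C) :
    bc S φ c' - bc S ψ c' ∈ (I.map (algebraMap R S)) • (⊤ : Submodule S (S ⊗[R] A)) := by
  induction c' using TensorProduct.induction_on with
  | zero => simp
  | tmul s c =>
    rw [bc_tmul, bc_tmul, ← TensorProduct.tmul_sub]
    exact tmul_mem_smul_top S I s _ (h c)
  | add x y hx hy =>
    rw [map_add, map_add, add_sub_add_comm]
    exact Submodule.add_mem _ hx hy

theorem tmul_eq_of_rigid (hS : Rigid S (S ⊗[R] A)) (I : Ideal R) (hI : IsNilpotent I)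
    (φ : C →ₐc[R] A)
    (h : ∀ c, φ c - algebraMap R A (Coalgebra.counit c) ∈ I • (⊤ : Submodule R A)) (c : C) :
    (1 : S) ⊗ₜ[R] φ c = (1 : S) ⊗ₜ[R] algebraMap R A (Coalgebra.counit c) := by
  have := hS (I.map (algebraMap R S)) (isNilpotent_map S hI) (S ⊗[R] C) (bc S φ)
    (bc_hyp S I φ h) (1 ⊗ₜ c)
  rw [bc_tmul, algebraMap_counit_tmul] at this
  exact this

theorem tmul_eq_of_rigid2 [Coalgebra.IsCocomm R C] (hS : Rigid2 S (S ⊗[R] A)) (I : Ideal R)
    (hI : IsNilpotent I) (φ ψ : C →ₐc[R] A)
    (h : ∀ c, φ c - ψ c ∈ I • (⊤ : Submodule R A)) (c : C) :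
    (1 : S) ⊗ₜ[R] φ c = (1 : S) ⊗ₜ[R] ψ c := by
  have := hS (I.map (algebraMap R S)) (isNilpotent_map S hI) (S ⊗[R] C) (bc S φ) (bc S ψ)
    (bc_hyp2 S I φ ψ h) (1 ⊗ₜ c)
  rw [bc_tmul, bc_tmul] at this
  exact this

end BaseChange

section Descent

variable {R : Type u} [CommRing R] {A : Type u} [CommRing A] [HopfAlgebra R A]

theorem rigid_of_isDiag (h : SGA3b.IsDiag R A) : Rigid R A := by
  obtain ⟨M, _, ⟨e⟩⟩ := h
  exact rigid_of_equiv e

theorem rigid2_of_isDiag (h : SGA3b.IsDiag R A) : Rigid2 R A := by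
  obtain ⟨M, _, ⟨e⟩⟩ := h
  exact rigid2_of_equiv e

theorem rigid_of_isMultTypeConst (h : SGA3b.IsMultTypeConst R A) : Rigid R A := by
  obtain ⟨R', _, _, hff, hd⟩ := h
  intro I hI C _ _ φ hφ c
  have h1 := tmul_eq_of_rigid R' (rigid_of_isDiag hd) I hI φ hφ c
  exact Module.FaithfullyFlat.tensorProduct_mk_injective (A := R) (B := R') A h1

theorem rigid2_of_isMultTypeConst (h : SGA3b.IsMultTypeConst R A) : Rigid2 R A := by
  obtain ⟨R', _, _, hff, hd⟩ := h
  intro I hI C _ _ _ φ ψ hφ c
  have h1 := tmul_eq_of_rigid2 R' (rigid2_of_isDiag hd) I hI φ ψ hφ c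
  exact Module.FaithfullyFlat.tensorProduct_mk_injective (A := R) (B := R') A h1

theorem rigid_of_isMultType (h : SGA3b.IsMultType R A) : Rigid R A := by
  obtain ⟨s, hs, hf⟩ := h
  intro I hI C _ _ φ hφ c
  apply Module.eq_of_isLocalized_span s hs (fun r : s => Localization.Away r.1 ⊗[R] A)
    (fun r => TensorProduct.mk R (Localization.Away r.1) A 1)
  intro r
  exact tmul_eq_of_rigid (Localization.Away r.1) (rigid_of_isMultTypeConst (hf r.1 r.2))
    I hI φ hφ c

theorem rigid2_of_isMultType (h : SGA3b.IsMultType R A) : Rigid2 R A := by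
  obtain ⟨s, hs, hf⟩ := h
  intro I hI C _ _ _ φ ψ hφ c
  apply Module.eq_of_isLocalized_span s hs (fun r : s => Localization.Away r.1 ⊗[R] A)
    (fun r => TensorProduct.mk R (Localization.Away r.1) A 1)
  intro r
  exact tmul_eq_of_rigid2 (Localization.Away r.1) (rigid2_of_isMultTypeConst (hf r.1 r.2))
    I hI φ ψ hφ c

end Descent

end Groth.Agent.Lib.Helper83.MultRigid
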