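import Mathlib

/-!
# Inverse limits of finite modules are finite over the adic completion (helper83)

`pi_smul`, `span_pi`, `pi0_surjective`, `exists_coeffs`, `main`.
-/
set_option autoImplicit false
universe u v

namespace Groth.Agent.Lib.Helper83.InvLimFG

section
variable {A : Type u} [CommRing A] (I : Ideal A)
  {M : ℕ → Type v} [∀ n, AddCommGroup (M n)] [∀ n, Module A (M n)]
  (f : ∀ n, M (n + 1) →ₗ[A] M n)
  {L : Type v} [AddCommGroup L] [Module A L] (π : ∀ n, L →ₗ[A] M n)

theorem span_pi
    (hker : ∀ n, LinearMap.ker (f n) = I ^ (n + 1) • (⊤ : Submodule A (M (n + 1))))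
    (hkill : ∀ n, I ^ (n + 1) • (⊤ : Submodule A (M n)) = ⊥)
    (hπ : ∀ n, f n ∘ₗ π (n + 1) = π n)
    {r : ℕ} (x : Fin r → L) (h0 : Submodule.span A (Set.range fun i => π 0 (x i)) = ⊤) (n : ℕ) :
    Submodule.span A (Set.range fun i => π n (x i)) = ⊤ := by
  induction n with
  | zero => exact h0
  | succ n ih =>
    set N := Submodule.span A (Set.range fun i => π (n + 1) (x i)) with hN
    set J := I ^ (n + 1) with hJ
    have hmap : N.map (f n) = ⊤ := by
      rw [hN, Submodule.map_span, ← Set.range_comp, ← ih]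
      congr 2
      funext i
      simp only [Function.comp_apply]
      rw [← hπ n]; rfl
    have hsup : N ⊔ J • ⊤ = ⊤ := by
      rw [eq_top_iff]
      intro y _
      have : f n y ∈ N.map (f n) := by rw [hmap]; trivial
      obtain ⟨z, hz, hzy⟩ := this
      have h1 : y - z ∈ LinearMap.ker (f n) := by
        rw [LinearMap.mem_ker, map_sub, hzy, sub_self]
      rw [hker n] at h1
      have : y = z + (y - z) := by abel
      rw [this]
      exact Submodule.add_mem_sup hz h1
    have hJJ : J • (J • (⊤ : Submodule A (M (n + 1)))) = ⊥ := by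
      rw [← mul_smul, eq_bot_iff, ← hkill (n + 1)]
      apply Submodule.smul_mono_left
      rw [hJ, ← pow_add]
      exact Ideal.pow_le_pow_right (by omega)
    have hJle : J • (⊤ : Submodule A (M (n + 1))) ≤ N := by
      calc J • (⊤ : Submodule A (M (n + 1))) = J • (N ⊔ J • ⊤) := by rw [hsup]
        _ = J • N ⊔ J • (J • ⊤) := Submodule.smul_sup _ _ _
        _ = J • N := by rw [hJJ, sup_bot_eq]
        _ ≤ N := Submodule.smul_le_right
    rw [eq_top_iff, ← hsup]
    exact sup_le le_rfl hJle

/-- Step D: compatible coefficient sequences. -/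
theorem exists_coeffs
    (hker : ∀ n, LinearMap.ker (f n) = I ^ (n + 1) • (⊤ : Submodule A (M (n + 1))))
    (hkill : ∀ n, I ^ (n + 1) • (⊤ : Submodule A (M n)) = ⊥)
    (hπ : ∀ n, f n ∘ₗ π (n + 1) = π n)
    {r : ℕ} (x : Fin r → L) (h0 : Submodule.span A (Set.range fun i => π 0 (x i)) = ⊤) (z : L) :
    ∃ a : ℕ → Fin r → A, (∀ n, π n z = ∑ i, a n i • π n (x i)) ∧
      ∀ n i, a (n + 1) i - a n i ∈ I ^ (n + 1) := by
  have hspan := span_pi I f π hker hkill hπ x h0
  have hπ' : ∀ n w, f n (π (n + 1) w) = π n w := fun n w => LinearMap.congr_fun (hπ n) w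
  -- base
  have hbase : ∃ c : Fin r → A, π 0 z = ∑ i, c i • π 0 (x i) := by
    have : π 0 z ∈ Submodule.span A (Set.range fun i => π 0 (x i)) := by rw [hspan 0]; trivial
    obtain ⟨c, hc⟩ := (Submodule.mem_span_range_iff_exists_fun A).1 this
    exact ⟨c, hc.symm⟩
  -- step
  have hstep : ∀ n (c : {c : Fin r → A // π n z = ∑ i, c i • π n (x i)}),
      ∃ c' : {c' : Fin r → A // π (n + 1) z = ∑ i, c' i • π (n + 1) (x i)},
        ∀ i, c'.1 i - c.1 i ∈ I ^ (n + 1) := by
    rintro n ⟨c, hc⟩
    set y := π (n + 1) z - ∑ i, c i • π (n + 1) (x i) with hy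
    have hyker : y ∈ LinearMap.ker (f n) := by
      rw [LinearMap.mem_ker, hy, map_sub, map_sum, hπ']
      simp_rw [map_smul, hπ']
      rw [hc, sub_self]
    rw [hker n, ← hspan (n + 1), Submodule.mem_ideal_smul_span_iff_exists_sum] at hyker
    obtain ⟨b, hb, hby⟩ := hyker
    refine ⟨⟨fun i => c i + b i, ?_⟩, fun i => ?_⟩
    · rw [Finsupp.sum_fintype b (fun i c => c • π (n + 1) (x i)) (fun i => zero_smul _ _)] at hby
      simp_rw [add_smul]
      rw [Finset.sum_add_distrib, hby, hy]
      abel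
    · simp only [add_sub_cancel_left]
      exact hb i
  choose nxt hnxt using hstep
  let seq : ∀ n, {c : Fin r → A // π n z = ∑ i, c i • π n (x i)} :=
    fun n => Nat.rec ⟨hbase.choose, hbase.choose_spec⟩ (fun n c => nxt n c) n
  exact ⟨fun n => (seq n).1, fun n => (seq n).2, fun n i => hnxt n (seq n) i⟩

variable [Module (AdicCompletion I A) L] [IsScalarTower A (AdicCompletion I A) L]

theorem pi_smul (hI : I.FG)
    (hkill : ∀ n, I ^ (n + 1) • (⊤ : Submodule A (M n)) = ⊥) (n : ℕ)
    (c : AdicCompletion I A) (a : A)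
    (hca : AdicCompletion.eval I A (n + 1) c = Submodule.mkQ _ a) (x : L) :
    π n (c • x) = a • π n x := by
  have hd : c - AdicCompletion.of I A a ∈
      (I ^ (n + 1) • ⊤ : Submodule A (AdicCompletion I A)) := by
    rw [AdicCompletion.pow_smul_top_eq_ker_eval hI, LinearMap.mem_ker, map_sub, hca,
      AdicCompletion.eval_of, sub_self]
  have hkey : ∀ d ∈ (I ^ (n + 1) • ⊤ : Submodule A (AdicCompletion I A)), π n (d • x) = 0 := by
    intro d hd
    refine Submodule.smul_induction_on hd ?_ ?_
    · intro b hb e _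
      rw [smul_assoc, map_smul]
      have : b • π n (e • x) ∈ I ^ (n + 1) • (⊤ : Submodule A (M n)) :=
        Submodule.smul_mem_smul hb Submodule.mem_top
      rw [hkill n] at this
      exact this
    · intro d₁ d₂ h₁ h₂
      rw [add_smul, map_add, h₁, h₂, add_zero]
  have h1 : c = AdicCompletion.of I A a + (c - AdicCompletion.of I A a) := by ring
  have h2 : AdicCompletion.of I A a = a • (1 : AdicCompletion I A) := by
    rw [← Algebra.algebraMap_eq_smul_one]
    rfl
  rw [h1, add_smul, map_add, hkey _ hd, add_zero, h2, smul_assoc, one_smul, map_smul]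

theorem pi0_surjective (hf : ∀ n, Function.Surjective (f n))
    (hlift : ∀ y : (∀ n, M n), (∀ n, f n (y (n + 1)) = y n) → ∃ x : L, ∀ n, π n x = y n) :
    Function.Surjective (π 0) := by
  intro y₀
  let y : ∀ n, M n := fun n => Nat.rec y₀ (fun n yn => Classical.choose (hf n yn)) n
  have hy : ∀ n, f n (y (n + 1)) = y n := fun n => Classical.choose_spec (hf n (y n))
  obtain ⟨x, hx⟩ := hlift y hy
  exact ⟨x, hx 0⟩

theorem main [∀ n, Module.Finite A (M n)] (hI : I.FG)
    (hf : ∀ n, Function.Surjective (f n))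
    (hker : ∀ n, LinearMap.ker (f n) = I ^ (n + 1) • (⊤ : Submodule A (M (n + 1))))
    (hkill : ∀ n, I ^ (n + 1) • (⊤ : Submodule A (M n)) = ⊥)
    (hπ : ∀ n, f n ∘ₗ π (n + 1) = π n)
    (hinj : ∀ x : L, (∀ n, π n x = 0) → x = 0)
    (hlift : ∀ y : (∀ n, M n), (∀ n, f n (y (n + 1)) = y n) → ∃ x : L, ∀ n, π n x = y n) :
    Module.Finite (AdicCompletion I A) L := by
  classical
  obtain ⟨r, s, hs⟩ := Module.Finite.exists_fin (R := A) (M := M 0)
  have hsurj := pi0_surjective f π hf hlift
  choose x hx using fun i => hsurj (s i)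
  have h0 : Submodule.span A (Set.range fun i => π 0 (x i)) = ⊤ := by
    simp_rw [hx]; exact hs
  have hπ' : ∀ n w, f n (π (n + 1) w) = π n w := fun n w => LinearMap.congr_fun (hπ n) w
  refine Module.Finite.of_fg_top ⟨Finset.univ.image x, ?_⟩
  rw [eq_top_iff]
  intro z _
  obtain ⟨a, ha1, ha2⟩ := exists_coeffs I f π hker hkill hπ x h0 z
  -- the coefficients in the completion
  let c : Fin r → AdicCompletion I A := fun i =>
    AdicCompletion.mk I A (AdicCompletion.AdicCauchySequence.mk I A (fun n => a n i) (by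
      intro n
      rw [SModEq.sub_mem]
      have h1 : a n i - a (n + 1) i ∈ I ^ (n + 1) := by
        have := ha2 n i
        rw [← neg_sub]
        exact neg_mem this
      have h2 : I ^ (n + 1) ≤ I ^ n := Ideal.pow_le_pow_right (Nat.le_succ n)
      simpa using h2 h1))
  have hc : ∀ n i, AdicCompletion.eval I A (n + 1) (c i) = Submodule.mkQ _ (a (n + 1) i) :=
    fun n i => rfl
  have hz : z = ∑ i, c i • x i := by
    rw [← sub_eq_zero]
    apply hinj
    intro n
    rw [map_sub, map_sum, sub_eq_zero]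
    simp_rw [pi_smul I π hI hkill n (c _) _ (hc n _)]
    rw [← hπ' n z, ha1 (n + 1), map_sum]
    simp_rw [map_smul, hπ']
  rw [hz]
  refine Submodule.sum_mem _ (fun i _ => Submodule.smul_mem _ _ (Submodule.subset_span ?_))
  simp

end

end Groth.Agent.Lib.Helper83.InvLimFG
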