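import Groth.Prelude.Def_W4c2arithlefschetzNode
import Mathlib

set_option autoImplicit false
set_option linter.unusedSectionVars false
universe u

namespace Groth.Agent.Lib.Helper83.ArLefA

open MvPowerSeries

section General

variable {B : Type u} [CommRing B]

theorem C_dvd_of_coeff {σ : Type*} (a : B) (H : MvPowerSeries σ B)
    (h : ∀ m, a ∣ coeff m H) : (C a : MvPowerSeries σ B) ∣ H := by
  choose g hg using h
  set G : MvPowerSeries σ B := fun m => g m with hG
  have hGc : ∀ m, coeff m G = g m := fun m => rfl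
  refine ⟨G, ?_⟩
  ext m
  rw [coeff_C_mul, hGc]
  exact hg m

theorem exists_X_mul_add {σ : Type*} (i : σ) (F : MvPowerSeries σ B) :
    ∃ G H : MvPowerSeries σ B, F = X i * G + H ∧
      ∀ m, coeff m H = if m i = 0 then coeff m F else 0 := by
  classical
  set H : MvPowerSeries σ B := fun m => if m i = 0 then coeff m F else 0 with hH
  have hc : ∀ m, coeff m H = if m i = 0 then coeff m F else 0 := fun m => rfl
  have hdvd : (X i : MvPowerSeries σ B) ∣ F - H := by
    rw [X_dvd_iff]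
    intro m hm
    rw [map_sub, hc m, if_pos hm, sub_self]
  obtain ⟨G, hG⟩ := hdvd
  exact ⟨G, H, by rw [← hG]; ring, hc⟩

theorem fin2_eq_single {i j : Fin 2} (hij : i ≠ j) (m : Fin 2 →₀ ℕ) (hm : m j = 0) :
    m = Finsupp.single i (m i) := by
  ext k
  have hk : k = i ∨ k = j := by
    fin_cases i <;> fin_cases j <;> fin_cases k <;> simp_all
  rcases hk with rfl | rfl
  · simp
  · rw [hm, Finsupp.single_apply, if_neg hij]

end General

section DVR

variable {B : Type u} [CommRing B] [IsDomain B] [IsDiscreteValuationRing B]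

/-- embedding of the one-point type at index `i`. -/
def emb (i : Fin 2) : Unit ↪ Fin 2 := ⟨fun _ => i, fun _ _ _ => rfl⟩

/-- reduce mod the maximal ideal of `B` and kill the variable other than `X i`. -/
noncomputable def red (i : Fin 2) :
    MvPowerSeries (Fin 2) B →+* PowerSeries (IsLocalRing.ResidueField B) :=
  (killCompl (R := IsLocalRing.ResidueField B) (emb i)).toRingHom.comp
    (MvPowerSeries.map (IsLocalRing.residue B))

theorem coeff_red (i : Fin 2) (n : ℕ) (F : MvPowerSeries (Fin 2) B) :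
    PowerSeries.coeff n (red i F) = IsLocalRing.residue B (coeff (Finsupp.single i n) F) := by
  have h1 : Finsupp.embDomain (emb i) (Finsupp.single () n) = Finsupp.single i n := by
    rw [Finsupp.embDomain_single]; rfl
  change MvPowerSeries.coeff (Finsupp.single () n)
    (killCompl (R := IsLocalRing.ResidueField B) (emb i) (MvPowerSeries.map (IsLocalRing.residue B) F)) = _
  rw [coeff_killCompl, h1, coeff_map]

theorem red_X_self (i : Fin 2) : red (B := B) i (X i) = PowerSeries.X := by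
  classical
  ext n
  rw [coeff_red, coeff_X, PowerSeries.coeff_X]
  by_cases hn : n = 1
  · subst hn; simp
  · rw [if_neg hn, if_neg, map_zero]
    intro h
    apply hn
    have := congrArg (fun f => f i) h
    simpa using this

theorem red_X_other {i j : Fin 2} (hij : i ≠ j) : red (B := B) i (X j) = 0 := by
  classical
  ext n
  rw [coeff_red, coeff_X, map_zero, if_neg, map_zero]
  intro h
  have := congrArg (fun f => f j) h
  simp [hij] at this

theorem red_C (i : Fin 2) (b : B) :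
    red i (C b : MvPowerSeries (Fin 2) B) = PowerSeries.C (IsLocalRing.residue B b) := by
  classical
  ext n
  rw [coeff_red, coeff_C, PowerSeries.coeff_C]
  by_cases hn : n = 0
  · subst hn; simp
  · rw [if_neg hn, if_neg, map_zero]
    intro h
    apply hn
    have := congrArg (fun f => f i) h
    simpa using this

variable (π : B)

theorem residue_pi (hπ : Irreducible π) : IsLocalRing.residue B π = 0 := by
  rw [IsLocalRing.residue_eq_zero_iff, hπ.maximalIdeal_eq]
  exact Ideal.mem_span_singleton_self π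

theorem red_rel (hπ : Irreducible π) (i : Fin 2) :
    red i (X 0 * X 1 - C π : MvPowerSeries (Fin 2) B) = 0 := by
  rw [map_sub, map_mul, red_C, residue_pi π hπ, map_zero, sub_zero]
  rcases (by fin_cases i <;> simp : i = 0 ∨ i = 1) with rfl | rfl
  · rw [red_X_other (i := 0) (j := 1) (by decide), mul_zero]
  · rw [red_X_other (i := 1) (j := 0) (by decide), zero_mul]

/-- the branch map: `N → k[[X]]` keeping the variable `i` and killing the other. -/
noncomputable def br (hπ : Irreducible π) (i : Fin 2) :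
    ArLef.NodeAlg B π →+* PowerSeries (IsLocalRing.ResidueField B) :=
  Ideal.Quotient.lift _ (red i) (by
    intro a ha
    rw [Ideal.mem_span_singleton'] at ha
    obtain ⟨c, rfl⟩ := ha
    rw [map_mul, red_rel π hπ, mul_zero])

theorem br_mk (hπ : Irreducible π) (i : Fin 2) (F : MvPowerSeries (Fin 2) B) :
    br π hπ i (Ideal.Quotient.mk _ F) = red i F := rfl

theorem t_mul_e : ArLef.NodeAlg.t π * ArLef.NodeAlg.e π = algebraMap B (ArLef.NodeAlg B π) π := by
  have h1 : algebraMap B (ArLef.NodeAlg B π) π = Ideal.Quotient.mk _ (MvPowerSeries.C π) := rfl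
  rw [h1]
  unfold ArLef.NodeAlg.t ArLef.NodeAlg.e
  rw [← map_mul, Ideal.Quotient.eq]
  exact Ideal.subset_span rfl

theorem mk_C_pi : (Ideal.Quotient.mk (Ideal.span {(X 0 * X 1 - C π : MvPowerSeries (Fin 2) B)}) (C π)) =
    ArLef.NodeAlg.t π * ArLef.NodeAlg.e π := (t_mul_e π).symm

/-- the class of variable `j`. -/
noncomputable def v (j : Fin 2) : ArLef.NodeAlg B π := Ideal.Quotient.mk _ (X j)

theorem v_zero : v π 0 = ArLef.NodeAlg.t π := rfl
theorem v_one : v π 1 = ArLef.NodeAlg.e π := rfl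

theorem v_dvd_pi (j : Fin 2) : v π j ∣ algebraMap B (ArLef.NodeAlg B π) π := by
  rw [← t_mul_e]
  fin_cases j
  · exact Dvd.intro _ rfl
  · exact Dvd.intro_left _ rfl

theorem ker_br (hπ : Irreducible π) {i j : Fin 2} (hij : i ≠ j) :
    RingHom.ker (br π hπ i) = Ideal.span {v π j} := by
  apply le_antisymm
  · intro x hx
    obtain ⟨F, rfl⟩ := Ideal.Quotient.mk_surjective x
    rw [RingHom.mem_ker, br_mk] at hx
    have hco : ∀ n, π ∣ coeff (Finsupp.single i n) F := by
      intro n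
      have h1 := congrArg (PowerSeries.coeff n) hx
      rw [coeff_red, map_zero, IsLocalRing.residue_eq_zero_iff, hπ.maximalIdeal_eq,
        Ideal.mem_span_singleton] at h1
      exact h1
    obtain ⟨G, H, hF, hH⟩ := exists_X_mul_add j F
    have hHd : (C π : MvPowerSeries (Fin 2) B) ∣ H := by
      apply C_dvd_of_coeff
      intro m
      rw [hH m]
      split_ifs with hm
      · rw [fin2_eq_single hij m hm]; exact hco _
      · exact dvd_zero _
    obtain ⟨H', rfl⟩ := hHd
    rw [hF, map_add, map_mul, map_mul]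
    refine Ideal.add_mem _ (Ideal.mul_mem_right _ _ (Ideal.mem_span_singleton_self _)) ?_
    refine Ideal.mul_mem_right _ _ ?_
    rw [Ideal.mem_span_singleton]
    exact v_dvd_pi π j
  · rw [Ideal.span_le, Set.singleton_subset_iff, SetLike.mem_coe, RingHom.mem_ker]
    change red i (X j) = 0
    exact red_X_other hij

theorem br_v_self (hπ : Irreducible π) (i : Fin 2) : br π hπ i (v π i) = PowerSeries.X :=
  red_X_self i

theorem br_v_other (hπ : Irreducible π) {i j : Fin 2} (hij : i ≠ j) : br π hπ i (v π j) = 0 :=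
  red_X_other hij

theorem br_algebraMap (hπ : Irreducible π) (i : Fin 2) (b : B) :
    br π hπ i (algebraMap B (ArLef.NodeAlg B π) b) = PowerSeries.C (IsLocalRing.residue B b) :=
  red_C i b

theorem nontrivial (hπ : Irreducible π) : Nontrivial (ArLef.NodeAlg B π) :=
  RingHom.domain_nontrivial (br π hπ 0)

theorem isLocalRing (hπ : Irreducible π) : IsLocalRing (ArLef.NodeAlg B π) := by
  haveI := nontrivial π hπ
  exact IsLocalRing.of_surjective' (Ideal.Quotient.mk _) Ideal.Quotient.mk_surjective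

/-- the ideal `(t, e)`. -/
noncomputable def mm : Ideal (ArLef.NodeAlg B π) :=
  Ideal.span {ArLef.NodeAlg.t π, ArLef.NodeAlg.e π}

theorem t_mem_mm : ArLef.NodeAlg.t π ∈ mm π := Ideal.subset_span (Set.mem_insert _ _)
theorem e_mem_mm : ArLef.NodeAlg.e π ∈ mm π := Ideal.subset_span (Set.mem_insert_of_mem _ rfl)

theorem pi_mem_mm : algebraMap B (ArLef.NodeAlg B π) π ∈ mm π := by
  rw [← t_mul_e]; exact Ideal.mul_mem_right _ _ (t_mem_mm π)

theorem sub_C_mem (F : MvPowerSeries (Fin 2) B) :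
    Ideal.Quotient.mk (Ideal.span {(X 0 * X 1 - C π : MvPowerSeries (Fin 2) B)}) (F - C (constantCoeff F)) ∈ mm π := by
  classical
  obtain ⟨G, H, hF, hH⟩ := exists_X_mul_add (0 : Fin 2) (F - C (constantCoeff F))
  have hd : (X 1 : MvPowerSeries (Fin 2) B) ∣ H := by
    rw [X_dvd_iff]
    intro m hm
    rw [hH m]
    split_ifs with h0
    · have hm0 : m = 0 := by
        rw [fin2_eq_single (i := 0) (j := 1) (by decide) m hm, h0, Finsupp.single_zero]
      rw [hm0, map_sub, coeff_zero_C]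
      exact sub_self _
    · rfl
  obtain ⟨H', rfl⟩ := hd
  rw [hF, map_add, map_mul, map_mul]
  exact Ideal.add_mem _ (Ideal.mul_mem_right _ _ (t_mem_mm π)) (Ideal.mul_mem_right _ _ (e_mem_mm π))

theorem mm_ne_top (hπ : Irreducible π) : mm π ≠ ⊤ := by
  intro htop
  have hle : mm π ≤ RingHom.ker ((PowerSeries.constantCoeff (R := IsLocalRing.ResidueField B)).comp (br π hπ 0)) := by
    rw [mm, Ideal.span_le]
    rintro x (rfl | rfl)
    · rw [SetLike.mem_coe, RingHom.mem_ker, RingHom.comp_apply]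
      rw [← v_zero, br_v_self, PowerSeries.constantCoeff_X]
    · rw [SetLike.mem_coe, RingHom.mem_ker, RingHom.comp_apply]
      rw [← v_one, br_v_other π hπ (by decide), map_zero]
  rw [htop] at hle
  have h1 : (1 : ArLef.NodeAlg B π) ∈ RingHom.ker ((PowerSeries.constantCoeff (R := IsLocalRing.ResidueField B)).comp (br π hπ 0)) := hle Submodule.mem_top
  rw [RingHom.mem_ker, map_one] at h1
  exact one_ne_zero h1

theorem isUnit_of_not_mem_mm (hπ : Irreducible π) (x : ArLef.NodeAlg B π) (hx : x ∉ mm π) : IsUnit x := by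
  obtain ⟨F, rfl⟩ := Ideal.Quotient.mk_surjective x
  apply IsUnit.map
  rw [isUnit_iff_constantCoeff]
  by_contra hc
  apply hx
  have h1 : constantCoeff F ∈ IsLocalRing.maximalIdeal B := hc
  rw [hπ.maximalIdeal_eq, Ideal.mem_span_singleton] at h1
  obtain ⟨c, hc'⟩ := h1
  have h2 : F = (F - C (constantCoeff F)) + C π * C c := by
    rw [← map_mul, ← hc']; ring
  rw [h2, map_add, map_mul]
  refine Ideal.add_mem _ (sub_C_mem π F) (Ideal.mul_mem_right _ _ ?_)
  exact pi_mem_mm π

theorem maximalIdeal_eq (hπ : Irreducible π) :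
    haveI := isLocalRing π hπ
    IsLocalRing.maximalIdeal (ArLef.NodeAlg B π) = mm π := by
  haveI := isLocalRing π hπ
  refine Ideal.IsMaximal.eq_of_le (IsLocalRing.maximalIdeal.isMaximal _) (mm_ne_top π hπ) ?_
  intro x hx
  by_contra hx'
  exact hx (isUnit_of_not_mem_mm π hπ x hx')

theorem isUnit_iff_not_mem_mm (hπ : Irreducible π) (x : ArLef.NodeAlg B π) : IsUnit x ↔ x ∉ mm π := by
  refine ⟨fun hu hx => mm_ne_top π hπ (Ideal.eq_top_of_isUnit_mem _ hx hu), isUnit_of_not_mem_mm π hπ x⟩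

theorem pi_regular_aux (hπ0 : π ≠ 0) (f : MvPowerSeries (Fin 2) B)
    (hf : MvPowerSeries.C π * f ∈ Ideal.span
      {(MvPowerSeries.X 0 * MvPowerSeries.X 1 - MvPowerSeries.C π : MvPowerSeries (Fin 2) B)}) :
    f ∈ Ideal.span
      {(MvPowerSeries.X 0 * MvPowerSeries.X 1 - MvPowerSeries.C π : MvPowerSeries (Fin 2) B)} := by
  rw [Ideal.mem_span_singleton'] at hf ⊢
  obtain ⟨g, hg⟩ := hf
  set δ : Fin 2 →₀ ℕ := Finsupp.single 0 1 + Finsupp.single 1 1 with hδ
  have hXX : (MvPowerSeries.X 0 * MvPowerSeries.X 1 : MvPowerSeries (Fin 2) B) =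
      MvPowerSeries.monomial δ 1 := by
    rw [MvPowerSeries.X_def, MvPowerSeries.X_def, MvPowerSeries.monomial_mul_monomial, mul_one]
  have hcoef : ∀ m : Fin 2 →₀ ℕ, MvPowerSeries.coeff m g =
      π * (MvPowerSeries.coeff (δ + m) f + MvPowerSeries.coeff (δ + m) g) := by
    intro m
    have h1 := congrArg (MvPowerSeries.coeff (δ + m)) hg
    rw [mul_sub, map_sub, hXX, mul_comm g, MvPowerSeries.coeff_add_monomial_mul, one_mul,
      mul_comm g, MvPowerSeries.coeff_C_mul, MvPowerSeries.coeff_C_mul] at h1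
    linear_combination h1
  set g' : MvPowerSeries (Fin 2) B :=
    fun m => MvPowerSeries.coeff (δ + m) f + MvPowerSeries.coeff (δ + m) g with hg'
  have hgg' : g = MvPowerSeries.C π * g' := by
    ext m
    rw [MvPowerSeries.coeff_C_mul, hcoef m]
    rfl
  refine ⟨g', ?_⟩
  have hC : (MvPowerSeries.C π : MvPowerSeries (Fin 2) B) ≠ 0 := by
    intro h
    have := congrArg MvPowerSeries.constantCoeff h
    rw [MvPowerSeries.constantCoeff_C, map_zero] at this
    exact hπ0 this
  apply mul_left_cancel₀ hC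
  rw [← hg, hgg']
  ring

theorem pi_regular (hπ0 : π ≠ 0) (x : ArLef.NodeAlg B π)
    (hx : algebraMap B (ArLef.NodeAlg B π) π * x = 0) : x = 0 := by
  obtain ⟨f, rfl⟩ := Ideal.Quotient.mk_surjective x
  have h1 : algebraMap B (ArLef.NodeAlg B π) π = Ideal.Quotient.mk _ (MvPowerSeries.C π) := rfl
  rw [h1, ← map_mul, Ideal.Quotient.eq_zero_iff_mem] at hx
  rw [Ideal.Quotient.eq_zero_iff_mem]
  exact pi_regular_aux π hπ0 f hx

theorem t_regular (hπ0 : π ≠ 0) (x : ArLef.NodeAlg B π) (hx : ArLef.NodeAlg.t π * x = 0) : x = 0 := by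
  apply pi_regular π hπ0
  rw [← t_mul_e, mul_comm (ArLef.NodeAlg.t π), mul_assoc, hx, mul_zero]

theorem e_regular (hπ0 : π ≠ 0) (x : ArLef.NodeAlg B π) (hx : ArLef.NodeAlg.e π * x = 0) : x = 0 := by
  apply pi_regular π hπ0
  rw [← t_mul_e, mul_assoc, hx, mul_zero]

theorem t_cancel (hπ0 : π ≠ 0) {x y : ArLef.NodeAlg B π} (h : ArLef.NodeAlg.t π * x = ArLef.NodeAlg.t π * y) : x = y := by
  rw [← sub_eq_zero]; apply t_regular π hπ0; rw [mul_sub, h, sub_self]

theorem e_cancel (hπ0 : π ≠ 0) {x y : ArLef.NodeAlg B π} (h : ArLef.NodeAlg.e π * x = ArLef.NodeAlg.e π * y) : x = y := by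
  rw [← sub_eq_zero]; apply e_regular π hπ0; rw [mul_sub, h, sub_self]

theorem t_ne_zero (hπ : Irreducible π) : ArLef.NodeAlg.t π ≠ 0 := by
  intro h
  have := br_v_self π hπ 0
  rw [v_zero, h, map_zero] at this
  exact PowerSeries.X_ne_zero this.symm

theorem e_ne_zero (hπ : Irreducible π) : ArLef.NodeAlg.e π ≠ 0 := by
  intro h
  have := br_v_self π hπ 1
  rw [v_one, h, map_zero] at this
  exact PowerSeries.X_ne_zero this.symm

theorem t_dvd_iff (hπ : Irreducible π) (x : ArLef.NodeAlg B π) :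
    ArLef.NodeAlg.t π ∣ x ↔ br π hπ 1 x = 0 := by
  rw [← RingHom.mem_ker, ker_br π hπ (i := 1) (j := 0) (by decide), Ideal.mem_span_singleton, v_zero]

theorem e_dvd_iff (hπ : Irreducible π) (x : ArLef.NodeAlg B π) :
    ArLef.NodeAlg.e π ∣ x ↔ br π hπ 0 x = 0 := by
  rw [← RingHom.mem_ker, ker_br π hπ (i := 0) (j := 1) (by decide), Ideal.mem_span_singleton, v_one]

theorem t_prime (hπ : Irreducible π) : Prime (ArLef.NodeAlg.t π) := by
  refine ⟨t_ne_zero π hπ, ?_, ?_⟩
  · rw [isUnit_iff_not_mem_mm π hπ]; exact fun h => h (t_mem_mm π)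
  · intro a b hab
    rw [t_dvd_iff π hπ] at hab ⊢
    rw [t_dvd_iff π hπ]
    rw [map_mul] at hab
    exact mul_eq_zero.mp hab

theorem e_prime (hπ : Irreducible π) : Prime (ArLef.NodeAlg.e π) := by
  refine ⟨e_ne_zero π hπ, ?_, ?_⟩
  · rw [isUnit_iff_not_mem_mm π hπ]; exact fun h => h (e_mem_mm π)
  · intro a b hab
    rw [e_dvd_iff π hπ] at hab ⊢
    rw [e_dvd_iff π hπ]
    rw [map_mul] at hab
    exact mul_eq_zero.mp hab

theorem not_t_dvd_e (hπ : Irreducible π) : ¬ ArLef.NodeAlg.t π ∣ ArLef.NodeAlg.e π := by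
  rw [t_dvd_iff π hπ, ← v_one, br_v_self]
  exact PowerSeries.X_ne_zero

theorem not_e_dvd_t (hπ : Irreducible π) : ¬ ArLef.NodeAlg.e π ∣ ArLef.NodeAlg.t π := by
  rw [e_dvd_iff π hπ, ← v_zero, br_v_self]
  exact PowerSeries.X_ne_zero

theorem exists_t_pow (hπ : Irreducible π) (x : ArLef.NodeAlg B π) (hx : x ≠ 0) :
    ∃ (n : ℕ) (y : ArLef.NodeAlg B π), x = ArLef.NodeAlg.t π ^ n * y ∧ ¬ ArLef.NodeAlg.t π ∣ y := by
  haveI := isLocalRing π hπ
  have hne : Ideal.span {ArLef.NodeAlg.t π} ≠ ⊤ := by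
    rw [Ne, Ideal.span_singleton_eq_top]
    exact (t_prime π hπ).not_isUnit
  have hK := Ideal.iInf_pow_eq_bot_of_isLocalRing (Ideal.span {ArLef.NodeAlg.t π}) hne
  have hex : ∃ n, ¬ ArLef.NodeAlg.t π ^ n ∣ x := by
    by_contra hcon
    push Not at hcon
    apply hx
    have : x ∈ ⨅ i, Ideal.span {ArLef.NodeAlg.t π} ^ i := by
      rw [Ideal.mem_iInf]
      intro i
      rw [Ideal.span_singleton_pow, Ideal.mem_span_singleton]
      exact hcon i
    rw [hK] at this
    exact this
  classical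
  have h0 : ¬ (Nat.find hex = 0) := by
    intro h0
    have := Nat.find_spec hex
    rw [h0, pow_zero] at this
    exact this (one_dvd _)
  obtain ⟨n, hn⟩ := Nat.exists_eq_succ_of_ne_zero h0
  have h1 : ArLef.NodeAlg.t π ^ n ∣ x := by
    by_contra hcon
    have := Nat.find_min' hex hcon
    omega
  obtain ⟨y, hy⟩ := h1
  refine ⟨n, y, hy, ?_⟩
  rintro ⟨z, rfl⟩
  apply Nat.find_spec hex
  rw [hn, hy]
  exact ⟨z, by rw [Nat.succ_eq_add_one, pow_succ]; ring⟩

theorem t_pow_regular (hπ0 : π ≠ 0) (n : ℕ) (x : ArLef.NodeAlg B π)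
    (hx : ArLef.NodeAlg.t π ^ n * x = 0) : x = 0 := by
  induction n with
  | zero => simpa using hx
  | succ n ih =>
    apply ih
    apply t_regular π hπ0
    rw [← mul_assoc, ← pow_succ', hx]

theorem isDomain (hπ : Irreducible π) : IsDomain (ArLef.NodeAlg B π) := by
  haveI := nontrivial π hπ
  have hπ0 := hπ.ne_zero
  haveI : NoZeroDivisors (ArLef.NodeAlg B π) := ?_
  · exact NoZeroDivisors.to_isDomain _
  refine ⟨fun {x y} hxy => ?_⟩
  by_contra hcon
  push Not at hcon
  obtain ⟨n, x', rfl, hx'⟩ := exists_t_pow π hπ x hcon.1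
  obtain ⟨m, y', rfl, hy'⟩ := exists_t_pow π hπ y hcon.2
  have h1 : ArLef.NodeAlg.t π ^ (n + m) * (x' * y') = 0 := by
    rw [← hxy, pow_add]; ring
  have h2 := t_pow_regular π hπ0 _ _ h1
  have h3 : ArLef.NodeAlg.t π ∣ x' * y' := by rw [h2]; exact dvd_zero _
  rcases (t_prime π hπ).dvd_or_dvd h3 with h | h
  · exact hx' h
  · exact hy' h

theorem stab_or_switch (hπ : Irreducible π) (σ : ArLef.NodeAlg B π ≃+* ArLef.NodeAlg B π)
    (hσ : Associated (σ (algebraMap B (ArLef.NodeAlg B π) π)) (algebraMap B (ArLef.NodeAlg B π) π)) :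
    (∃ α β : (ArLef.NodeAlg B π)ˣ, σ (ArLef.NodeAlg.t π) = (α : ArLef.NodeAlg B π) * ArLef.NodeAlg.t π ∧
        σ (ArLef.NodeAlg.e π) = (β : ArLef.NodeAlg B π) * ArLef.NodeAlg.e π) ∨
      (∃ α β : (ArLef.NodeAlg B π)ˣ, σ (ArLef.NodeAlg.t π) = (α : ArLef.NodeAlg B π) * ArLef.NodeAlg.e π ∧
        σ (ArLef.NodeAlg.e π) = (β : ArLef.NodeAlg B π) * ArLef.NodeAlg.t π) := by
  haveI := isDomain π hπ
  have hπ0 := hπ.ne_zero
  have htp := t_prime π hπ
  have hts : Prime (σ (ArLef.NodeAlg.t π)) := (MulEquiv.prime_iff σ).mpr htp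
  have hes : Prime (σ (ArLef.NodeAlg.e π)) := (MulEquiv.prime_iff σ).mpr (e_prime π hπ)
  obtain ⟨u, hu⟩ := hσ
  rw [← t_mul_e, map_mul] at hu
  have hd : ArLef.NodeAlg.t π ∣ σ (ArLef.NodeAlg.t π) * σ (ArLef.NodeAlg.e π) * u := by
    rw [hu]; exact Dvd.intro _ rfl
  have hd2 : ArLef.NodeAlg.t π ∣ σ (ArLef.NodeAlg.t π) ∨ ArLef.NodeAlg.t π ∣ σ (ArLef.NodeAlg.e π) := by
    rcases htp.dvd_or_dvd hd with h | h
    · exact htp.dvd_or_dvd h
    · exact absurd (isUnit_of_dvd_unit h u.isUnit) htp.not_isUnit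
  rcases hd2 with h | h
  · left
    obtain ⟨α, hα⟩ := htp.associated_of_dvd hts h
    have h2 : σ (ArLef.NodeAlg.e π) * ((α : ArLef.NodeAlg B π) * u) = ArLef.NodeAlg.e π := by
      apply mul_left_cancel₀ htp.ne_zero
      rw [← hu, ← hα]; ring
    refine ⟨α, (α * u)⁻¹, by rw [← hα, mul_comm], ?_⟩
    rw [Units.eq_inv_mul_iff_mul_eq, mul_comm, Units.val_mul]
    exact h2
  · right
    obtain ⟨β, hβ⟩ := htp.associated_of_dvd hes h
    have h2 : σ (ArLef.NodeAlg.t π) * ((β : ArLef.NodeAlg B π) * u) = ArLef.NodeAlg.e π := by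
      apply mul_left_cancel₀ htp.ne_zero
      rw [← hu, ← hβ]; ring
    refine ⟨(β * u)⁻¹, β, ?_, by rw [← hβ, mul_comm]⟩
    rw [Units.eq_inv_mul_iff_mul_eq, mul_comm, Units.val_mul]
    exact h2

end DVR

end Groth.Agent.Lib.Helper83.ArLefA
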