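import Groth.Prelude.Def_W4c2arithlefschetzNode
import Groth.Agent.S15315
import Mathlib

set_option autoImplicit false
set_option linter.unusedSectionVars false
universe u

namespace Groth.Agent.Lib.Helper83.ArLefG

variable {A : Type u} [CommRing A]

/-- length of the quotient by an ideal. -/
noncomputable def ell (I : Ideal A) : ℕ∞ := Module.length A (A ⧸ I)

theorem ell_def (I : Ideal A) : ell I = Module.length A (A ⧸ I) := rfl

/-! ### Krull closure and fixed ideals -/

theorem mem_of_forall_mem_sup_pow [IsNoetherianRing A] [IsLocalRing A]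
    (J I : Ideal A) (hI : I ≠ ⊤) (x : A) (h : ∀ n, x ∈ J ⊔ I ^ n) : x ∈ J := by
  have hK := Ideal.iInf_pow_smul_eq_bot_of_isLocalRing (M := A ⧸ J) I hI
  have hx : (Ideal.Quotient.mk J x : A ⧸ J) ∈ ⨅ i, I ^ i • (⊤ : Submodule A (A ⧸ J)) := by
    rw [Submodule.mem_iInf]
    intro i
    obtain ⟨j, hj, q, hq, rfl⟩ := Submodule.mem_sup.mp (h i)
    have h1 : (Ideal.Quotient.mk J (j + q) : A ⧸ J) = q • (Ideal.Quotient.mk J 1 : A ⧸ J) := by
      rw [map_add, Ideal.Quotient.eq_zero_iff_mem.mpr hj, zero_add, map_one]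
      rw [Algebra.smul_def, mul_one]; rfl
    rw [h1]
    exact Submodule.smul_mem_smul hq Submodule.mem_top
  rw [hK] at hx
  exact Ideal.Quotient.eq_zero_iff_mem.mp hx

theorem fixIdeal_le (σ : A → A) (J : Ideal A) (h : ∀ r, σ r - r ∈ J) :
    ArLef.fixIdeal σ ≤ J := by
  rw [ArLef.fixIdeal, Ideal.span_le]
  rintro _ ⟨r, rfl⟩
  exact h r

theorem sub_mem_fixIdeal (σ : A → A) (r : A) : σ r - r ∈ ArLef.fixIdeal σ :=
  Ideal.subset_span ⟨r, rfl⟩

theorem fix_le_generic [IsNoetherianRing A] [IsLocalRing A] (m : Ideal A) (hm : m ≠ ⊤)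
    (t e : A) (htm : t ∈ m) (hem : e ∈ m) (S : Set A)
    (hdec : ∀ x : A, ∃ c ∈ S, ∃ g h : A, x = c + t * g + e * h)
    (σ : A →+* A) (J : Ideal A) (ht : σ t - t ∈ J) (he : σ e - e ∈ J)
    (hS : ∀ c ∈ S, σ c - c ∈ J) : ArLef.fixIdeal σ ≤ J := by
  have key : ∀ n : ℕ, ∀ r : A, σ r - r ∈ J ⊔ m ^ n := by
    intro n
    induction n with
    | zero => intro r; rw [pow_zero, Ideal.one_eq_top, sup_top_eq]; exact Submodule.mem_top
    | succ n ih =>
      intro r
      obtain ⟨c, hc, g, h, rfl⟩ := hdec r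
      have e1 : σ (c + t * g + e * h) - (c + t * g + e * h) =
          (σ c - c) + (σ t - t) * σ g + t * (σ g - g) + (σ e - e) * σ h + e * (σ h - h) := by
        rw [map_add, map_add, map_mul, map_mul]; ring
      rw [e1]
      have hJ : J ≤ J ⊔ m ^ (n + 1) := le_sup_left
      have hmul : ∀ (v : A), v ∈ m → ∀ y, y ∈ J ⊔ m ^ n → v * y ∈ J ⊔ m ^ (n + 1) := by
        intro v hv y hy
        obtain ⟨j, hj, q, hq, rfl⟩ := Submodule.mem_sup.mp hy
        rw [mul_add]
        refine Ideal.add_mem _ (hJ (Ideal.mul_mem_left _ _ hj)) (Ideal.mem_sup_right ?_)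
        rw [pow_succ']
        exact Ideal.mul_mem_mul hv hq
      refine Ideal.add_mem _ (Ideal.add_mem _ (Ideal.add_mem _ (Ideal.add_mem _ (hJ (hS c hc))
        (hJ (Ideal.mul_mem_right _ _ ht))) (hmul _ htm _ (ih g)))
        (hJ (Ideal.mul_mem_right _ _ he))) (hmul _ hem _ (ih h))
  apply fixIdeal_le
  intro r
  exact mem_of_forall_mem_sup_pow J m hm _ (fun n => key n r)

/-! ### length lemmas -/

theorem ell_colon_add (K : Ideal A) (y : A) :
    ell K = ell (K.colon {y}) + ell (K ⊔ Ideal.span {y}) := by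
  have h12 : K.colon {y} ≤ Submodule.comap (LinearMap.mulLeft A y) K := by
    intro x hx
    rw [Submodule.mem_colon_singleton] at hx
    rw [Submodule.mem_comap, LinearMap.mulLeft_apply, mul_comm]
    exact hx
  have h23 : K ≤ Submodule.comap (LinearMap.id : A →ₗ[A] A) (K ⊔ Ideal.span {y}) := by
    intro x hx
    exact Ideal.mem_sup_left hx
  let f : (A ⧸ K.colon {y}) →ₗ[A] (A ⧸ K) := Submodule.mapQ _ _ (LinearMap.mulLeft A y) h12
  let g : (A ⧸ K) →ₗ[A] (A ⧸ (K ⊔ Ideal.span {y})) := Submodule.mapQ _ _ LinearMap.id h23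
  have hf : Function.Injective f := by
    rw [← LinearMap.ker_eq_bot, LinearMap.ker_eq_bot']
    intro x hx
    obtain ⟨x, rfl⟩ := Submodule.Quotient.mk_surjective _ x
    have : f (Submodule.Quotient.mk x) = Submodule.Quotient.mk (y * x) := rfl
    rw [this, Submodule.Quotient.mk_eq_zero] at hx
    rw [Submodule.Quotient.mk_eq_zero, Submodule.mem_colon_singleton, smul_eq_mul, mul_comm]
    exact hx
  have hg : Function.Surjective g := by
    intro z
    obtain ⟨z, rfl⟩ := Submodule.Quotient.mk_surjective _ z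
    exact ⟨Submodule.Quotient.mk z, rfl⟩
  have hfg : Function.Exact f g := by
    intro z
    obtain ⟨z, rfl⟩ := Submodule.Quotient.mk_surjective _ z
    constructor
    · intro hz
      have : g (Submodule.Quotient.mk z) = Submodule.Quotient.mk z := rfl
      rw [this, Submodule.Quotient.mk_eq_zero] at hz
      obtain ⟨k, hk, w, hw, rfl⟩ := Submodule.mem_sup.mp hz
      obtain ⟨c, rfl⟩ := Ideal.mem_span_singleton'.mp hw
      refine ⟨Submodule.Quotient.mk c, ?_⟩
      have : f (Submodule.Quotient.mk c) = Submodule.Quotient.mk (y * c) := rfl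
      rw [this, Submodule.Quotient.eq]
      have : y * c - (k + c * y) = -k := by ring
      rw [this]
      exact K.neg_mem hk
    · rintro ⟨x, hx⟩
      obtain ⟨x, rfl⟩ := Submodule.Quotient.mk_surjective _ x
      have : g (f (Submodule.Quotient.mk x)) = Submodule.Quotient.mk (y * x) := rfl
      rw [← hx, this, Submodule.Quotient.mk_eq_zero]
      exact Ideal.mem_sup_right (Ideal.mul_mem_right _ _ (Ideal.mem_span_singleton_self y))
  rw [ell_def, ell_def, ell_def, Module.length_eq_add_of_exact f g hf hg hfg]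

theorem ell_mul [IsNoetherianRing A] (a b : A) (I : Ideal A)
    (ha : IsSMulRegular (A ⧸ Ideal.span ({b} : Set A)) a) :
    ell (Ideal.span {a} * I ⊔ Ideal.span {b}) =
      ell (Ideal.span ({a, b} : Set A)) + ell (I ⊔ Ideal.span {b}) :=
  Groth.Agent.S15315.result A a b I ha

theorem span_pair_eq_sup (a b : A) : Ideal.span ({a, b} : Set A) = Ideal.span {a} ⊔ Ideal.span {b} := by
  rw [← Ideal.span_union]; rfl

theorem ell_mul_pair [IsNoetherianRing A] (a c b : A)
    (ha : IsSMulRegular (A ⧸ Ideal.span ({b} : Set A)) a) :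
    ell (Ideal.span ({a * c, b} : Set A)) =
      ell (Ideal.span ({a, b} : Set A)) + ell (Ideal.span ({c, b} : Set A)) := by
  have := ell_mul a b (Ideal.span {c}) ha
  rw [Ideal.span_singleton_mul_span_singleton, ← span_pair_eq_sup, ← span_pair_eq_sup] at this
  exact this

theorem ell_pow_pair [IsNoetherianRing A] (a b : A) (n : ℕ)
    (ha : IsSMulRegular (A ⧸ Ideal.span ({b} : Set A)) a) :
    ell (Ideal.span ({a ^ n, b} : Set A)) = (n : ℕ∞) * ell (Ideal.span ({a, b} : Set A)) := by
  induction n with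
  | zero =>
    rw [pow_zero, Nat.cast_zero, zero_mul]
    have : Ideal.span ({1, b} : Set A) = ⊤ := by
      rw [Ideal.eq_top_iff_one]; exact Ideal.subset_span (Set.mem_insert _ _)
    rw [this, ell_def, Module.length_eq_zero_iff]
    exact Ideal.Quotient.subsingleton_iff.mpr rfl
  | succ n ih =>
    rw [pow_succ', ell_mul_pair a (a ^ n) b ha, ih, Nat.cast_succ, add_mul, one_mul, add_comm]

theorem ell_top : ell (⊤ : Ideal A) = 0 := by
  rw [ell_def, Module.length_eq_zero_iff]
  exact Ideal.Quotient.subsingleton_iff.mpr rfl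

theorem ell_maximal (m : Ideal A) [hm : m.IsMaximal] : ell m = 1 := by
  rw [ell_def, Module.length_eq_one_iff, isSimpleModule_iff_isCoatom]
  exact Ideal.isMaximal_def.mp hm

/-! ### regularity -/

theorem regular_of_prime [IsDomain A] {p b : A} (hp : Prime p) (hpb : ¬ p ∣ b) :
    IsSMulRegular (A ⧸ Ideal.span ({b} : Set A)) p := by
  intro x y hxy
  obtain ⟨x, rfl⟩ := Ideal.Quotient.mk_surjective x
  obtain ⟨y, rfl⟩ := Ideal.Quotient.mk_surjective y
  have h1 : p * (x - y) ∈ Ideal.span ({b} : Set A) := by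
    rw [← Ideal.Quotient.eq_zero_iff_mem, map_mul, map_sub, mul_sub, sub_eq_zero]
    simpa [Algebra.smul_def] using hxy
  rw [Ideal.mem_span_singleton] at h1
  obtain ⟨w, hw⟩ := h1
  have h2 : p ∣ w := by
    have : p ∣ b * w := ⟨_, hw.symm⟩
    rcases hp.dvd_or_dvd this with h | h
    · exact absurd h hpb
    · exact h
  obtain ⟨w', rfl⟩ := h2
  have h3 : x - y = b * w' := by
    apply mul_left_cancel₀ hp.ne_zero
    rw [hw]; ring
  rw [Ideal.Quotient.eq, Ideal.mem_span_singleton, h3]
  exact Dvd.intro _ rfl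

theorem regular_iff {a b : A} :
    IsSMulRegular (A ⧸ Ideal.span ({b} : Set A)) a ↔ ∀ x y : A, a * x = b * y → b ∣ x := by
  constructor
  · intro h x y hxy
    have h1 : a • (Ideal.Quotient.mk (Ideal.span ({b} : Set A)) x) = a • 0 := by
      rw [smul_zero, Algebra.smul_def]
      change Ideal.Quotient.mk _ a * _ = 0
      rw [← map_mul, Ideal.Quotient.eq_zero_iff_mem, Ideal.mem_span_singleton, hxy]
      exact Dvd.intro _ rfl
    have h2 := h h1
    rwa [Ideal.Quotient.eq_zero_iff_mem, Ideal.mem_span_singleton] at h2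
  · intro h x y hxy
    obtain ⟨x, rfl⟩ := Ideal.Quotient.mk_surjective x
    obtain ⟨y, rfl⟩ := Ideal.Quotient.mk_surjective y
    have h1 : a * (x - y) ∈ Ideal.span ({b} : Set A) := by
      rw [← Ideal.Quotient.eq_zero_iff_mem, map_mul, map_sub, mul_sub, sub_eq_zero]
      simpa [Algebra.smul_def] using hxy
    rw [Ideal.mem_span_singleton] at h1
    obtain ⟨w, hw⟩ := h1
    rw [Ideal.Quotient.eq, Ideal.mem_span_singleton]
    exact h _ _ hw

theorem colon_mul_singleton [IsDomain A] (D : A) (hD : D ≠ 0) (I : Ideal A) :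
    (Ideal.span {D} * I).colon {D} = I := by
  ext x
  rw [Submodule.mem_colon_singleton, smul_eq_mul, Ideal.mem_span_singleton_mul]
  constructor
  · rintro ⟨z, hz, hzx⟩
    have : z = x := by
      apply mul_left_cancel₀ hD
      rw [hzx]; ring
    rwa [← this]
  · intro hx
    exact ⟨x, hx, mul_comm _ _⟩

end Groth.Agent.Lib.Helper83.ArLefG
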