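import Groth.Agent.Lib.Helper83.ArLefG

set_option autoImplicit false
set_option linter.unusedSectionVars false
universe u

namespace Groth.Agent.Lib.Helper83.ArLefH

open Groth.Agent.Lib.Helper83.ArLefG

variable {A : Type u} [CommRing A] [IsDomain A] [IsNoetherianRing A] [IsLocalRing A]

/-- abstract data of a two-dimensional "node-like" local domain with two prime parameters. -/
structure Node (t e : A) (S : Set A) : Prop where
  tp : Prime t
  ep : Prime e
  hte : ¬ t ∣ e
  het : ¬ e ∣ t
  max : IsLocalRing.maximalIdeal A = Ideal.span {t, e}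
  dec : ∀ x : A, ∃ c ∈ S, ∃ g h : A, x = c + t * g + e * h

variable {t e : A} {S : Set A}

namespace Node

theorem t_mem (nd : Node t e S) : t ∈ IsLocalRing.maximalIdeal A := by
  rw [nd.max]; exact Ideal.subset_span (Set.mem_insert _ _)

theorem e_mem (nd : Node t e S) : e ∈ IsLocalRing.maximalIdeal A := by
  rw [nd.max]; exact Ideal.subset_span (Set.mem_insert_of_mem _ rfl)

theorem fix_le (nd : Node t e S) (σ : A →+* A) (J : Ideal A) (ht : σ t - t ∈ J) (he : σ e - e ∈ J)
    (hS : ∀ c ∈ S, σ c - c ∈ J) : ArLef.fixIdeal σ ≤ J :=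
  fix_le_generic (IsLocalRing.maximalIdeal A) (Ideal.IsPrime.ne_top inferInstance) t e nd.t_mem nd.e_mem S nd.dec σ J ht he hS

theorem isUnit_one_add (nd : Node t e S) {x : A} (hx : x ∈ IsLocalRing.maximalIdeal A) : IsUnit (1 + x) := by
  by_contra h
  have h1 : 1 + x ∈ IsLocalRing.maximalIdeal A := h
  have h2 : (1 : A) ∈ IsLocalRing.maximalIdeal A := by
    have := Ideal.sub_mem _ h1 hx
    simp at this
  exact (Ideal.IsPrime.ne_top inferInstance) ((Ideal.eq_top_iff_one _).mpr h2)

theorem ell_te (nd : Node t e S) : ell (Ideal.span ({t, e} : Set A)) = 1 := by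
  rw [← nd.max]; exact ell_maximal _

theorem ell_et (nd : Node t e S) : ell (Ideal.span ({e, t} : Set A)) = 1 := by
  rw [Set.pair_comm]; exact nd.ell_te

theorem te_ne_zero (nd : Node t e S) : t * e ≠ 0 := mul_ne_zero nd.tp.ne_zero nd.ep.ne_zero

/-- the stabilizing case with trivial action on coefficients. -/
theorem stab_fix (nd : Node t e S) (σ : A →+* A) (hS : ∀ c ∈ S, σ c = c) (hp : t * e ∈ S)
    (α β : Aˣ) (hα : σ t = α * t) (hβ : σ e = β * e) (hne : ∃ x, σ x ≠ x) :
    ∃ g : A, g ≠ 0 ∧ ArLef.fixIdeal σ = Ideal.span {g} * Ideal.span ({t, e} : Set A) := by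
  have hab : (α : A) * β = 1 := by
    have h1 := hS _ hp
    rw [map_mul, hα, hβ] at h1
    apply mul_right_cancel₀ nd.te_ne_zero
    linear_combination h1
  have hfix : ArLef.fixIdeal σ = Ideal.span {((α : A) - 1) * t, ((β : A) - 1) * e} := by
    apply le_antisymm
    · apply nd.fix_le
      · rw [hα]
        have : (α : A) * t - t = ((α : A) - 1) * t := by ring
        rw [this]; exact Ideal.subset_span (Set.mem_insert _ _)
      · rw [hβ]
        have : (β : A) * e - e = ((β : A) - 1) * e := by ring
        rw [this]; exact Ideal.subset_span (Set.mem_insert_of_mem _ rfl)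
      · intro c hc
        rw [hS c hc, sub_self]; exact Ideal.zero_mem _
    · rw [Ideal.span_le]
      rintro x (rfl | rfl)
      · have := sub_mem_fixIdeal σ t
        rw [hα] at this
        have h2 : (α : A) * t - t = ((α : A) - 1) * t := by ring
        rwa [h2] at this
      · have := sub_mem_fixIdeal σ e
        rw [hβ] at this
        have h2 : (β : A) * e - e = ((β : A) - 1) * e := by ring
        rwa [h2] at this
  have hb : (β : A) - 1 = -(β : A) * ((α : A) - 1) := by
    linear_combination hab
  refine ⟨(α : A) - 1, ?_, ?_⟩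
  · intro h0
    have hα1 : (α : A) = 1 := by linear_combination h0
    have hβ1 : (β : A) = 1 := by rw [hα1, one_mul] at hab; exact hab
    obtain ⟨x, hx⟩ := hne
    apply hx
    have h1 := sub_mem_fixIdeal σ x
    rw [hfix, hα1, hβ1] at h1
    simp only [sub_self, zero_mul, Set.pair_eq_singleton, Ideal.span_singleton_eq_bot.mpr,
      Ideal.mem_bot] at h1
    exact sub_eq_zero.mp h1
  · rw [hfix]
    apply le_antisymm
    · rw [Ideal.span_le]
      rintro x (rfl | rfl)
      · exact Ideal.mul_mem_mul (Ideal.mem_span_singleton_self _) (Ideal.subset_span (Set.mem_insert _ _))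
      · rw [hb]
        have : -(β : A) * ((α : A) - 1) * e = ((α : A) - 1) * (-(β : A) * e) := by ring
        rw [this]
        exact Ideal.mul_mem_mul (Ideal.mem_span_singleton_self _)
          (Ideal.mul_mem_left _ _ (Ideal.subset_span (Set.mem_insert_of_mem _ rfl)))
    · rw [Ideal.mul_le]
      intro r hr s hs
      obtain ⟨c, rfl⟩ := Ideal.mem_span_singleton'.mp hr
      obtain ⟨p, q, rfl⟩ := Ideal.mem_span_pair.mp hs
      have : c * ((α : A) - 1) * (p * t + q * e) =
          (c * p) * (((α : A) - 1) * t) + (-(c * q * (α : A))) * (((β : A) - 1) * e) := by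
        rw [hb]
        have h3 : c * ((α : A) - 1) * (p * t + q * e) - ((c * p) * (((α : A) - 1) * t) + (-(c * q * (α : A))) * ((-(β : A) * ((α : A) - 1)) * e)) = c * q * e * ((α : A) - 1) * (1 - (α : A) * β) := by ring
        rw [hab, sub_self, mul_zero, sub_eq_zero] at h3
        exact h3
      rw [this]
      exact Ideal.add_mem _ (Ideal.mul_mem_left _ _ (Ideal.subset_span (Set.mem_insert _ _)))
        (Ideal.mul_mem_left _ _ (Ideal.subset_span (Set.mem_insert_of_mem _ rfl)))

end Node

end Groth.Agent.Lib.Helper83.ArLefH
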