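import Groth.Agent.Lib.Helper83.ArLefH

set_option autoImplicit false
set_option linter.unusedSectionVars false
universe u

namespace Groth.Agent.Lib.Helper83.ArLefH

open Groth.Agent.Lib.Helper83.ArLefG

variable {A : Type u} [CommRing A] [IsDomain A] [IsNoetherianRing A] [IsLocalRing A]
variable {t e : A} {S : Set A}

namespace Node

theorem mem_sq_iff (x : A) : x ∈ Ideal.span ({t, e} : Set A) ^ 2 ↔
    ∃ a1 a2 a3 : A, x = a1 * (t * t) + a2 * (t * e) + a3 * (e * e) := by
  rw [pow_two, Ideal.span_pair_mul_span_pair]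
  constructor
  · intro h
    rw [Ideal.mem_span_insert] at h
    obtain ⟨a1, z1, hz1, rfl⟩ := h
    rw [Ideal.mem_span_insert] at hz1
    obtain ⟨a2, z2, hz2, rfl⟩ := hz1
    rw [Ideal.mem_span_pair] at hz2
    obtain ⟨a3, a4, rfl⟩ := hz2
    exact ⟨a1, a2 + a3, a4, by ring⟩
  · rintro ⟨a1, a2, a3, rfl⟩
    refine Ideal.add_mem _ (Ideal.add_mem _ ?_ ?_) ?_
    · exact Ideal.mul_mem_left _ _ (Ideal.subset_span (by simp))
    · exact Ideal.mul_mem_left _ _ (Ideal.subset_span (by simp))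
    · exact Ideal.mul_mem_left _ _ (Ideal.subset_span (by simp))

theorem not_mem_sq (nd : Node t e S) (α : Aˣ) :
    (α : A) * e - t ∉ Ideal.span ({t, e} : Set A) ^ 2 := by
  rw [mem_sq_iff]
  rintro ⟨a1, a2, a3, h⟩
  have h1 : t * (1 + (a1 * t + a2 * e)) = e * ((α : A) - a3 * e) := by linear_combination (-1 : A) * h
  have hu : IsUnit (1 + (a1 * t + a2 * e)) := nd.isUnit_one_add
    (Ideal.add_mem _ (Ideal.mul_mem_left _ _ nd.t_mem) (Ideal.mul_mem_left _ _ nd.e_mem))
  have h2 : e ∣ t * (1 + (a1 * t + a2 * e)) := ⟨_, h1⟩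
  rcases nd.ep.dvd_or_dvd h2 with h3 | h3
  · exact nd.het h3
  · exact nd.ep.not_isUnit (isUnit_of_dvd_unit h3 hu)

theorem not_t_dvd_unit_mul_e_sub (nd : Node t e S) (α : Aˣ) : ¬ t ∣ (α : A) * e - t := by
  intro h
  have h1 : t ∣ (α : A) * e := by
    have := dvd_add h (dvd_refl t)
    simpa using this
  rcases nd.tp.dvd_or_dvd h1 with h2 | h2
  · exact nd.tp.not_isUnit (isUnit_of_dvd_unit h2 α.isUnit)
  · exact nd.hte h2

theorem not_e_dvd_unit_mul_e_sub (nd : Node t e S) (α : Aˣ) : ¬ e ∣ (α : A) * e - t := by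
  intro h
  have h1 : e ∣ t := by
    have := dvd_sub (Dvd.intro_left (α : A) rfl : e ∣ (α : A) * e) h
    simpa using this
  exact nd.het h1

/-- the switching case with trivial action on coefficients. -/
theorem switch_fix (nd : Node t e S) (σ : A →+* A) (hS : ∀ c ∈ S, σ c = c) (hp : t * e ∈ S)
    (α β : Aˣ) (hα : σ t = α * e) (hβ : σ e = β * t) :
    ∃ h : A, ArLef.fixIdeal σ = Ideal.span {h} ∧ h ∉ Ideal.span ({t, e} : Set A) ^ 2 ∧
      IsSMulRegular (A ⧸ Ideal.span ({h} : Set A)) (t * e) := by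
  have hab : (α : A) * β = 1 := by
    have h1 := hS _ hp
    rw [map_mul, hα, hβ] at h1
    apply mul_right_cancel₀ nd.te_ne_zero
    linear_combination h1
  have hb : (β : A) * t - e = -(β : A) * ((α : A) * e - t) := by
    linear_combination e * hab
  refine ⟨(α : A) * e - t, ?_, nd.not_mem_sq α, ?_⟩
  · apply le_antisymm
    · apply nd.fix_le
      · rw [hα]; exact Ideal.mem_span_singleton_self _
      · rw [hβ, hb]; exact Ideal.mul_mem_left _ _ (Ideal.mem_span_singleton_self _)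
      · intro c hc
        rw [hS c hc, sub_self]; exact Ideal.zero_mem _
    · rw [Ideal.span_le, Set.singleton_subset_iff]
      have := sub_mem_fixIdeal σ t
      rwa [hα] at this
  · exact (regular_of_prime nd.tp (nd.not_t_dvd_unit_mul_e_sub α)).mul
      (regular_of_prime nd.ep (nd.not_e_dvd_unit_mul_e_sub α))

end Node

end Groth.Agent.Lib.Helper83.ArLefH
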