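import Groth.Agent.Lib.Helper83.ArLefH2

set_option autoImplicit false
set_option linter.unusedSectionVars false
universe u

namespace Groth.Agent.Lib.Helper83.ArLefH

open Groth.Agent.Lib.Helper83.ArLefG

variable {A : Type u} [CommRing A] [IsDomain A] [IsNoetherianRing A] [IsLocalRing A]
variable {t e : A} {S : Set A}

namespace Node

theorem isUnit_of_dvd_prime_pow {p h : A} (hp : Prime p) (hph : ¬ p ∣ h) (n : ℕ) (hd : h ∣ p ^ n) :
    IsUnit h := by
  obtain ⟨y, hy⟩ := hd
  have h1 : p ^ n ∣ y := hp.pow_dvd_of_dvd_mul_left n hph ⟨1, by rw [mul_one, hy]⟩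
  obtain ⟨y', rfl⟩ := h1
  have h2 : p ^ n * 1 = p ^ n * (h * y') := by linear_combination hy
  have h3 := mul_left_cancel₀ (pow_ne_zero n hp.ne_zero) h2
  exact IsUnit.of_mul_eq_one _ h3.symm

theorem mem_max_iff (nd : Node t e S) (x : A) : x ∈ IsLocalRing.maximalIdeal A ↔ ¬ IsUnit x := Iff.rfl

/-- the switching case over a wildly ramified base: length `2j - 1`. -/
theorem switch_len (nd : Node t e S) (σ : A →+* A) (j : ℕ) (hj : 1 ≤ j) (γ : A) (hγ : IsUnit γ)
    (hσS : ∀ c ∈ S, σ c - c ∈ Ideal.span ({(t * e) ^ j} : Set A))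
    (hσp : σ (t * e) = t * e + γ * (t * e) ^ j)
    (α β : Aˣ) (hα : σ t = α * e) (hβ : σ e = β * t) :
    (∀ g : A, ArLef.fixIdeal σ ≤ Ideal.span ({g} : Set A) → IsUnit g) ∧
      ell (ArLef.fixIdeal σ) = ((2 * j - 1 : ℕ) : ℕ∞) := by
  obtain ⟨k, rfl⟩ : ∃ k, j = k + 1 := ⟨j - 1, by omega⟩
  set p := t * e with hp
  set h := (α : A) * e - t with hh
  have hab : (α : A) * β = 1 + γ * p ^ k := by
    have h1 := hσp
    rw [map_mul, hα, hβ] at h1
    apply mul_right_cancel₀ nd.te_ne_zero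
    rw [← hp]
    linear_combination h1
  have hb : (β : A) * t - e = -(β : A) * h + γ * (p ^ k * e) := by
    rw [hh]; linear_combination e * hab
  -- p ≡ α e^2 mod h
  have hpe : h ∣ p - (α : A) * e ^ 2 := ⟨-e, by rw [hh, hp]; ring⟩
  have hpk : h ∣ p ^ k - ((α : A) * e ^ 2) ^ k := dvd_trans hpe (sub_dvd_pow_sub_pow _ _ k)
  have hpke : h ∣ p ^ k * e - (α : A) ^ k * e ^ (2 * k + 1) := by
    obtain ⟨z, hz⟩ := hpk
    refine ⟨z * e, ?_⟩
    have e1 : ((α : A) * e ^ 2) ^ k = (α : A) ^ k * e ^ (2 * k) := by rw [mul_pow, ← pow_mul]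
    have : p ^ k * e - (α : A) ^ k * e ^ (2 * k + 1) = (p ^ k - ((α : A) * e ^ 2) ^ k) * e := by
      rw [e1, pow_succ]; ring
    rw [this, hz]; ring
  have hfix : ArLef.fixIdeal σ = Ideal.span ({e ^ (2 * k + 1), h} : Set A) := by
    have hhJ : h ∈ Ideal.span ({e ^ (2 * k + 1), h} : Set A) := Ideal.subset_span (by simp)
    have heJ : e ^ (2 * k + 1) ∈ Ideal.span ({e ^ (2 * k + 1), h} : Set A) := Ideal.subset_span (by simp)
    have hpkeJ : p ^ k * e ∈ Ideal.span ({e ^ (2 * k + 1), h} : Set A) := by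
      obtain ⟨z, hz⟩ := hpke
      have : p ^ k * e = (α : A) ^ k * e ^ (2 * k + 1) + h * z := by rw [← hz]; ring
      rw [this]
      exact Ideal.add_mem _ (Ideal.mul_mem_left _ _ heJ) (Ideal.mul_mem_right _ _ hhJ)
    have hpjJ : p ^ (k + 1) ∈ Ideal.span ({e ^ (2 * k + 1), h} : Set A) := by
      have : p ^ (k + 1) = t * (p ^ k * e) := by rw [pow_succ, hp]; ring
      rw [this]; exact Ideal.mul_mem_left _ _ hpkeJ
    apply le_antisymm
    · apply nd.fix_le
      · rw [hα]; exact hhJ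
      · rw [hβ, hb]
        exact Ideal.add_mem _ (Ideal.mul_mem_left _ _ hhJ) (Ideal.mul_mem_left _ _ hpkeJ)
      · intro c hc
        obtain ⟨z, hz⟩ := Ideal.mem_span_singleton'.mp (hσS c hc)
        rw [← hz]; exact Ideal.mul_mem_left _ _ hpjJ
    · have hhF : h ∈ ArLef.fixIdeal σ := by
        have := sub_mem_fixIdeal σ t
        rwa [hα] at this
      have hpF : p ^ (k + 1) ∈ ArLef.fixIdeal σ := by
        have h1 := sub_mem_fixIdeal σ p
        rw [hσp, add_sub_cancel_left] at h1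
        obtain ⟨γ', hγ'⟩ := hγ.exists_left_inv
        have h2 := Ideal.mul_mem_left _ γ' h1
        rwa [← mul_assoc, hγ', one_mul] at h2
      have heF : (β : A) * t - e ∈ ArLef.fixIdeal σ := by
        have := sub_mem_fixIdeal σ e
        rwa [hβ] at this
      have hpkeF : p ^ k * e ∈ ArLef.fixIdeal σ := by
        obtain ⟨γ', hγ'⟩ := hγ.exists_left_inv
        have h1 : γ * (p ^ k * e) ∈ ArLef.fixIdeal σ := by
          have : γ * (p ^ k * e) = ((β : A) * t - e) + (β : A) * h := by rw [hb]; ring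
          rw [this]
          exact Ideal.add_mem _ heF (Ideal.mul_mem_left _ _ hhF)
        have h2 := Ideal.mul_mem_left _ γ' h1
        rwa [← mul_assoc, hγ', one_mul] at h2
      rw [Ideal.span_le]
      rintro x (rfl | rfl)
      · obtain ⟨z, hz⟩ := hpke
        have h3 : (α : A) ^ k * e ^ (2 * k + 1) ∈ ArLef.fixIdeal σ := by
          have : (α : A) ^ k * e ^ (2 * k + 1) = p ^ k * e - h * z := by rw [← hz]; ring
          rw [this]
          exact Ideal.sub_mem _ hpkeF (Ideal.mul_mem_right _ _ hhF)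
        have h4 := Ideal.mul_mem_left _ (((α⁻¹ : Aˣ) : A) ^ k) h3
        have h5 : (((α⁻¹ : Aˣ) : A)) ^ k * ((α : A) ^ k * e ^ (2 * k + 1)) = e ^ (2 * k + 1) := by
          rw [← mul_assoc, ← mul_pow, Units.inv_mul, one_pow, one_mul]
        rwa [h5] at h4
      · exact hhF
  have hnt : ¬ t ∣ h := nd.not_t_dvd_unit_mul_e_sub α
  have hne : ¬ e ∣ h := nd.not_e_dvd_unit_mul_e_sub α
  have hhm : h ∈ IsLocalRing.maximalIdeal A :=
    Ideal.sub_mem _ (Ideal.mul_mem_left _ _ nd.e_mem) nd.t_mem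
  constructor
  · intro g hg
    by_contra hgu
    have hgm : g ∈ IsLocalRing.maximalIdeal A := hgu
    have hhg : h ∈ Ideal.span ({g} : Set A) := hg (by rw [hfix]; exact Ideal.subset_span (by simp))
    obtain ⟨c, hc⟩ := Ideal.mem_span_singleton'.mp hhg
    have hcu : IsUnit c := by
      by_contra hcu
      have hcm : c ∈ IsLocalRing.maximalIdeal A := hcu
      apply nd.not_mem_sq α
      rw [← hh, ← hc, pow_two]
      rw [nd.max] at hcm hgm
      exact Ideal.mul_mem_mul hcm hgm
    have heg : e ^ (2 * k + 1) ∈ Ideal.span ({g} : Set A) :=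
      hg (by rw [hfix]; exact Ideal.subset_span (by simp))
    obtain ⟨d, hd⟩ := Ideal.mem_span_singleton'.mp heg
    obtain ⟨c', hc'⟩ := hcu.exists_left_inv
    have hdvd : h ∣ e ^ (2 * k + 1) := by
      refine ⟨d * c', ?_⟩
      rw [← hd, ← hc]
      have : c * g * (d * c') = d * g * (c' * c) := by ring
      rw [this, hc', mul_one]
    exact ((IsLocalRing.mem_maximalIdeal _).mp hhm) (isUnit_of_dvd_prime_pow nd.ep hne _ hdvd)
  · rw [hfix]
    have h1 : (2 * (k + 1) - 1 : ℕ) = 2 * k + 1 := by omega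
    rw [h1, ell_pow_pair e h (2 * k + 1) (regular_of_prime nd.ep hne)]
    have h2 : Ideal.span ({e, h} : Set A) = Ideal.span ({e, t} : Set A) := by
      apply le_antisymm
      · rw [Ideal.span_le]
        rintro x (rfl | rfl)
        · exact Ideal.subset_span (by simp)
        · exact Ideal.sub_mem _ (Ideal.mul_mem_left _ _ (Ideal.subset_span (by simp))) (Ideal.subset_span (by simp))
      · rw [Ideal.span_le]
        rintro x (rfl | rfl)
        · exact Ideal.subset_span (by simp)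
        · have : x = (α : A) * e - h := by rw [hh]; ring
          rw [this]
          exact Ideal.sub_mem _ (Ideal.mul_mem_left _ _ (Ideal.subset_span (by simp))) (Ideal.subset_span (by simp))
    rw [h2, nd.ell_et, mul_one]

end Node

end Groth.Agent.Lib.Helper83.ArLefH
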