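import Groth.Agent.Lib.Helper83.ArLefH3

set_option autoImplicit false
set_option linter.unusedSectionVars false
universe u

namespace Groth.Agent.Lib.Helper83.ArLefH

open Groth.Agent.Lib.Helper83.ArLefG

variable {A : Type u} [CommRing A] [IsDomain A] [IsNoetherianRing A] [IsLocalRing A]
variable {t e : A} {S : Set A}

namespace Node

theorem mem_span_triple {x a b c : A} : x ∈ Ideal.span ({a, b, c} : Set A) ↔
    ∃ p q r : A, x = p * a + q * b + r * c := by
  constructor
  · intro h
    rw [Ideal.mem_span_insert] at h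
    obtain ⟨p, z, hz, rfl⟩ := h
    rw [Ideal.mem_span_pair] at hz
    obtain ⟨q, r, rfl⟩ := hz
    exact ⟨p, q, r, by ring⟩
  · rintro ⟨p, q, r, rfl⟩
    exact Ideal.add_mem _ (Ideal.add_mem _ (Ideal.mul_mem_left _ _ (Ideal.subset_span (by simp)))
      (Ideal.mul_mem_left _ _ (Ideal.subset_span (by simp))))
      (Ideal.mul_mem_left _ _ (Ideal.subset_span (by simp)))

/-- the key length computation for an ideal `(a t, b e, t^m e^n)`. -/
theorem ell_key (nd : Node t e S) (a b c : A) (α : Aˣ) (m' n' : ℕ)
    (hR : b * (α : A) = c * t ^ m' * e ^ n' - a) (htb : ¬ t ∣ b) (hea : ¬ e ∣ a) :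
    ell (Ideal.span ({a * t, b * e, t ^ (m' + 1) * e ^ (n' + 1)} : Set A)) =
      1 + ((m' + 1 : ℕ) : ℕ∞) * ell (Ideal.span ({t, b} : Set A)) +
        ((n' + 1 : ℕ) : ℕ∞) * ell (Ideal.span ({e, a} : Set A)) := by
  set I' := Ideal.span ({a * t, b * e, t ^ (m' + 1) * e ^ (n' + 1)} : Set A) with hI'
  have hbe : b * e = ((α⁻¹ : Aˣ) : A) * c * (t ^ m' * e ^ (n' + 1)) - ((α⁻¹ : Aˣ) : A) * e * a := by
    have h1 : b = ((α⁻¹ : Aˣ) : A) * (c * t ^ m' * e ^ n' - a) := by
      rw [← hR]
      have : ((α⁻¹ : Aˣ) : A) * (b * (α : A)) = b * (((α⁻¹ : Aˣ) : A) * (α : A)) := by ring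
      rw [this, Units.inv_mul, mul_one]
    conv_lhs => rw [h1]
    rw [pow_succ]; ring
  -- step 2
  have h2 : I' ⊔ Ideal.span {t} = Ideal.span ({e * b, t} : Set A) := by
    apply le_antisymm
    · rw [sup_le_iff]
      constructor
      · rw [hI', Ideal.span_le]
        rintro x (rfl | rfl | rfl)
        · exact Ideal.mul_mem_left _ _ (Ideal.subset_span (by simp))
        · rw [mul_comm]; exact Ideal.subset_span (by simp)
        · have : t ^ (m' + 1) * e ^ (n' + 1) = (t ^ m' * e ^ (n' + 1)) * t := by rw [pow_succ]; ring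
          rw [this]; exact Ideal.mul_mem_left _ _ (Ideal.subset_span (by simp))
      · rw [Ideal.span_le, Set.singleton_subset_iff]; exact Ideal.subset_span (by simp)
    · rw [Ideal.span_le]
      rintro x (rfl | rfl)
      · rw [mul_comm]; exact Ideal.mem_sup_left (Ideal.subset_span (by simp))
      · exact Ideal.mem_sup_right (Ideal.mem_span_singleton_self _)
  have hl2 : ell (I' ⊔ Ideal.span {t}) = 1 + ell (Ideal.span ({t, b} : Set A)) := by
    rw [h2, ell_mul_pair e b t (regular_of_prime nd.ep nd.het), nd.ell_et, Set.pair_comm b t]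
  -- step 3
  have h3 : I'.colon {t} = Ideal.span ({t ^ m' * e ^ (n' + 1), a} : Set A) := by
    apply le_antisymm
    · intro x hx
      rw [Submodule.mem_colon_singleton, smul_eq_mul, hI', mem_span_triple] at hx
      obtain ⟨p, q, r, hpqr⟩ := hx
      have hd : t ∣ q * (b * e) := by
        refine ⟨x - p * a - r * (t ^ m' * e ^ (n' + 1)), ?_⟩
        have : t ^ (m' + 1) = t ^ m' * t := pow_succ _ _
        rw [this] at hpqr
        linear_combination (-1 : A) * hpqr
      have hq : t ∣ q := by
        rcases nd.tp.dvd_or_dvd hd with h | h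
        · exact h
        · rcases nd.tp.dvd_or_dvd h with h' | h'
          · exact absurd h' htb
          · exact absurd h' nd.hte
      obtain ⟨q', rfl⟩ := hq
      have hx' : x = p * a + q' * (b * e) + r * (t ^ m' * e ^ (n' + 1)) := by
        apply mul_right_cancel₀ nd.tp.ne_zero
        rw [hpqr, pow_succ]; ring
      rw [hx', hbe]
      have ha' : a ∈ Ideal.span ({t ^ m' * e ^ (n' + 1), a} : Set A) := Ideal.subset_span (by simp)
      have hT : t ^ m' * e ^ (n' + 1) ∈ Ideal.span ({t ^ m' * e ^ (n' + 1), a} : Set A) :=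
        Ideal.subset_span (by simp)
      refine Ideal.add_mem _ (Ideal.add_mem _ (Ideal.mul_mem_left _ _ ha') ?_) (Ideal.mul_mem_left _ _ hT)
      exact Ideal.mul_mem_left _ _ (Ideal.sub_mem _ (Ideal.mul_mem_left _ _ hT) (Ideal.mul_mem_left _ _ ha'))
    · rw [Ideal.span_le]
      rintro x (rfl | rfl)
      · rw [SetLike.mem_coe, Submodule.mem_colon_singleton, smul_eq_mul]
        have : t ^ m' * e ^ (n' + 1) * t = t ^ (m' + 1) * e ^ (n' + 1) := by rw [pow_succ]; ring
        rw [this]; exact Ideal.subset_span (by simp)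
      · rw [SetLike.mem_coe, Submodule.mem_colon_singleton, smul_eq_mul]
        exact Ideal.subset_span (by simp)
  -- step 4
  have hl4 : ell (Ideal.span ({t ^ m' * e ^ (n' + 1), a} : Set A)) =
      (m' : ℕ∞) * ell (Ideal.span ({t, b} : Set A)) +
        ((n' + 1 : ℕ) : ℕ∞) * ell (Ideal.span ({e, a} : Set A)) := by
    have hereg : IsSMulRegular (A ⧸ Ideal.span ({a} : Set A)) e := regular_of_prime nd.ep hea
    rcases Nat.eq_zero_or_pos m' with hm | hm
    · subst hm
      rw [pow_zero, one_mul, Nat.cast_zero, zero_mul, zero_add, ell_pow_pair e a _ hereg]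
    · have hta : ¬ t ∣ a := by
        intro hta
        have h1 : t ∣ b * (α : A) := by
          rw [hR]
          refine dvd_sub ?_ hta
          obtain ⟨m'', rfl⟩ : ∃ m'', m' = m'' + 1 := ⟨m' - 1, by omega⟩
          exact ⟨c * t ^ m'' * e ^ n', by rw [pow_succ]; ring⟩
        rcases nd.tp.dvd_or_dvd h1 with h | h
        · exact htb h
        · exact nd.tp.not_isUnit (isUnit_of_dvd_unit h α.isUnit)
      have htreg : IsSMulRegular (A ⧸ Ideal.span ({a} : Set A)) t := regular_of_prime nd.tp hta
      have hspan : Ideal.span ({t, a} : Set A) = Ideal.span ({t, b} : Set A) := by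
        obtain ⟨m'', rfl⟩ : ∃ m'', m' = m'' + 1 := ⟨m' - 1, by omega⟩
        apply le_antisymm
        · rw [Ideal.span_le]
          rintro x (rfl | rfl)
          · exact Ideal.subset_span (by simp)
          · have : x = (c * t ^ m'' * e ^ n') * t - (α : A) * b := by
              have := hR; rw [pow_succ] at this; linear_combination this
            rw [this]
            exact Ideal.sub_mem _ (Ideal.mul_mem_left _ _ (Ideal.subset_span (by simp)))
              (Ideal.mul_mem_left _ _ (Ideal.subset_span (by simp)))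
        · rw [Ideal.span_le]
          rintro x (rfl | rfl)
          · exact Ideal.subset_span (by simp)
          · have h1 : x = ((α⁻¹ : Aˣ) : A) * (c * t ^ (m'' + 1) * e ^ n' - a) := by
              rw [← hR]
              have : ((α⁻¹ : Aˣ) : A) * (x * (α : A)) = x * (((α⁻¹ : Aˣ) : A) * (α : A)) := by ring
              rw [this, Units.inv_mul, mul_one]
            rw [h1]
            refine Ideal.mul_mem_left _ _ (Ideal.sub_mem _ ?_ (Ideal.subset_span (by simp)))
            have : c * t ^ (m'' + 1) * e ^ n' = (c * t ^ m'' * e ^ n') * t := by rw [pow_succ]; ring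
            rw [this]
            exact Ideal.mul_mem_left _ _ (Ideal.subset_span (by simp))
      rw [ell_mul_pair (t ^ m') (e ^ (n' + 1)) a (htreg.pow m'), ell_pow_pair t a m' htreg,
        ell_pow_pair e a _ hereg, hspan]
  rw [ell_colon_add I' t, h3, hl4, hl2]
  push_cast
  ring

end Node

end Groth.Agent.Lib.Helper83.ArLefH
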