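import Groth.Agent.Lib.Helper83.ArLefH4

set_option autoImplicit false
set_option linter.unusedSectionVars false
universe u

namespace Groth.Agent.Lib.Helper83.ArLefH

open Groth.Agent.Lib.Helper83.ArLefG

variable {A : Type u} [CommRing A] [IsDomain A] [IsNoetherianRing A] [IsLocalRing A]
variable {t e : A} {S : Set A}

namespace Node

theorem stab_fixIdeal (nd : Node t e S) (σ : A →+* A) (k : ℕ) (γ : A) (hγ : IsUnit γ)
    (hσS : ∀ c ∈ S, σ c - c ∈ Ideal.span ({(t * e) ^ (k + 1)} : Set A))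
    (hσp : σ (t * e) = t * e + γ * (t * e) ^ (k + 1))
    (α β : Aˣ) (hα : σ t = α * t) (hβ : σ e = β * e) :
    ArLef.fixIdeal σ = Ideal.span ({((α : A) - 1) * t, ((β : A) - 1) * e, (t * e) ^ (k + 1)} : Set A) ∧
      (α : A) * β = 1 + γ * (t * e) ^ k := by
  have hab : (α : A) * β = 1 + γ * (t * e) ^ k := by
    have h1 := hσp
    rw [map_mul, hα, hβ] at h1
    apply mul_right_cancel₀ nd.te_ne_zero
    rw [pow_succ] at h1
    linear_combination h1
  refine ⟨?_, hab⟩
  apply le_antisymm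
  · apply nd.fix_le
    · rw [hα]
      have : (α : A) * t - t = ((α : A) - 1) * t := by ring
      rw [this]; exact Ideal.subset_span (by simp)
    · rw [hβ]
      have : (β : A) * e - e = ((β : A) - 1) * e := by ring
      rw [this]; exact Ideal.subset_span (by simp)
    · intro c hc
      obtain ⟨z, hz⟩ := Ideal.mem_span_singleton'.mp (hσS c hc)
      rw [← hz]; exact Ideal.mul_mem_left _ _ (Ideal.subset_span (by simp))
  · rw [Ideal.span_le]
    rintro x (rfl | rfl | rfl)
    · have := sub_mem_fixIdeal σ t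
      rw [hα] at this
      have h2 : (α : A) * t - t = ((α : A) - 1) * t := by ring
      rwa [h2] at this
    · have := sub_mem_fixIdeal σ e
      rw [hβ] at this
      have h2 : (β : A) * e - e = ((β : A) - 1) * e := by ring
      rwa [h2] at this
    · have h1 := sub_mem_fixIdeal σ (t * e)
      rw [hσp, add_sub_cancel_left] at h1
      obtain ⟨γ', hγ'⟩ := hγ.exists_left_inv
      have h2 := Ideal.mul_mem_left _ γ' h1
      rwa [← mul_assoc, hγ', one_mul] at h2

/-- the stabilizing case over a wildly ramified base, branches outside the divisorial part. -/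
theorem stab_len (nd : Node t e S) (σ : A →+* A) (j : ℕ) (hj : 1 ≤ j) (γ : A) (hγ : IsUnit γ)
    (hσS : ∀ c ∈ S, σ c - c ∈ Ideal.span ({(t * e) ^ j} : Set A))
    (hσp : σ (t * e) = t * e + γ * (t * e) ^ j)
    (α β : Aˣ) (hα : σ t = α * t) (hβ : σ e = β * e)
    (htb : ¬ t ∣ (β : A) - 1) (hea : ¬ e ∣ (α : A) - 1) :
    ell (ArLef.fixIdeal σ) = (j : ℕ∞) * (ell (Ideal.span ({t, (β : A) - 1} : Set A)) +
      ell (Ideal.span ({e, (α : A) - 1} : Set A))) + 1 := by
  obtain ⟨k, rfl⟩ : ∃ k, j = k + 1 := ⟨j - 1, by omega⟩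
  obtain ⟨hfix, hab⟩ := nd.stab_fixIdeal σ k γ hγ hσS hσp α β hα hβ
  have hR : ((β : A) - 1) * (α : A) = γ * t ^ k * e ^ k - ((α : A) - 1) := by
    rw [mul_pow] at hab
    linear_combination hab
  have := nd.ell_key ((α : A) - 1) ((β : A) - 1) γ α k k hR htb hea
  rw [hfix, mul_pow, this]
  push_cast
  ring

/-- the stabilizing case with a divisorial part `t^i₁ e^i₂`. -/
theorem stab_len_colon (nd : Node t e S) (σ : A →+* A) (j i₁ i₂ : ℕ) (h1j : i₁ < j) (h2j : i₂ < j)
    (γ : A) (hγ : IsUnit γ)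
    (hσS : ∀ c ∈ S, σ c - c ∈ Ideal.span ({(t * e) ^ j} : Set A))
    (hσp : σ (t * e) = t * e + γ * (t * e) ^ j)
    (α β : Aˣ) (hα : σ t = α * t) (hβ : σ e = β * e) (a b : A)
    (ha : (α : A) - 1 = t ^ i₁ * e ^ i₂ * a) (hb : (β : A) - 1 = t ^ i₁ * e ^ i₂ * b)
    (hea : ¬ e ∣ a) (htb : ¬ t ∣ b) :
    ell ((ArLef.fixIdeal σ).colon ({t ^ i₁ * e ^ i₂} : Set A)) =
      1 + ((j - i₁ : ℕ) : ℕ∞) * ell (Ideal.span ({t, b} : Set A)) +
        ((j - i₂ : ℕ) : ℕ∞) * ell (Ideal.span ({e, a} : Set A)) := by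
  obtain ⟨k, rfl⟩ : ∃ k, j = k + 1 := ⟨j - 1, by omega⟩
  obtain ⟨m', hm'⟩ : ∃ m', k = i₁ + m' := ⟨k - i₁, by omega⟩
  obtain ⟨n', hn'⟩ : ∃ n', k = i₂ + n' := ⟨k - i₂, by omega⟩
  obtain ⟨hfix, hab⟩ := nd.stab_fixIdeal σ k γ hγ hσS hσp α β hα hβ
  set D := t ^ i₁ * e ^ i₂ with hD
  have hD0 : D ≠ 0 := mul_ne_zero (pow_ne_zero _ nd.tp.ne_zero) (pow_ne_zero _ nd.ep.ne_zero)
  have hk1 : t ^ k = t ^ i₁ * t ^ m' := by rw [hm', pow_add]
  have hk2 : e ^ k = e ^ i₂ * e ^ n' := by rw [hn', pow_add]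
  have hpk : (t * e) ^ k = D * (t ^ m' * e ^ n') := by
    rw [mul_pow, hk1, hk2, hD]; ring
  clear_value D
  have hR : b * (α : A) = γ * t ^ m' * e ^ n' - a := by
    apply mul_left_cancel₀ hD0
    have h1 : (α : A) = 1 + D * a := by linear_combination ha
    have h2 : (β : A) = 1 + D * b := by linear_combination hb
    rw [hpk, h2] at hab
    linear_combination hab - h1
  have hI : Ideal.span ({((α : A) - 1) * t, ((β : A) - 1) * e, (t * e) ^ (k + 1)} : Set A) =
      Ideal.span {D} * Ideal.span ({a * t, b * e, t ^ (m' + 1) * e ^ (n' + 1)} : Set A) := by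
    have hp1 : (t * e) ^ (k + 1) = D * (t ^ (m' + 1) * e ^ (n' + 1)) := by
      rw [pow_succ, hpk, pow_succ, pow_succ]; ring
    apply le_antisymm
    · rw [Ideal.span_le]
      rintro x (rfl | rfl | rfl)
      · rw [ha]
        have : D * a * t = D * (a * t) := by ring
        rw [this]
        exact Ideal.mul_mem_mul (Ideal.mem_span_singleton_self _) (Ideal.subset_span (by simp))
      · rw [hb]
        have : D * b * e = D * (b * e) := by ring
        rw [this]
        exact Ideal.mul_mem_mul (Ideal.mem_span_singleton_self _) (Ideal.subset_span (by simp))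
      · rw [SetLike.mem_coe, hp1]
        exact Ideal.mul_mem_mul (Ideal.mem_span_singleton_self _) (Ideal.subset_span (by simp))
    · rw [Ideal.mul_le]
      intro r hr s hs
      obtain ⟨c, rfl⟩ := Ideal.mem_span_singleton'.mp hr
      obtain ⟨p, q, w, rfl⟩ := mem_span_triple.mp hs
      have : c * D * (p * (a * t) + q * (b * e) + w * (t ^ (m' + 1) * e ^ (n' + 1))) =
          (c * p) * (((α : A) - 1) * t) + (c * q) * (((β : A) - 1) * e) + (c * w) * ((t * e) ^ (k + 1)) := by
        rw [ha, hb, hp1]; ring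
      rw [this]
      exact Ideal.add_mem _ (Ideal.add_mem _ (Ideal.mul_mem_left _ _ (Ideal.subset_span (by simp)))
        (Ideal.mul_mem_left _ _ (Ideal.subset_span (by simp))))
        (Ideal.mul_mem_left _ _ (Ideal.subset_span (by simp)))
  rw [hfix, hI, colon_mul_singleton D hD0, nd.ell_key a b γ α m' n' hR htb hea]
  have e1 : k + 1 - i₁ = m' + 1 := by omega
  have e2 : k + 1 - i₂ = n' + 1 := by omega
  rw [e1, e2]

end Node

end Groth.Agent.Lib.Helper83.ArLefH
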