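import Groth.Agent.Lib.Helper83.ArLefH5

set_option autoImplicit false
set_option linter.unusedSectionVars false
universe u

namespace Groth.Agent.Lib.Helper83.ArLefH

open Groth.Agent.Lib.Helper83.ArLefG

variable {A : Type u} [CommRing A] [IsDomain A] [IsNoetherianRing A] [IsLocalRing A]
variable {t e : A} {S : Set A}

namespace Node

/-- second key length computation: the ideal `(a t, b, t^(m'+1))` with `e a β + b = γ t^m'`. -/
theorem ell_key2 (nd : Node t e S) (a b γ : A) (hγ : IsUnit γ) (β : Aˣ) (m' : ℕ)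
    (hR : e * a * (β : A) + b = γ * t ^ m') (htb : ¬ t ∣ b) :
    ell (Ideal.span ({a * t, b, t ^ (m' + 1)} : Set A)) + (m' : ℕ∞) =
      ((m' + 1 : ℕ) : ℕ∞) * ell (Ideal.span ({t, b} : Set A)) := by
  obtain ⟨γ', hγ'⟩ := hγ.exists_left_inv
  set K := Ideal.span ({t ^ (m' + 1), b} : Set A) with hK
  have htreg : IsSMulRegular (A ⧸ Ideal.span ({b} : Set A)) t := regular_of_prime nd.tp htb
  have hlK : ell K = ((m' + 1 : ℕ) : ℕ∞) * ell (Ideal.span ({t, b} : Set A)) :=
    ell_pow_pair t b (m' + 1) htreg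
  have hsup : K ⊔ Ideal.span {a * t} = Ideal.span ({a * t, b, t ^ (m' + 1)} : Set A) := by
    rw [hK, ← Ideal.span_union]
    congr 1
    ext x
    simp only [Set.union_singleton, Set.mem_insert_iff, Set.mem_singleton_iff]
    tauto
  have hea : e * a = ((β⁻¹ : Aˣ) : A) * (γ * t ^ m' - b) := by
    rw [← hR]
    have : ((β⁻¹ : Aˣ) : A) * (e * a * (β : A) + b - b) = e * a * (((β⁻¹ : Aˣ) : A) * (β : A)) := by ring
    rw [this, Units.inv_mul, mul_one]
  have hcolon : K.colon {a * t} = Ideal.span ({e, b} : Set A) := by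
    apply le_antisymm
    · intro x hx
      rw [Submodule.mem_colon_singleton, smul_eq_mul, hK, Ideal.mem_span_pair] at hx
      obtain ⟨p, q, hpq⟩ := hx
      have h1 : t ^ (m' + 1) * (x * γ - e * (β : A) * p) = b * (x * t + e * (β : A) * q) := by
        have h2 : x * t * (e * a * (β : A)) = e * (β : A) * (p * t ^ (m' + 1) + q * b) := by
          rw [hpq]; ring
        have h3 : e * a * (β : A) = γ * t ^ m' - b := by linear_combination hR
        rw [h3] at h2
        rw [pow_succ]
        linear_combination h2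
      have h4 : t ^ (m' + 1) ∣ x * t + e * (β : A) * q := by
        refine nd.tp.pow_dvd_of_dvd_mul_left (m' + 1) htb ⟨x * γ - e * (β : A) * p, ?_⟩
        exact h1.symm
      obtain ⟨w, hw⟩ := h4
      have h5 : x * γ - e * (β : A) * p = b * w := by
        apply mul_left_cancel₀ (pow_ne_zero (m' + 1) nd.tp.ne_zero)
        rw [h1, hw]; ring
      have h6 : x = γ' * (e * (β : A) * p + b * w) := by
        rw [← h5]
        have : γ' * (e * (β : A) * p + (x * γ - e * (β : A) * p)) = x * (γ' * γ) := by ring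
        rw [this, hγ', mul_one]
      rw [h6]
      exact Ideal.mul_mem_left _ _ (Ideal.add_mem _
        (by
          have : e * (β : A) * p = ((β : A) * p) * e := by ring
          rw [this]; exact Ideal.mul_mem_left _ _ (Ideal.subset_span (by simp)))
        (Ideal.mul_mem_right _ _ (Ideal.subset_span (by simp))))
    · rw [Ideal.span_le]
      rintro x (rfl | rfl)
      · rw [SetLike.mem_coe, Submodule.mem_colon_singleton, smul_eq_mul]
        have : x * (a * t) = ((β⁻¹ : Aˣ) : A) * γ * t ^ (m' + 1) - ((β⁻¹ : Aˣ) : A) * t * b := by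
          have : x * (a * t) = (x * a) * t := by ring
          rw [this, hea, pow_succ]; ring
        rw [this, hK]
        exact Ideal.sub_mem _ (Ideal.mul_mem_left _ _ (Ideal.subset_span (by simp)))
          (Ideal.mul_mem_left _ _ (Ideal.subset_span (by simp)))
      · rw [SetLike.mem_coe, Submodule.mem_colon_singleton, smul_eq_mul, hK]
        exact Ideal.mul_mem_right _ _ (Ideal.subset_span (by simp))
  have hspan : Ideal.span ({e, b} : Set A) = Ideal.span ({t ^ m', e} : Set A) := by
    apply le_antisymm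
    · rw [Ideal.span_le]
      rintro x (rfl | rfl)
      · exact Ideal.subset_span (by simp)
      · have : x = γ * t ^ m' - (a * (β : A)) * e := by linear_combination hR
        rw [this]
        exact Ideal.sub_mem _ (Ideal.mul_mem_left _ _ (Ideal.subset_span (by simp)))
          (Ideal.mul_mem_left _ _ (Ideal.subset_span (by simp)))
    · rw [Ideal.span_le]
      rintro x (rfl | rfl)
      · have : t ^ m' = γ' * (e * a * (β : A) + b) := by
          rw [hR, ← mul_assoc, hγ', one_mul]
        rw [this]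
        refine Ideal.mul_mem_left _ _ (Ideal.add_mem _ ?_ (Ideal.subset_span (by simp)))
        have : e * a * (β : A) = (a * (β : A)) * e := by ring
        rw [this]; exact Ideal.mul_mem_left _ _ (Ideal.subset_span (by simp))
      · exact Ideal.subset_span (by simp)
  have hl2 : ell (Ideal.span ({e, b} : Set A)) = (m' : ℕ∞) := by
    rw [hspan, ell_pow_pair t e m' (regular_of_prime nd.tp nd.hte), nd.ell_te, mul_one]
  rw [← hlK, ell_colon_add K (a * t), hcolon, hl2, hsup, add_comm]

/-- the stabilizing case with maximal divisorial part along `e`. -/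
theorem stab_len_colon2 (nd : Node t e S) (σ : A →+* A) (j i₁ : ℕ) (h1j : i₁ < j)
    (γ : A) (hγ : IsUnit γ)
    (hσS : ∀ c ∈ S, σ c - c ∈ Ideal.span ({(t * e) ^ j} : Set A))
    (hσp : σ (t * e) = t * e + γ * (t * e) ^ j)
    (α β : Aˣ) (hα : σ t = α * t) (hβ : σ e = β * e) (a b : A)
    (ha : (α : A) - 1 = t ^ i₁ * e ^ j * a) (hb : (β : A) - 1 = t ^ i₁ * e ^ (j - 1) * b)
    (htb : ¬ t ∣ b) :
    ell ((ArLef.fixIdeal σ).colon ({t ^ i₁ * e ^ j} : Set A)) + ((j - 1 - i₁ : ℕ) : ℕ∞) =
      ((j - i₁ : ℕ) : ℕ∞) * ell (Ideal.span ({t, b} : Set A)) := by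
  obtain ⟨k, rfl⟩ : ∃ k, j = k + 1 := ⟨j - 1, by omega⟩
  obtain ⟨m', hm'⟩ : ∃ m', k = i₁ + m' := ⟨k - i₁, by omega⟩
  obtain ⟨hfix, hab⟩ := nd.stab_fixIdeal σ k γ hγ hσS hσp α β hα hβ
  rw [Nat.add_sub_cancel] at hb
  set D' := t ^ i₁ * e ^ k with hD'
  have hD'0 : D' ≠ 0 := mul_ne_zero (pow_ne_zero _ nd.tp.ne_zero) (pow_ne_zero _ nd.ep.ne_zero)
  have hDD : t ^ i₁ * e ^ (k + 1) = D' * e := by rw [hD', pow_succ]; ring
  have hk1 : t ^ k = t ^ i₁ * t ^ m' := by rw [hm', pow_add]
  have hpk : (t * e) ^ k = D' * t ^ m' := by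
    rw [mul_pow, hk1, hD']; ring
  rw [hDD] at ha ⊢
  clear_value D'
  have hR : e * a * (β : A) + b = γ * t ^ m' := by
    apply mul_left_cancel₀ hD'0
    have h1 : (α : A) = 1 + D' * e * a := by linear_combination ha
    have h2 : (β : A) = 1 + D' * b := by linear_combination hb
    rw [hpk] at hab
    have h3 : D' * (e * a * (β : A) + b) = (α : A) * β - 1 := by
      rw [h1]; linear_combination (-1 : A) * h2
    rw [h3, hab]; ring
  have hp1 : (t * e) ^ (k + 1) = D' * e * t ^ (m' + 1) := by
    rw [pow_succ, hpk, pow_succ]; ring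
  have hI : Ideal.span ({((α : A) - 1) * t, ((β : A) - 1) * e, (t * e) ^ (k + 1)} : Set A) =
      Ideal.span {D' * e} * Ideal.span ({a * t, b, t ^ (m' + 1)} : Set A) := by
    apply le_antisymm
    · rw [Ideal.span_le]
      rintro x (rfl | rfl | rfl)
      · rw [ha]
        have : D' * e * a * t = D' * e * (a * t) := by ring
        rw [this]
        exact Ideal.mul_mem_mul (Ideal.mem_span_singleton_self _) (Ideal.subset_span (by simp))
      · rw [hb]
        have : D' * b * e = D' * e * b := by ring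
        rw [this]
        exact Ideal.mul_mem_mul (Ideal.mem_span_singleton_self _) (Ideal.subset_span (by simp))
      · rw [SetLike.mem_coe, hp1]
        exact Ideal.mul_mem_mul (Ideal.mem_span_singleton_self _) (Ideal.subset_span (by simp))
    · rw [Ideal.mul_le]
      intro r hr s hs
      obtain ⟨c, rfl⟩ := Ideal.mem_span_singleton'.mp hr
      obtain ⟨p, q, w, rfl⟩ := mem_span_triple.mp hs
      have : c * (D' * e) * (p * (a * t) + q * b + w * t ^ (m' + 1)) =
          (c * p) * (((α : A) - 1) * t) + (c * q) * (((β : A) - 1) * e) + (c * w) * ((t * e) ^ (k + 1)) := by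
        rw [ha, hb, hp1]; ring
      rw [this]
      exact Ideal.add_mem _ (Ideal.add_mem _ (Ideal.mul_mem_left _ _ (Ideal.subset_span (by simp)))
        (Ideal.mul_mem_left _ _ (Ideal.subset_span (by simp))))
        (Ideal.mul_mem_left _ _ (Ideal.subset_span (by simp)))
  rw [hfix, hI, colon_mul_singleton (D' * e) (mul_ne_zero hD'0 nd.ep.ne_zero)]
  have e1 : k + 1 - 1 - i₁ = m' := by omega
  have e2 : k + 1 - i₁ = m' + 1 := by omega
  rw [e1, e2]
  exact nd.ell_key2 a b γ hγ β m' hR htb

end Node

end Groth.Agent.Lib.Helper83.ArLefH
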