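import Groth.Agent.Lib.Helper83.ArLefA
import Groth.Agent.Lib.Helper83.ArLefH

set_option autoImplicit false
set_option linter.unusedSectionVars false
universe u

namespace Groth.Agent.Lib.Helper83.ArLefN

open MvPowerSeries Groth.Agent.Lib.Helper83.ArLefA Groth.Agent.Lib.Helper83.ArLefG Groth.Agent.Lib.Helper83.ArLefH

variable {B : Type u} [CommRing B] [IsDomain B] [IsDiscreteValuationRing B] (π : B)

theorem exists_decomp (x : ArLef.NodeAlg B π) :
    ∃ c ∈ Set.range (algebraMap B (ArLef.NodeAlg B π)), ∃ (g h : ArLef.NodeAlg B π),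
      x = c + ArLef.NodeAlg.t π * g + ArLef.NodeAlg.e π * h := by
  obtain ⟨F, rfl⟩ := Ideal.Quotient.mk_surjective x
  have h1 := sub_C_mem π F
  rw [mm, Ideal.mem_span_pair] at h1
  obtain ⟨g, h, hgh⟩ := h1
  refine ⟨_, ⟨constantCoeff F, rfl⟩, g, h, ?_⟩
  have h2 : algebraMap B (ArLef.NodeAlg B π) (constantCoeff F) = Ideal.Quotient.mk _ (C (constantCoeff F)) := rfl
  rw [h2]
  rw [map_sub] at hgh
  linear_combination (-1 : ArLef.NodeAlg B π) * hgh

theorem node (hπ : Irreducible π) [IsDomain (ArLef.NodeAlg B π)] [IsLocalRing (ArLef.NodeAlg B π)] :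
    Node (ArLef.NodeAlg.t π) (ArLef.NodeAlg.e π) (Set.range (algebraMap B (ArLef.NodeAlg B π))) where
  tp := t_prime π hπ
  ep := e_prime π hπ
  hte := not_t_dvd_e π hπ
  het := not_e_dvd_t π hπ
  max := maximalIdeal_eq π hπ
  dec := exists_decomp π

theorem te_mem_range : ArLef.NodeAlg.t π * ArLef.NodeAlg.e π ∈ Set.range (algebraMap B (ArLef.NodeAlg B π)) :=
  ⟨π, (t_mul_e π).symm⟩

theorem main_S15317 (hπ : Irreducible π)
    (σ : ArLef.NodeAlg B π ≃ₐ[B] ArLef.NodeAlg B π) (hσ : σ ≠ AlgEquiv.refl)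
    (ht : Associated (σ (ArLef.NodeAlg.t π)) (ArLef.NodeAlg.t π))
    (he : Associated (σ (ArLef.NodeAlg.e π)) (ArLef.NodeAlg.e π)) :
    ∃ g : ArLef.NodeAlg B π, g ≠ 0 ∧
      ArLef.fixIdeal σ = Ideal.span {g} * Ideal.span ({ArLef.NodeAlg.t π, ArLef.NodeAlg.e π} : Set (ArLef.NodeAlg B π)) := by
  haveI := isDomain π hπ
  haveI := isLocalRing π hπ
  have nd := node π hπ
  obtain ⟨u, hu⟩ := ht
  obtain ⟨w, hw⟩ := he
  have hne : ∃ x, (σ : ArLef.NodeAlg B π →+* ArLef.NodeAlg B π) x ≠ x := by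
    by_contra hcon
    push Not at hcon
    apply hσ
    ext x
    exact hcon x
  exact nd.stab_fix (σ : ArLef.NodeAlg B π →+* ArLef.NodeAlg B π)
    (by rintro c ⟨b, rfl⟩; exact σ.commutes b) (te_mem_range π) u⁻¹ w⁻¹
    (by rw [Units.eq_inv_mul_iff_mul_eq, mul_comm]; exact hu)
    (by rw [Units.eq_inv_mul_iff_mul_eq, mul_comm]; exact hw) hne

end Groth.Agent.Lib.Helper83.ArLefN
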