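import Groth.Agent.Lib.Helper83.ArLefN
import Groth.Agent.Lib.Helper83.ArLefH2

set_option autoImplicit false
set_option linter.unusedSectionVars false
universe u

namespace Groth.Agent.Lib.Helper83.ArLefN

open MvPowerSeries Groth.Agent.Lib.Helper83.ArLefA Groth.Agent.Lib.Helper83.ArLefG Groth.Agent.Lib.Helper83.ArLefH

variable {B : Type u} [CommRing B] [IsDomain B] [IsDiscreteValuationRing B] (π : B)

theorem main_S15318 (hπ : Irreducible π)
    (σ : ArLef.NodeAlg B π ≃ₐ[B] ArLef.NodeAlg B π)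
    (ht : Associated (σ (ArLef.NodeAlg.t π)) (ArLef.NodeAlg.e π))
    (he : Associated (σ (ArLef.NodeAlg.e π)) (ArLef.NodeAlg.t π)) :
    ∃ h : ArLef.NodeAlg B π, ArLef.fixIdeal σ = Ideal.span {h} ∧
      h ∉ (Ideal.span ({ArLef.NodeAlg.t π, ArLef.NodeAlg.e π} : Set (ArLef.NodeAlg B π))) ^ 2 ∧
      IsSMulRegular (ArLef.NodeAlg B π ⧸ Ideal.span ({h} : Set (ArLef.NodeAlg B π))) π := by
  haveI := isDomain π hπ
  haveI := isLocalRing π hπ
  have nd := node π hπ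
  obtain ⟨u, hu⟩ := ht
  obtain ⟨w, hw⟩ := he
  obtain ⟨h, h1, h2, h3⟩ := nd.switch_fix (σ : ArLef.NodeAlg B π →+* ArLef.NodeAlg B π)
    (by rintro c ⟨b, rfl⟩; exact σ.commutes b) (te_mem_range π) u⁻¹ w⁻¹
    (by rw [Units.eq_inv_mul_iff_mul_eq, mul_comm]; exact hu)
    (by rw [Units.eq_inv_mul_iff_mul_eq, mul_comm]; exact hw)
  refine ⟨h, h1, h2, ?_⟩
  rw [t_mul_e] at h3
  intro x y hxy
  apply h3
  simp only [algebraMap_smul]
  exact hxy

end Groth.Agent.Lib.Helper83.ArLefN
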