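import Groth.Agent.Lib.Helper83.ArLefN2
import Groth.Agent.Lib.Helper83.ArLefH3

set_option autoImplicit false
set_option linter.unusedSectionVars false
universe u

namespace Groth.Agent.Lib.Helper83.ArLefN

open MvPowerSeries Groth.Agent.Lib.Helper83.ArLefA Groth.Agent.Lib.Helper83.ArLefG Groth.Agent.Lib.Helper83.ArLefH

variable {B : Type u} [CommRing B] [IsDomain B] [IsDiscreteValuationRing B] (π : B)

theorem algebraMap_pi_pow (j : ℕ) : algebraMap B (ArLef.NodeAlg B π) (π ^ j) =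
    (ArLef.NodeAlg.t π * ArLef.NodeAlg.e π) ^ j := by
  rw [map_pow, t_mul_e]

theorem algebraMap_pi_add (j : ℕ) (γ : B) : algebraMap B (ArLef.NodeAlg B π) (π + γ * π ^ j) =
    ArLef.NodeAlg.t π * ArLef.NodeAlg.e π + algebraMap B (ArLef.NodeAlg B π) γ * (ArLef.NodeAlg.t π * ArLef.NodeAlg.e π) ^ j := by
  rw [map_add, map_mul, map_pow, t_mul_e]

theorem main_S15320 (hπ : Irreducible π)
    (j : ℕ) (hj : 1 ≤ j) (γ : B) (hγ : IsUnit γ)
    (σ : ArLef.NodeAlg B π ≃+* ArLef.NodeAlg B π)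
    (hσB : ∀ b : B, σ (algebraMap B (ArLef.NodeAlg B π) b) - algebraMap B (ArLef.NodeAlg B π) b ∈
      Ideal.span ({algebraMap B (ArLef.NodeAlg B π) (π ^ j)} : Set (ArLef.NodeAlg B π)))
    (hσπ : σ (algebraMap B (ArLef.NodeAlg B π) π) = algebraMap B (ArLef.NodeAlg B π) (π + γ * π ^ j))
    (ht : Associated (σ (ArLef.NodeAlg.t π)) (ArLef.NodeAlg.e π)) (he : Associated (σ (ArLef.NodeAlg.e π)) (ArLef.NodeAlg.t π)) :
    (∀ g : ArLef.NodeAlg B π, ArLef.fixIdeal σ ≤ Ideal.span ({g} : Set (ArLef.NodeAlg B π)) → IsUnit g) ∧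
      Module.length (ArLef.NodeAlg B π) (ArLef.NodeAlg B π ⧸ ArLef.fixIdeal σ) = ((2 * j - 1 : ℕ) : ℕ∞) := by
  haveI := isDomain π hπ
  haveI := isLocalRing π hπ
  have nd := node π hπ
  obtain ⟨u, hu⟩ := ht
  obtain ⟨w, hw⟩ := he
  exact nd.switch_len (σ : ArLef.NodeAlg B π →+* ArLef.NodeAlg B π) j hj (algebraMap B _ γ) (hγ.map _)
    (by rintro c ⟨b, rfl⟩; rw [← algebraMap_pi_pow]; exact hσB b)
    (by rw [← algebraMap_pi_add, ← t_mul_e] at *; exact hσπ) u⁻¹ w⁻¹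
    (by rw [Units.eq_inv_mul_iff_mul_eq, mul_comm]; exact hu)
    (by rw [Units.eq_inv_mul_iff_mul_eq, mul_comm]; exact hw)

end Groth.Agent.Lib.Helper83.ArLefN
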