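import Groth.Agent.Lib.Helper83.ArLefN4
import Groth.Agent.Lib.Helper83.ArLefH6

set_option autoImplicit false
set_option linter.unusedSectionVars false
universe u

namespace Groth.Agent.Lib.Helper83.ArLefN

open MvPowerSeries Groth.Agent.Lib.Helper83.ArLefA Groth.Agent.Lib.Helper83.ArLefG Groth.Agent.Lib.Helper83.ArLefH

variable {B : Type u} [CommRing B] [IsDomain B] [IsDiscreteValuationRing B] (π : B)

theorem main_S19597 (hπ : Irreducible π)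
    (j i₁ : ℕ) (h1 : i₁ < j) (γ : B) (hγ : IsUnit γ)
    (σ : ArLef.NodeAlg B π ≃+* ArLef.NodeAlg B π)
    (hσB : ∀ c : B, σ (algebraMap B (ArLef.NodeAlg B π) c) - algebraMap B (ArLef.NodeAlg B π) c ∈
      Ideal.span ({algebraMap B (ArLef.NodeAlg B π) (π ^ j)} : Set (ArLef.NodeAlg B π)))
    (hσπ : σ (algebraMap B (ArLef.NodeAlg B π) π) = algebraMap B (ArLef.NodeAlg B π) (π + γ * π ^ j))
    (α β : (ArLef.NodeAlg B π)ˣ) (ht : σ (ArLef.NodeAlg.t π) = (α : ArLef.NodeAlg B π) * ArLef.NodeAlg.t π) (he : σ (ArLef.NodeAlg.e π) = (β : ArLef.NodeAlg B π) * ArLef.NodeAlg.e π)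
    (a b : ArLef.NodeAlg B π) (ha : (α : ArLef.NodeAlg B π) - 1 = ArLef.NodeAlg.t π ^ i₁ * ArLef.NodeAlg.e π ^ j * a) (hb : (β : ArLef.NodeAlg B π) - 1 = ArLef.NodeAlg.t π ^ i₁ * ArLef.NodeAlg.e π ^ (j - 1) * b)
    (htb : ¬ (ArLef.NodeAlg.t π ∣ b)) :
    Module.length (ArLef.NodeAlg B π) (ArLef.NodeAlg B π ⧸ (ArLef.fixIdeal σ).colon ({ArLef.NodeAlg.t π ^ i₁ * ArLef.NodeAlg.e π ^ j} : Set (ArLef.NodeAlg B π))) + ((j - 1 - i₁ : ℕ) : ℕ∞) =
      ((j - i₁ : ℕ) : ℕ∞) * Module.length (ArLef.NodeAlg B π) (ArLef.NodeAlg B π ⧸ Ideal.span ({ArLef.NodeAlg.t π, b} : Set (ArLef.NodeAlg B π))) := by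
  haveI := isDomain π hπ
  haveI := isLocalRing π hπ
  have nd := node π hπ
  exact nd.stab_len_colon2 (σ : ArLef.NodeAlg B π →+* ArLef.NodeAlg B π) j i₁ h1
    (algebraMap B _ γ) (hγ.map _)
    (by rintro c ⟨b, rfl⟩; rw [← algebraMap_pi_pow]; exact hσB b)
    (by rw [← algebraMap_pi_add, ← t_mul_e] at *; exact hσπ) α β ht he a b ha hb htb

end Groth.Agent.Lib.Helper83.ArLefN
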