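import Groth.Agent.Lib.Helper83.ArLefG

set_option autoImplicit false
set_option linter.unusedSectionVars false
universe u

namespace Groth.Agent.Lib.Helper83.ArLefP

open Groth.Agent.Lib.Helper83.ArLefG

variable {B : Type u} [CommRing B] [IsDomain B] [IsDiscreteValuationRing B]

local notation "A" => PowerSeries B
local notation "k" => IsLocalRing.ResidueField B
local notation "R'" => PowerSeries (IsLocalRing.ResidueField B)

/-- reduction of coefficients. -/
noncomputable def φ : PowerSeries B →+* PowerSeries (IsLocalRing.ResidueField B) :=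
  PowerSeries.map (IsLocalRing.residue B)

theorem φ_surjective : Function.Surjective (φ (B := B)) :=
  PowerSeries.map_surjective _ IsLocalRing.residue_surjective

theorem algebraMap_eq_C (b : B) : algebraMap B (PowerSeries B) b = PowerSeries.C b := by
  rw [PowerSeries.algebraMap_apply]; rfl

theorem C_dvd_of_coeff (a : B) (H : PowerSeries B) (h : ∀ n, a ∣ PowerSeries.coeff n H) :
    PowerSeries.C a ∣ H := by
  choose g hg using h
  refine ⟨PowerSeries.mk g, ?_⟩
  ext n
  rw [PowerSeries.coeff_C_mul, PowerSeries.coeff_mk]
  exact hg n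

variable (π : B)

theorem ker_φ (hπ : Irreducible π) : RingHom.ker (φ (B := B)) = Ideal.span {PowerSeries.C π} := by
  apply le_antisymm
  · intro x hx
    rw [RingHom.mem_ker] at hx
    rw [Ideal.mem_span_singleton]
    apply C_dvd_of_coeff
    intro n
    have h1 := congrArg (PowerSeries.coeff n) hx
    rw [φ, PowerSeries.coeff_map, map_zero, IsLocalRing.residue_eq_zero_iff, hπ.maximalIdeal_eq,
      Ideal.mem_span_singleton] at h1
    exact h1
  · rw [Ideal.span_le, Set.singleton_subset_iff, SetLike.mem_coe, RingHom.mem_ker, φ,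
      PowerSeries.map_C]
    have : IsLocalRing.residue B π = 0 := by
      rw [IsLocalRing.residue_eq_zero_iff, hπ.maximalIdeal_eq]
      exact Ideal.mem_span_singleton_self π
    rw [this, map_zero]

theorem C_dvd_iff (hπ : Irreducible π) (x : PowerSeries B) : PowerSeries.C π ∣ x ↔ φ x = 0 := by
  rw [← RingHom.mem_ker, ker_φ π hπ, Ideal.mem_span_singleton]

theorem C_pi_ne_zero (hπ : Irreducible π) : (PowerSeries.C π : PowerSeries B) ≠ 0 := by
  intro h
  have := congrArg PowerSeries.constantCoeff h
  rw [PowerSeries.constantCoeff_C, map_zero] at this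
  exact hπ.ne_zero this

theorem C_pi_prime (hπ : Irreducible π) : Prime (PowerSeries.C π : PowerSeries B) := by
  refine ⟨C_pi_ne_zero π hπ, ?_, ?_⟩
  · rw [PowerSeries.isUnit_iff_constantCoeff, PowerSeries.constantCoeff_C]
    exact hπ.not_isUnit
  · intro a b hab
    rw [C_dvd_iff π hπ] at hab ⊢
    rw [C_dvd_iff π hπ]
    rw [map_mul] at hab
    exact mul_eq_zero.mp hab

/-- change of rings for the length of `A/(Cπ, f)`. -/
theorem ell_eq_length (hπ : Irreducible π) (f : PowerSeries B) :
    ell (Ideal.span ({PowerSeries.C π, f} : Set (PowerSeries B))) =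
      Module.length (PowerSeries (IsLocalRing.ResidueField B))
        (PowerSeries (IsLocalRing.ResidueField B) ⧸
          Ideal.span ({φ f} : Set (PowerSeries (IsLocalRing.ResidueField B)))) := by
  let _ : Algebra (PowerSeries B) (PowerSeries (IsLocalRing.ResidueField B)) := (φ (B := B)).toAlgebra
  set M := PowerSeries (IsLocalRing.ResidueField B) ⧸
    Ideal.span ({φ f} : Set (PowerSeries (IsLocalRing.ResidueField B))) with hM
  let _ : Module (PowerSeries B) M := Module.compHom M (φ (B := B))
  haveI : IsScalarTower (PowerSeries B) (PowerSeries (IsLocalRing.ResidueField B)) M :=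
    ⟨fun a r m => by
      change (φ a * r) • m = φ a • (r • m)
      exact mul_smul _ _ _⟩
  have h1 : Module.length (PowerSeries B) M = Module.length (PowerSeries (IsLocalRing.ResidueField B)) M :=
    Module.length_eq_of_surjective φ_surjective
  rw [← h1, ell_def]
  let ψ : PowerSeries B →ₗ[PowerSeries B] M :=
    { toFun := fun a => Ideal.Quotient.mk _ (φ a)
      map_add' := fun a b => by rw [map_add, map_add]
      map_smul' := fun a b => by
        rw [smul_eq_mul, map_mul, map_mul, RingHom.id_apply]
        rfl }
  have hψs : Function.Surjective ψ := by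
    intro m
    obtain ⟨r, rfl⟩ := Ideal.Quotient.mk_surjective m
    obtain ⟨a, rfl⟩ := φ_surjective r
    exact ⟨a, rfl⟩
  have hker : LinearMap.ker ψ = Ideal.span ({PowerSeries.C π, f} : Set (PowerSeries B)) := by
    ext a
    rw [LinearMap.mem_ker]
    change Ideal.Quotient.mk _ (φ a) = 0 ↔ _
    rw [Ideal.Quotient.eq_zero_iff_mem, Ideal.mem_span_singleton]
    constructor
    · rintro ⟨g', hg'⟩
      obtain ⟨g, rfl⟩ := φ_surjective g'
      have h2 : a - f * g ∈ RingHom.ker (φ (B := B)) := by
        rw [RingHom.mem_ker, map_sub, map_mul, hg', sub_self]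
      rw [ker_φ π hπ, Ideal.mem_span_singleton] at h2
      obtain ⟨w, hw⟩ := h2
      have : a = w * PowerSeries.C π + g * f := by linear_combination hw
      rw [this]
      exact Ideal.add_mem _ (Ideal.mul_mem_left _ _ (Ideal.subset_span (by simp)))
        (Ideal.mul_mem_left _ _ (Ideal.subset_span (by simp)))
    · intro ha
      obtain ⟨p, q, rfl⟩ := Ideal.mem_span_pair.mp ha
      refine ⟨φ q, ?_⟩
      rw [map_add, map_mul, map_mul]
      have : φ (PowerSeries.C π : PowerSeries B) = 0 := by
        rw [← C_dvd_iff π hπ]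
      rw [this, mul_zero, zero_add, mul_comm]
  exact ((Submodule.quotEquivOfEq _ _ hker.symm).trans (ψ.quotKerEquivOfSurjective hψs)).length_eq

end Groth.Agent.Lib.Helper83.ArLefP
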