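import Groth.Agent.Lib.Helper83.ArLefP

set_option autoImplicit false
set_option linter.unusedSectionVars false
universe u

namespace Groth.Agent.Lib.Helper83.ArLefP

open Groth.Agent.Lib.Helper83.ArLefG

variable {B : Type u} [CommRing B] [IsDomain B] [IsDiscreteValuationRing B]

theorem ps_fix_le (σ : PowerSeries B →+* PowerSeries B) (J : Ideal (PowerSeries B))
    (hX : σ PowerSeries.X - PowerSeries.X ∈ J)
    (hB : ∀ b : B, σ (algebraMap B (PowerSeries B) b) - algebraMap B (PowerSeries B) b ∈ J) :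
    ArLef.fixIdeal σ ≤ J := by
  refine fix_le_generic (IsLocalRing.maximalIdeal (PowerSeries B)) (Ideal.IsPrime.ne_top inferInstance)
    PowerSeries.X 0 ?_ (Ideal.zero_mem _) (Set.range (algebraMap B (PowerSeries B))) ?_ σ J hX ?_ ?_
  · rw [IsLocalRing.mem_maximalIdeal, mem_nonunits_iff]
    exact PowerSeries.X_prime.not_isUnit
  · intro r
    obtain ⟨g, hg⟩ : PowerSeries.X ∣ r - PowerSeries.C (PowerSeries.constantCoeff r) := by
      rw [PowerSeries.X_dvd_iff, map_sub, PowerSeries.constantCoeff_C, sub_self]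
    refine ⟨_, ⟨PowerSeries.constantCoeff r, rfl⟩, g, 0, ?_⟩
    rw [algebraMap_eq_C, ← hg]; ring
  · rw [map_zero, sub_self]; exact Ideal.zero_mem _
  · rintro c ⟨b, rfl⟩; exact hB b

variable (π : B)

theorem fix_eq (hπ : Irreducible π) (j : ℕ) (γ : B) (hγ : IsUnit γ)
    (σ : PowerSeries B →+* PowerSeries B)
    (hσB : ∀ b : B, σ (algebraMap B (PowerSeries B) b) - algebraMap B (PowerSeries B) b ∈
      Ideal.span ({algebraMap B (PowerSeries B) (π ^ j)} : Set (PowerSeries B)))
    (hσπ : σ (algebraMap B (PowerSeries B) π) = algebraMap B (PowerSeries B) (π + γ * π ^ j)) :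
    ArLef.fixIdeal σ = Ideal.span ({(algebraMap B (PowerSeries B) π) ^ j, σ PowerSeries.X - PowerSeries.X} :
      Set (PowerSeries B)) := by
  apply le_antisymm
  · apply ps_fix_le
    · exact Ideal.subset_span (by simp)
    · intro b
      obtain ⟨z, hz⟩ := Ideal.mem_span_singleton'.mp (hσB b)
      rw [← hz, map_pow]
      exact Ideal.mul_mem_left _ _ (Ideal.subset_span (by simp))
  · rw [Ideal.span_le]
    rintro x (rfl | rfl)
    · have h1 := sub_mem_fixIdeal σ (algebraMap B (PowerSeries B) π)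
      rw [hσπ, map_add, add_sub_cancel_left, map_mul, map_pow] at h1
      obtain ⟨γ', hγ'⟩ := (hγ.map (algebraMap B (PowerSeries B))).exists_left_inv
      have h2 := Ideal.mul_mem_left _ γ' h1
      rwa [← mul_assoc, hγ', one_mul] at h2
    · exact sub_mem_fixIdeal σ _

theorem main_S15321 (hπ : Irreducible π)
    (j : ℕ) (hj : 1 ≤ j) (γ : B) (hγ : IsUnit γ)
    (σ : PowerSeries B ≃+* PowerSeries B)
    (hσB : ∀ b : B, σ (algebraMap B (PowerSeries B) b) - algebraMap B (PowerSeries B) b ∈
      Ideal.span ({algebraMap B (PowerSeries B) (π ^ j)} : Set (PowerSeries B)))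
    (hσπ : σ (algebraMap B (PowerSeries B) π) = algebraMap B (PowerSeries B) (π + γ * π ^ j))
    (h0 : ¬ (algebraMap B (PowerSeries B) π ∣ σ PowerSeries.X - PowerSeries.X)) :
    Module.length (PowerSeries B) (PowerSeries B ⧸ ArLef.fixIdeal σ) =
      (j : ℕ∞) * Module.length (PowerSeries (IsLocalRing.ResidueField B)) (PowerSeries (IsLocalRing.ResidueField B) ⧸
        Ideal.span ({PowerSeries.map (IsLocalRing.residue B) (σ PowerSeries.X - PowerSeries.X)} : Set (PowerSeries (IsLocalRing.ResidueField B)))) := by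
  have hfix := fix_eq π hπ j γ hγ (σ : PowerSeries B →+* PowerSeries B) hσB hσπ
  have hfix' : ArLef.fixIdeal σ = Ideal.span ({(algebraMap B (PowerSeries B) π) ^ j, σ PowerSeries.X - PowerSeries.X} :
      Set (PowerSeries B)) := hfix
  rw [hfix']
  rw [algebraMap_eq_C] at h0 ⊢
  have hreg := regular_of_prime (C_pi_prime π hπ) h0
  have := ell_pow_pair (PowerSeries.C π) (σ PowerSeries.X - PowerSeries.X) j hreg
  rw [ell_def] at this
  rw [this, ell_eq_length π hπ]
  rfl

theorem main_S19595 (hπ : Irreducible π)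
    (j i : ℕ) (hi : 0 < i) (hij : i < j) (γ : B) (hγ : IsUnit γ)
    (σ : PowerSeries B ≃+* PowerSeries B)
    (hσB : ∀ b : B, σ (algebraMap B (PowerSeries B) b) - algebraMap B (PowerSeries B) b ∈
      Ideal.span ({algebraMap B (PowerSeries B) (π ^ j)} : Set (PowerSeries B)))
    (hσπ : σ (algebraMap B (PowerSeries B) π) = algebraMap B (PowerSeries B) (π + γ * π ^ j))
    (f : PowerSeries B) (hf : σ PowerSeries.X - PowerSeries.X = algebraMap B (PowerSeries B) (π ^ i) * f)
    (hfπ : ¬ (algebraMap B (PowerSeries B) π ∣ f)) :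
    Module.length (PowerSeries B) (PowerSeries B ⧸ (ArLef.fixIdeal σ).colon ({algebraMap B (PowerSeries B) (π ^ i)} : Set (PowerSeries B))) =
      ((j - i : ℕ) : ℕ∞) * Module.length (PowerSeries (IsLocalRing.ResidueField B)) (PowerSeries (IsLocalRing.ResidueField B) ⧸
        Ideal.span ({PowerSeries.map (IsLocalRing.residue B) f} : Set (PowerSeries (IsLocalRing.ResidueField B)))) := by
  have hfix := fix_eq π hπ j γ hγ (σ : PowerSeries B →+* PowerSeries B) hσB hσπ
  have hfix' : ArLef.fixIdeal σ = Ideal.span ({(algebraMap B (PowerSeries B) π) ^ j, σ PowerSeries.X - PowerSeries.X} :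
      Set (PowerSeries B)) := hfix
  rw [hfix', hf, map_pow]
  rw [algebraMap_eq_C] at hfπ ⊢
  obtain ⟨n, rfl⟩ : ∃ n, j = i + n := ⟨j - i, by omega⟩
  have hI : Ideal.span ({PowerSeries.C π ^ (i + n), PowerSeries.C π ^ i * f} : Set (PowerSeries B)) =
      Ideal.span {PowerSeries.C π ^ i} * Ideal.span ({PowerSeries.C π ^ n, f} : Set (PowerSeries B)) := by
    apply le_antisymm
    · rw [Ideal.span_le]
      rintro x (rfl | rfl)
      · rw [SetLike.mem_coe, pow_add]
        exact Ideal.mul_mem_mul (Ideal.mem_span_singleton_self _) (Ideal.subset_span (by simp))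
      · exact Ideal.mul_mem_mul (Ideal.mem_span_singleton_self _) (Ideal.subset_span (by simp))
    · rw [Ideal.mul_le]
      intro r hr s hs
      obtain ⟨c, rfl⟩ := Ideal.mem_span_singleton'.mp hr
      obtain ⟨p, q, rfl⟩ := Ideal.mem_span_pair.mp hs
      have : c * PowerSeries.C π ^ i * (p * PowerSeries.C π ^ n + q * f) =
          (c * p) * PowerSeries.C π ^ (i + n) + (c * q) * (PowerSeries.C π ^ i * f) := by
        rw [pow_add]; ring
      rw [this]
      exact Ideal.add_mem _ (Ideal.mul_mem_left _ _ (Ideal.subset_span (by simp)))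
        (Ideal.mul_mem_left _ _ (Ideal.subset_span (by simp)))
  rw [hI, colon_mul_singleton _ (pow_ne_zero i (C_pi_ne_zero π hπ))]
  have hreg := regular_of_prime (C_pi_prime π hπ) hfπ
  have := ell_pow_pair (PowerSeries.C π) f n hreg
  rw [ell_def] at this
  rw [this, ell_eq_length π hπ, Nat.add_sub_cancel_left]
  rfl

end Groth.Agent.Lib.Helper83.ArLefP
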