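import Groth.Prelude.Def_W4c1arstab1appArSing
import Mathlib

set_option autoImplicit false

open MvPowerSeries

namespace Groth.Agent.Lib.Helper83.ArSingA

universe u
variable (k : Type u) [Field k] (r : ℕ)

abbrev B := MvPowerSeries (Fin 1) k

noncomputable def Psi : MvPowerSeries (Fin 2) k ≃ₐ[k] PowerSeries (B k) :=
  (renameEquiv k (Equiv.swap (0 : Fin 2) 1)).trans (finSuccEquiv k 1)

lemma Psi_X0 : Psi k (X 0) = PowerSeries.C (X 0 : B k) := by
  have : (renameEquiv k (Equiv.swap (0 : Fin 2) 1)) (X 0) = X 1 := by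
    change rename _ (X 0) = _
    rw [rename_X]; simp
  simp only [Psi, AlgEquiv.trans_apply, this]
  exact finSuccEquiv_X_succ (R := k) (n := 1) 0

lemma Psi_X1 : Psi k (X 1) = (PowerSeries.X : PowerSeries (B k)) := by
  have : (renameEquiv k (Equiv.swap (0 : Fin 2) 1)) (X 1) = X 0 := by
    change rename _ (X 1) = _
    rw [rename_X]; simp
  simp only [Psi, AlgEquiv.trans_apply, this]
  exact finSuccEquiv_X_zero

noncomputable def g : Polynomial (B k) :=
  Polynomial.X ^ 2 - Polynomial.C ((X 0 : B k) ^ (r + 1))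

lemma g_monic : (g k r).Monic := by
  unfold g
  exact Polynomial.monic_X_pow_sub_C _ (by norm_num)

lemma g_natDegree : (g k r).natDegree = 2 := by
  unfold g
  exact Polynomial.natDegree_X_pow_sub_C

lemma Psi_eqn : Psi k (ArSing.eqn k r) = ((g k r : Polynomial (B k)) : PowerSeries (B k)) := by
  unfold ArSing.eqn g
  rw [map_sub, map_pow, map_pow, Psi_X0, Psi_X1]
  simp

/-- the ideal of variables of `B`. -/
noncomputable abbrev IB : Ideal (B k) := Ideal.span (Set.range (X : Fin 1 → B k))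

lemma X0_mem_IB : (X 0 : B k) ∈ IB k := Ideal.subset_span ⟨0, rfl⟩

lemma g_dist : (g k r).IsDistinguishedAt (IB k) where
  monic := g_monic k r
  mem := by
    intro n hn
    rw [g_natDegree] at hn
    unfold g
    rw [Polynomial.coeff_sub, Polynomial.coeff_X_pow, Polynomial.coeff_C]
    have h2 : n ≠ 2 := by omega
    simp only [h2, if_false, zero_sub]
    split_ifs with h0
    · exact neg_mem (Ideal.pow_mem_of_mem _ (X0_mem_IB k) _ (Nat.succ_pos r))
    · simp

/-- `A_r ≃ B⟦X⟧ / (g)`. -/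
noncomputable def E1 : ArSing.ring k r ≃ₐ[k]
    (PowerSeries (B k) ⧸ Ideal.span {((g k r : Polynomial (B k)) : PowerSeries (B k))}) :=
  Ideal.quotientEquivAlg _ _ (Psi k) (by
    rw [Ideal.map_span, Set.image_singleton]
    congr 2
    exact (Psi_eqn k r).symm)

lemma E1_mk (F : MvPowerSeries (Fin 2) k) :
    E1 k r (Ideal.Quotient.mk _ F) = Ideal.Quotient.mk _ (Psi k F) := rfl

/-- `B[X]/(g) ≃ B⟦X⟧/(g)` (Weierstrass). -/
noncomputable def E2 : (Polynomial (B k) ⧸ Ideal.span {g k r}) ≃ₐ[B k]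
    (PowerSeries (B k) ⧸ Ideal.span {((g k r : Polynomial (B k)) : PowerSeries (B k))}) :=
  (g_dist k r).algEquivQuotient

end Groth.Agent.Lib.Helper83.ArSingA
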