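import Groth.Agent.Lib.Helper83.ArSingA

set_option autoImplicit false

open MvPowerSeries

namespace Groth.Agent.Lib.Helper83.ArSingA

universe u
variable (k : Type u) [Field k] (r : ℕ)

/-- `B → A_r`, the structure map of the Weierstrass model. -/
noncomputable def iotaB : B k →ₐ[k] ArSing.ring k r :=
  ((E1 k r).symm.toAlgHom).comp ((Ideal.Quotient.mkₐ k _).comp
    (IsScalarTower.toAlgHom k (B k) (PowerSeries (B k))))

lemma iotaB_apply (a : B k) :
    iotaB k r a = (E1 k r).symm (Ideal.Quotient.mk _ (PowerSeries.C a)) := rfl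

lemma iotaB_X0 : iotaB k r (X 0) = ArSing.x k r := by
  rw [iotaB_apply, AlgEquiv.symm_apply_eq, E1_mk, Psi_X0]

lemma E1_y : E1 k r (ArSing.y k r) = Ideal.Quotient.mk _ (PowerSeries.X : PowerSeries (B k)) := by
  rw [E1_mk, Psi_X1]

lemma E1_lin (a b : B k) : E1 k r (iotaB k r a + iotaB k r b * ArSing.y k r) =
    Ideal.Quotient.mk _ (PowerSeries.C a + PowerSeries.C b * PowerSeries.X) := by
  rw [map_add, map_mul, E1_y, iotaB_apply, iotaB_apply, AlgEquiv.apply_symm_apply,
    AlgEquiv.apply_symm_apply, map_add, map_mul]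

lemma E2_lin (a b : B k) :
    E2 k r (Ideal.Quotient.mk _ (Polynomial.C a + Polynomial.C b * Polynomial.X)) =
    Ideal.Quotient.mk _ (PowerSeries.C a + PowerSeries.C b * PowerSeries.X) := by
  change (g_dist k r).algEquivQuotient _ = _
  rw [Polynomial.IsDistinguishedAt.algEquivQuotient_apply]
  simp

/-- existence of the decomposition in the polynomial quotient. -/
lemma poly_decomp (p : Polynomial (B k)) : ∃ a b : B k,
    p %ₘ (g k r) = Polynomial.C a + Polynomial.C b * Polynomial.X := by
  have hdeg : (p %ₘ g k r).degree < 2 := by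
    have := Polynomial.degree_modByMonic_lt p (g_monic k r)
    rwa [Polynomial.degree_eq_natDegree (g_monic k r).ne_zero, g_natDegree] at this
  refine ⟨(p %ₘ g k r).coeff 0, (p %ₘ g k r).coeff 1, ?_⟩
  ext n
  simp only [Polynomial.coeff_add, Polynomial.coeff_C, Polynomial.coeff_C_mul, Polynomial.coeff_X]
  rcases n with _ | _ | n
  · simp
  · simp
  · have : (p %ₘ g k r).coeff (n + 2) = 0 :=
      Polynomial.coeff_eq_zero_of_degree_lt (lt_of_lt_of_le hdeg (by
        exact_mod_cast (by omega : 2 ≤ n + 2)))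
    simp [this]

lemma basisB_exists (s : ArSing.ring k r) : ∃ a b : B k,
    s = iotaB k r a + iotaB k r b * ArSing.y k r := by
  obtain ⟨p, hp⟩ := Ideal.Quotient.mk_surjective ((E2 k r).symm (E1 k r s))
  obtain ⟨a, b, hab⟩ := poly_decomp k r p
  refine ⟨a, b, ?_⟩
  have h1 : (Ideal.Quotient.mk (Ideal.span {g k r})) p =
      Ideal.Quotient.mk _ (Polynomial.C a + Polynomial.C b * Polynomial.X) := by
    rw [← hab, Ideal.Quotient.mk_eq_mk_iff_sub_mem, Ideal.mem_span_singleton]
    exact ⟨p /ₘ g k r, by rw [Polynomial.modByMonic_eq_sub_mul_div]; ring⟩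
  rw [h1, AlgEquiv.eq_symm_apply] at hp
  apply (E1 k r).injective
  rw [← hp, E1_lin, E2_lin]

lemma basisB_unique (a b : B k) (h : iotaB k r a + iotaB k r b * ArSing.y k r = 0) :
    a = 0 ∧ b = 0 := by
  have h1 : E2 k r (Ideal.Quotient.mk _ (Polynomial.C a + Polynomial.C b * Polynomial.X)) = 0 := by
    rw [E2_lin, ← E1_lin, h, map_zero]
  rw [map_eq_zero_iff _ (E2 k r).injective, Ideal.Quotient.eq_zero_iff_mem,
    Ideal.mem_span_singleton] at h1
  have hdeg : (Polynomial.C a + Polynomial.C b * Polynomial.X : Polynomial (B k)).degree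
      < (g k r).degree := by
    rw [Polynomial.degree_eq_natDegree (g_monic k r).ne_zero, g_natDegree]
    refine lt_of_le_of_lt (Polynomial.degree_add_le _ _) (max_lt ?_ ?_)
    · exact lt_of_le_of_lt Polynomial.degree_C_le (by norm_num)
    · exact lt_of_le_of_lt (Polynomial.degree_C_mul_X_le b) (by norm_num)
  have h0 := Polynomial.eq_zero_of_dvd_of_degree_lt h1 hdeg
  have c0 := congrArg (fun q => Polynomial.coeff q 0) h0
  have c1 := congrArg (fun q => Polynomial.coeff q 1) h0
  simp at c0 c1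
  exact ⟨c0, c1⟩

end Groth.Agent.Lib.Helper83.ArSingA
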