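import Groth.Agent.Lib.Helper83.ArSingB

set_option autoImplicit false

namespace Groth.Agent.Lib.Helper83.ArSingA

universe u v
variable (k : Type u) [Field k] (r : ℕ)

/-- Uniqueness of `k`-algebra maps out of `k⟦X⟧` into a `J`-adically separated algebra. -/
lemma powerSeries_algHom_ext {T : Type v} [CommRing T] [Algebra k T] (J : Ideal T)
    (hJ : ⨅ n : ℕ, J ^ n = ⊥) (f g : PowerSeries k →ₐ[k] T)
    (hX : f PowerSeries.X = g PowerSeries.X) (hfJ : f PowerSeries.X ∈ J) : f = g := by
  have hpoly : ∀ p : Polynomial k, f (p : PowerSeries k) = g (p : PowerSeries k) := by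
    intro p
    have h1 : (f.comp (Polynomial.coeToPowerSeries.algHom k)) =
        Polynomial.aeval (f PowerSeries.X) := by
      apply Polynomial.algHom_ext; simp
    have h2 : (g.comp (Polynomial.coeToPowerSeries.algHom k)) =
        Polynomial.aeval (g PowerSeries.X) := by
      apply Polynomial.algHom_ext; simp
    have e1 := congrArg (fun w => w p) h1
    have e2 := congrArg (fun w => w p) h2
    simp only [AlgHom.comp_apply, Polynomial.coeToPowerSeries.algHom_apply,
      Algebra.algebraMap_self, PowerSeries.map_id, id_eq] at e1 e2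
    rw [e1, e2, hX]
  ext F
  have key : ∀ n : ℕ, f F - g F ∈ J ^ n := by
    intro n
    have h1 : (PowerSeries.X : PowerSeries k) ^ n ∣ F - (PowerSeries.trunc n F : PowerSeries k) := by
      rw [PowerSeries.X_pow_dvd_iff]
      intro m hm
      rw [map_sub, Polynomial.coeff_coe, PowerSeries.coeff_trunc, if_pos hm, sub_self]
    obtain ⟨q, hq⟩ := h1
    have h2 : F = (PowerSeries.trunc n F : PowerSeries k) + PowerSeries.X ^ n * q := by
      rw [← hq]; ring
    have h3 : f F - g F = f PowerSeries.X ^ n * (f q - g q) := by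
      conv_lhs => rw [h2]
      rw [map_add, map_add, hpoly, map_mul, map_mul, map_pow, map_pow, hX]
      ring
    rw [h3]
    exact Ideal.mul_mem_right _ _ (Ideal.pow_mem_pow hfJ n)
  have : f F - g F ∈ (⨅ n : ℕ, J ^ n) := by
    rw [Ideal.mem_iInf]; exact key
  rw [hJ, Ideal.mem_bot, sub_eq_zero] at this
  exact this

instance : Nontrivial (ArSing.ring k r) := by
  rw [Ideal.Quotient.nontrivial_iff, Ne, Ideal.span_singleton_eq_top,
    MvPowerSeries.isUnit_iff_constantCoeff]
  unfold ArSing.eqn
  simp

instance : IsLocalRing (ArSing.ring k r) :=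
  IsLocalRing.of_surjective' (Ideal.Quotient.mk _) Ideal.Quotient.mk_surjective

instance : IsNoetherianRing (ArSing.ring k r) := inferInstance

instance : IsLocalHom (Ideal.Quotient.mk (Ideal.span {ArSing.eqn k r})) :=
  IsLocalHom.of_surjective _ Ideal.Quotient.mk_surjective

lemma iInf_pow_max : ⨅ n : ℕ, (IsLocalRing.maximalIdeal (ArSing.ring k r)) ^ n = ⊥ :=
  Ideal.iInf_pow_eq_bot_of_isLocalRing _ (IsLocalRing.maximalIdeal.isMaximal _).ne_top

lemma x_mem_max : ArSing.x k r ∈ IsLocalRing.maximalIdeal (ArSing.ring k r) := by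
  rw [IsLocalRing.mem_maximalIdeal, mem_nonunits_iff]
  intro h
  have := (isUnit_map_iff (Ideal.Quotient.mk (Ideal.span {ArSing.eqn k r})) _).mp h
  rw [MvPowerSeries.isUnit_iff_constantCoeff] at this
  simp at this

lemma y_mem_max : ArSing.y k r ∈ IsLocalRing.maximalIdeal (ArSing.ring k r) := by
  rw [IsLocalRing.mem_maximalIdeal, mem_nonunits_iff]
  intro h
  have := (isUnit_map_iff (Ideal.Quotient.mk (Ideal.span {ArSing.eqn k r})) _).mp h
  rw [MvPowerSeries.isUnit_iff_constantCoeff] at this
  simp at this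

end Groth.Agent.Lib.Helper83.ArSingA
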