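import Groth.Prelude.Def_W4c1arstab1appArSing
import Mathlib

set_option autoImplicit false

open MvPowerSeries

namespace Groth.Agent.Lib.Helper83.ArSingCl

universe u
variable {k : Type u} [Field k]

abbrev P (k : Type u) [Field k] := MvPowerSeries (Fin 2) k

lemma coeff_X_mul' (s : Fin 2) (φ : P k) (m : Fin 2 →₀ ℕ) :
    coeff m (X s * φ) = if 1 ≤ m s then coeff (m - Finsupp.single s 1) φ else 0 := by
  classical
  rw [X_def, coeff_monomial_mul, one_mul]
  congr 1
  rw [Finsupp.single_le_iff]

lemma mem_span_of_constantCoeff_eq_zero (g : P k) (h : constantCoeff g = 0) :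
    g ∈ Ideal.span {(X 0 : P k), X 1} := by
  classical
  let hh : P k := fun m => if m 0 = 0 then coeff m g else 0
  have h1 : (X 0 : P k) ∣ g - hh := by
    rw [X_dvd_iff]
    intro m hm
    rw [map_sub]
    show coeff m g - (if m 0 = 0 then coeff m g else 0) = 0
    rw [if_pos hm, sub_self]
  have h2 : (X 1 : P k) ∣ hh := by
    rw [X_dvd_iff]
    intro m hm
    show (if m 0 = 0 then coeff m g else 0) = 0
    split_ifs with h0
    · have : m = 0 := by
        ext i; fin_cases i
        · simpa using h0
        · simpa using hm
      rw [this]; exact h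
    · rfl
  obtain ⟨a, ha⟩ := h1
  obtain ⟨b, hb⟩ := h2
  rw [Ideal.mem_span_pair]
  exact ⟨a, b, by rw [mul_comm a, mul_comm b, ← ha, ← hb]; ring⟩

noncomputable def partA (W : P k) : P k := fun m => coeff (m + Finsupp.single 0 1) W

noncomputable def partB (W : P k) : P k :=
  fun m => if m 0 = 0 then coeff (m + Finsupp.single 1 1) W else 0

lemma decomp (W : P k) (h0 : constantCoeff W = 0) :
    W = X 0 * partA W + X 1 * partB W := by
  classical
  ext m
  rw [map_add, coeff_X_mul', coeff_X_mul']
  by_cases hm0 : 1 ≤ m 0
  · rw [if_pos hm0]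
    have e1 : m - Finsupp.single 0 1 + Finsupp.single 0 1 = m := by
      ext i; fin_cases i
      · simp; omega
      · simp
    have : coeff (m - Finsupp.single 0 1) (partA W) = coeff m W := by
      show coeff (m - Finsupp.single 0 1 + Finsupp.single 0 1) W = _
      rw [e1]
    rw [this]
    split_ifs with h1
    · have : coeff (m - Finsupp.single 1 1) (partB W) = 0 := by
        show (if (m - Finsupp.single (1 : Fin 2) 1 : Fin 2 →₀ ℕ) 0 = 0 then _ else 0) = 0
        rw [if_neg]
        simp; omega
      rw [this, add_zero]
    · rw [add_zero]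
  · rw [if_neg hm0, zero_add]
    have hm0' : m 0 = 0 := by omega
    by_cases hm1 : 1 ≤ m 1
    · rw [if_pos hm1]
      have e1 : m - Finsupp.single 1 1 + Finsupp.single 1 1 = m := by
        ext i; fin_cases i
        · simp
        · simp; omega
      show _ = (if (m - Finsupp.single (1 : Fin 2) 1 : Fin 2 →₀ ℕ) 0 = 0 then
        coeff (m - Finsupp.single 1 1 + Finsupp.single 1 1) W else 0)
      rw [if_pos (by simp [hm0']), e1]
    · rw [if_neg hm1]
      have : m = 0 := by
        ext i; fin_cases i
        · simpa using hm0'
        · simp; omega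
      rw [this]; exact h0

lemma mem_pow_of_le_order : ∀ (n : ℕ) (W : P k), (n : ℕ∞) ≤ W.order →
    W ∈ (Ideal.span {(X 0 : P k), X 1}) ^ n := by
  intro n
  induction n with
  | zero => intro W _; simp
  | succ n ih =>
    intro W hW
    have h0 : constantCoeff W = 0 := by
      rw [← one_le_order_iff_constCoeff_eq_zero]
      refine le_trans ?_ hW
      exact_mod_cast Nat.succ_le_succ (Nat.zero_le n)
    have hA : (n : ℕ∞) ≤ (partA W).order := by
      apply nat_le_order
      intro d hd
      show coeff (d + Finsupp.single 0 1) W = 0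
      apply coeff_of_lt_order
      refine lt_of_lt_of_le ?_ hW
      rw [map_add, Finsupp.degree_single]
      exact_mod_cast Nat.succ_lt_succ hd
    have hB : (n : ℕ∞) ≤ (partB W).order := by
      apply nat_le_order
      intro d hd
      show (if d 0 = 0 then coeff (d + Finsupp.single 1 1) W else 0) = 0
      split_ifs
      · apply coeff_of_lt_order
        refine lt_of_lt_of_le ?_ hW
        rw [map_add, Finsupp.degree_single]
        exact_mod_cast Nat.succ_lt_succ hd
      · rfl
    rw [decomp W h0, pow_succ']
    refine add_mem (Ideal.mul_mem_mul (Ideal.subset_span (by simp)) (ih _ hA))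
      (Ideal.mul_mem_mul (Ideal.subset_span (by simp)) (ih _ hB))

end Groth.Agent.Lib.Helper83.ArSingCl
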