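import Groth.Agent.Lib.Helper83.ArSingCl1

set_option autoImplicit false

open MvPowerSeries

namespace Groth.Agent.Lib.Helper83.ArSingCl

universe u
variable {k : Type u} [Field k]

lemma hc_X (s : Fin 2) : homogeneousComponent 1 (X s : P k) = X s := by
  classical
  ext d
  rw [coeff_homogeneousComponent]
  split_ifs with h
  · rfl
  · rw [coeff_X, if_neg]
    rintro rfl
    exact h (by simp)

lemma hc0 (p : P k) : homogeneousComponent 0 p = C (constantCoeff p) := by
  classical
  ext d
  rw [coeff_homogeneousComponent, coeff_C]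
  by_cases h : d = 0
  · subst h; simp
  · rw [if_neg h, if_neg]
    rwa [Finsupp.degree_eq_zero_iff]

lemma order_ge_one {U : P k} (hU : constantCoeff U = 0) : ((1 : ℕ) : ℕ∞) ≤ U.order := by
  have := (one_le_order_iff_constCoeff_eq_zero (f := U)).mpr hU
  exact_mod_cast this

lemma hc1_mul (p U : P k) (hU : constantCoeff U = 0) :
    homogeneousComponent 1 (p * U) = C (constantCoeff p) * homogeneousComponent 1 U := by
  have := homogeneousComponent_mul_of_le_order (f := p) (g := U) (p := 0) (q := 1)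
    (by simp) (order_ge_one hU)
  rw [zero_add] at this
  rw [this, hc0]

lemma hc_mul_of_order (n : ℕ) (r F : P k) (hF : ((n + 1 : ℕ) : ℕ∞) ≤ F.order) :
    homogeneousComponent n (r * F) = 0 := by
  apply homogeneousComponent_of_lt_order_eq_zero
  have h1 : r.order + F.order ≤ (r * F).order := le_order_mul
  have h2 : ((n + 1 : ℕ) : ℕ∞) ≤ (r * F).order :=
    le_trans (le_trans hF le_add_self) h1
  refine lt_of_lt_of_le ?_ h2
  exact_mod_cast Nat.lt_succ_self n

lemma hc_of_order (n : ℕ) (F : P k) (hF : ((n + 1 : ℕ) : ℕ∞) ≤ F.order) :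
    homogeneousComponent n F = 0 := by
  have := hc_mul_of_order n 1 F hF
  rwa [one_mul] at this

lemma noDep (L : P k) (c1 c2 : k) (h0 : (X 0 : P k) = C c1 * L) (h1 : (X 1 : P k) = C c2 * L) :
    False := by
  classical
  have h : (C c2 : P k) * X 0 - C c1 * X 1 = 0 := by rw [h0, h1]; ring
  have e0 := congrArg (coeff (Finsupp.single (0 : Fin 2) 1)) h
  have e1 := congrArg (coeff (Finsupp.single (1 : Fin 2) 1)) h
  rw [map_sub, coeff_C_mul, coeff_C_mul, coeff_X, coeff_X, map_zero] at e0 e1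
  have hne : (Finsupp.single (0 : Fin 2) 1 : Fin 2 →₀ ℕ) ≠ Finsupp.single 1 1 := by
    intro h
    have := congrArg (fun f => f 0) h
    simp at this
  rw [if_pos rfl, if_neg hne] at e0
  rw [if_pos rfl, if_neg hne.symm] at e1
  have hc2 : c2 = 0 := by simpa using e0
  have hc1 : c1 = 0 := by simpa using e1
  rw [hc1, map_zero, zero_mul] at h0
  have := congrArg (coeff (Finsupp.single (0 : Fin 2) 1)) h0
  rw [coeff_X, if_pos rfl, map_zero] at this
  exact one_ne_zero this

lemma core (F U V p1 q1 r1 p2 q2 r2 r3 S : P k) (hF : ((3 : ℕ) : ℕ∞) ≤ F.order)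
    (hU : constantCoeff U = 0) (hV : constantCoeff V = 0)
    (h0 : X 0 = p1 * U + q1 * V + r1 * F) (h1 : X 1 = p2 * U + q2 * V + r2 * F)
    (hrel : V ^ 2 - S = r3 * F)
    (hS : S = U ∨ S = U ^ 2 ∨ ((3 : ℕ) : ℕ∞) ≤ S.order) : False := by
  have hF2 : ((1 + 1 : ℕ) : ℕ∞) ≤ F.order := le_trans (by exact_mod_cast (by norm_num)) hF
  have e0 := congrArg (homogeneousComponent 1) h0
  have e1 := congrArg (homogeneousComponent 1) h1
  rw [map_add, map_add, hc_X, hc1_mul _ _ hU, hc1_mul _ _ hV, hc_mul_of_order 1 _ _ hF2,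
    add_zero] at e0 e1
  set L1 := homogeneousComponent 1 U with hL1
  set L2 := homogeneousComponent 1 V with hL2
  have hVV : homogeneousComponent 2 (V ^ 2) = L2 * L2 := by
    rw [pow_two]
    exact homogeneousComponent_mul_of_le_order (p := 1) (q := 1) (order_ge_one hV) (order_ge_one hV)
  rcases hS with hS | hS | hS
  · -- S = U
    subst hS
    have e2 := congrArg (homogeneousComponent 1) hrel
    have hV2 : ((1 + 1 : ℕ) : ℕ∞) ≤ (V ^ 2).order := by
      rw [pow_two]
      refine le_trans ?_ (le_order_mul (f := V) (g := V))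
      have := add_le_add (order_ge_one hV) (order_ge_one hV)
      exact_mod_cast this
    rw [map_sub, hc_of_order 1 _ hV2, hc_mul_of_order 1 _ _ hF2, zero_sub, neg_eq_zero] at e2
    rw [← hL1] at e2
    rw [e2, mul_zero, zero_add] at e0 e1
    exact noDep _ _ _ e0 e1
  · -- S = U^2
    subst hS
    have e2 := congrArg (homogeneousComponent 2) hrel
    have hUU : homogeneousComponent 2 (U ^ 2) = L1 * L1 := by
      rw [pow_two]
      exact homogeneousComponent_mul_of_le_order (p := 1) (q := 1) (order_ge_one hU)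
        (order_ge_one hU)
    rw [map_sub, hVV, hUU, hc_mul_of_order 2 _ _ hF] at e2
    have : (L2 - L1) * (L2 + L1) = 0 := by rw [← e2]; ring
    rcases mul_eq_zero.mp this with h | h
    · have h' : L2 = L1 := sub_eq_zero.mp h
      rw [h'] at e0 e1
      refine noDep L1 (constantCoeff p1 + constantCoeff q1) (constantCoeff p2 + constantCoeff q2)
        ?_ ?_
      · rw [e0, map_add]; ring
      · rw [e1, map_add]; ring
    · have h' : L2 = -L1 := eq_neg_of_add_eq_zero_left h
      rw [h'] at e0 e1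
      refine noDep L1 (constantCoeff p1 - constantCoeff q1) (constantCoeff p2 - constantCoeff q2)
        ?_ ?_
      · rw [e0, map_sub]; ring
      · rw [e1, map_sub]; ring
  · have e2 := congrArg (homogeneousComponent 2) hrel
    rw [map_sub, hVV, hc_of_order 2 _ hS, hc_mul_of_order 2 _ _ hF, sub_zero] at e2
    have h' : L2 = 0 := by
      rcases mul_eq_zero.mp e2 with h | h <;> exact h
    rw [h', mul_zero, add_zero] at e0 e1
    exact noDep _ _ _ e0 e1


lemma nontrivial_quot (F : P k) (hF0 : constantCoeff F = 0) :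
    Nontrivial (P k ⧸ Ideal.span {F}) := by
  rw [Ideal.Quotient.nontrivial_iff, Ne, Ideal.span_singleton_eq_top,
    MvPowerSeries.isUnit_iff_constantCoeff, hF0]
  simp

lemma mk_isUnit_iff (F : P k) (hF0 : constantCoeff F = 0) (g : P k) :
    IsUnit (Ideal.Quotient.mk (Ideal.span {F}) g) ↔ constantCoeff g ≠ 0 := by
  have := nontrivial_quot F hF0
  have : IsLocalHom (Ideal.Quotient.mk (Ideal.span {F})) :=
    IsLocalHom.of_surjective _ Ideal.Quotient.mk_surjective
  rw [isUnit_map_iff, MvPowerSeries.isUnit_iff_constantCoeff, isUnit_iff_ne_zero]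

theorem no_equiv (F R' : P k) (hF : ((3 : ℕ) : ℕ∞) ≤ F.order) (hR0 : constantCoeff R' = 0)
    (e : (P k ⧸ Ideal.span {F}) ≃ₐ[k] (P k ⧸ Ideal.span {R'}))
    (S : P k → P k)
    (hS : ∀ U, constantCoeff U = 0 →
      (S U = U ∨ S U = U ^ 2 ∨ ((3 : ℕ) : ℕ∞) ≤ (S U).order))
    (hrel : ∀ U V : P k, e.symm (Ideal.Quotient.mk _ (X 0)) = Ideal.Quotient.mk _ U →
      e.symm (Ideal.Quotient.mk _ (X 1)) = Ideal.Quotient.mk _ V →
      Ideal.Quotient.mk (Ideal.span {F}) (V ^ 2 - S U) = 0) : False := by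
  have hF0 : constantCoeff F = 0 := by
    rw [← one_le_order_iff_constCoeff_eq_zero]
    refine le_trans ?_ hF
    exact_mod_cast (by norm_num : 1 ≤ 3)
  obtain ⟨U, hU⟩ := Ideal.Quotient.mk_surjective (e.symm (Ideal.Quotient.mk _ (X 0)))
  obtain ⟨V, hV⟩ := Ideal.Quotient.mk_surjective (e.symm (Ideal.Quotient.mk _ (X 1)))
  have hXc : ∀ i : Fin 2, constantCoeff (X i : P k) = 0 := fun i => constantCoeff_X i
  have hlift : ∀ (W : P k) (i : Fin 2),
      Ideal.Quotient.mk (Ideal.span {F}) W = e.symm (Ideal.Quotient.mk _ (X i)) →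
      constantCoeff W = 0 := by
    intro W i hW
    by_contra hne
    have h1 : IsUnit (Ideal.Quotient.mk (Ideal.span {F}) W) := (mk_isUnit_iff F hF0 W).mpr hne
    have h2 : IsUnit (e (Ideal.Quotient.mk (Ideal.span {F}) W)) := h1.map e
    rw [hW, AlgEquiv.apply_symm_apply, mk_isUnit_iff R' hR0] at h2
    exact h2 (hXc i)
  have hUc := hlift U 0 hU
  have hVc := hlift V 1 hV
  have key : ∀ i : Fin 2, ∃ p q r : P k, X i = p * U + q * V + r * F := by
    intro i
    obtain ⟨G, hG⟩ := Ideal.Quotient.mk_surjective (e (Ideal.Quotient.mk _ (X i)))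
    have hGc : constantCoeff G = 0 := by
      by_contra hne
      have h1 : IsUnit (Ideal.Quotient.mk (Ideal.span {R'}) G) := (mk_isUnit_iff R' hR0 G).mpr hne
      rw [hG] at h1
      have h2 := h1.map e.symm
      rw [AlgEquiv.symm_apply_apply, mk_isUnit_iff F hF0] at h2
      exact h2 (hXc i)
    obtain ⟨a, b, hab⟩ := Ideal.mem_span_pair.mp (mem_span_of_constantCoeff_eq_zero G hGc)
    obtain ⟨a', ha'⟩ := Ideal.Quotient.mk_surjective (e.symm (Ideal.Quotient.mk _ a))
    obtain ⟨b', hb'⟩ := Ideal.Quotient.mk_surjective (e.symm (Ideal.Quotient.mk _ b))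
    have h1 : Ideal.Quotient.mk (Ideal.span {F}) (X i) =
        Ideal.Quotient.mk _ (a' * U + b' * V) := by
      have h0 : e.symm (Ideal.Quotient.mk _ G) = Ideal.Quotient.mk _ (X i) := by
        rw [hG, AlgEquiv.symm_apply_apply]
      rw [← h0, ← hab]
      simp only [map_add, map_mul]
      rw [hU, hV, ha', hb']
    rw [Ideal.Quotient.mk_eq_mk_iff_sub_mem, Ideal.mem_span_singleton'] at h1
    obtain ⟨r, hr⟩ := h1
    exact ⟨a', b', r, by rw [hr]; ring⟩
  obtain ⟨p1, q1, r1, h0⟩ := key 0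
  obtain ⟨p2, q2, r2, h1⟩ := key 1
  have h3 := hrel U V hU.symm hV.symm
  rw [Ideal.Quotient.eq_zero_iff_mem, Ideal.mem_span_singleton'] at h3
  obtain ⟨r3, hr3⟩ := h3
  exact core F U V p1 q1 r1 p2 q2 r2 r3 (S U) hF hUc hVc h0 h1 hr3.symm (hS U hUc)

end Groth.Agent.Lib.Helper83.ArSingCl
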