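import Groth.Agent.Lib.Helper83.ArSingCl2

set_option autoImplicit false

open MvPowerSeries

namespace Groth.Agent.Lib.Helper83.ArSingCl

universe u
variable {k : Type u} [Field k]

lemma deg_lt_three_cases (d : Fin 2 →₀ ℕ) (h : d.degree < 3) :
    d = 0 ∨ d = Finsupp.single 0 1 ∨ d = Finsupp.single 1 1 ∨
    d = Finsupp.single 0 1 + Finsupp.single 0 1 ∨ d = Finsupp.single 0 1 + Finsupp.single 1 1 ∨
    d = Finsupp.single 1 1 + Finsupp.single 1 1 := by
  have hdeg : d.degree = d 0 + d 1 := by
    rw [Finsupp.degree_eq_sum, Fin.sum_univ_two]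
  rw [hdeg] at h
  have h0 : d 0 < 3 := by omega
  have h1 : d 1 < 3 := by omega
  have key : ∀ d' : Fin 2 →₀ ℕ, d' 0 = d 0 → d' 1 = d 1 → d = d' := by
    intro d' e0 e1
    ext i; fin_cases i
    · exact e0.symm
    · exact e1.symm
  interval_cases h0' : d 0 <;> interval_cases h1' : d 1 <;> first | omega | skip
  · left; exact key _ (by simp) (by simp)
  · right; right; left; exact key _ (by simp) (by simp)
  · right; right; right; right; right; exact key _ (by simp) (by simp)
  · right; left; exact key _ (by simp) (by simp)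
  · right; right; right; right; left; exact key _ (by simp) (by simp)
  · right; right; right; left; exact key _ (by simp) (by simp)

/-- the quadratic truncation -/
noncomputable def quad (c1 c2 c3 c4 c5 : k) : P k :=
  C c1 * X 0 + C c2 * X 1 + C c3 * (X 0 * X 0) + C c4 * (X 0 * X 1) + C c5 * (X 1 * X 1)

lemma X_mul_X (s t : Fin 2) : (X s : P k) * X t =
    monomial (Finsupp.single s 1 + Finsupp.single t 1) 1 := by
  rw [X_def, X_def, monomial_mul_monomial, one_mul]

lemma coeff_quad (c1 c2 c3 c4 c5 : k) (d : Fin 2 →₀ ℕ) :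
    coeff d (quad c1 c2 c3 c4 c5) =
      (if d = Finsupp.single 0 1 then c1 else 0) + (if d = Finsupp.single 1 1 then c2 else 0) +
      (if d = Finsupp.single 0 1 + Finsupp.single 0 1 then c3 else 0) +
      (if d = Finsupp.single 0 1 + Finsupp.single 1 1 then c4 else 0) +
      (if d = Finsupp.single 1 1 + Finsupp.single 1 1 then c5 else 0) := by
  classical
  unfold quad
  simp only [map_add, coeff_C_mul, X_mul_X, coeff_monomial, coeff_X, mul_ite, mul_one, mul_zero]

lemma single_facts :
    (Finsupp.single (0 : Fin 2) 1 : Fin 2 →₀ ℕ) ≠ Finsupp.single 1 1 ∧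
    (Finsupp.single (0 : Fin 2) 1 : Fin 2 →₀ ℕ) ≠ 0 ∧
    (Finsupp.single (1 : Fin 2) 1 : Fin 2 →₀ ℕ) ≠ 0 := by
  refine ⟨?_, ?_, ?_⟩
  · intro h; have := congrArg (fun f => f 0) h; simp at this
  · intro h; have := congrArg (fun f => f 0) h; simp at this
  · intro h; have := congrArg (fun f => f 1) h; simp at this

lemma order_sub_quad (F : P k) (hF0 : constantCoeff F = 0) :
    ((3 : ℕ) : ℕ∞) ≤ (F - quad (coeff (Finsupp.single 0 1) F) (coeff (Finsupp.single 1 1) F)
      (coeff (Finsupp.single 0 1 + Finsupp.single 0 1) F)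
      (coeff (Finsupp.single 0 1 + Finsupp.single 1 1) F)
      (coeff (Finsupp.single 1 1 + Finsupp.single 1 1) F)).order := by
  classical
  apply nat_le_order
  intro d hd
  rw [map_sub, coeff_quad]
  have hval : ∀ (d' : Fin 2 →₀ ℕ) (a b : ℕ), d' 0 = a → d' 1 = b → d = d' → d 0 = a ∧ d 1 = b := by
    intro d' a b h0 h1 h; subst h; exact ⟨h0, h1⟩
  have hne : ∀ (d' : Fin 2 →₀ ℕ), (d 0 ≠ d' 0 ∨ d 1 ≠ d' 1) → d ≠ d' := by
    intro d' h e; subst e; rcases h with h | h <;> exact h rfl
  rcases deg_lt_three_cases d hd with h | h | h | h | h | h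
  · subst h
    rw [if_neg (hne _ (by simp)), if_neg (hne _ (by simp)), if_neg (hne _ (by simp)),
      if_neg (hne _ (by simp)), if_neg (hne _ (by simp))]
    simpa using hF0
  · subst h
    rw [if_pos rfl, if_neg (hne _ (by simp)), if_neg (hne _ (by simp)),
      if_neg (hne _ (by simp)), if_neg (hne _ (by simp))]
    ring
  · subst h
    rw [if_neg (hne _ (by simp)), if_pos rfl, if_neg (hne _ (by simp)),
      if_neg (hne _ (by simp)), if_neg (hne _ (by simp))]
    ring
  · subst h
    rw [if_neg (hne _ (by simp)), if_neg (hne _ (by simp)), if_pos rfl,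
      if_neg (hne _ (by simp)), if_neg (hne _ (by simp))]
    ring
  · subst h
    rw [if_neg (hne _ (by simp)), if_neg (hne _ (by simp)), if_neg (hne _ (by simp)),
      if_pos rfl, if_neg (hne _ (by simp))]
    ring
  · subst h
    rw [if_neg (hne _ (by simp)), if_neg (hne _ (by simp)), if_neg (hne _ (by simp)),
      if_neg (hne _ (by simp)), if_pos rfl]
    ring

end Groth.Agent.Lib.Helper83.ArSingCl
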