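import Groth.Agent.Lib.Helper83.ArSingCl3

set_option autoImplicit false

open MvPowerSeries

namespace Groth.Agent.Lib.Helper83.ArSingCl

universe u
variable {k : Type u} [Field k]

lemma delta_form (δ : P k →+* PowerSeries k) (b d : k)
    (hC : ∀ c, δ (C c) = PowerSeries.C c)
    (h0 : δ (X 0) = PowerSeries.C b * PowerSeries.X)
    (h1 : δ (X 1) = PowerSeries.C d * PowerSeries.X) (F : P k) (hF0 : constantCoeff F = 0) :
    ∃ w : PowerSeries k, δ F =
      PowerSeries.C (coeff (Finsupp.single 0 1) F * b + coeff (Finsupp.single 1 1) F * d) *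
        PowerSeries.X +
      PowerSeries.C (coeff (Finsupp.single 0 1 + Finsupp.single 0 1) F * b ^ 2 +
        coeff (Finsupp.single 0 1 + Finsupp.single 1 1) F * b * d +
        coeff (Finsupp.single 1 1 + Finsupp.single 1 1) F * d ^ 2) * PowerSeries.X ^ 2 +
      PowerSeries.X ^ 3 * w := by
  set c1 := coeff (Finsupp.single 0 1) F
  set c2 := coeff (Finsupp.single 1 1) F
  set c3 := coeff (Finsupp.single 0 1 + Finsupp.single 0 1) F
  set c4 := coeff (Finsupp.single 0 1 + Finsupp.single 1 1) F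
  set c5 := coeff (Finsupp.single 1 1 + Finsupp.single 1 1) F
  have hW := mem_pow_of_le_order 3 _ (order_sub_quad F hF0)
  have hmap : Ideal.map δ (Ideal.span {(X 0 : P k), X 1}) ≤
      Ideal.span {(PowerSeries.X : PowerSeries k)} := by
    rw [Ideal.map_span, Ideal.span_le]
    rintro _ ⟨x, hx, rfl⟩
    rcases hx with rfl | rfl
    · rw [h0]; exact Ideal.mul_mem_left _ _ (Ideal.subset_span rfl)
    · rw [h1]; exact Ideal.mul_mem_left _ _ (Ideal.subset_span rfl)
  have h3 : δ (F - quad c1 c2 c3 c4 c5) ∈ Ideal.span {(PowerSeries.X : PowerSeries k) ^ 3} := by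
    rw [← Ideal.span_singleton_pow]
    refine Ideal.pow_right_mono hmap 3 ?_
    rw [← Ideal.map_pow]
    exact Ideal.mem_map_of_mem δ hW
  rw [Ideal.mem_span_singleton] at h3
  obtain ⟨w, hw⟩ := h3
  refine ⟨w, ?_⟩
  have : δ F = δ (quad c1 c2 c3 c4 c5) + δ (F - quad c1 c2 c3 c4 c5) := by
    rw [← map_add]; congr 1; ring
  rw [this, hw]
  unfold quad
  simp only [map_add, map_mul, hC, h0, h1, map_pow]
  ring

lemma coeffs_of_form (g w : PowerSeries k) (α β : k)
    (h : g = PowerSeries.C α * PowerSeries.X + PowerSeries.C β * PowerSeries.X ^ 2 +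
      PowerSeries.X ^ 3 * w) :
    PowerSeries.coeff 0 g = 0 ∧ PowerSeries.coeff 1 g = α ∧ PowerSeries.coeff 2 g = β := by
  subst h
  refine ⟨?_, ?_, ?_⟩
  · simp [PowerSeries.coeff_X_pow_mul', PowerSeries.coeff_X_pow]
  · simp [PowerSeries.coeff_X_pow_mul', PowerSeries.coeff_X_pow, PowerSeries.coeff_X]
  · simp [PowerSeries.coeff_X_pow_mul', PowerSeries.coeff_X_pow, PowerSeries.coeff_X]

end Groth.Agent.Lib.Helper83.ArSingCl
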