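import Groth.Agent.Lib.Helper83.ArSingCl4

set_option autoImplicit false

open MvPowerSeries

namespace Groth.Agent.Lib.Helper83.ArSingCl

universe u
variable {k : Type u} [Field k]

def e2 : Fin 2 ≃ Option Unit where
  toFun i := if i = 1 then none else some ()
  invFun o := match o with
    | none => 1
    | some _ => 0
  left_inv i := by fin_cases i <;> simp
  right_inv o := by cases o <;> simp

variable (k) in
noncomputable def Psi2 : P k ≃ₐ[k] PowerSeries (PowerSeries k) :=
  (renameEquiv k e2).trans (optionEquivLeft Unit k)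

lemma Psi2_X0 : Psi2 k (X 0) = PowerSeries.C (PowerSeries.X : PowerSeries k) := by
  have : (renameEquiv k e2) (X 0) = X (some ()) := by
    change rename _ (X 0) = _
    rw [rename_X]; simp [e2]
  simp only [Psi2, AlgEquiv.trans_apply, this]
  exact optionEquivLeft_X_some ()

lemma Psi2_X1 : Psi2 k (X 1) = (PowerSeries.X : PowerSeries (PowerSeries k)) := by
  have : (renameEquiv k e2) (X 1) = X none := by
    change rename _ (X 1) = _
    rw [rename_X]; simp [e2]
  simp only [Psi2, AlgEquiv.trans_apply, this]
  exact optionEquivLeft_X_none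

lemma Psi2_C (c : k) : Psi2 k (C c) = PowerSeries.C (PowerSeries.C c) := by
  have := (Psi2 k).commutes c
  rw [MvPowerSeries.algebraMap_apply, PowerSeries.algebraMap_apply,
    PowerSeries.algebraMap_apply] at this
  simpa using this

variable (k) in
/-- restriction to `X 0 = 0` -/
noncomputable def res : P k →+* PowerSeries k :=
  (PowerSeries.map (PowerSeries.constantCoeff (R := k))).comp (Psi2 k : P k →+* _)

lemma res_X0 : res k (X 0) = 0 := by
  simp [res, Psi2_X0]

lemma res_X1 : res k (X 1) = PowerSeries.X := by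
  simp [res, Psi2_X1]

lemma res_C (c : k) : res k (C c) = PowerSeries.C c := by
  simp [res, Psi2_C]

lemma coeff_res (G : P k) (j : ℕ) : PowerSeries.coeff j (res k G) =
    PowerSeries.constantCoeff (PowerSeries.coeff j (Psi2 k G)) := by
  simp [res]

noncomputable instance : IsAdicComplete (IsLocalRing.maximalIdeal (PowerSeries k)) (PowerSeries k) := by
  rw [PowerSeries.maximalIdeal_eq_span_X]; infer_instance

lemma residue_eq_zero_iff (x : PowerSeries k) :
    IsLocalRing.residue (PowerSeries k) x = 0 ↔ PowerSeries.constantCoeff x = 0 := by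
  rw [IsLocalRing.residue_eq_zero_iff, IsLocalRing.mem_maximalIdeal, mem_nonunits_iff,
    PowerSeries.isUnit_iff_constantCoeff, isUnit_iff_ne_zero, not_not]

lemma weierstrass_of_res (G : P k) (N : ℕ) (hlt : ∀ j < N, PowerSeries.coeff j (res k G) = 0)
    (hN : PowerSeries.coeff N (res k G) ≠ 0) :
    ∃ (f : Polynomial (PowerSeries k)) (h : PowerSeries (PowerSeries k)),
      (Psi2 k G).IsWeierstrassFactorization f h ∧ f.natDegree = N := by
  have hord : ((Psi2 k G).map (IsLocalRing.residue (PowerSeries k))).order = N := by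
    rw [PowerSeries.order_eq_nat]
    refine ⟨?_, ?_⟩
    · rw [PowerSeries.coeff_map, Ne, residue_eq_zero_iff, ← coeff_res]; exact hN
    · intro i hi
      rw [PowerSeries.coeff_map, residue_eq_zero_iff, ← coeff_res]; exact hlt i hi
  have hne : (Psi2 k G).map (IsLocalRing.residue (PowerSeries k)) ≠ 0 := by
    intro h0
    rw [h0, PowerSeries.order_zero] at hord
    exact ENat.top_ne_natCast N hord
  obtain ⟨f, h, H⟩ := PowerSeries.exists_isWeierstrassFactorization hne
  refine ⟨f, h, H, ?_⟩
  rw [H.natDegree_eq_toNat_order_map, hord]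
  simp

attribute [-instance] PowerSeries.algebraPowerSeries MvPowerSeries.algebraMvPowerSeries

/-- The Weierstrass model of the quotient. -/
lemma WQ (G : P k) (f : Polynomial (PowerSeries k)) (h : PowerSeries (PowerSeries k))
    (H : (Psi2 k G).IsWeierstrassFactorization f h) :
    Nonempty ((P k ⧸ Ideal.span {G}) ≃ₐ[k] (Polynomial (PowerSeries k) ⧸ Ideal.span {f})) := by
  have e1 : (P k ⧸ Ideal.span {G}) ≃ₐ[k]
      (PowerSeries (PowerSeries k) ⧸ Ideal.span {Psi2 k G}) :=
    Ideal.quotientEquivAlg _ _ (Psi2 k) (by rw [Ideal.map_span, Set.image_singleton]; rfl)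
  exact ⟨e1.trans (H.algEquivQuotient.symm.restrictScalars k)⟩

end Groth.Agent.Lib.Helper83.ArSingCl
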