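import Groth.Agent.Lib.Helper83.ArSingP

set_option autoImplicit false

namespace Groth.Agent.Lib.Helper83.ArSingP

universe u
variable {k : Type u} [Field k]

open PowerSeries

/-- extraction of a square root from `Y'^2 = X'^(2n+1)` in `k⟦X⟧`. -/
theorem exists_sqrt_of_sq_eq_pow (X' Y' : PowerSeries k) (hX : X' ≠ 0) (n : ℕ)
    (h : Y' ^ 2 = X' ^ (2 * n + 1)) : ∃ s : PowerSeries k, s ^ 2 = X' ∧ s * X' ^ n = Y' := by
  let K := FractionRing (PowerSeries k)
  have hinj : Function.Injective (algebraMap (PowerSeries k) K) := IsFractionRing.injective _ _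
  have hX' : algebraMap (PowerSeries k) K X' ≠ 0 := by
    intro h0; exact hX (hinj (by rw [h0, map_zero]))
  set z : K := algebraMap _ K Y' / (algebraMap _ K X') ^ n with hz
  have hz2 : z ^ 2 = algebraMap _ K X' := by
    rw [hz, div_pow, ← map_pow, h, map_pow, ← pow_mul, pow_succ, mul_comm n 2]
    exact mul_div_cancel_left₀ _ (pow_ne_zero _ hX')
  obtain ⟨s, hs⟩ := IsIntegrallyClosed.exists_algebraMap_eq_of_isIntegral_pow (R := PowerSeries k)
    (K := K) (x := z) (n := 2) (by norm_num) (by rw [hz2]; exact isIntegral_algebraMap)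
  refine ⟨s, hinj ?_, hinj ?_⟩
  · rw [map_pow, hs, hz2]
  · rw [map_mul, map_pow, hs, hz]
    exact div_mul_cancel₀ _ (pow_ne_zero _ hX')

/-- square roots of power series with constant coefficient `1` (char ≠ 2). -/
theorem exists_sqrt_one (h2 : (2 : k) ≠ 0) (w : PowerSeries k) (hw : constantCoeff w = 1) :
    ∃ h : PowerSeries k, h ^ 2 = w ∧ constantCoeff h = 1 := by
  have H : HenselianRing (PowerSeries k) (Ideal.span {(X : PowerSeries k)}) := inferInstance
  let f : Polynomial (PowerSeries k) := Polynomial.X ^ 2 - Polynomial.C w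
  have hf : f.Monic := Polynomial.monic_X_pow_sub_C _ (by norm_num)
  have h1 : f.eval 1 ∈ Ideal.span {(X : PowerSeries k)} := by
    simp only [f, Polynomial.eval_sub, Polynomial.eval_pow, Polynomial.eval_X, Polynomial.eval_C,
      one_pow]
    rw [Ideal.mem_span_singleton, X_dvd_iff, map_sub, map_one, hw, sub_self]
  have h2' : IsUnit (Ideal.Quotient.mk (Ideal.span {(X : PowerSeries k)})
      (f.derivative.eval 1)) := by
    apply IsUnit.map
    simp only [f, Polynomial.derivative_sub, Polynomial.derivative_X_pow, Polynomial.derivative_C,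
      sub_zero, Polynomial.eval_mul, Polynomial.eval_pow, Polynomial.eval_X, one_pow, mul_one]
    rw [PowerSeries.isUnit_iff_constantCoeff]
    simp
    exact h2
  obtain ⟨a, ha, ha1⟩ := H.is_henselian f hf 1 h1 h2'
  refine ⟨a, ?_, ?_⟩
  · have : f.eval a = 0 := ha
    simp only [f, Polynomial.eval_sub, Polynomial.eval_pow, Polynomial.eval_X,
      Polynomial.eval_C] at this
    exact sub_eq_zero.mp this
  · rw [Ideal.mem_span_singleton, X_dvd_iff, map_sub, map_one, sub_eq_zero] at ha1
    exact ha1

end Groth.Agent.Lib.Helper83.ArSingP
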