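import Groth.Agent.Lib.Helper83.ArSingCl5
import Groth.Agent.Lib.Helper83.ArSingP2

set_option autoImplicit false

open Polynomial

namespace Groth.Agent.Lib.Helper83.ArSingCl

universe u
variable {k : Type u} [Field k]

local notation "B2" => PowerSeries k

lemma poly_equiv (f f' : Polynomial (PowerSeries k))
    (ψ : Polynomial (PowerSeries k) ≃ₐ[PowerSeries k] Polynomial (PowerSeries k))
    (u : Polynomial (PowerSeries k)) (hu : IsUnit u) (h : ψ f = u * f') :
    Nonempty ((Polynomial (PowerSeries k) ⧸ Ideal.span {f}) ≃ₐ[k]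
      (Polynomial (PowerSeries k) ⧸ Ideal.span {f'})) := by
  refine ⟨Ideal.quotientEquivAlg _ _ (ψ.restrictScalars k) ?_⟩
  rw [Ideal.map_span, Set.image_singleton]
  change _ = Ideal.span {ψ f}
  rw [h, Ideal.span_singleton_mul_left_unit hu]

lemma monic_deg2 (f : Polynomial (PowerSeries k)) (hm : f.Monic) (hd : f.natDegree = 2) :
    f = X ^ 2 + C (f.coeff 1) * X + C (f.coeff 0) := by
  ext n
  rcases n with _ | _ | _ | n
  · simp
  · simp
  · have : f.coeff 2 = 1 := by rw [← hd]; exact hm
    simp [this]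
  · have : f.coeff (n + 3) = 0 := coeff_eq_zero_of_natDegree_lt (by omega)
    simp [this, coeff_X_pow]

lemma monic_deg1 (f : Polynomial (PowerSeries k)) (hm : f.Monic) (hd : f.natDegree = 1) :
    f = X + C (f.coeff 0) := by
  ext n
  rcases n with _ | _ | n
  · simp
  · have : f.coeff 1 = 1 := by rw [← hd]; exact hm
    simp [this]
  · have : f.coeff (n + 2) = 0 := coeff_eq_zero_of_natDegree_lt (by omega)
    simp [this, coeff_X]

lemma exists_sqrt_unit [IsAlgClosed k] (h2 : (2 : k) ≠ 0) (v : PowerSeries k) (hv : IsUnit v) :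
    ∃ w : PowerSeries k, IsUnit w ∧ w ^ 2 = v := by
  rw [PowerSeries.isUnit_iff_constantCoeff, isUnit_iff_ne_zero] at hv
  obtain ⟨s, hs⟩ := IsAlgClosed.exists_pow_nat_eq (PowerSeries.constantCoeff v) (n := 2)
    (by norm_num)
  have hs0 : s ≠ 0 := by
    rintro rfl
    rw [zero_pow (by norm_num)] at hs
    exact hv hs.symm
  obtain ⟨w', hw', hw'1⟩ := ArSingP.exists_sqrt_one h2
    (PowerSeries.C (PowerSeries.constantCoeff v)⁻¹ * v) (by
      rw [map_mul, PowerSeries.constantCoeff_C, inv_mul_cancel₀ hv])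
  refine ⟨PowerSeries.C s * w', ?_, ?_⟩
  · rw [PowerSeries.isUnit_iff_constantCoeff, map_mul, PowerSeries.constantCoeff_C, hw'1, mul_one]
    exact isUnit_iff_ne_zero.mpr hs0
  · rw [mul_pow, hw', ← map_pow, hs, ← mul_assoc, ← map_mul, mul_inv_cancel₀ hv, map_one, one_mul]

/-- normal form of a distinguished polynomial of degree 2. -/
theorem normal_form_two [IsAlgClosed k] (h2 : (2 : k) ≠ 0) (f : Polynomial (PowerSeries k))
    (hm : f.Monic) (hd : f.natDegree = 2)
    (h1 : PowerSeries.constantCoeff (f.coeff 1) = 0)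
    (h0 : PowerSeries.constantCoeff (f.coeff 0) = 0) :
    (∃ n : ℕ, Nonempty ((Polynomial (PowerSeries k) ⧸ Ideal.span {f}) ≃ₐ[k]
      (Polynomial (PowerSeries k) ⧸
        Ideal.span {(X ^ 2 - C ((PowerSeries.X : PowerSeries k) ^ (n + 1)) :
          Polynomial (PowerSeries k))}))) ∨
    Nonempty ((Polynomial (PowerSeries k) ⧸ Ideal.span {f}) ≃ₐ[k]
      (Polynomial (PowerSeries k) ⧸ Ideal.span {(X ^ 2 : Polynomial (PowerSeries k))})) := by
  set p := f.coeff 1 with hp
  set q := f.coeff 0 with hq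
  have hf := monic_deg2 f hm hd
  rw [← hp, ← hq] at hf
  set p' : PowerSeries k := PowerSeries.C (2⁻¹ : k) * p with hp'
  have hpp : p = 2 * p' := by
    rw [hp', ← mul_assoc]
    have : (2 : PowerSeries k) * PowerSeries.C (2⁻¹ : k) = 1 := by
      rw [show (2 : PowerSeries k) = PowerSeries.C (2 : k) from
        (map_ofNat (PowerSeries.C (R := k)) 2).symm, ← map_mul,
        mul_inv_cancel₀ h2, map_one]
    rw [this, one_mul]
  set h : PowerSeries k := p' ^ 2 - q with hh
  have hh0 : PowerSeries.constantCoeff h = 0 := by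
    rw [hh, map_sub, map_pow, hp', map_mul, h1, h0]; simp
  by_cases hz : h = 0
  · right
    refine poly_equiv f _ (algEquivAevalXAddC (-p')) 1 isUnit_one ?_
    rw [algEquivAevalXAddC_apply, hf, hpp]
    simp only [map_add, map_mul, map_pow, aeval_X, aeval_C, Polynomial.algebraMap_eq]
    have hq' : q = p' ^ 2 := by rw [hh, sub_eq_zero] at hz; exact hz.symm
    rw [hq']
    simp only [map_neg, map_pow, map_mul, map_ofNat]
    ring
  · left
    have hunit := PowerSeries.isUnit_divided_by_X_pow_order hz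
    have hfac := PowerSeries.X_pow_order_mul_divXPowOrder (f := h)
    set N := h.order.toNat with hN
    set v := PowerSeries.divXPowOrder h with hv
    have hN0 : N ≠ 0 := by
      intro hN0
      rw [hN0, pow_zero, one_mul] at hfac
      rw [← hfac] at hh0
      rw [PowerSeries.isUnit_iff_constantCoeff, hh0] at hunit
      exact not_isUnit_zero hunit
    obtain ⟨n, hn⟩ := Nat.exists_eq_succ_of_ne_zero hN0
    obtain ⟨w, hwu, hw2⟩ := exists_sqrt_unit h2 v hunit
    refine ⟨n, ?_⟩
    let _ : Invertible w := hwu.invertible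
    refine poly_equiv f _ (algEquivCMulXAddC w (-p')) (C (w ^ 2)) ?_ ?_
    · exact (hwu.pow 2).map C
    · rw [algEquivCMulXAddC_apply, hf, hpp]
      simp only [map_add, map_mul, map_pow, aeval_X, aeval_C, Polynomial.algebraMap_eq]
      have hq' : q = p' ^ 2 - PowerSeries.X ^ (n + 1) * w ^ 2 := by
        rw [hw2, ← Nat.succ_eq_add_one, ← hn, hfac, hh]; ring
      rw [hq']
      simp only [map_neg, map_pow, map_mul, map_ofNat, map_sub]
      ring

/-- normal form of a distinguished polynomial of degree 1. -/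
theorem normal_form_one (f : Polynomial (PowerSeries k))
    (hm : f.Monic) (hd : f.natDegree = 1) :
    Nonempty ((Polynomial (PowerSeries k) ⧸ Ideal.span {f}) ≃ₐ[k]
      (Polynomial (PowerSeries k) ⧸
        Ideal.span {(X - C ((PowerSeries.X : PowerSeries k) ^ 2) :
          Polynomial (PowerSeries k))})) := by
  have hf := monic_deg1 f hm hd
  set q := f.coeff 0 with hq
  refine poly_equiv f _ (algEquivAevalXAddC (-q - PowerSeries.X ^ 2)) 1 isUnit_one ?_
  rw [algEquivAevalXAddC_apply, hf]
  simp only [map_add, aeval_X, aeval_C, Polynomial.algebraMap_eq, map_sub, map_neg, map_pow]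
  ring

end Groth.Agent.Lib.Helper83.ArSingCl
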