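import Groth.Agent.Lib.Helper83.ArSingCl6

set_option autoImplicit false

open MvPowerSeries

namespace Groth.Agent.Lib.Helper83.ArSingCl

universe u
variable {k : Type u} [Field k]

variable (k) in
noncomputable def swapE : P k ≃ₐ[k] P k := renameEquiv k (Equiv.swap (0 : Fin 2) 1)

lemma swapE_X0 : swapE k (X 0) = X 1 := by
  change rename _ (X 0) = _
  rw [rename_X]; simp

lemma swapE_X1 : swapE k (X 1) = X 0 := by
  change rename _ (X 1) = _
  rw [rename_X]; simp

noncomputable def shFam (c : k) : Fin 2 → P k := ![X 0 + C c * X 1, X 1]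

lemma shFam_hasSubst (c : k) : HasSubst (shFam c) :=
  hasSubst_of_constantCoeff_zero (by intro s; fin_cases s <;> simp [shFam])

noncomputable def shHom (c : k) : P k →ₐ[k] P k := substAlgHom (shFam_hasSubst c)

lemma shHom_X0 (c : k) : shHom c (X 0) = X 0 + C c * X 1 := by
  rw [shHom, substAlgHom_X]; rfl

lemma shHom_X1 (c : k) : shHom c (X 1) = X 1 := by
  rw [shHom, substAlgHom_X]; rfl

lemma algHom_C (φ : P k →ₐ[k] P k) (c : k) : φ (C c) = C c := by
  have := φ.commutes c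
  rwa [← c_eq_algebraMap] at this

lemma shHom_comp (c : k) (f : P k) : shHom c (shHom (-c) f) = f := by
  unfold shHom
  rw [substAlgHom_comp_substAlgHom_apply, substAlgHom_apply]
  have : (fun s => (substAlgHom (shFam_hasSubst c)) (shFam (-c) s)) = (X : Fin 2 → P k) := by
    funext s
    fin_cases s
    · show (substAlgHom (shFam_hasSubst c)) (X 0 + C (-c) * X 1) = X 0
      rw [map_add, map_mul, algHom_C, substAlgHom_X, substAlgHom_X]
      show X 0 + C c * X 1 + C (-c) * X 1 = X 0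
      rw [map_neg]; ring
    · show (substAlgHom (shFam_hasSubst c)) (X 1) = X 1
      rw [substAlgHom_X]; rfl
  rw [this, subst_self]; rfl

noncomputable def shE (c : k) : P k ≃ₐ[k] P k :=
  AlgEquiv.ofAlgHom (shHom c) (shHom (-c))
    (AlgHom.ext fun f => shHom_comp c f)
    (AlgHom.ext fun f => by have := shHom_comp (-c) f; rwa [neg_neg] at this)

lemma shE_X0 (c : k) : shE c (X 0) = X 0 + C c * X 1 := shHom_X0 c
lemma shE_X1 (c : k) : shE c (X 1) = X 1 := shHom_X1 c

lemma quot_equiv (φ : P k ≃ₐ[k] P k) (G : P k) :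
    Nonempty ((P k ⧸ Ideal.span {G}) ≃ₐ[k] (P k ⧸ Ideal.span {φ G})) :=
  ⟨Ideal.quotientEquivAlg _ _ φ (by rw [Ideal.map_span, Set.image_singleton]; rfl)⟩

lemma good_of (φ : P k ≃ₐ[k] P k) (b d : k)
    (hb : res k (φ (X 0)) = PowerSeries.C b * PowerSeries.X)
    (hd : res k (φ (X 1)) = PowerSeries.C d * PowerSeries.X) (F : P k)
    (hF0 : constantCoeff F = 0) :
    PowerSeries.coeff 0 (res k (φ F)) = 0 ∧
    PowerSeries.coeff 1 (res k (φ F)) =
      coeff (Finsupp.single 0 1) F * b + coeff (Finsupp.single 1 1) F * d ∧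
    PowerSeries.coeff 2 (res k (φ F)) =
      coeff (Finsupp.single 0 1 + Finsupp.single 0 1) F * b ^ 2 +
        coeff (Finsupp.single 0 1 + Finsupp.single 1 1) F * b * d +
        coeff (Finsupp.single 1 1 + Finsupp.single 1 1) F * d ^ 2 := by
  obtain ⟨w, hw⟩ := delta_form ((res k).comp (φ : P k →+* P k)) b d
    (fun c => by
      show res k (φ (C c)) = _
      rw [show φ (C c) = C c from algHom_C (φ : P k →ₐ[k] P k) c, res_C])
    hb hd F hF0
  exact coeffs_of_form _ w _ _ hw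

theorem exists_good (F : P k) (hF0 : constantCoeff F = 0)
    (hne : ¬ (coeff (Finsupp.single 0 1) F = 0 ∧ coeff (Finsupp.single 1 1) F = 0 ∧
      coeff (Finsupp.single 0 1 + Finsupp.single 0 1) F = 0 ∧
      coeff (Finsupp.single 0 1 + Finsupp.single 1 1) F = 0 ∧
      coeff (Finsupp.single 1 1 + Finsupp.single 1 1) F = 0)) :
    ∃ φ : P k ≃ₐ[k] P k, PowerSeries.coeff 0 (res k (φ F)) = 0 ∧
      (PowerSeries.coeff 1 (res k (φ F)) ≠ 0 ∨
        (PowerSeries.coeff 1 (res k (φ F)) = 0 ∧ PowerSeries.coeff 2 (res k (φ F)) ≠ 0)) := by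
  set c1 := coeff (Finsupp.single 0 1) F
  set c2 := coeff (Finsupp.single 1 1) F
  set c3 := coeff (Finsupp.single 0 1 + Finsupp.single 0 1) F
  set c4 := coeff (Finsupp.single 0 1 + Finsupp.single 1 1) F
  set c5 := coeff (Finsupp.single 1 1 + Finsupp.single 1 1) F
  -- the three coordinate changes
  have hid := good_of (AlgEquiv.refl : P k ≃ₐ[k] P k) 0 1
    (by simp [res_X0]) (by simp [res_X1]) F hF0
  have hsw := good_of (swapE k) 1 0
    (by rw [swapE_X0, res_X1]; simp) (by rw [swapE_X1, res_X0]; simp) F hF0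
  have hsh := good_of (shE (1 : k)) 1 1
    (by rw [shE_X0, map_add, map_mul, res_X0, res_X1, res_C]; simp)
    (by rw [shE_X1, res_X1]; simp) F hF0
  simp only [mul_zero, mul_one, zero_add, add_zero, one_pow, ne_eq, OfNat.ofNat_ne_zero,
    not_false_eq_true, zero_pow] at hid hsw hsh
  by_cases h2 : c2 = 0
  · by_cases h1 : c1 = 0
    · by_cases h5 : c5 = 0
      · by_cases h3 : c3 = 0
        · have h4 : c4 ≠ 0 := fun h4 => hne ⟨h1, h2, h3, h4, h5⟩
          refine ⟨shE 1, hsh.1, Or.inr ⟨?_, ?_⟩⟩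
          · rw [hsh.2.1]; show c1 + c2 = 0; rw [h1, h2, add_zero]
          · rw [hsh.2.2]; show c3 + c4 + c5 ≠ 0; rw [h3, h5, zero_add, add_zero]; exact h4
        · refine ⟨swapE k, hsw.1, Or.inr ⟨?_, ?_⟩⟩
          · rw [hsw.2.1]; exact h1
          · rw [hsw.2.2]; exact h3
      · refine ⟨AlgEquiv.refl, hid.1, Or.inr ⟨?_, ?_⟩⟩
        · rw [hid.2.1]; exact h2
        · rw [hid.2.2]; exact h5
    · exact ⟨swapE k, hsw.1, Or.inl (by rw [hsw.2.1]; exact h1)⟩
  · exact ⟨AlgEquiv.refl, hid.1, Or.inl (by rw [hid.2.1]; exact h2)⟩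

end Groth.Agent.Lib.Helper83.ArSingCl
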