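import Groth.Agent.Lib.Helper83.ArSingCl7

set_option autoImplicit false

open MvPowerSeries

namespace Groth.Agent.Lib.Helper83.ArSingCl

universe u
variable {k : Type u} [Field k]

lemma X_mem_max : (PowerSeries.X : PowerSeries k) ∈ IsLocalRing.maximalIdeal (PowerSeries k) := by
  rw [PowerSeries.maximalIdeal_eq_span_X]; exact Ideal.subset_span rfl

lemma dist_A (n : ℕ) : (Psi2 k (ArSing.eqn k n)).IsWeierstrassFactorization
    (Polynomial.X ^ 2 - Polynomial.C ((PowerSeries.X : PowerSeries k) ^ (n + 1))) 1 where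
  isDistinguishedAt :=
    { monic := Polynomial.monic_X_pow_sub_C _ (by norm_num)
      mem := by
        intro j hj
        rw [Polynomial.natDegree_X_pow_sub_C] at hj
        rw [Polynomial.coeff_sub, Polynomial.coeff_X_pow, Polynomial.coeff_C]
        have h2 : j ≠ 2 := by omega
        simp only [h2, if_false, zero_sub]
        split_ifs with h0
        · exact neg_mem (Ideal.pow_mem_of_mem _ X_mem_max _ (Nat.succ_pos n))
        · simp }
  isUnit := isUnit_one
  eq_mul := by
    unfold ArSing.eqn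
    rw [map_sub, map_pow, map_pow, Psi2_X0, Psi2_X1]
    simp

lemma dist_sq : (Psi2 k (X 1 ^ 2)).IsWeierstrassFactorization
    (Polynomial.X ^ 2 : Polynomial (PowerSeries k)) 1 where
  isDistinguishedAt :=
    { monic := Polynomial.monic_X_pow 2
      mem := by
        intro j hj
        rw [Polynomial.natDegree_X_pow] at hj
        rw [Polynomial.coeff_X_pow, if_neg (by omega)]
        exact zero_mem _ }
  isUnit := isUnit_one
  eq_mul := by
    rw [map_pow, Psi2_X1]
    simp

lemma dist_A0 : (Psi2 k (X 0 ^ 2 - X 1)).IsWeierstrassFactorization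
    (Polynomial.X - Polynomial.C ((PowerSeries.X : PowerSeries k) ^ 2)) (-1) where
  isDistinguishedAt :=
    { monic := Polynomial.monic_X_sub_C _
      mem := by
        intro j hj
        rw [Polynomial.natDegree_X_sub_C] at hj
        have h0 : j = 0 := by omega
        subst h0
        rw [Polynomial.coeff_sub, Polynomial.coeff_X_zero, Polynomial.coeff_C_zero, zero_sub]
        exact neg_mem (Ideal.pow_mem_of_mem _ X_mem_max _ (by norm_num)) }
  isUnit := isUnit_one.neg
  eq_mul := by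
    rw [map_sub, map_pow, Psi2_X0, Psi2_X1]
    simp

lemma swap_eqn0 : swapE k (ArSing.eqn k 0) = X 0 ^ 2 - X 1 := by
  unfold ArSing.eqn
  rw [map_sub, map_pow, map_pow, swapE_X0, swapE_X1]
  simp

theorem exists_equiv [IsAlgClosed k] (h2 : (2 : k) ≠ 0) (F : P k) (hF0 : constantCoeff F = 0)
    (hne : ¬ (coeff (Finsupp.single 0 1) F = 0 ∧ coeff (Finsupp.single 1 1) F = 0 ∧
      coeff (Finsupp.single 0 1 + Finsupp.single 0 1) F = 0 ∧
      coeff (Finsupp.single 0 1 + Finsupp.single 1 1) F = 0 ∧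
      coeff (Finsupp.single 1 1 + Finsupp.single 1 1) F = 0)) :
    (∃ n : ℕ, Nonempty ((P k ⧸ Ideal.span {F}) ≃ₐ[k] ArSing.ring k n)) ∨
    Nonempty ((P k ⧸ Ideal.span {F}) ≃ₐ[k] (P k ⧸ Ideal.span {(X 1 : P k) ^ 2})) := by
  obtain ⟨φ, hc0, hcase⟩ := exists_good F hF0 hne
  obtain ⟨e0⟩ := quot_equiv φ F
  rcases hcase with h1 | ⟨h1, h2'⟩
  · -- smooth case
    obtain ⟨f, h, H, hdeg⟩ := weierstrass_of_res (φ F) 1
      (by intro j hj; have : j = 0 := by omega
          subst this; exact hc0) h1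
    obtain ⟨e1⟩ := WQ (φ F) f h H
    obtain ⟨e2⟩ := normal_form_one f H.isDistinguishedAt.monic hdeg
    obtain ⟨e3⟩ := WQ (X 0 ^ 2 - X 1 : P k) _ _ dist_A0
    obtain ⟨e4⟩ := quot_equiv (swapE k) (ArSing.eqn k 0)
    rw [swap_eqn0] at e4
    exact Or.inl ⟨0, ⟨((e0.trans e1).trans e2).trans (e3.symm.trans e4.symm)⟩⟩
  · obtain ⟨f, h, H, hdeg⟩ := weierstrass_of_res (φ F) 2
      (by intro j hj
          have : j = 0 ∨ j = 1 := by omega
          rcases this with rfl | rfl
          · exact hc0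
          · exact h1) h2'
    obtain ⟨e1⟩ := WQ (φ F) f h H
    have hmem : ∀ j < 2, PowerSeries.constantCoeff (f.coeff j) = 0 := by
      intro j hj
      have := H.isDistinguishedAt.mem (n := j) (by rw [hdeg]; exact hj)
      rw [IsLocalRing.mem_maximalIdeal, mem_nonunits_iff, PowerSeries.isUnit_iff_constantCoeff,
        isUnit_iff_ne_zero, not_not] at this
      exact this
    rcases normal_form_two h2 f H.isDistinguishedAt.monic hdeg (hmem 1 (by norm_num))
      (hmem 0 (by norm_num)) with ⟨n, e2⟩ | e2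
    · obtain ⟨e2⟩ := e2
      obtain ⟨e3⟩ := WQ (ArSing.eqn k n) _ _ (dist_A n)
      exact Or.inl ⟨n, ⟨((e0.trans e1).trans e2).trans e3.symm⟩⟩
    · obtain ⟨e2⟩ := e2
      obtain ⟨e3⟩ := WQ ((X 1 : P k) ^ 2) _ _ dist_sq
      exact Or.inr ⟨((e0.trans e1).trans e2).trans e3.symm⟩

end Groth.Agent.Lib.Helper83.ArSingCl
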