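import Groth.Agent.Lib.Helper83.ArSingCl8

set_option autoImplicit false

namespace Groth.Agent.Lib.Helper83.ArSingCl

universe u
variable {k : Type u} [Field k]

noncomputable def tau (a : Fin 2 → k) : MvPolynomial (Fin 2) k →ₐ[k] MvPolynomial (Fin 2) k :=
  MvPolynomial.aeval (fun i => MvPolynomial.X i + MvPolynomial.C (a i))

lemma tau_X (a : Fin 2 → k) (i : Fin 2) :
    tau a (MvPolynomial.X i) = MvPolynomial.X i + MvPolynomial.C (a i) := by
  simp [tau]

lemma tau_C (a : Fin 2 → k) (c : k) : tau a (MvPolynomial.C c) = MvPolynomial.C c := by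
  simp [tau]

lemma eval_zero_tau (a : Fin 2 → k) (g : MvPolynomial (Fin 2) k) :
    MvPolynomial.eval 0 (tau a g) = MvPolynomial.eval a g := by
  induction g using MvPolynomial.induction_on with
  | C c => simp
  | add p q hp hq => rw [map_add, map_add, hp, hq, map_add]
  | mul_X p i hp => rw [map_mul, map_mul, hp, map_mul, tau_X]; simp

lemma pderiv_tau (a : Fin 2 → k) (i : Fin 2) (g : MvPolynomial (Fin 2) k) :
    MvPolynomial.pderiv i (tau a g) = tau a (MvPolynomial.pderiv i g) := by
  induction g using MvPolynomial.induction_on with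
  | C c => simp
  | add p q hp hq => simp only [map_add, hp, hq]
  | mul_X p j hp =>
    rw [map_mul, Derivation.leibniz, Derivation.leibniz, hp, map_add, tau_X, map_add,
      MvPolynomial.pderiv_C, add_zero]
    by_cases h : i = j
    · subst h
      rw [MvPolynomial.pderiv_X_self]
      simp only [smul_eq_mul, map_mul, tau_X, mul_one]
    · rw [MvPolynomial.pderiv_X_of_ne (Ne.symm h)]
      simp only [smul_eq_mul, map_mul, map_zero, tau_X, mul_zero]

lemma eval_zero_eq (q : MvPolynomial (Fin 2) k) :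
    MvPolynomial.eval 0 q = MvPolynomial.coeff 0 q := by
  rw [MvPolynomial.eval_zero]; rfl

lemma coeff1 (a : Fin 2 → k) (i : Fin 2) (f : MvPolynomial (Fin 2) k) :
    MvPolynomial.coeff (Finsupp.single i 1) (tau a f) =
      MvPolynomial.eval a (MvPolynomial.pderiv i f) := by
  rw [← eval_zero_tau, ← pderiv_tau, eval_zero_eq, MvPolynomial.coeff_pderiv]
  simp

lemma coeff2 (a : Fin 2 → k) (i j : Fin 2) (f : MvPolynomial (Fin 2) k) :
    MvPolynomial.coeff (Finsupp.single i 1 + Finsupp.single j 1) (tau a f) *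
      (((Finsupp.single i 1 : Fin 2 →₀ ℕ) j : k) + 1) =
      MvPolynomial.eval a (MvPolynomial.pderiv i (MvPolynomial.pderiv j f)) := by
  rw [← eval_zero_tau, ← pderiv_tau, ← pderiv_tau, eval_zero_eq, MvPolynomial.coeff_pderiv,
    MvPolynomial.coeff_pderiv]
  simp


open MvPowerSeries in
lemma order_pow_ge (U : P k) (hU : constantCoeff U = 0) (n : ℕ) (hn : 2 ≤ n) :
    ((3 : ℕ) : ℕ∞) ≤ (U ^ (n + 1)).order := by
  have h1 := le_order_pow (f := U) (n + 1)
  have h2 : ((1 : ℕ) : ℕ∞) ≤ U.order := order_ge_one hU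
  refine le_trans ?_ h1
  calc ((3 : ℕ) : ℕ∞) ≤ ((n + 1 : ℕ) : ℕ∞) := by exact_mod_cast (by omega : 3 ≤ n + 1)
    _ = (n + 1) • ((1 : ℕ) : ℕ∞) := by simp
    _ ≤ (n + 1) • U.order := nsmul_le_nsmul_right h2 _

open MvPowerSeries in
theorem main {k : Type u} [Field k] [IsAlgClosed k] (h2 : (2 : k) ≠ 0)
    (f : MvPolynomial (Fin 2) k) (a : Fin 2 → k)
    (hfa : MvPolynomial.eval a f = 0) :
    ((∀ i : Fin 2, MvPolynomial.eval a (MvPolynomial.pderiv i f) = 0) ∧
      ∀ i j : Fin 2, MvPolynomial.eval a (MvPolynomial.pderiv i (MvPolynomial.pderiv j f)) = 0) ↔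
    ¬ ((∃ n : ℕ, Nonempty ((MvPowerSeries (Fin 2) k ⧸ Ideal.span
        ({(MvPolynomial.aeval (fun i : Fin 2 => MvPolynomial.X i + MvPolynomial.C (a i)) f).toMvPowerSeries} :
          Set (MvPowerSeries (Fin 2) k))) ≃ₐ[k] ArSing.ring k n)) ∨
        Nonempty ((MvPowerSeries (Fin 2) k ⧸ Ideal.span
        ({(MvPolynomial.aeval (fun i : Fin 2 => MvPolynomial.X i + MvPolynomial.C (a i)) f).toMvPowerSeries} :
          Set (MvPowerSeries (Fin 2) k))) ≃ₐ[k]
          (MvPowerSeries (Fin 2) k ⧸ Ideal.span ({MvPowerSeries.X 1 ^ 2} : Set (MvPowerSeries (Fin 2) k))))) := by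
  change _ ↔ ¬ ((∃ n : ℕ, Nonempty ((P k ⧸ Ideal.span {((tau a f : MvPolynomial (Fin 2) k) : P k)})
    ≃ₐ[k] ArSing.ring k n)) ∨ Nonempty ((P k ⧸ Ideal.span {((tau a f : MvPolynomial (Fin 2) k) : P k)})
    ≃ₐ[k] (P k ⧸ Ideal.span {(X 1 : P k) ^ 2})))
  set F : P k := ((tau a f : MvPolynomial (Fin 2) k) : P k) with hF
  have hc : ∀ d, coeff d F = MvPolynomial.coeff d (tau a f) := fun d => MvPolynomial.coeff_coe _ d
  have hF0 : constantCoeff F = 0 := by
    rw [← coeff_zero_eq_constantCoeff_apply, hc, ← eval_zero_eq, eval_zero_tau, hfa]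
  have e1 : ∀ i : Fin 2, coeff (Finsupp.single i 1) F =
      MvPolynomial.eval a (MvPolynomial.pderiv i f) := fun i => by rw [hc, coeff1]
  have e2 : ∀ i j : Fin 2, coeff (Finsupp.single i 1 + Finsupp.single j 1) F *
      (((Finsupp.single i 1 : Fin 2 →₀ ℕ) j : k) + 1) =
      MvPolynomial.eval a (MvPolynomial.pderiv i (MvPolynomial.pderiv j f)) :=
    fun i j => by rw [hc, coeff2]
  have e00 := e2 0 0
  have e01 := e2 0 1
  have e11 := e2 1 1
  have e10 := e2 1 0
  simp only [Finsupp.single_eq_same, Nat.cast_one] at e00 e11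
  rw [Finsupp.single_eq_of_ne (by decide), Nat.cast_zero, zero_add, mul_one] at e01 e10
  have h11 : ((1 : k) + 1) ≠ 0 := by rw [one_add_one_eq_two]; exact h2
  constructor
  · rintro ⟨hd1, hd2⟩
    have hF3 : ((3 : ℕ) : ℕ∞) ≤ F.order := by
      apply nat_le_order
      intro d hd
      rcases deg_lt_three_cases d hd with h | h | h | h | h | h <;> subst h
      · rw [coeff_zero_eq_constantCoeff_apply]; exact hF0
      · rw [e1]; exact hd1 0
      · rw [e1]; exact hd1 1
      · have := e00; rw [hd2] at this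
        exact (mul_eq_zero.mp this).resolve_right h11
      · rw [e01]; exact hd2 0 1
      · have := e11; rw [hd2] at this
        exact (mul_eq_zero.mp this).resolve_right h11
    rintro (⟨n, ⟨e⟩⟩ | ⟨⟨e⟩⟩)
    · refine no_equiv F (ArSing.eqn k n) hF3 (by simp [ArSing.eqn]) e (fun U => U ^ (n + 1))
        ?_ ?_
      · intro U hU
        rcases n with _ | _ | n
        · left; simp
        · right; left; rfl
        · right; right; exact order_pow_ge U hU (n + 2) (by omega)
      · intro U V hU hV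
        have h0 : Ideal.Quotient.mk (Ideal.span {ArSing.eqn k n}) (X 1 ^ 2 - X 0 ^ (n + 1)) = 0 := by
          rw [Ideal.Quotient.eq_zero_iff_mem]
          exact Ideal.subset_span rfl
        have h1 : Ideal.Quotient.mk (Ideal.span {F}) (V ^ 2 - U ^ (n + 1)) =
            e.symm (Ideal.Quotient.mk (Ideal.span {ArSing.eqn k n}) (X 1 ^ 2 - X 0 ^ (n + 1))) := by
          simp only [map_sub, map_pow]
          rw [hU, hV]
        rw [h1, h0, map_zero]
    · refine no_equiv F ((X 1 : P k) ^ 2) hF3 (by simp) e (fun _ => 0) ?_ ?_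
      · intro U _
        right; right; simp
      · intro U V _ hV
        have h0 : Ideal.Quotient.mk (Ideal.span {(X 1 : P k) ^ 2}) (X 1 ^ 2) = 0 := by
          rw [Ideal.Quotient.eq_zero_iff_mem]
          exact Ideal.subset_span rfl
        have h1 : Ideal.Quotient.mk (Ideal.span {F}) (V ^ 2 - 0) =
            e.symm (Ideal.Quotient.mk (Ideal.span {(X 1 : P k) ^ 2}) (X 1 ^ 2)) := by
          simp only [sub_zero, map_pow]
          rw [hV]
        rw [h1, h0, map_zero]
  · intro hnot
    by_contra hL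
    apply hnot
    refine exists_equiv h2 F hF0 ?_
    rintro ⟨h1, h2', h3, h4, h5⟩
    apply hL
    refine ⟨?_, ?_⟩
    · intro i; fin_cases i
      · rw [← e1]; exact h1
      · rw [← e1]; exact h2'
    · intro i j
      fin_cases i <;> fin_cases j
      · show MvPolynomial.eval a (MvPolynomial.pderiv 0 (MvPolynomial.pderiv 0 f)) = 0
        rw [← e00, h3, zero_mul]
      · show MvPolynomial.eval a (MvPolynomial.pderiv 0 (MvPolynomial.pderiv 1 f)) = 0
        rw [← e01, h4]
      · show MvPolynomial.eval a (MvPolynomial.pderiv 1 (MvPolynomial.pderiv 0 f)) = 0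
        rw [← e10, add_comm, h4]
      · show MvPolynomial.eval a (MvPolynomial.pderiv 1 (MvPolynomial.pderiv 1 f)) = 0
        rw [← e11, h5, zero_mul]

end Groth.Agent.Lib.Helper83.ArSingCl
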