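import Groth.Agent.Lib.Helper83.ArSingCl9

set_option autoImplicit false

open MvPowerSeries

namespace Groth.Agent.Lib.Helper83.ArSingCl

universe u
variable {k : Type u} [Field k]

attribute [-instance] PowerSeries.algebraPowerSeries MvPowerSeries.algebraMvPowerSeries

/-- the formal branch of a power series with `V(0,Y)` of order one. -/
lemma exists_branch_of_res (V : P k) (h0 : PowerSeries.coeff 0 (res k V) = 0)
    (h1 : PowerSeries.coeff 1 (res k V) ≠ 0) :
    ∃ β : P k →ₐ[k] PowerSeries k, β (X 0) = PowerSeries.X ∧ ∀ g, β g = 0 ↔ V ∣ g := by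
  obtain ⟨f, h, H, hdeg⟩ := weierstrass_of_res V 1
    (by intro j hj; have : j = 0 := by omega
        subst this; exact h0) h1
  have hf := monic_deg1 f H.isDistinguishedAt.monic hdeg
  set q := f.coeff 0 with hq
  let e1 : (P k ⧸ Ideal.span {V}) ≃ₐ[k]
      (PowerSeries (PowerSeries k) ⧸ Ideal.span {Psi2 k V}) :=
    Ideal.quotientEquivAlg _ _ (Psi2 k) (by rw [Ideal.map_span, Set.image_singleton]; rfl)
  have hf' : Ideal.span {f} = Ideal.span {(Polynomial.X - Polynomial.C (-q) :
      Polynomial (PowerSeries k))} := by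
    rw [hf]; congr 2; rw [map_neg, sub_neg_eq_add]
  let e3 : (Polynomial (PowerSeries k) ⧸ Ideal.span {f}) ≃ₐ[PowerSeries k] PowerSeries k :=
    (Ideal.quotientEquivAlgOfEq (PowerSeries k) hf').trans
      (Polynomial.quotientSpanXSubCAlgEquiv (-q))
  let e23 : (PowerSeries (PowerSeries k) ⧸ Ideal.span {Psi2 k V}) ≃ₐ[PowerSeries k]
      PowerSeries k := H.algEquivQuotient.symm.trans e3
  let E : (P k ⧸ Ideal.span {V}) ≃ₐ[k] PowerSeries k := e1.trans (e23.restrictScalars k)
  refine ⟨E.toAlgHom.comp (Ideal.Quotient.mkₐ k _), ?_, ?_⟩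
  · show e23 (e1 (Ideal.Quotient.mk _ (X 0))) = PowerSeries.X
    have h1 : e1 (Ideal.Quotient.mk _ (X 0)) = Ideal.Quotient.mk _ (Psi2 k (X 0)) := rfl
    rw [h1, Psi2_X0]
    exact e23.commutes PowerSeries.X
  · intro g
    show E (Ideal.Quotient.mk _ g) = 0 ↔ V ∣ g
    rw [map_eq_zero_iff _ E.injective, Ideal.Quotient.eq_zero_iff_mem, Ideal.mem_span_singleton]

/-- the formal branch of a power series with nonzero linear part. -/
theorem exists_branch (V : P k) (hV0 : constantCoeff V = 0)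
    (hlin : coeff (Finsupp.single 0 1) V ≠ 0 ∨ coeff (Finsupp.single 1 1) V ≠ 0) :
    ∃ (j : Fin 2) (β : P k →ₐ[k] PowerSeries k), β (X j) = PowerSeries.X ∧
      ∀ g, β g = 0 ↔ V ∣ g := by
  by_cases h2 : coeff (Finsupp.single 1 1) V = 0
  · have h1 : coeff (Finsupp.single 0 1) V ≠ 0 := by
      rcases hlin with h | h
      · exact h
      · exact absurd h2 h
    have hsw := good_of (swapE k) 1 0
      (by rw [swapE_X0, res_X1]; simp) (by rw [swapE_X1, res_X0]; simp) V hV0
    simp only [mul_zero, mul_one, add_zero] at hsw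
    obtain ⟨β, hβ0, hβ⟩ := exists_branch_of_res (swapE k V) hsw.1 (by rw [hsw.2.1]; exact h1)
    refine ⟨1, β.comp (swapE k : P k →ₐ[k] P k), ?_, ?_⟩
    · show β (swapE k (X 1)) = _
      rw [swapE_X1, hβ0]
    · intro g
      show β (swapE k g) = 0 ↔ _
      rw [hβ]
      exact map_dvd_iff (swapE k)
  · have hid := good_of (AlgEquiv.refl : P k ≃ₐ[k] P k) 0 1
      (by simp [res_X0]) (by simp [res_X1]) V hV0
    simp only [mul_zero, mul_one, zero_add, AlgEquiv.coe_refl, id_eq] at hid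
    obtain ⟨β, hβ0, hβ⟩ := exists_branch_of_res V hid.1 (by rw [hid.2.1]; exact h2)
    exact ⟨0, β, hβ0, hβ⟩

end Groth.Agent.Lib.Helper83.ArSingCl
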