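import Groth.Agent.Lib.Helper83.ArSingCm1

set_option autoImplicit false

open MvPowerSeries

namespace Groth.Agent.Lib.Helper83.ArSingCl

universe u
variable {k : Type u} [Field k]

lemma equiv_data (F R' : P k) (hF0 : constantCoeff F = 0) (hR0 : constantCoeff R' = 0)
    (e : (P k ⧸ Ideal.span {F}) ≃ₐ[k] (P k ⧸ Ideal.span {R'})) :
    ∃ U V : P k, e.symm (Ideal.Quotient.mk _ (X 0)) = Ideal.Quotient.mk _ U ∧
      e.symm (Ideal.Quotient.mk _ (X 1)) = Ideal.Quotient.mk _ V ∧
      constantCoeff U = 0 ∧ constantCoeff V = 0 ∧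
      ∀ i : Fin 2, ∃ p q r : P k, X i = p * U + q * V + r * F := by
  obtain ⟨U, hU⟩ := Ideal.Quotient.mk_surjective (e.symm (Ideal.Quotient.mk _ (X 0)))
  obtain ⟨V, hV⟩ := Ideal.Quotient.mk_surjective (e.symm (Ideal.Quotient.mk _ (X 1)))
  have hXc : ∀ i : Fin 2, constantCoeff (X i : P k) = 0 := fun i => constantCoeff_X i
  have hlift : ∀ (W : P k) (i : Fin 2),
      Ideal.Quotient.mk (Ideal.span {F}) W = e.symm (Ideal.Quotient.mk _ (X i)) →
      constantCoeff W = 0 := by
    intro W i hW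
    by_contra hne
    have h1 : IsUnit (Ideal.Quotient.mk (Ideal.span {F}) W) := (mk_isUnit_iff F hF0 W).mpr hne
    have h2 : IsUnit (e (Ideal.Quotient.mk (Ideal.span {F}) W)) := h1.map e
    rw [hW, AlgEquiv.apply_symm_apply, mk_isUnit_iff R' hR0] at h2
    exact h2 (hXc i)
  refine ⟨U, V, hU.symm, hV.symm, hlift U 0 hU, hlift V 1 hV, ?_⟩
  intro i
  obtain ⟨G, hG⟩ := Ideal.Quotient.mk_surjective (e (Ideal.Quotient.mk _ (X i)))
  have hGc : constantCoeff G = 0 := by
    by_contra hne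
    have h1 : IsUnit (Ideal.Quotient.mk (Ideal.span {R'}) G) := (mk_isUnit_iff R' hR0 G).mpr hne
    rw [hG] at h1
    have h2 := h1.map e.symm
    rw [AlgEquiv.symm_apply_apply, mk_isUnit_iff F hF0] at h2
    exact h2 (hXc i)
  obtain ⟨a, b, hab⟩ := Ideal.mem_span_pair.mp (mem_span_of_constantCoeff_eq_zero G hGc)
  obtain ⟨a', ha'⟩ := Ideal.Quotient.mk_surjective (e.symm (Ideal.Quotient.mk _ a))
  obtain ⟨b', hb'⟩ := Ideal.Quotient.mk_surjective (e.symm (Ideal.Quotient.mk _ b))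
  have h1 : Ideal.Quotient.mk (Ideal.span {F}) (X i) =
      Ideal.Quotient.mk _ (a' * U + b' * V) := by
    have h0 : e.symm (Ideal.Quotient.mk _ G) = Ideal.Quotient.mk _ (X i) := by
      rw [hG, AlgEquiv.symm_apply_apply]
    rw [← h0, ← hab]
    simp only [map_add, map_mul]
    rw [hU, hV, ha', hb']
  rw [Ideal.Quotient.mk_eq_mk_iff_sub_mem, Ideal.mem_span_singleton'] at h1
  obtain ⟨r, hr⟩ := h1
  exact ⟨a', b', r, by rw [hr]; ring⟩

lemma X1_not_mem : (X 1 : P k) ∉ Ideal.span {(X 1 : P k) ^ 2} := by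
  classical
  rw [Ideal.mem_span_singleton, X_pow_dvd_iff]
  intro h
  have := h (Finsupp.single 1 1) (by simp)
  rw [coeff_X, if_pos rfl] at this
  exact one_ne_zero this

lemma deg_lt_two_cases (d : Fin 2 →₀ ℕ) (h : d.degree < 2) :
    d = 0 ∨ d = Finsupp.single 0 1 ∨ d = Finsupp.single 1 1 := by
  rcases deg_lt_three_cases d (by omega) with h' | h' | h' | h' | h' | h'
  · exact Or.inl h'
  · exact Or.inr (Or.inl h')
  · exact Or.inr (Or.inr h')
  · subst h'; simp at h
  · subst h'; simp at h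
  · subst h'; simp at h

lemma order_ge_two (F : P k) (h0 : constantCoeff F = 0)
    (h1 : coeff (Finsupp.single 0 1) F = 0) (h2 : coeff (Finsupp.single 1 1) F = 0) :
    ((1 + 1 : ℕ) : ℕ∞) ≤ F.order := by
  apply nat_le_order
  intro d hd
  rcases deg_lt_two_cases d hd with h | h | h <;> subst h
  · rw [coeff_zero_eq_constantCoeff_apply]; exact h0
  · exact h1
  · exact h2

lemma lin_of_hc1_ne_zero (V : P k) (h : homogeneousComponent 1 V ≠ 0) :
    coeff (Finsupp.single 0 1) V ≠ 0 ∨ coeff (Finsupp.single 1 1) V ≠ 0 := by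
  classical
  by_contra hne
  push Not at hne
  apply h
  ext d
  rw [coeff_homogeneousComponent, map_zero]
  split_ifs with hd
  · rcases deg_lt_two_cases d (by omega) with h' | h' | h' <;> subst h'
    · simp at hd
    · exact hne.1
    · exact hne.2
  · rfl

theorem formal_square (F : P k) (hF0 : constantCoeff F = 0)
    (e : (P k ⧸ Ideal.span {F}) ≃ₐ[k] (P k ⧸ Ideal.span {(X 1 : P k) ^ 2})) :
    ∃ u V : P k, IsUnit u ∧ F = u * V ^ 2 ∧ constantCoeff V = 0 ∧
      (coeff (Finsupp.single 0 1) V ≠ 0 ∨ coeff (Finsupp.single 1 1) V ≠ 0) := by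
  obtain ⟨U, V, hU, hV, hUc, hVc, key⟩ := equiv_data F ((X 1 : P k) ^ 2) hF0 (by simp) e
  -- V^2 ∈ (F)
  have hz : Ideal.Quotient.mk (Ideal.span {F}) (V ^ 2) = 0 := by
    have h0 : Ideal.Quotient.mk (Ideal.span {(X 1 : P k) ^ 2}) (X 1 ^ 2) = 0 := by
      rw [Ideal.Quotient.eq_zero_iff_mem]
      exact Ideal.subset_span rfl
    have h1 : Ideal.Quotient.mk (Ideal.span {F}) (V ^ 2) =
        e.symm (Ideal.Quotient.mk (Ideal.span {(X 1 : P k) ^ 2}) (X 1 ^ 2)) := by
      simp only [map_pow]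
      rw [hV]
    rw [h1, h0, map_zero]
  rw [Ideal.Quotient.eq_zero_iff_mem, Ideal.mem_span_singleton'] at hz
  obtain ⟨r, hr⟩ := hz
  have hVnot : V ∉ Ideal.span {F} := by
    intro hmem
    have h1 : Ideal.Quotient.mk (Ideal.span {F}) V = 0 := Ideal.Quotient.eq_zero_iff_mem.mpr hmem
    rw [← hV] at h1
    have h2 : Ideal.Quotient.mk (Ideal.span {(X 1 : P k) ^ 2}) (X 1) = 0 := by
      have := congrArg e h1
      rwa [AlgEquiv.apply_symm_apply, map_zero] at this
    exact X1_not_mem (Ideal.Quotient.eq_zero_iff_mem.mp h2)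
  -- F has no linear part
  have hFlin : coeff (Finsupp.single 0 1) F = 0 ∧ coeff (Finsupp.single 1 1) F = 0 := by
    by_contra hne
    have hlin : coeff (Finsupp.single 0 1) F ≠ 0 ∨ coeff (Finsupp.single 1 1) F ≠ 0 := by
      by_contra h'
      push Not at h'
      exact hne h'
    obtain ⟨j, β, -, hβ⟩ := exists_branch F hF0 hlin
    have h1 : β V ^ 2 = 0 := by
      rw [← map_pow, ← hr, map_mul, (hβ F).mpr dvd_rfl, mul_zero]
    have h2 : β V = 0 := pow_eq_zero_iff (by norm_num) |>.mp h1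
    exact hVnot (Ideal.mem_span_singleton.mpr ((hβ V).mp h2))
  have hF2 := order_ge_two F hF0 hFlin.1 hFlin.2
  obtain ⟨p1, q1, r1, h0⟩ := key 0
  obtain ⟨p2, q2, r2, h1⟩ := key 1
  have e0 := congrArg (homogeneousComponent 1) h0
  have e1 := congrArg (homogeneousComponent 1) h1
  rw [map_add, map_add, hc_X, hc1_mul _ _ hUc, hc1_mul _ _ hVc, hc_mul_of_order 1 _ _ hF2,
    add_zero] at e0 e1
  have hL2 : homogeneousComponent 1 V ≠ 0 := by
    intro h
    rw [h, mul_zero, add_zero] at e0 e1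
    exact noDep _ _ _ e0 e1
  have hlin := lin_of_hc1_ne_zero V hL2
  have hV0 : V ≠ 0 := by
    rintro rfl
    exact hL2 (map_zero _)
  obtain ⟨j, β, -, hβ⟩ := exists_branch V hVc hlin
  have hru : IsUnit r := by
    by_contra hr0
    have hrc : constantCoeff r = 0 := by
      by_contra hne
      exact hr0 (MvPowerSeries.isUnit_iff_constantCoeff.mpr (isUnit_iff_ne_zero.mpr hne))
    have h1 : β r * β F = 0 := by
      rw [← map_mul, hr, map_pow, (hβ V).mpr dvd_rfl]
      exact zero_pow (by norm_num)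
    rcases mul_eq_zero.mp h1 with h | h
    · obtain ⟨r1, hr1⟩ := (hβ r).mp h
      apply hVnot
      rw [Ideal.mem_span_singleton']
      refine ⟨r1, mul_left_cancel₀ hV0 ?_⟩
      rw [← mul_assoc, ← hr1, hr, pow_two]
    · obtain ⟨F1, hF1⟩ := (hβ F).mp h
      have h3 : r * F1 = V := by
        apply mul_left_cancel₀ hV0
        rw [← pow_two, ← hr, hF1]; ring
      by_cases hF1c : constantCoeff F1 = 0
      · apply hL2
        rw [← h3]
        have : ((1 + 1 : ℕ) : ℕ∞) ≤ (r * F1).order := by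
          refine le_trans ?_ (le_order_mul (f := r) (g := F1))
          have := add_le_add (order_ge_one hrc) (order_ge_one hF1c)
          exact_mod_cast this
        exact hc_of_order 1 _ this
      · have hF1u : IsUnit F1 :=
          MvPowerSeries.isUnit_iff_constantCoeff.mpr (isUnit_iff_ne_zero.mpr hF1c)
        obtain ⟨w, hw⟩ := hF1u
        apply hVnot
        rw [Ideal.mem_span_singleton']
        refine ⟨(↑w⁻¹ : P k), ?_⟩
        rw [hF1, ← hw]
        calc (↑w⁻¹ : P k) * (V * ↑w) = V * (↑w * ↑w⁻¹) := by ring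
          _ = V := by rw [Units.mul_inv, mul_one]
  obtain ⟨ur, hur⟩ := hru
  refine ⟨(↑ur⁻¹ : P k), V, ⟨ur⁻¹, rfl⟩, ?_, hVc, hlin⟩
  rw [← hr, ← hur, ← mul_assoc, Units.inv_mul, one_mul]

end Groth.Agent.Lib.Helper83.ArSingCl
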