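import Groth.Agent.Lib.Helper83.ArSingCm2

set_option autoImplicit false

namespace Groth.Agent.Lib.Helper83.ArSingCl

universe u
variable {k : Type u} [Field k]

open Polynomial in
lemma exists_C_mem_span {R : Type*} [CommRing R] [IsDomain R] [IsGCDMonoid R]
    (p q : Polynomial R) (hp : Irreducible p) (hpq : ¬ p ∣ q) :
    ∃ r : R, r ≠ 0 ∧ Polynomial.C r ∈ Ideal.span {p, q} := by
  by_cases hd : p.natDegree = 0
  · obtain ⟨a, rfl⟩ := Polynomial.natDegree_eq_zero.mp hd
    refine ⟨a, ?_, Ideal.subset_span (by simp)⟩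
    rintro rfl
    exact hp.ne_zero (by simp)
  · let K := FractionRing R
    have hprim := hp.isPrimitive hd
    have hirr : Irreducible (p.map (algebraMap R K)) :=
      (hprim.irreducible_iff_irreducible_map_fraction_map).mp hp
    have hndvd : ¬ p.map (algebraMap R K) ∣ q.map (algebraMap R K) :=
      fun h => hpq (hprim.dvd_of_fraction_map_dvd_fraction_map h)
    have hcop : IsCoprime (p.map (algebraMap R K)) (q.map (algebraMap R K)) :=
      hirr.coprime_iff_not_dvd.mpr hndvd
    have hres : Polynomial.resultant (p.map (algebraMap R K)) (q.map (algebraMap R K)) ≠ 0 := by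
      intro h0
      exact (Polynomial.resultant_eq_zero_iff.mp h0).2 hcop
    have hinj := IsFractionRing.injective R K
    rw [Polynomial.natDegree_map_eq_of_injective hinj, Polynomial.natDegree_map_eq_of_injective hinj,
      Polynomial.resultant_map_map] at hres
    have hr : Polynomial.resultant p q ≠ 0 := by
      intro h0; rw [h0, map_zero] at hres; exact hres rfl
    obtain ⟨A, B, -, -, hAB⟩ := Polynomial.exists_mul_add_mul_eq_C_resultant p q le_rfl le_rfl
      (Or.inl hd)
    refine ⟨_, hr, ?_⟩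
    rw [Ideal.mem_span_pair]
    exact ⟨A, B, by rw [← hAB]; ring⟩

/-- `MvPolynomial (Fin 1) k → k⟦X⟧` is injective. -/
lemma aeval_X_injective (δ : MvPolynomial (Fin 1) k →ₐ[k] PowerSeries k)
    (hδ : δ (MvPolynomial.X 0) = PowerSeries.X) : Function.Injective δ := by
  let ψ : MvPolynomial (Fin 1) k ≃ₐ[k] Polynomial k := MvPolynomial.uniqueAlgEquiv k (Fin 1)
  have h : δ = (Polynomial.coeToPowerSeries.algHom k).comp (ψ : MvPolynomial (Fin 1) k →ₐ[k] _) := by
    apply MvPolynomial.algHom_ext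
    intro i
    have hi : i = 0 := Subsingleton.elim _ _
    subst hi
    rw [hδ]
    simp [ψ]
  rw [h]
  intro a b hab
  simp only [AlgHom.comp_apply, Polynomial.coeToPowerSeries.algHom_apply,
    Algebra.algebraMap_self] at hab
  exact ψ.injective (Polynomial.coe_injective k hab)


/-- no common branch for an irreducible polynomial and a non-multiple (inner variable `X 1`). -/
lemma no_common_branch_one (p q : MvPolynomial (Fin 2) k) (hp : Irreducible p) (hpq : ¬ p ∣ q)
    (γ : MvPolynomial (Fin 2) k →ₐ[k] PowerSeries k) (hγ : γ (MvPolynomial.X 1) = PowerSeries.X)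
    (h1 : γ p = 0) (h2 : γ q = 0) : False := by
  let Φ := MvPolynomial.finSuccEquiv k 1
  have hp' : Irreducible (Φ p) := (MulEquiv.irreducible_iff Φ).mpr hp
  have hpq' : ¬ Φ p ∣ Φ q := fun h => hpq ((map_dvd_iff Φ).mp h)
  obtain ⟨r, hr0, hr⟩ := exists_C_mem_span (Φ p) (Φ q) hp' hpq'
  obtain ⟨A, B, hAB⟩ := Ideal.mem_span_pair.mp hr
  have h3 : Φ.symm A * p + Φ.symm B * q = Φ.symm (Polynomial.C r) := by
    rw [← hAB, map_add, map_mul, map_mul, AlgEquiv.symm_apply_apply, AlgEquiv.symm_apply_apply]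
  have h4 : γ (Φ.symm (Polynomial.C r)) = 0 := by
    rw [← h3, map_add, map_mul, map_mul, h1, h2, mul_zero, mul_zero, add_zero]
  let δ : MvPolynomial (Fin 1) k →ₐ[k] PowerSeries k :=
    (γ.comp (Φ.symm : _ →ₐ[k] MvPolynomial (Fin 2) k)).comp
      (IsScalarTower.toAlgHom k (MvPolynomial (Fin 1) k) (Polynomial (MvPolynomial (Fin 1) k)))
  have hδ : δ (MvPolynomial.X 0) = PowerSeries.X := by
    show γ (Φ.symm (Polynomial.C (MvPolynomial.X 0))) = _
    have : Φ (MvPolynomial.X 1) = Polynomial.C (MvPolynomial.X 0) :=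
      MvPolynomial.finSuccEquiv_X_succ (R := k) (n := 1) (j := 0)
    rw [← this, AlgEquiv.symm_apply_apply, hγ]
  have h5 : δ r = 0 := h4
  exact hr0 (aeval_X_injective δ hδ (by rw [h5, map_zero]))

/-- no common branch for an irreducible polynomial and a non-multiple. -/
theorem no_common_branch (p q : MvPolynomial (Fin 2) k) (hp : Irreducible p) (hpq : ¬ p ∣ q)
    (γ : MvPolynomial (Fin 2) k →ₐ[k] PowerSeries k) (j : Fin 2)
    (hγ : γ (MvPolynomial.X j) = PowerSeries.X)
    (h1 : γ p = 0) (h2 : γ q = 0) : False := by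
  fin_cases j
  · let σ := MvPolynomial.renameEquiv k (Equiv.swap (0 : Fin 2) 1)
    have hσ1 : σ.symm (MvPolynomial.X 1) = MvPolynomial.X 0 := by
      rw [AlgEquiv.symm_apply_eq]
      simp [σ]
    refine no_common_branch_one (σ p) (σ q) ((MulEquiv.irreducible_iff σ).mpr hp)
      (fun h => hpq ((map_dvd_iff σ).mp h)) (γ.comp (σ.symm : _ →ₐ[k] _)) ?_ ?_ ?_
    · show γ (σ.symm (MvPolynomial.X 1)) = _
      rw [hσ1]; exact hγ
    · show γ (σ.symm (σ p)) = 0
      rw [AlgEquiv.symm_apply_apply, h1]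
    · show γ (σ.symm (σ q)) = 0
      rw [AlgEquiv.symm_apply_apply, h2]
  · exact no_common_branch_one p q hp hpq γ hγ h1 h2

end Groth.Agent.Lib.Helper83.ArSingCl
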