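import Groth.Agent.Lib.Helper83.ArSingCm3

set_option autoImplicit false

namespace Groth.Agent.Lib.Helper83.ArSingCl

universe u
variable {k : Type u} [Field k]

open MvPolynomial

lemma not_dvd_pderiv (p : MvPolynomial (Fin 2) k) (i : Fin 2) (h : pderiv i p ≠ 0) :
    ¬ p ∣ pderiv i p := by
  intro hdvd
  have h1 := totalDegree_le_of_dvd_of_isDomain hdvd h
  have hne : (pderiv i p).support.Nonempty := by
    rw [Finset.nonempty_iff_ne_empty, Ne, support_eq_empty]; exact h
  obtain ⟨m, hm, hmeq⟩ := Finset.exists_mem_eq_sup (pderiv i p).support hne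
    (fun s => s.sum fun _ e => e)
  have hm' : m + Finsupp.single i 1 ∈ p.support := by
    rw [mem_support_iff] at hm ⊢
    rw [coeff_pderiv] at hm
    exact left_ne_zero_of_mul hm
  have h2 := le_totalDegree hm'
  have h3 : ((m + Finsupp.single i 1).sum fun _ e => e) = (m.sum fun _ e => e) + 1 := by
    rw [Finsupp.sum_add_index' (fun _ => rfl) (fun _ _ _ => rfl), Finsupp.sum_single_index rfl]
  have h4 : (pderiv i p).totalDegree = m.sum fun _ e => e := hmeq
  omega

lemma not_irreducible_C (c : k) : ¬ Irreducible (C c : MvPolynomial (Fin 2) k) := by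
  intro h
  by_cases hc : c = 0
  · rw [hc, map_zero] at h; exact h.ne_zero rfl
  · exact h.not_isUnit ((isUnit_iff_ne_zero.mpr hc).map C)

lemma not_irreducible_of_pderiv_eq_zero [IsAlgClosed k] (p : MvPolynomial (Fin 2) k)
    (h : ∀ i, pderiv i p = 0) : ¬ Irreducible p := by
  classical
  have hco : ∀ (m : Fin 2 →₀ ℕ) (i : Fin 2), coeff (m + Finsupp.single i 1) p * ((m i : k) + 1) = 0 := by
    intro m i
    rw [← coeff_pderiv, h i, coeff_zero]
  obtain ⟨ℓ, hℓ⟩ := CharP.exists k
  rcases CharP.char_is_prime_or_zero k ℓ with hprime | h0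
  · -- positive characteristic
    have : Fact ℓ.Prime := ⟨hprime⟩
    have hdiv : ∀ m ∈ p.support, ∀ i, ℓ ∣ m i := by
      intro m hm i
      by_cases hmi : m i = 0
      · rw [hmi]; exact dvd_zero _
      · have hm1 : m - Finsupp.single i 1 + Finsupp.single i 1 = m := by
          ext j
          by_cases hj : j = i
          · subst hj; simp; omega
          · simp [Ne.symm hj]
        have := hco (m - Finsupp.single i 1) i
        rw [hm1] at this
        rw [mem_support_iff] at hm
        have h2 : (((m - Finsupp.single i 1 : Fin 2 →₀ ℕ) i : ℕ) : k) + 1 = 0 :=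
          (mul_eq_zero.mp this).resolve_left hm
        have h3 : ((m i : ℕ) : k) = 0 := by
          rw [← h2]
          have : (m - Finsupp.single i 1 : Fin 2 →₀ ℕ) i + 1 = m i := by simp; omega
          rw [← this]; push_cast; ring
        exact (CharP.cast_eq_zero_iff k ℓ (m i)).mp h3
    have hroot : ∀ c : k, ∃ z : k, z ^ ℓ = c := fun c =>
      IsAlgClosed.exists_pow_nat_eq c hprime.pos
    choose root hrootspec using hroot
    let q : MvPolynomial (Fin 2) k :=
      ∑ m ∈ p.support, monomial (m.mapRange (· / ℓ) (Nat.zero_div ℓ)) (root (coeff m p))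
    have hq : q ^ ℓ = p := by
      show (∑ m ∈ p.support, monomial (m.mapRange (· / ℓ) (Nat.zero_div ℓ))
        (root (coeff m p))) ^ ℓ = p
      rw [sum_pow_char]
      conv_rhs => rw [← support_sum_monomial_coeff p]
      apply Finset.sum_congr rfl
      intro m hm
      rw [monomial_pow, hrootspec]
      have hs : ℓ • (m.mapRange (· / ℓ) (Nat.zero_div ℓ)) = m := by
        ext i
        simp only [Finsupp.smul_apply, Finsupp.mapRange_apply, smul_eq_mul]
        exact Nat.mul_div_cancel' (hdiv m hm i)
      rw [hs]
    rw [← hq]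
    exact not_irreducible_pow hprime.ne_one
  · subst h0
    have : CharZero k := CharP.charP_to_charZero k
    have hzero : ∀ m : Fin 2 →₀ ℕ, m ≠ 0 → coeff m p = 0 := by
      intro m hm
      obtain ⟨i, hi⟩ : ∃ i, m i ≠ 0 := by
        by_contra hcon
        push Not at hcon
        exact hm (Finsupp.ext hcon)
      have hm1 : m - Finsupp.single i 1 + Finsupp.single i 1 = m := by
        ext j
        by_cases hj : j = i
        · subst hj; simp; omega
        · simp [Ne.symm hj]
      have := hco (m - Finsupp.single i 1) i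
      rw [hm1] at this
      refine (mul_eq_zero.mp this).resolve_right ?_
      have h5 : (((m - Finsupp.single i 1 : Fin 2 →₀ ℕ) i + 1 : ℕ) : k) ≠ 0 :=
        Nat.cast_ne_zero.mpr (Nat.succ_ne_zero _)
      rwa [Nat.cast_add, Nat.cast_one] at h5
    have hp : p = C (coeff 0 p) := by
      ext m
      rw [coeff_C]
      by_cases hm : m = 0
      · subst hm; simp
      · rw [hzero m hm, if_neg (Ne.symm hm)]
    rw [hp]
    exact not_irreducible_C _

end Groth.Agent.Lib.Helper83.ArSingCl
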