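import Groth.Agent.Lib.Helper83.ArSingCm4

set_option autoImplicit false

namespace Groth.Agent.Lib.Helper83.ArSingCl

universe u
variable {k : Type u} [Field k]

lemma exists_irreducible_factor_of_map_eq_zero (γ : MvPolynomial (Fin 2) k →ₐ[k] PowerSeries k)
    (q : MvPolynomial (Fin 2) k) :
    q ≠ 0 → γ q = 0 → ∃ p, Irreducible p ∧ p ∣ q ∧ γ p = 0 := by
  induction q using UniqueFactorizationMonoid.induction_on_prime with
  | h₁ => intro h; exact absurd rfl h
  | h₂ x hx =>
    intro _ h0
    exact absurd h0 (hx.map γ).ne_zero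
  | h₃ a p ha hp ih =>
    intro _ h0
    rw [map_mul] at h0
    rcases mul_eq_zero.mp h0 with h | h
    · exact ⟨p, hp.irreducible, dvd_mul_right p a, h⟩
    · obtain ⟨p', hp', hdvd, hz⟩ := ih ha h
      exact ⟨p', hp', dvd_mul_of_dvd_right hdvd p, hz⟩

lemma hc1_ne_zero_of_lin (V : P k)
    (hlin : MvPowerSeries.coeff (Finsupp.single 0 1) V ≠ 0 ∨
      MvPowerSeries.coeff (Finsupp.single 1 1) V ≠ 0) :
    MvPowerSeries.homogeneousComponent 1 V ≠ 0 := by
  classical
  intro h
  rcases hlin with h1 | h1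
  · apply h1
    have := congrArg (MvPowerSeries.coeff (Finsupp.single (0 : Fin 2) 1)) h
    rwa [MvPowerSeries.coeff_homogeneousComponent, if_pos (by simp), map_zero] at this
  · apply h1
    have := congrArg (MvPowerSeries.coeff (Finsupp.single (1 : Fin 2) 1)) h
    rwa [MvPowerSeries.coeff_homogeneousComponent, if_pos (by simp), map_zero] at this

open MvPowerSeries in
theorem algebraize [IsAlgClosed k] (f : MvPolynomial (Fin 2) k) (u V : P k) (hu : IsUnit u)
    (hf : (f : P k) = u * V ^ 2) (hV0 : constantCoeff V = 0)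
    (hlin : coeff (Finsupp.single 0 1) V ≠ 0 ∨ coeff (Finsupp.single 1 1) V ≠ 0) :
    ∃ g h : MvPolynomial (Fin 2) k, f = g ^ 2 * h ∧ MvPolynomial.coeff 0 h ≠ 0 ∧
      MvPolynomial.coeff 0 g = 0 ∧
      (MvPolynomial.coeff (Finsupp.single 0 1) g ≠ 0 ∨
        MvPolynomial.coeff (Finsupp.single 1 1) g ≠ 0) := by
  obtain ⟨j, β, hβj, hβ⟩ := exists_branch V hV0 hlin
  let γ : MvPolynomial (Fin 2) k →ₐ[k] PowerSeries k :=
    β.comp (MvPolynomial.coeToMvPowerSeries.algHom k)
  have hγ : ∀ q : MvPolynomial (Fin 2) k, γ q = β (q : P k) := by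
    intro q
    simp [γ]
  have hγj : γ (MvPolynomial.X j) = PowerSeries.X := by
    rw [hγ, MvPolynomial.coe_X, hβj]
  have hL : homogeneousComponent 1 V ≠ 0 := hc1_ne_zero_of_lin V hlin
  have hVne : V ≠ 0 := by
    rintro rfl; exact hL (map_zero _)
  have hβV : β V = 0 := (hβ V).mpr dvd_rfl
  have hβu : β u ≠ 0 := (hu.map β).ne_zero
  have hf0 : f ≠ 0 := by
    rintro rfl
    rw [MvPolynomial.coe_zero] at hf
    have := hf.symm
    rw [mul_eq_zero] at this
    rcases this with h | h
    · exact hu.ne_zero h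
    · exact hVne (pow_eq_zero_iff (by norm_num) |>.mp h)
  have hγf : γ f = 0 := by
    rw [hγ, hf, map_mul, map_pow, hβV]; simp
  obtain ⟨p, hp, hpf, hγp⟩ := exists_irreducible_factor_of_map_eq_zero γ f hf0 hγf
  obtain ⟨n, h, hph, hfn⟩ := WfDvdMonoid.max_power_factor hf0 hp
  have hh0 : h ≠ 0 := by
    rintro rfl; rw [mul_zero] at hfn; exact hf0 hfn
  -- γ h ≠ 0
  have hγh : γ h ≠ 0 := by
    intro hz
    obtain ⟨p', hp', hp'h, hγp'⟩ := exists_irreducible_factor_of_map_eq_zero γ h hh0 hz
    by_cases hdvd : p ∣ p'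
    · exact hph (dvd_trans hdvd hp'h)
    · exact no_common_branch p p' hp hdvd γ j hγj hγp hγp'
  -- ↑p = V * w
  obtain ⟨w, hw⟩ := (hβ (p : P k)).mp (by rw [← hγ]; exact hγp)
  have hβw : β w ≠ 0 := by
    intro hz
    obtain ⟨w', hw'⟩ := (hβ w).mp hz
    have hpV : (p : P k) = V ^ 2 * w' := by rw [hw, hw']; ring
    have hder : ∀ i : Fin 2, γ (MvPolynomial.pderiv i p) = 0 := by
      intro i
      have hd : pderiv k i (V ^ 2 * w') =
          V * (V * pderiv k i w' + 2 * w' * pderiv k i V) := by
        rw [Derivation.leibniz, Derivation.leibniz_pow]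
        simp only [smul_eq_mul, nsmul_eq_mul]
        push_cast
        ring
      rw [hγ, ← pderiv_coe, hpV, hd, map_mul, hβV, zero_mul]
    by_cases hall : ∀ i, MvPolynomial.pderiv i p = 0
    · exact not_irreducible_of_pderiv_eq_zero p hall hp
    · push Not at hall
      obtain ⟨i, hi⟩ := hall
      exact no_common_branch p _ hp (not_dvd_pderiv p i hi) γ j hγj hγp (hder i)
  have hβh : β (h : P k) ≠ 0 := by rw [← hγ]; exact hγh
  -- the key identity
  have hkey : V ^ n * (w ^ n * (h : P k)) = u * V ^ 2 := by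
    rw [← hf, hfn, MvPolynomial.coe_mul, MvPolynomial.coe_pow, hw]; ring
  have hn : n = 2 := by
    rcases n with _ | _ | _ | n
    · exfalso
      apply hph
      rw [pow_zero, one_mul] at hfn
      rw [← hfn]; exact hpf
    · exfalso
      have h1 : V * (w * (h : P k)) = V * (u * V) := by
        have := hkey
        simp only [zero_add, pow_one] at this
        rw [this]; ring
      have h2 := mul_left_cancel₀ hVne h1
      have h3 := congrArg β h2
      rw [map_mul, map_mul, hβV, mul_zero] at h3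
      rcases mul_eq_zero.mp h3 with h | h
      · exact hβw h
      · exact hβh h
    · rfl
    · exfalso
      have h1 : V ^ 2 * (V ^ (n + 1) * (w ^ (n + 3) * (h : P k))) = V ^ 2 * u := by
        have := hkey
        rw [mul_comm u] at this
        rw [← this]; ring
      have h2 := mul_left_cancel₀ (pow_ne_zero 2 hVne) h1
      have h3 := congrArg β h2
      rw [map_mul, map_pow, hβV, zero_pow (by omega), zero_mul] at h3
      exact hβu h3.symm
  subst hn
  have h1 : V ^ 2 * (w ^ 2 * (h : P k)) = V ^ 2 * u := by rw [hkey]; ring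
  have h2 := mul_left_cancel₀ (pow_ne_zero 2 hVne) h1
  have hunit : IsUnit (w ^ 2 * (h : P k)) := by rw [h2]; exact hu
  have hhu : IsUnit (h : P k) := isUnit_of_mul_isUnit_right hunit
  have hwu : IsUnit w := by
    have := isUnit_of_mul_isUnit_left hunit
    exact (isUnit_pow_iff (by norm_num)).mp this
  refine ⟨p, h, hfn, ?_, ?_, ?_⟩
  · rw [MvPowerSeries.isUnit_iff_constantCoeff, isUnit_iff_ne_zero,
      ← coeff_zero_eq_constantCoeff_apply, MvPolynomial.coeff_coe] at hhu
    exact hhu
  · have : constantCoeff (p : P k) = 0 := by rw [hw, map_mul, hV0, zero_mul]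
    rwa [← coeff_zero_eq_constantCoeff_apply, MvPolynomial.coeff_coe] at this
  · have hwc : constantCoeff w ≠ 0 := by
      rw [MvPowerSeries.isUnit_iff_constantCoeff, isUnit_iff_ne_zero] at hwu; exact hwu
    have h3 : homogeneousComponent 1 (p : P k) ≠ 0 := by
      rw [hw, mul_comm, hc1_mul w V hV0]
      refine mul_ne_zero ?_ hL
      intro hC
      apply hwc
      have := congrArg constantCoeff hC
      simpa using this
    have := lin_of_hc1_ne_zero _ h3
    simpa [MvPolynomial.coeff_coe] using this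

end Groth.Agent.Lib.Helper83.ArSingCl
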