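import Groth.Agent.Lib.Helper83.ArSingCm5

set_option autoImplicit false

namespace Groth.Agent.Lib.Helper83.ArSingCl

universe u
variable {k : Type u} [Field k]

lemma tau_tau (a : Fin 2 → k) (q : MvPolynomial (Fin 2) k) : tau (-a) (tau a q) = q := by
  have : (tau (-a)).comp (tau a) = AlgHom.id k _ := by
    apply MvPolynomial.algHom_ext
    intro i
    simp only [AlgHom.comp_apply, tau_X, map_add, tau_C, Pi.neg_apply, map_neg, AlgHom.id_apply]
    ring
  exact DFunLike.congr_fun this q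

lemma tau_tau' (a : Fin 2 → k) (q : MvPolynomial (Fin 2) k) : tau a (tau (-a) q) = q := by
  have := tau_tau (-a) q
  rwa [neg_neg] at this

open MvPowerSeries in
/-- `P/(G^2) ≃ P/(y^2)` for `G` with nonzero linear part. -/
lemma square_equiv (G : P k) (hG0 : constantCoeff G = 0)
    (hlin : coeff (Finsupp.single 0 1) G ≠ 0 ∨ coeff (Finsupp.single 1 1) G ≠ 0) :
    Nonempty ((P k ⧸ Ideal.span {G ^ 2}) ≃ₐ[k] (P k ⧸ Ideal.span {(X 1 : P k) ^ 2})) := by
  -- choose coordinates
  have hφ : ∃ φ : P k ≃ₐ[k] P k, PowerSeries.coeff 0 (res k (φ G)) = 0 ∧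
      PowerSeries.coeff 1 (res k (φ G)) ≠ 0 := by
    by_cases h2 : coeff (Finsupp.single 1 1) G = 0
    · have h1 : coeff (Finsupp.single 0 1) G ≠ 0 := by
        rcases hlin with h | h
        · exact h
        · exact absurd h2 h
      have hsw := good_of (swapE k) 1 0
        (by rw [swapE_X0, res_X1]; simp) (by rw [swapE_X1, res_X0]; simp) G hG0
      simp only [mul_zero, mul_one, add_zero] at hsw
      exact ⟨swapE k, hsw.1, by rw [hsw.2.1]; exact h1⟩
    · have hid := good_of (AlgEquiv.refl : P k ≃ₐ[k] P k) 0 1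
        (by simp [res_X0]) (by simp [res_X1]) G hG0
      simp only [mul_zero, mul_one, zero_add] at hid
      exact ⟨AlgEquiv.refl, hid.1, by rw [hid.2.1]; exact h2⟩
  obtain ⟨φ, h0, h1⟩ := hφ
  obtain ⟨f1, h1', H1, hdeg⟩ := weierstrass_of_res (φ G) 1
    (by intro j hj; have : j = 0 := by omega
        subst this; exact h0) h1
  have H2 : (Psi2 k ((φ G) ^ 2)).IsWeierstrassFactorization (f1 * f1) (h1' * h1') := by
    have := H1.mul H1
    rwa [← pow_two, ← map_pow] at this
  obtain ⟨e0⟩ := quot_equiv φ (G ^ 2)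
  rw [map_pow] at e0
  obtain ⟨e1⟩ := WQ ((φ G) ^ 2) _ _ H2
  have hf := monic_deg1 f1 H1.isDistinguishedAt.monic hdeg
  set q := f1.coeff 0 with hq
  obtain ⟨e2⟩ := poly_equiv (f1 * f1) (Polynomial.X ^ 2)
    (Polynomial.algEquivAevalXAddC (-q)) 1 isUnit_one (by
      rw [Polynomial.algEquivAevalXAddC_apply, hf]
      simp only [map_add, map_mul, Polynomial.aeval_X, Polynomial.aeval_C,
        Polynomial.algebraMap_eq, map_neg]
      ring)
  obtain ⟨e3⟩ := WQ ((X 1 : P k) ^ 2) _ _ dist_sq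
  exact ⟨((e0.trans e1).trans e2).trans e3.symm⟩


open MvPowerSeries in
theorem main_S14310 {k : Type u} [Field k] [IsAlgClosed k] (f : MvPolynomial (Fin 2) k)
    (a : Fin 2 → k) :
    Nonempty ((MvPowerSeries (Fin 2) k ⧸ Ideal.span
        ({(MvPolynomial.aeval (fun i : Fin 2 => MvPolynomial.X i + MvPolynomial.C (a i)) f).toMvPowerSeries} :
          Set (MvPowerSeries (Fin 2) k))) ≃ₐ[k]
      (MvPowerSeries (Fin 2) k ⧸ Ideal.span ({MvPowerSeries.X 1 ^ 2} : Set (MvPowerSeries (Fin 2) k)))) ↔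
    ∃ g h : MvPolynomial (Fin 2) k, f = g ^ 2 * h ∧ MvPolynomial.eval a h ≠ 0 ∧ MvPolynomial.eval a g = 0 ∧
      ∃ i : Fin 2, MvPolynomial.eval a (MvPolynomial.pderiv i g) ≠ 0 := by
  change Nonempty ((P k ⧸ Ideal.span {((tau a f : MvPolynomial (Fin 2) k) : P k)}) ≃ₐ[k]
    (P k ⧸ Ideal.span {(X 1 : P k) ^ 2})) ↔ _
  have hc : ∀ (q : MvPolynomial (Fin 2) k) d, coeff d (q : P k) = MvPolynomial.coeff d q :=
    fun q d => MvPolynomial.coeff_coe _ d
  have hcc : ∀ q : MvPolynomial (Fin 2) k, constantCoeff ((tau a q : MvPolynomial (Fin 2) k) : P k) =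
      MvPolynomial.eval a q := by
    intro q
    rw [← coeff_zero_eq_constantCoeff_apply, hc, ← eval_zero_eq, eval_zero_tau]
  constructor
  · rintro ⟨e⟩
    set F : P k := ((tau a f : MvPolynomial (Fin 2) k) : P k) with hF
    have hF0 : constantCoeff F = 0 := by
      by_contra hne
      have hu : IsUnit F := MvPowerSeries.isUnit_iff_constantCoeff.mpr (isUnit_iff_ne_zero.mpr hne)
      have h1 : Ideal.span {F} = ⊤ := Ideal.span_singleton_eq_top.mpr hu
      have h2 : (Ideal.Quotient.mk (Ideal.span {F}) 1) = 0 := by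
        rw [Ideal.Quotient.eq_zero_iff_mem, h1]; trivial
      have h3 := congrArg e h2
      rw [map_one, map_one, map_zero] at h3
      have h4 : (1 : P k) ∈ Ideal.span {(X 1 : P k) ^ 2} := by
        rw [← Ideal.Quotient.eq_zero_iff_mem, map_one]; exact h3
      have h5 : Ideal.span {(X 1 : P k) ^ 2} = ⊤ := (Ideal.eq_top_iff_one _).mpr h4
      rw [Ideal.span_singleton_eq_top, MvPowerSeries.isUnit_iff_constantCoeff] at h5
      simp at h5
    obtain ⟨u, V, hu, hFu, hV0, hlin⟩ := formal_square F hF0 e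
    obtain ⟨g', h', hfg, hh', hg', hg'lin⟩ := algebraize (tau a f) u V hu hFu hV0 hlin
    refine ⟨tau (-a) g', tau (-a) h', ?_, ?_, ?_, ?_⟩
    · rw [← map_pow, ← map_mul, ← hfg, tau_tau]
    · rw [← eval_zero_tau, tau_tau', eval_zero_eq]; exact hh'
    · rw [← eval_zero_tau, tau_tau', eval_zero_eq]; exact hg'
    · rcases hg'lin with h | h
      · exact ⟨0, by rw [← coeff1, tau_tau']; exact h⟩
      · exact ⟨1, by rw [← coeff1, tau_tau']; exact h⟩
  · rintro ⟨g, h, hfgh, hh, hg, i, hi⟩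
    set G : P k := ((tau a g : MvPolynomial (Fin 2) k) : P k) with hG
    set H : P k := ((tau a h : MvPolynomial (Fin 2) k) : P k) with hH
    have hF : ((tau a f : MvPolynomial (Fin 2) k) : P k) = G ^ 2 * H := by
      rw [hfgh, map_mul, map_pow, MvPolynomial.coe_mul, MvPolynomial.coe_pow]
    have hHu : IsUnit H := by
      rw [MvPowerSeries.isUnit_iff_constantCoeff, isUnit_iff_ne_zero, hH, hcc]; exact hh
    have hG0 : constantCoeff G = 0 := by rw [hG, hcc]; exact hg
    have hlin : coeff (Finsupp.single 0 1) G ≠ 0 ∨ coeff (Finsupp.single 1 1) G ≠ 0 := by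
      fin_cases i
      · left; rw [hG, hc, coeff1]; exact hi
      · right; rw [hG, hc, coeff1]; exact hi
    obtain ⟨e1⟩ := square_equiv G hG0 hlin
    have hspan : Ideal.span {((tau a f : MvPolynomial (Fin 2) k) : P k)} = Ideal.span {G ^ 2} := by
      rw [hF, Ideal.span_singleton_mul_right_unit hHu]
    exact ⟨(Ideal.quotientEquivAlgOfEq k hspan).trans e1⟩

end Groth.Agent.Lib.Helper83.ArSingCl
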