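import Groth.Agent.Lib.Helper83.ArSingC

set_option autoImplicit false

namespace Groth.Agent.Lib.Helper83.ArSingA

universe u v
variable (k : Type u) [Field k] (r : ℕ)

/-- `k⟦X⟧ ≃ MvPowerSeries (Fin 1) k`. -/
noncomputable def e1 : PowerSeries k ≃ₐ[k] B k :=
  MvPowerSeries.renameEquiv k (Equiv.ofUnique Unit (Fin 1))

lemma e1_X : e1 k (PowerSeries.X) = (MvPowerSeries.X 0 : B k) := by
  change MvPowerSeries.rename _ (MvPowerSeries.X ()) = _
  rw [MvPowerSeries.rename_X]
  congr 1

lemma xMap_X : ArSing.xMap k r PowerSeries.X = ArSing.x k r := by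
  unfold ArSing.xMap
  rw [AlgHom.comp_apply, PowerSeries.substAlgHom_X]
  rfl

lemma xMap_eq : ArSing.xMap k r = (iotaB k r).comp (e1 k).toAlgHom := by
  apply powerSeries_algHom_ext k (IsLocalRing.maximalIdeal (ArSing.ring k r)) (iInf_pow_max k r)
  · rw [xMap_X, AlgHom.comp_apply]
    change _ = iotaB k r (e1 k PowerSeries.X)
    rw [e1_X, iotaB_X0]
  · rw [xMap_X]; exact x_mem_max k r

lemma xMap_apply (a : PowerSeries k) : ArSing.xMap k r a = iotaB k r (e1 k a) := by
  rw [xMap_eq]; rfl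

/-- **Basis (existence)**: every element of `A_r` is `a(x) + b(x) y`. -/
theorem basis_exists (s : ArSing.ring k r) : ∃ a b : PowerSeries k,
    s = ArSing.xMap k r a + ArSing.xMap k r b * ArSing.y k r := by
  obtain ⟨a, b, h⟩ := basisB_exists k r s
  refine ⟨(e1 k).symm a, (e1 k).symm b, ?_⟩
  rw [xMap_apply, xMap_apply, AlgEquiv.apply_symm_apply, AlgEquiv.apply_symm_apply]
  exact h

/-- **Basis (uniqueness)**. -/
theorem basis_unique (a b : PowerSeries k)
    (h : ArSing.xMap k r a + ArSing.xMap k r b * ArSing.y k r = 0) : a = 0 ∧ b = 0 := by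
  rw [xMap_apply, xMap_apply] at h
  obtain ⟨h1, h2⟩ := basisB_unique k r _ _ h
  exact ⟨by simpa using h1, by simpa using h2⟩

theorem basis_ext {a b a' b' : PowerSeries k}
    (h : ArSing.xMap k r a + ArSing.xMap k r b * ArSing.y k r =
      ArSing.xMap k r a' + ArSing.xMap k r b' * ArSing.y k r) : a = a' ∧ b = b' := by
  have : ArSing.xMap k r (a - a') + ArSing.xMap k r (b - b') * ArSing.y k r = 0 := by
    rw [map_sub, map_sub]; linear_combination h
  obtain ⟨h1, h2⟩ := basis_unique k r _ _ this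
  exact ⟨sub_eq_zero.mp h1, sub_eq_zero.mp h2⟩

theorem y_sq : ArSing.y k r ^ 2 = ArSing.x k r ^ (r + 1) := by
  unfold ArSing.y ArSing.x
  rw [← map_pow, ← map_pow, Ideal.Quotient.mk_eq_mk_iff_sub_mem]
  exact Ideal.subset_span rfl

theorem y_sq' : ArSing.y k r ^ 2 = ArSing.xMap k r (PowerSeries.X ^ (r + 1)) := by
  rw [map_pow, xMap_X, y_sq]

theorem xMap_injective : Function.Injective (ArSing.xMap k r) := by
  rw [injective_iff_map_eq_zero]
  intro a ha
  have := basis_unique k r a 0 (by rw [ha]; simp)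
  exact this.1

end Groth.Agent.Lib.Helper83.ArSingA
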