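import Groth.Agent.Lib.Helper83.ArSingCl7
import Groth.Agent.Lib.Helper99.PSInv
import Groth.Agent.Lib.Helper61.PSEval2

set_option autoImplicit false

open MvPowerSeries

namespace Groth.Agent.Lib.Helper83.ArSingDf
open Groth.Agent.Lib.Helper83.ArSingCl

universe u
variable {k : Type u} [Field k]

/-- the split node `k[[x,y]]/(xy)`. -/
abbrev N0 (k : Type u) [Field k] := P k ⧸ Ideal.span {(X 0 * X 1 : P k)}

variable (k) in
noncomputable def q0 : P k →ₐ[k] N0 k := Ideal.Quotient.mkₐ k _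

lemma q0_surjective : Function.Surjective (q0 k) := Ideal.Quotient.mkₐ_surjective _ _

lemma q0_eq_zero_iff (f : P k) : q0 k f = 0 ↔ (X 0 * X 1 : P k) ∣ f := by
  change Ideal.Quotient.mk _ f = 0 ↔ _
  rw [Ideal.Quotient.eq_zero_iff_mem, Ideal.mem_span_singleton]

variable (k) in
noncomputable def resN : N0 k →+* k :=
  Ideal.Quotient.lift _ (constantCoeff (σ := Fin 2) (R := k)) (by
    intro a ha
    rw [Ideal.mem_span_singleton] at ha
    obtain ⟨c, rfl⟩ := ha
    simp)

lemma resN_q0 (f : P k) : resN k (q0 k f) = constantCoeff f := rfl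

lemma resN_algebraMap (c : k) : resN k (algebraMap k (N0 k) c) = c := by
  rw [← (q0 k).commutes c, resN_q0]
  simp [MvPowerSeries.algebraMap_apply]

lemma isUnit_iff (z : N0 k) : IsUnit z ↔ resN k z ≠ 0 := by
  obtain ⟨f, rfl⟩ := q0_surjective z
  rw [resN_q0]
  exact mk_isUnit_iff (X 0 * X 1) (by simp) f

instance : Nontrivial (N0 k) := nontrivial_quot (X 0 * X 1) (by simp)

instance : IsLocalRing (N0 k) :=
  IsLocalRing.of_surjective' (q0 k : P k →+* N0 k) q0_surjective

lemma mem_maximalIdeal_iff (z : N0 k) : z ∈ IsLocalRing.maximalIdeal (N0 k) ↔ resN k z = 0 := by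
  rw [IsLocalRing.mem_maximalIdeal, mem_nonunits_iff, isUnit_iff, not_not]

instance : IsHausdorff (IsLocalRing.maximalIdeal (N0 k)) (N0 k) :=
  IsHausdorff.of_le_jacobson _ _ (IsLocalRing.jacobson_eq_maximalIdeal ⊥ bot_ne_top).ge

lemma X_ne_zero' (s : Fin 2) : (X s : P k) ≠ 0 := by
  intro h
  have := congrArg (coeff (Finsupp.single s 1)) h
  rw [coeff_X, if_pos rfl, map_zero] at this
  exact one_ne_zero this

lemma XX_eq (s t : Fin 2) (h : s ≠ t) : (X 0 * X 1 : P k) = X s * X t := by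
  fin_cases s <;> fin_cases t <;> first | exact absurd rfl h | rfl | exact mul_comm _ _

lemma prime_X1 : Prime (X 1 : P k) := by
  have h : Prime (Psi2 k (X 1)) := by rw [Psi2_X1]; exact PowerSeries.X_prime
  exact (MulEquiv.prime_iff (Psi2 k).toMulEquiv).mp h

lemma prime_X0 : Prime (X 0 : P k) := by
  have h : Prime (swapE k (X 1)) := by
    exact (MulEquiv.prime_iff (swapE k).toMulEquiv).mpr prime_X1
  rwa [swapE_X1] at h

lemma prime_X (s : Fin 2) : Prime (X s : P k) := by
  fin_cases s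
  · exact prime_X0
  · exact prime_X1

/-- annihilator of a branch coordinate. -/
lemma ann_X (s t : Fin 2) (h : s ≠ t) (z : N0 k) (hz : z * q0 k (X s) = 0) :
    ∃ w, z = w * q0 k (X t) := by
  obtain ⟨f, rfl⟩ := q0_surjective z
  rw [← map_mul, q0_eq_zero_iff, XX_eq s t h] at hz
  obtain ⟨g, hg⟩ := hz
  have h1 : (X s : P k) * (f - X t * g) = 0 := by linear_combination hg
  rcases mul_eq_zero.mp h1 with h2 | h2
  · exact absurd h2 (X_ne_zero' s)
  · refine ⟨q0 k g, ?_⟩
    rw [← map_mul]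
    congr 1
    linear_combination h2

lemma X_not_dvd (s t : Fin 2) (h : s ≠ t) : ¬ (X s : P k) ∣ X t := by
  intro hd
  rw [X_dvd_iff] at hd
  have := hd (Finsupp.single t 1) (by rw [Finsupp.single_apply, if_neg (Ne.symm h)])
  rw [coeff_X, if_pos rfl] at this
  exact one_ne_zero this

lemma not_mem_span (s t : Fin 2) (h : s ≠ t) :
    q0 k (X t) ∉ Ideal.span {q0 k (X s)} := by
  intro hm
  rw [Ideal.mem_span_singleton'] at hm
  obtain ⟨w, hw⟩ := hm
  obtain ⟨g, rfl⟩ := q0_surjective w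
  rw [← map_mul, ← sub_eq_zero, ← map_sub, q0_eq_zero_iff, XX_eq s t h] at hw
  obtain ⟨c, hc⟩ := hw
  apply X_not_dvd (k := k) s t h
  refine ⟨g - X t * c, ?_⟩
  linear_combination (-1 : P k) * hc

instance isPrime_span (s : Fin 2) : (Ideal.span {q0 k (X s)}).IsPrime := by
  have h1 : (Ideal.span {(X s : P k)}).IsPrime := by
    rw [Ideal.span_singleton_prime (X_ne_zero' s)]
    exact prime_X s
  have h2 : Ideal.span {q0 k (X s)} = Ideal.map (q0 k : P k →+* N0 k) (Ideal.span {(X s : P k)}) := by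
    rw [Ideal.map_span, Set.image_singleton]; rfl
  rw [h2]
  apply Ideal.map_isPrime_of_surjective (f := (q0 k : P k →+* N0 k)) (q0_surjective (k := k))
  intro f hf
  rw [RingHom.mem_ker] at hf
  have hf' : q0 k f = 0 := hf
  rw [q0_eq_zero_iff] at hf'
  rw [Ideal.mem_span_singleton]
  fin_cases s
  · exact Dvd.dvd.trans (Dvd.intro _ rfl) hf'
  · exact Dvd.dvd.trans (Dvd.intro_left _ rfl) hf'

end Groth.Agent.Lib.Helper83.ArSingDf
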