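import Groth.Agent.Lib.Helper83.ArSingDf1

set_option autoImplicit false

open MvPowerSeries

namespace Groth.Agent.Lib.Helper83.ArSingDf
open Groth.Agent.Lib.Helper83.ArSingCl

universe u
variable {k : Type u} [Field k]

noncomputable def lFam : Fin 2 → P k := ![X 1 - X 0, X 1 + X 0]

noncomputable def iFam : Fin 2 → P k :=
  ![C ((2 : k)⁻¹) * (X 1 - X 0), C ((2 : k)⁻¹) * (X 0 + X 1)]

lemma lFam_hasSubst : HasSubst (lFam (k := k)) :=
  hasSubst_of_constantCoeff_zero (by intro s; fin_cases s <;> simp [lFam])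

lemma iFam_hasSubst : HasSubst (iFam (k := k)) :=
  hasSubst_of_constantCoeff_zero (by intro s; fin_cases s <;> simp [iFam])

noncomputable def lHom : P k →ₐ[k] P k := substAlgHom lFam_hasSubst
noncomputable def iHom : P k →ₐ[k] P k := substAlgHom iFam_hasSubst

lemma lHom_X0 : lHom (X 0 : P k) = X 1 - X 0 := by
  rw [lHom, substAlgHom_X]; rfl
lemma lHom_X1 : lHom (X 1 : P k) = X 1 + X 0 := by
  rw [lHom, substAlgHom_X]; rfl
lemma iHom_X0 : iHom (X 0 : P k) = C ((2 : k)⁻¹) * (X 1 - X 0) := by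
  rw [iHom, substAlgHom_X]; rfl
lemma iHom_X1 : iHom (X 1 : P k) = C ((2 : k)⁻¹) * (X 0 + X 1) := by
  rw [iHom, substAlgHom_X]; rfl

lemma half_two (h2 : (2 : k) ≠ 0) : (C ((2 : k)⁻¹) : P k) * 2 = 1 := by
  have : (2 : P k) = C (2 : k) := by rw [map_ofNat]
  rw [this, ← map_mul, inv_mul_cancel₀ h2, map_one]

lemma lHom_iHom (h2 : (2 : k) ≠ 0) (f : P k) : lHom (iHom f) = f := by
  unfold lHom iHom
  rw [substAlgHom_comp_substAlgHom_apply, substAlgHom_apply]
  have : (fun s => (substAlgHom lFam_hasSubst) (iFam (k := k) s)) = (X : Fin 2 → P k) := by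
    funext s
    fin_cases s
    · show (substAlgHom lFam_hasSubst) (C ((2 : k)⁻¹) * (X 1 - X 0)) = X 0
      rw [map_mul, map_sub, algHom_C, substAlgHom_X, substAlgHom_X]
      show C ((2 : k)⁻¹) * ((X 1 + X 0) - (X 1 - X 0)) = X 0
      linear_combination (X 0 : P k) * half_two h2
    · show (substAlgHom lFam_hasSubst) (C ((2 : k)⁻¹) * (X 0 + X 1)) = X 1
      rw [map_mul, map_add, algHom_C, substAlgHom_X, substAlgHom_X]
      show C ((2 : k)⁻¹) * ((X 1 - X 0) + (X 1 + X 0)) = X 1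
      linear_combination (X 1 : P k) * half_two h2
  rw [this, subst_self]; rfl

lemma iHom_lHom (h2 : (2 : k) ≠ 0) (f : P k) : iHom (lHom f) = f := by
  unfold lHom iHom
  rw [substAlgHom_comp_substAlgHom_apply, substAlgHom_apply]
  have : (fun s => (substAlgHom iFam_hasSubst) (lFam (k := k) s)) = (X : Fin 2 → P k) := by
    funext s
    fin_cases s
    · show (substAlgHom iFam_hasSubst) (X 1 - X 0) = X 0
      rw [map_sub, substAlgHom_X, substAlgHom_X]
      show C ((2 : k)⁻¹) * (X 0 + X 1) - C ((2 : k)⁻¹) * (X 1 - X 0) = X 0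
      linear_combination (X 0 : P k) * half_two h2
    · show (substAlgHom iFam_hasSubst) (X 1 + X 0) = X 1
      rw [map_add, substAlgHom_X, substAlgHom_X]
      show C ((2 : k)⁻¹) * (X 0 + X 1) + C ((2 : k)⁻¹) * (X 1 - X 0) = X 1
      linear_combination (X 1 : P k) * half_two h2
  rw [this, subst_self]; rfl

noncomputable def lE (h2 : (2 : k) ≠ 0) : P k ≃ₐ[k] P k :=
  AlgEquiv.ofAlgHom lHom iHom
    (AlgHom.ext fun f => lHom_iHom h2 f)
    (AlgHom.ext fun f => iHom_lHom h2 f)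

lemma lE_XX (h2 : (2 : k) ≠ 0) : lE h2 (X 0 * X 1 : P k) = X 1 ^ 2 - X 0 ^ 2 := by
  show lHom (X 0 * X 1 : P k) = _
  rw [map_mul, lHom_X0, lHom_X1]; ring

/-- the node `y² = x²` is the split node. -/
noncomputable def nodeEquiv (h2 : (2 : k) ≠ 0) :
    (P k ⧸ Ideal.span {(X 1 ^ 2 - X 0 ^ 2 : P k)}) ≃ₐ[k] N0 k :=
  (Ideal.quotientEquivAlg (Ideal.span {(X 0 * X 1 : P k)}) (Ideal.span {(X 1 ^ 2 - X 0 ^ 2 : P k)})
    (lE h2) (by rw [Ideal.map_span, Set.image_singleton]; congr 2; exact (lE_XX h2).symm)).symm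

/-- a unit-rescaled coordinate system on the split node. -/
theorem exists_psi0 (w : Fin 2 → N0 k) (hw : ∀ s, resN k (w s) = 1) :
    ∃ ψ₀ : P k →ₐ[k] N0 k, (∀ s, ψ₀ (X s) = q0 k (X s) * w s) ∧ Function.Surjective ψ₀ ∧
      ∀ f, ψ₀ f = 0 → (X 0 * X 1 : P k) ∣ f := by
  choose W hW using fun s => q0_surjective (w s)
  have hW1 : ∀ s, constantCoeff (W s) = (((1 : kˣ) : k)) := by
    intro s
    rw [← resN_q0, hW, hw]; rfl
  have hd := Groth.Agent.Lib.Helper99.PSInv.scaleBy_isDiagUnit (fun _ => (1 : kˣ)) W hW1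
  let θ := hd.algEquiv
  have hθX : ∀ s, θ (X s) = X s * W s := by
    intro s
    rw [Groth.Agent.Lib.Helper99.PSInv.IsDiagUnit.algEquiv_apply, subst_X hd.hasSubst]
    rfl
  refine ⟨(q0 k).comp θ.toAlgHom, ?_, ?_, ?_⟩
  · intro s
    show q0 k (θ (X s)) = _
    rw [hθX, map_mul, hW]
  · exact q0_surjective.comp θ.surjective
  · intro f hf
    have hf' : q0 k (θ f) = 0 := hf
    rw [q0_eq_zero_iff] at hf'
    have hu : IsUnit (W 0 * W 1) := by
      rw [MvPowerSeries.isUnit_iff_constantCoeff, map_mul, hW1, hW1]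
      simp
    obtain ⟨v, hv⟩ := hu
    have h1 : θ (X 0 * X 1) = X 0 * X 1 * (W 0 * W 1) := by
      rw [map_mul, hθX, hθX]; ring
    obtain ⟨g, hg⟩ := hf'
    obtain ⟨g', hg'⟩ := θ.surjective (g * ((v⁻¹ : (P k)ˣ) : P k))
    refine ⟨g', ?_⟩
    apply θ.injective
    rw [map_mul, h1, hg, ← hv, hg']
    have : ((v : P k)) * ((v⁻¹ : (P k)ˣ) : P k) = 1 := Units.mul_inv v
    linear_combination (-(X 0 * X 1 * g : P k)) * this

end Groth.Agent.Lib.Helper83.ArSingDf
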