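import Groth.Agent.Lib.Helper83.ArSingDf2

set_option autoImplicit false
set_option linter.unusedSectionVars false

open MvPowerSeries

namespace Groth.Agent.Lib.Helper83.ArSingDf
open Groth.Agent.Lib.Helper83.ArSingCl

universe u
variable {k R S : Type u} [Field k] [CommRing R] [IsLocalRing R] [CommRing S] [IsLocalRing S]
  [Algebra k R] [Algebra R S] [Algebra k S] [IsScalarTower k R S] [IsLocalHom (algebraMap R S)]
  (ρ : S →ₐ[k] N0 k) (hρs : Function.Surjective ρ)
  (hρk : ∀ s, ρ s = 0 ↔ s ∈ Ideal.map (algebraMap R S) (IsLocalRing.maximalIdeal R))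
  (σ : S ≃ₐ[R] S) (hσ : ∀ s, σ (σ s) = s)

include hρs in
lemma rho_isUnit_iff (s : S) : IsUnit (ρ s) ↔ IsUnit s := by
  have : IsLocalHom (ρ : S →+* N0 k) := IsLocalHom.of_surjective _ hρs
  exact isUnit_map_iff (ρ : S →+* N0 k) s

lemma sigma_kappa (c : k) : σ (algebraMap k S c) = algebraMap k S c := by
  rw [IsScalarTower.algebraMap_apply k R S, σ.commutes]

include hσ in
lemma sigma_isUnit_iff (s : S) : IsUnit (σ s) ↔ IsUnit s := by
  constructor
  · intro h
    have := h.map σ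
    rwa [hσ] at this
  · intro h; exact h.map σ

include hρs hσ in
lemma res_sigma (s : S) : resN k (ρ (σ s)) = resN k (ρ s) := by
  set c := resN k (ρ s) with hc
  have h1 : resN k (ρ (s - algebraMap k S c)) = 0 := by
    rw [map_sub, map_sub, AlgHom.commutes, resN_algebraMap, sub_self]
  have h2 : ¬ IsUnit (s - algebraMap k S c) := by
    rw [← rho_isUnit_iff ρ hρs, isUnit_iff, not_not]; exact h1
  have h3 : ¬ IsUnit (σ (s - algebraMap k S c)) := by
    rwa [sigma_isUnit_iff σ hσ]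
  rw [← rho_isUnit_iff ρ hρs, isUnit_iff, not_not, map_sub, sigma_kappa, map_sub, map_sub,
    AlgHom.commutes, resN_algebraMap, sub_eq_zero] at h3
  exact h3

include hρk in
lemma rho_sigma_zero (y : S) (hy : ρ y = 0) : ρ (σ y) = 0 := by
  rw [hρk] at hy ⊢
  have h1 : σ y ∈ Ideal.map (σ : S →+* S)
      (Ideal.map (algebraMap R S) (IsLocalRing.maximalIdeal R)) := Ideal.mem_map_of_mem _ hy
  rw [Ideal.map_map] at h1
  have h2 : (σ : S →+* S).comp (algebraMap R S) = algebraMap R S := by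
    ext r; exact σ.commutes r
  rwa [h2] at h1

include hρs hρk in
lemma branch_mem_minimalPrimes (s t : Fin 2) (h : s ≠ t) :
    Ideal.comap (ρ : S →+* N0 k) (Ideal.span {q0 k (X s)}) ∈
      (Ideal.map (algebraMap R S) (IsLocalRing.maximalIdeal R)).minimalPrimes := by
  refine ⟨⟨Ideal.comap_isPrime _ _, ?_⟩, ?_⟩
  · intro y hy
    rw [Ideal.mem_comap]
    have : (ρ : S →+* N0 k) y = 0 := (hρk y).mpr hy
    rw [this]; exact Ideal.zero_mem _
  · rintro Q ⟨hQp, hQI⟩ hQle y hy
    obtain ⟨xs, hxs⟩ := hρs (q0 k (X s))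
    obtain ⟨xt, hxt⟩ := hρs (q0 k (X t))
    have h1 : xs * xt ∈ Q := by
      apply hQI
      rw [← hρk, map_mul, hxs, hxt, ← map_mul, q0_eq_zero_iff, XX_eq s t h]
    have h2 : xs ∈ Q := by
      rcases hQp.mem_or_mem h1 with h3 | h3
      · exact h3
      · exfalso
        have h4 := hQle h3
        rw [Ideal.mem_comap] at h4
        have h5 : (ρ : S →+* N0 k) xt = q0 k (X t) := hxt
        rw [h5] at h4
        exact not_mem_span s t h h4
    rw [Ideal.mem_comap, Ideal.mem_span_singleton'] at hy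
    obtain ⟨a, ha⟩ := hy
    obtain ⟨a', rfl⟩ := hρs a
    have h6 : y - a' * xs ∈ Q := by
      apply hQI
      rw [← hρk, map_sub, map_mul, hxs]
      rw [sub_eq_zero]; exact ha.symm
    have h7 : a' * xs ∈ Q := Q.mul_mem_left _ h2
    have := Q.add_mem h6 h7
    rwa [sub_add_cancel] at this

include hρs hρk hσ in
theorem exists_eigen_lift (h2 : (2 : k) ≠ 0) (s t : Fin 2) (h : s ≠ t)
    (hbr : Ideal.map (σ : S →+* S) (Ideal.comap (ρ : S →+* N0 k) (Ideal.span {q0 k (X s)})) =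
      Ideal.comap (ρ : S →+* N0 k) (Ideal.span {q0 k (X s)})) :
    ∃ (ξ : k) (U : S) (w : N0 k), ξ ^ 2 = 1 ∧ σ U = algebraMap k S ξ * U ∧ resN k w = 1 ∧
      ρ U = q0 k (X s) * w := by
  obtain ⟨xs, hxs⟩ := hρs (q0 k (X s))
  have h1 : σ xs ∈ Ideal.comap (ρ : S →+* N0 k) (Ideal.span {q0 k (X s)}) := by
    rw [← hbr]
    apply Ideal.mem_map_of_mem (σ : S →+* S)
    rw [Ideal.mem_comap]
    show ρ xs ∈ _
    rw [hxs]; exact Ideal.subset_span rfl
  rw [Ideal.mem_comap, Ideal.mem_span_singleton'] at h1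
  obtain ⟨a, ha⟩ := h1
  obtain ⟨a', rfl⟩ := hρs a
  have ha' : ρ (σ xs) = ρ a' * q0 k (X s) := ha.symm
  have hy : ρ (σ xs - a' * xs) = 0 := by
    rw [map_sub, map_mul, hxs, ha', sub_self]
  have hy2 := rho_sigma_zero ρ hρk σ _ hy
  rw [map_sub, map_mul, hσ, map_sub, map_mul, hxs, ha'] at hy2
  have h3 : (1 - ρ (σ a') * ρ a') * q0 k (X s) = 0 := by
    linear_combination hy2
  obtain ⟨w0, hw0⟩ := ann_X s t h _ h3
  have h4 : resN k (ρ a') ^ 2 = 1 := by
    have := congrArg (resN k) hw0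
    rw [map_sub, map_one, map_mul, map_mul, res_sigma ρ hρs σ hσ, resN_q0, constantCoeff_X,
      mul_zero] at this
    linear_combination -this
  set ξ := resN k (ρ a') with hξ
  refine ⟨ξ, algebraMap k S (2⁻¹) * (xs + algebraMap k S ξ * σ xs),
    algebraMap k (N0 k) 2⁻¹ * (1 + algebraMap k (N0 k) ξ * ρ a'), h4, ?_, ?_, ?_⟩
  · rw [map_mul, map_add, map_mul, sigma_kappa, sigma_kappa, hσ]
    have : algebraMap k S ξ * algebraMap k S ξ = 1 := by
      rw [← map_mul, ← pow_two, h4, map_one]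
    linear_combination (-(algebraMap k S 2⁻¹ * σ xs)) * this
  · rw [map_mul, map_add, map_one, map_mul, resN_algebraMap, resN_algebraMap, ← hξ]
    field_simp
    linear_combination h4
  · rw [map_mul, map_add, map_mul, AlgHom.commutes, AlgHom.commutes, hxs, ha']
    ring

end Groth.Agent.Lib.Helper83.ArSingDf
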