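import Groth.Agent.Lib.Helper83.ArSingDf3

set_option autoImplicit false
set_option linter.unusedSectionVars false

open MvPowerSeries

namespace Groth.Agent.Lib.Helper83.ArSingDf
open Groth.Agent.Lib.Helper83.ArSingCl

universe u
variable {k R S : Type u} [Field k] [CommRing R] [IsLocalRing R] [CommRing S] [IsLocalRing S]
  [Algebra k R] [Algebra R S] [Algebra k S] [IsScalarTower k R S] [IsLocalHom (algebraMap R S)]
  (ρ : S →ₐ[k] N0 k) (hρs : Function.Surjective ρ)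
  (hρk : ∀ s, ρ s = 0 ↔ s ∈ Ideal.map (algebraMap R S) (IsLocalRing.maximalIdeal R))
  (σ : S ≃ₐ[R] S) (hσ : ∀ s, σ (σ s) = s)
  (u v : N0 k)
  (hG3 : ∀ z : N0 k, ∃ (c : k) (a b : N0 k), z = algebraMap k (N0 k) c + u * a + v * b)
  (ξ₁ ξ₂ : k) (hξ₁ : ξ₁ ^ 2 = 1) (hξ₂ : ξ₂ ^ 2 = 1) (h2 : (2 : k) ≠ 0)

local notation "II" => Ideal.map (algebraMap R S) (IsLocalRing.maximalIdeal R)

include hρs hρk hG3 in
lemma approx_mod (U V : S) (hU : ρ U = u) (hV : ρ V = v) (s : S) :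
    ∃ (c : k) (a b : S), s - (algebraMap k S c + U * a + V * b) ∈ II := by
  obtain ⟨c, a, b, h⟩ := hG3 (ρ s)
  obtain ⟨a', rfl⟩ := hρs a
  obtain ⟨b', rfl⟩ := hρs b
  refine ⟨c, a', b', ?_⟩
  rw [← hρk, map_sub, map_add, map_add, map_mul, map_mul, AlgHom.commutes, hU, hV, h, sub_self]

lemma alg_mem_pow (n : ℕ) (r : R) (hr : r ∈ IsLocalRing.maximalIdeal R ^ n) :
    algebraMap R S r ∈ II ^ n := by
  rw [← Ideal.map_pow]
  exact Ideal.mem_map_of_mem _ hr

include hρs hρk hG3 in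
lemma claim1 (n : ℕ) (U V : S) (hU : ρ U = u) (hV : ρ V = v) (z : S) (hz : z ∈ II ^ n) :
    ∃ g ∈ IsLocalRing.maximalIdeal R ^ n, ∃ a ∈ II ^ n, ∃ b ∈ II ^ n,
      z - (algebraMap R S g + U * a + V * b) ∈ II ^ (n + 1) := by
  have hz' : z ∈ ((IsLocalRing.maximalIdeal R ^ n) • ⊤ : Submodule R S) := by
    rw [Ideal.smul_top_eq_map, Ideal.map_pow]
    exact hz
  refine Submodule.smul_induction_on hz' ?_ ?_
  · intro r hr s _
    obtain ⟨c, a, b, hs⟩ := approx_mod ρ hρs hρk u v hG3 U V hU hV s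
    have hr' := alg_mem_pow (S := S) n r hr
    refine ⟨r * algebraMap k R c, Ideal.mul_mem_right _ _ hr, algebraMap R S r * a,
      Ideal.mul_mem_right _ _ hr', algebraMap R S r * b, Ideal.mul_mem_right _ _ hr', ?_⟩
    have : r • s - (algebraMap R S (r * algebraMap k R c) + U * (algebraMap R S r * a) +
        V * (algebraMap R S r * b)) =
        algebraMap R S r * (s - (algebraMap k S c + U * a + V * b)) := by
      rw [Algebra.smul_def, map_mul, IsScalarTower.algebraMap_apply k R S]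
      ring
    rw [this, pow_succ]
    exact Ideal.mul_mem_mul hr' hs
  · rintro x y ⟨g1, hg1, a1, ha1, b1, hb1, h1⟩ ⟨g2, hg2, a2, ha2, b2, hb2, h2⟩
    refine ⟨g1 + g2, Ideal.add_mem _ hg1 hg2, a1 + a2, Ideal.add_mem _ ha1 ha2, b1 + b2,
      Ideal.add_mem _ hb1 hb2, ?_⟩
    have : x + y - (algebraMap R S (g1 + g2) + U * (a1 + a2) + V * (b1 + b2)) =
        (x - (algebraMap R S g1 + U * a1 + V * b1)) +
        (y - (algebraMap R S g2 + U * a2 + V * b2)) := by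
      rw [map_add]; ring
    rw [this]
    exact Ideal.add_mem _ h1 h2

lemma sigma_mem_pow (n : ℕ) (y : S) (hy : y ∈ II ^ n) : σ y ∈ II ^ n := by
  have h1 : σ y ∈ Ideal.map (σ : S →+* S) (II ^ n) := Ideal.mem_map_of_mem _ hy
  rw [Ideal.map_pow, Ideal.map_map] at h1
  have h2 : (σ : S →+* S).comp (algebraMap R S) = algebraMap R S := by
    ext r; exact σ.commutes r
  rwa [h2] at h1

/-- the symmetrisation operator `(1 + ε σ)/2`. -/
noncomputable def T (y : S) : S :=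
  algebraMap k S 2⁻¹ * (y + algebraMap k S ξ₁ * algebraMap k S ξ₂ * σ y)

lemma T_sub (x y : S) : T σ ξ₁ ξ₂ (x - y) = T σ ξ₁ ξ₂ x - T σ ξ₁ ξ₂ y := by
  unfold T; rw [map_sub]; ring

lemma T_mem_pow (n : ℕ) (y : S) (hy : y ∈ II ^ n) : T σ ξ₁ ξ₂ y ∈ II ^ n := by
  unfold T
  apply Ideal.mul_mem_left
  apply Ideal.add_mem _ hy
  exact Ideal.mul_mem_left _ _ (sigma_mem_pow σ n y hy)

include hξ₁ hξ₂ h2 in
lemma kappa_rel : algebraMap k S ξ₁ * algebraMap k S ξ₁ = 1 ∧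
    algebraMap k S ξ₂ * algebraMap k S ξ₂ = 1 ∧ algebraMap k S 2⁻¹ * 2 = 1 := by
  refine ⟨?_, ?_, ?_⟩
  · rw [← map_mul, ← pow_two, hξ₁, map_one]
  · rw [← map_mul, ← pow_two, hξ₂, map_one]
  · have : (2 : S) = algebraMap k S 2 := by rw [map_ofNat]
    rw [this, ← map_mul, inv_mul_cancel₀ h2, map_one]

include hρs hρk hσ hG3 hξ₁ hξ₂ h2 in
theorem step (n : ℕ) (hn : 1 ≤ n) (U V : S) (t : R) (hU : ρ U = u) (hV : ρ V = v)
    (hσU : σ U = algebraMap k S ξ₂ * U) (hσV : σ V = algebraMap k S ξ₁ * V)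
    (hδ : U * V - algebraMap R S t ∈ II ^ n) (ht : ξ₁ = -ξ₂ → t = 0) :
    ∃ (U' V' : S) (t' : R), ρ U' = u ∧ ρ V' = v ∧ σ U' = algebraMap k S ξ₂ * U' ∧
      σ V' = algebraMap k S ξ₁ * V' ∧ U' * V' - algebraMap R S t' ∈ II ^ (n + 1) ∧
      (ξ₁ = -ξ₂ → t' = 0) ∧ U' - U ∈ II ^ n ∧ V' - V ∈ II ^ n ∧
      t' - t ∈ IsLocalRing.maximalIdeal R ^ n := by
  obtain ⟨g, hg, a, ha, b, hb, hE⟩ := claim1 ρ hρs hρk u v hG3 n U V hU hV _ hδ
  obtain ⟨r1, r2, rh⟩ := kappa_rel (S := S) ξ₁ ξ₂ hξ₁ hξ₂ h2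
  have hσh : σ (algebraMap k S 2⁻¹) = algebraMap k S 2⁻¹ := sigma_kappa σ _
  have hσ1 : σ (algebraMap k S ξ₁) = algebraMap k S ξ₁ := sigma_kappa σ _
  have hσ2 : σ (algebraMap k S ξ₂) = algebraMap k S ξ₂ := sigma_kappa σ _
  have hκe : algebraMap k S (2⁻¹ * (1 + ξ₁ * ξ₂)) =
      algebraMap k S 2⁻¹ * (1 + algebraMap k S ξ₁ * algebraMap k S ξ₂) := by
    rw [map_mul, map_add, map_one, map_mul]
  generalize algebraMap k S 2⁻¹ = h at *
  generalize algebraMap k S ξ₁ = x1 at *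
  generalize algebraMap k S ξ₂ = x2 at *
  have hap : h * (a + x1 * σ a) ∈ II ^ n :=
    Ideal.mul_mem_left _ _ (Ideal.add_mem _ ha (Ideal.mul_mem_left _ _ (sigma_mem_pow σ n a ha)))
  have hbp : h * (b + x2 * σ b) ∈ II ^ n :=
    Ideal.mul_mem_left _ _ (Ideal.add_mem _ hb (Ideal.mul_mem_left _ _ (sigma_mem_pow σ n b hb)))
  have hσap : σ (h * (a + x1 * σ a)) = x1 * (h * (a + x1 * σ a)) := by
    rw [map_mul, map_add, map_mul, hσ, hσh, hσ1]
    linear_combination (-(h * σ a)) * r1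
  have hσbp : σ (h * (b + x2 * σ b)) = x2 * (h * (b + x2 * σ b)) := by
    rw [map_mul, map_add, map_mul, hσ, hσh, hσ2]
    linear_combination (-(h * σ b)) * r2
  -- the symmetrised congruence
  have hTE : h * ((U * V - algebraMap R S t - (algebraMap R S g + U * a + V * b)) +
      x1 * x2 * σ (U * V - algebraMap R S t - (algebraMap R S g + U * a + V * b))) ∈ II ^ (n + 1) :=
    Ideal.mul_mem_left _ _ (Ideal.add_mem _ hE (Ideal.mul_mem_left _ _ (sigma_mem_pow σ _ _ hE)))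
  have hTE' : h * ((U * V - algebraMap R S t - (algebraMap R S g + U * a + V * b)) +
      x1 * x2 * σ (U * V - algebraMap R S t - (algebraMap R S g + U * a + V * b))) =
      U * V - h * (1 + x1 * x2) * algebraMap R S t - h * (1 + x1 * x2) * algebraMap R S g -
        U * (h * (a + x1 * σ a)) - V * (h * (b + x2 * σ b)) := by
    rw [map_sub, map_sub, map_add, map_add, map_mul, map_mul, map_mul, hσU, hσV, σ.commutes,
      σ.commutes]
    linear_combination (U * V * h * x2 * x2 - h * x2 * V * σ b) * r1 +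
      (U * V * h - h * x1 * U * σ a) * r2 + (U * V) * rh
  rw [hTE'] at hTE
  have hkt : (1 - h * (1 + x1 * x2)) * algebraMap R S t = 0 := by
    have hsq : (ξ₁ * ξ₂ - 1) * (ξ₁ * ξ₂ + 1) = 0 := by
      linear_combination (ξ₂ ^ 2) * hξ₁ + hξ₂
    rcases mul_eq_zero.mp hsq with h3 | h3
    · have h4 : ξ₁ * ξ₂ = 1 := by linear_combination h3
      have h5 : (2 : k)⁻¹ * (1 + ξ₁ * ξ₂) = 1 := by
        rw [h4]; field_simp; norm_num
      rw [← hκe, h5, map_one, sub_self, zero_mul]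
    · have h4 : ξ₁ = -ξ₂ := by
        linear_combination ξ₂ * h3 - ξ₁ * hξ₂
      rw [ht h4, map_zero, mul_zero]
  refine ⟨U - h * (b + x2 * σ b), V - h * (a + x1 * σ a),
    t + algebraMap k R (2⁻¹ * (1 + ξ₁ * ξ₂)) * g, ?_, ?_, ?_, ?_, ?_, ?_, ?_, ?_, ?_⟩
  · rw [map_sub, hU, (hρk _).mpr (Ideal.pow_le_self (by omega) hbp), sub_zero]
  · rw [map_sub, hV, (hρk _).mpr (Ideal.pow_le_self (by omega) hap), sub_zero]
  · rw [map_sub, hσU, hσbp]; ring
  · rw [map_sub, hσV, hσap]; ring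
  · have hpp : h * (b + x2 * σ b) * (h * (a + x1 * σ a)) ∈ II ^ (n + 1) := by
      have := Ideal.mul_mem_mul hbp hap
      rw [← pow_add] at this
      exact Ideal.pow_le_pow_right (by omega) this
    have key : (U - h * (b + x2 * σ b)) * (V - h * (a + x1 * σ a)) -
        algebraMap R S (t + algebraMap k R (2⁻¹ * (1 + ξ₁ * ξ₂)) * g) =
        (U * V - h * (1 + x1 * x2) * algebraMap R S t - h * (1 + x1 * x2) * algebraMap R S g -
          U * (h * (a + x1 * σ a)) - V * (h * (b + x2 * σ b))) +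
        h * (b + x2 * σ b) * (h * (a + x1 * σ a)) := by
      rw [map_add, map_mul, ← IsScalarTower.algebraMap_apply k R S, hκe]
      linear_combination (-1 : S) * hkt
    rw [key]
    exact Ideal.add_mem _ hTE hpp
  · intro h4
    have h5 : (2 : k)⁻¹ * (1 + ξ₁ * ξ₂) = 0 := by
      rw [h4]
      have : (1 : k) + -ξ₂ * ξ₂ = 0 := by linear_combination -hξ₂
      rw [this, mul_zero]
    rw [ht h4, h5, map_zero, zero_mul, add_zero]
  · have : U - h * (b + x2 * σ b) - U = -(h * (b + x2 * σ b)) := by ring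
    rw [this]; exact Ideal.neg_mem_iff _ |>.mpr hbp
  · have : V - h * (a + x1 * σ a) - V = -(h * (a + x1 * σ a)) := by ring
    rw [this]; exact Ideal.neg_mem_iff _ |>.mpr hap
  · rw [add_sub_cancel_left]
    exact Ideal.mul_mem_left _ _ hg

end Groth.Agent.Lib.Helper83.ArSingDf
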