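import Groth.Agent.Lib.Helper83.ArSingDf4

set_option autoImplicit false
set_option linter.unusedSectionVars false

open MvPowerSeries

namespace Groth.Agent.Lib.Helper83.ArSingDf
open Groth.Agent.Lib.Helper83.ArSingCl

universe u

lemma smodEq_of_succ {A : Type*} [CommRing A] (J : Ideal A) (f : ℕ → A)
    (h : ∀ n, f (n + 1) - f n ∈ J ^ n) :
    ∀ {m n : ℕ}, m ≤ n → f m ≡ f n [SMOD (J ^ m • ⊤ : Submodule A A)] := by
  intro m n hmn
  induction n, hmn using Nat.le_induction with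
  | base => exact SModEq.rfl
  | succ n hmn ih =>
    refine ih.trans ?_
    rw [SModEq.sub_mem, smul_eq_mul, Ideal.mul_top]
    have := Ideal.pow_le_pow_right hmn (h n)
    rw [← Ideal.neg_mem_iff]
    convert this using 1
    ring

lemma exists_limit {A : Type*} [CommRing A] (J : Ideal A) [IsPrecomplete J A] (f : ℕ → A)
    (h : ∀ n, f (n + 1) - f n ∈ J ^ n) : ∃ L : A, ∀ n, L - f n ∈ J ^ n := by
  obtain ⟨L, hL⟩ := IsPrecomplete.prec' (I := J) f (smodEq_of_succ J f h)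
  refine ⟨L, fun n => ?_⟩
  have := hL n
  rw [SModEq.sub_mem, smul_eq_mul, Ideal.mul_top] at this
  rw [← Ideal.neg_mem_iff]
  convert this using 1
  ring

lemma eq_zero_of_forall_mem_pow {A : Type*} [CommRing A] (J : Ideal A) [IsHausdorff J A] (x : A)
    (h : ∀ n, x ∈ J ^ n) : x = 0 := by
  apply IsHausdorff.haus' (I := J)
  intro n
  rw [SModEq.zero, smul_eq_mul, Ideal.mul_top]
  exact h n

variable {k R S : Type u} [Field k] [CommRing R] [IsLocalRing R] [CommRing S] [IsLocalRing S]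
  [Algebra k R] [Algebra R S] [Algebra k S] [IsScalarTower k R S] [IsLocalHom (algebraMap R S)]
  (ρ : S →ₐ[k] N0 k) (hρs : Function.Surjective ρ)
  (hρk : ∀ s, ρ s = 0 ↔ s ∈ Ideal.map (algebraMap R S) (IsLocalRing.maximalIdeal R))
  (σ : S ≃ₐ[R] S) (hσ : ∀ s, σ (σ s) = s)
  (u v : N0 k)
  (hG3 : ∀ z : N0 k, ∃ (c : k) (a b : N0 k), z = algebraMap k (N0 k) c + u * a + v * b)
  (ξ₁ ξ₂ : k) (hξ₁ : ξ₁ ^ 2 = 1) (hξ₂ : ξ₂ ^ 2 = 1) (h2 : (2 : k) ≠ 0)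

local notation "II" => Ideal.map (algebraMap R S) (IsLocalRing.maximalIdeal R)

def Inv (n : ℕ) (x : S × S × R) : Prop :=
  ρ x.1 = u ∧ ρ x.2.1 = v ∧ σ x.1 = algebraMap k S ξ₂ * x.1 ∧
  σ x.2.1 = algebraMap k S ξ₁ * x.2.1 ∧
  x.1 * x.2.1 - algebraMap R S x.2.2 ∈ II ^ n ∧ (ξ₁ = -ξ₂ → x.2.2 = 0)

include hρs hρk hσ hG3 hξ₁ hξ₂ h2 in
theorem exists_seq (U₀ V₀ : S) (hU₀ : ρ U₀ = u) (hV₀ : ρ V₀ = v)
    (hσU₀ : σ U₀ = algebraMap k S ξ₂ * U₀) (hσV₀ : σ V₀ = algebraMap k S ξ₁ * V₀)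
    (huv : u * v = 0) :
    ∃ f : ℕ → S × S × R, (∀ n, Inv ρ σ u v ξ₁ ξ₂ (n + 1) (f n)) ∧
      ∀ n, (f (n + 1)).1 - (f n).1 ∈ II ^ (n + 1) ∧ (f (n + 1)).2.1 - (f n).2.1 ∈ II ^ (n + 1) ∧
        (f (n + 1)).2.2 - (f n).2.2 ∈ IsLocalRing.maximalIdeal R ^ (n + 1) := by
  have stepE : ∀ (n : ℕ) (x : {x : S × S × R // Inv ρ σ u v ξ₁ ξ₂ (n + 1) x}),
      ∃ y : {y : S × S × R // Inv ρ σ u v ξ₁ ξ₂ (n + 2) y},
        y.1.1 - x.1.1 ∈ II ^ (n + 1) ∧ y.1.2.1 - x.1.2.1 ∈ II ^ (n + 1) ∧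
          y.1.2.2 - x.1.2.2 ∈ IsLocalRing.maximalIdeal R ^ (n + 1) := by
    rintro n ⟨⟨U, V, t⟩, hU, hV, hσU, hσV, hδ, ht⟩
    obtain ⟨U', V', t', h1, h2', h3, h4, h5, h6, h7, h8, h9⟩ :=
      step ρ hρs hρk σ hσ u v hG3 ξ₁ ξ₂ hξ₁ hξ₂ h2 (n + 1) (by omega) U V t hU hV hσU hσV hδ ht
    exact ⟨⟨(U', V', t'), h1, h2', h3, h4, h5, h6⟩, h7, h8, h9⟩
  choose next hnext using stepE
  have init : Inv ρ σ u v ξ₁ ξ₂ (0 + 1) (U₀, V₀, (0 : R)) := by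
    refine ⟨hU₀, hV₀, hσU₀, hσV₀, ?_, fun _ => rfl⟩
    show U₀ * V₀ - algebraMap R S 0 ∈ II ^ (0 + 1)
    rw [map_zero, sub_zero, zero_add, pow_one, ← hρk, map_mul, hU₀, hV₀, huv]
  let seq : ∀ n : ℕ, {x : S × S × R // Inv ρ σ u v ξ₁ ξ₂ (n + 1) x} := fun n =>
    Nat.rec ⟨(U₀, V₀, (0 : R)), init⟩ (fun n x => next n x) n
  exact ⟨fun n => (seq n).1, fun n => (seq n).2, fun n => hnext n (seq n)⟩

lemma map_le_max : II ≤ IsLocalRing.maximalIdeal S := by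
  rw [Ideal.map_le_iff_le_comap]
  intro r hr
  rw [Ideal.mem_comap, IsLocalRing.mem_maximalIdeal, mem_nonunits_iff]
  intro hu
  exact (IsLocalRing.mem_maximalIdeal r).mp hr (IsLocalHom.map_nonunit r hu)

include hσ in
lemma sigma_mem_max_pow (n : ℕ) (y : S) (hy : y ∈ IsLocalRing.maximalIdeal S ^ n) :
    σ y ∈ IsLocalRing.maximalIdeal S ^ n := by
  have h1 : σ y ∈ Ideal.map (σ : S →+* S) (IsLocalRing.maximalIdeal S ^ n) :=
    Ideal.mem_map_of_mem _ hy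
  rw [Ideal.map_pow] at h1
  refine Ideal.pow_right_mono ?_ n h1
  rw [Ideal.map_le_iff_le_comap]
  intro z hz
  rw [Ideal.mem_comap, IsLocalRing.mem_maximalIdeal, mem_nonunits_iff]
  show ¬ IsUnit (σ z)
  rw [sigma_isUnit_iff σ hσ]
  exact (IsLocalRing.mem_maximalIdeal z).mp hz

include hρs in
lemma rho_mem_max_pow (n : ℕ) (y : S) (hy : y ∈ IsLocalRing.maximalIdeal S ^ n) :
    ρ y ∈ IsLocalRing.maximalIdeal (N0 k) ^ n := by
  have h1 : ρ y ∈ Ideal.map (ρ : S →+* N0 k) (IsLocalRing.maximalIdeal S ^ n) :=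
    Ideal.mem_map_of_mem (ρ : S →+* N0 k) hy
  rw [Ideal.map_pow] at h1
  refine Ideal.pow_right_mono ?_ n h1
  rw [Ideal.map_le_iff_le_comap]
  intro z hz
  rw [Ideal.mem_comap, IsLocalRing.mem_maximalIdeal, mem_nonunits_iff]
  show ¬ IsUnit (ρ z)
  rw [rho_isUnit_iff ρ hρs]
  exact (IsLocalRing.mem_maximalIdeal z).mp hz

include hρs hρk hσ hG3 hξ₁ hξ₂ h2 in
theorem exists_solution [IsAdicComplete (IsLocalRing.maximalIdeal R) R]
    [IsAdicComplete (IsLocalRing.maximalIdeal S) S]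
    (U₀ V₀ : S) (hU₀ : ρ U₀ = u) (hV₀ : ρ V₀ = v)
    (hσU₀ : σ U₀ = algebraMap k S ξ₂ * U₀) (hσV₀ : σ V₀ = algebraMap k S ξ₁ * V₀)
    (huv : u * v = 0) :
    ∃ (U V : S) (t : R), ρ U = u ∧ ρ V = v ∧ σ U = algebraMap k S ξ₂ * U ∧
      σ V = algebraMap k S ξ₁ * V ∧ U * V = algebraMap R S t ∧ (ξ₁ = -ξ₂ → t = 0) := by
  obtain ⟨f, hInv, hclose⟩ := exists_seq ρ hρs hρk σ hσ u v hG3 ξ₁ ξ₂ hξ₁ hξ₂ h2 U₀ V₀ hU₀ hV₀
    hσU₀ hσV₀ huv
  have hIm : ∀ n : ℕ, II ^ n ≤ IsLocalRing.maximalIdeal S ^ n := fun n =>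
    Ideal.pow_right_mono (map_le_max (R := R) (S := S)) n
  obtain ⟨U, hUl⟩ := exists_limit (IsLocalRing.maximalIdeal S) (fun n => (f n).1) (fun n =>
    Ideal.pow_le_pow_right (Nat.le_succ n) (hIm _ (hclose n).1))
  obtain ⟨V, hVl⟩ := exists_limit (IsLocalRing.maximalIdeal S) (fun n => (f n).2.1) (fun n =>
    Ideal.pow_le_pow_right (Nat.le_succ n) (hIm _ (hclose n).2.1))
  obtain ⟨t, htl⟩ := exists_limit (IsLocalRing.maximalIdeal R) (fun n => (f n).2.2) (fun n =>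
    Ideal.pow_le_pow_right (Nat.le_succ n) (hclose n).2.2)
  refine ⟨U, V, t, ?_, ?_, ?_, ?_, ?_, ?_⟩
  · rw [← sub_eq_zero]
    apply eq_zero_of_forall_mem_pow (IsLocalRing.maximalIdeal (N0 k))
    intro n
    rw [← (hInv n).1, ← map_sub]
    exact rho_mem_max_pow ρ hρs n _ (hUl n)
  · rw [← sub_eq_zero]
    apply eq_zero_of_forall_mem_pow (IsLocalRing.maximalIdeal (N0 k))
    intro n
    rw [← (hInv n).2.1, ← map_sub]
    exact rho_mem_max_pow ρ hρs n _ (hVl n)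
  · rw [← sub_eq_zero]
    apply eq_zero_of_forall_mem_pow (IsLocalRing.maximalIdeal S)
    intro n
    have h1 := sigma_mem_max_pow σ hσ n _ (hUl n)
    have h2' := Ideal.mul_mem_left _ (algebraMap k S ξ₂) (hUl n)
    have h3 := Ideal.sub_mem _ h1 h2'
    rw [map_sub, (hInv n).2.2.1] at h3
    convert h3 using 1
    ring
  · rw [← sub_eq_zero]
    apply eq_zero_of_forall_mem_pow (IsLocalRing.maximalIdeal S)
    intro n
    have h1 := sigma_mem_max_pow σ hσ n _ (hVl n)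
    have h2' := Ideal.mul_mem_left _ (algebraMap k S ξ₁) (hVl n)
    have h3 := Ideal.sub_mem _ h1 h2'
    rw [map_sub, (hInv n).2.2.2.1] at h3
    convert h3 using 1
    ring
  · rw [← sub_eq_zero]
    apply eq_zero_of_forall_mem_pow (IsLocalRing.maximalIdeal S)
    intro n
    have h1 : (f n).1 * (f n).2.1 - algebraMap R S (f n).2.2 ∈ IsLocalRing.maximalIdeal S ^ n :=
      Ideal.pow_le_pow_right (Nat.le_succ n) (hIm _ (hInv n).2.2.2.2.1)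
    have h2' : algebraMap R S (t - (f n).2.2) ∈ IsLocalRing.maximalIdeal S ^ n :=
      hIm _ (alg_mem_pow n _ (htl n))
    have h3 := Ideal.mul_mem_right V _ (hUl n)
    have h4 := Ideal.mul_mem_left _ (f n).1 (hVl n)
    have h5 := Ideal.sub_mem _ (Ideal.add_mem _ (Ideal.add_mem _ h3 h4) h1) h2'
    convert h5 using 1
    rw [map_sub]
    ring
  · intro h4
    apply eq_zero_of_forall_mem_pow (IsLocalRing.maximalIdeal R)
    intro n
    have := htl n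
    rwa [(hInv n).2.2.2.2.2 h4, sub_zero] at this

end Groth.Agent.Lib.Helper83.ArSingDf
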