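import Groth.Agent.Lib.Helper83.ArSingDf5

set_option autoImplicit false
set_option linter.unusedSectionVars false

open MvPowerSeries

namespace Groth.Agent.Lib.Helper83.ArSingDf
open Groth.Agent.Lib.Helper83.ArSingCl

universe u

section general

variable {A : Type*} [CommRing A] {τ : Type*}

/-- a power series from its coefficient function. -/
def ofFun (F : (τ →₀ ℕ) → A) : MvPowerSeries τ A := F

lemma coeff_ofFun (F : (τ →₀ ℕ) → A) (d : τ →₀ ℕ) : coeff d (ofFun F) = F d := rfl

lemma coeff_mem_of_mem_smul_top (J : Ideal A) (x : MvPowerSeries τ A)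
    (hx : x ∈ (J • ⊤ : Submodule A (MvPowerSeries τ A))) (d : τ →₀ ℕ) : coeff d x ∈ J := by
  refine Submodule.smul_induction_on hx ?_ ?_
  · intro r hr y _
    rw [MvPowerSeries.coeff_smul]
    exact Ideal.mul_mem_right _ _ hr
  · intro x y hx hy
    rw [map_add]
    exact Ideal.add_mem _ hx hy

lemma exists_sum_of_coeff_mem {s : ℕ} (g : Fin s → A) (x : MvPowerSeries τ A)
    (hx : ∀ d, coeff d x ∈ Ideal.span (Set.range g)) :
    ∃ y : Fin s → MvPowerSeries τ A, x = ∑ j, C (g j) * y j := by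
  have h1 : ∀ d, ∃ c : Fin s → A, ∑ j, c j * g j = coeff d x := fun d =>
    (Ideal.mem_span_range_iff_exists_fun).mp (hx d)
  choose c hc using h1
  refine ⟨fun j => ofFun (fun d => c d j), ?_⟩
  ext d
  rw [map_sum, ← hc d]
  apply Finset.sum_congr rfl
  intro j _
  rw [MvPowerSeries.coeff_C_mul, coeff_ofFun, mul_comm]

lemma mem_smul_top_of_coeff_mem (J : Ideal A) (hJ : J.FG) (x : MvPowerSeries τ A)
    (hx : ∀ d, coeff d x ∈ J) : x ∈ (J • ⊤ : Submodule A (MvPowerSeries τ A)) := by
  obtain ⟨T, hT⟩ := hJ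
  classical
  obtain ⟨s, g, hg⟩ : ∃ (s : ℕ) (g : Fin s → A), Ideal.span (Set.range g) = J := by
    refine ⟨T.card, fun i => (T.equivFin.symm i : A), ?_⟩
    rw [← hT]
    congr 1
    ext a
    constructor
    · rintro ⟨i, rfl⟩; exact (T.equivFin.symm i).2
    · intro ha; exact ⟨T.equivFin ⟨a, ha⟩, by simp⟩
  obtain ⟨y, rfl⟩ := exists_sum_of_coeff_mem g x (by rw [hg]; exact hx)
  apply Submodule.sum_mem
  intro j _
  rw [← MvPowerSeries.smul_eq_C_mul]
  apply Submodule.smul_mem_smul _ Submodule.mem_top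
  rw [← hg]; exact Ideal.subset_span ⟨j, rfl⟩

instance isPrecomplete_mvPowerSeries [IsNoetherianRing A] (J : Ideal A) [IsPrecomplete J A] :
    IsPrecomplete J (MvPowerSeries τ A) := by
  constructor
  intro f hf
  have hcomp : ∀ d : τ →₀ ℕ, ∃ L : A, ∀ n,
      (fun i => coeff d (f i)) n ≡ L [SMOD (J ^ n • ⊤ : Submodule A A)] := by
    intro d
    apply IsPrecomplete.prec'
    intro m n hmn
    have h := hf hmn
    rw [SModEq.sub_mem] at h ⊢
    have h' := coeff_mem_of_mem_smul_top (J ^ m) _ h d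
    rw [smul_eq_mul, Ideal.mul_top]
    simpa using h'
  choose L hL using hcomp
  refine ⟨ofFun L, fun n => ?_⟩
  rw [SModEq.sub_mem]
  apply mem_smul_top_of_coeff_mem (J ^ n) (IsNoetherian.noetherian _)
  intro d
  have h := hL d n
  rw [SModEq.sub_mem, smul_eq_mul, Ideal.mul_top] at h
  rw [map_sub, coeff_ofFun]
  exact h

end general

variable {k R S : Type u} [Field k] [CommRing R] [IsLocalRing R] [CommRing S] [IsLocalRing S]
  [Algebra k R] [Algebra R S] [Algebra k S] [IsScalarTower k R S] [IsLocalHom (algebraMap R S)]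
  (ρ : S →ₐ[k] N0 k) (hρs : Function.Surjective ρ)
  (hρk : ∀ s, ρ s = 0 ↔ s ∈ Ideal.map (algebraMap R S) (IsLocalRing.maximalIdeal R))

/-- the residue map of `R` with values in `k`. -/
noncomputable def rhoR : R →+* k := (resN k).comp ((ρ : S →+* N0 k).comp (algebraMap R S))

lemma rhoR_apply (r : R) : rhoR ρ r = resN k (ρ (algebraMap R S r)) := rfl

lemma rhoR_algebraMap (c : k) : rhoR ρ (algebraMap k R c) = c := by
  rw [rhoR_apply, ← IsScalarTower.algebraMap_apply k R S, AlgHom.commutes, resN_algebraMap]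

include hρk in
lemma rho_alg (r : R) : ρ (algebraMap R S r) = algebraMap k (N0 k) (rhoR ρ r) := by
  have h1 : resN k (ρ (algebraMap R S (r - algebraMap k R (rhoR ρ r)))) = 0 := by
    rw [← rhoR_apply, map_sub, rhoR_algebraMap, sub_self]
  have h2 : ¬ IsUnit (r - algebraMap k R (rhoR ρ r)) := by
    intro hu
    have h3 : IsUnit (ρ (algebraMap R S (r - algebraMap k R (rhoR ρ r)))) :=
      (hu.map (algebraMap R S)).map ρ
    rw [isUnit_iff] at h3
    exact h3 h1
  have h3 : r - algebraMap k R (rhoR ρ r) ∈ IsLocalRing.maximalIdeal R :=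
    (IsLocalRing.mem_maximalIdeal _).mpr h2
  have h4 : ρ (algebraMap R S (r - algebraMap k R (rhoR ρ r))) = 0 :=
    (hρk _).mpr (Ideal.mem_map_of_mem _ h3)
  rw [map_sub, map_sub, sub_eq_zero, ← IsScalarTower.algebraMap_apply k R S, AlgHom.commutes] at h4
  exact h4

include hρk in
lemma rhoR_eq_zero_iff (r : R) : rhoR ρ r = 0 ↔ r ∈ IsLocalRing.maximalIdeal R := by
  constructor
  · intro h
    have h1 := rho_alg ρ hρk r
    rw [h, map_zero, hρk] at h1
    by_contra hr
    have hu : IsUnit r := by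
      rwa [IsLocalRing.mem_maximalIdeal, mem_nonunits_iff, not_not] at hr
    have h5 := map_le_max (R := R) (S := S) h1
    exact (IsLocalRing.mem_maximalIdeal _).mp h5 (hu.map _)
  · intro h
    rw [rhoR_apply, (hρk _).mpr (Ideal.mem_map_of_mem _ h), map_zero]

lemma map_rhoR_map (p₀ : P k) :
    MvPowerSeries.map (rhoR ρ) (MvPowerSeries.map (algebraMap k R) p₀) = p₀ := by
  ext d
  rw [coeff_map, coeff_map, rhoR_algebraMap]

end Groth.Agent.Lib.Helper83.ArSingDf
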