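import Groth.Agent.Lib.Helper83.ArSingDf6

set_option autoImplicit false
set_option linter.unusedSectionVars false

open MvPowerSeries

namespace Groth.Agent.Lib.Helper83.ArSingDf
open Groth.Agent.Lib.Helper83.ArSingCl

universe u

variable {k R S : Type u} [Field k] [CommRing R] [IsLocalRing R] [CommRing S] [IsLocalRing S]
  [Algebra k R] [Algebra R S] [Algebra k S] [IsScalarTower k R S] [IsLocalHom (algebraMap R S)]
  (ρ : S →ₐ[k] N0 k) (hρs : Function.Surjective ρ)
  (hρk : ∀ s, ρ s = 0 ↔ s ∈ Ideal.map (algebraMap R S) (IsLocalRing.maximalIdeal R))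
  (ψ₀ : P k →ₐ[k] N0 k) (hψ₀s : Function.Surjective ψ₀)
  (hψ₀k : ∀ f, ψ₀ f = 0 → (X 0 * X 1 : P k) ∣ f)
  (ψ : MvPowerSeries (Fin 2) R →ₐ[R] S)
  (hψX : ∀ i, ρ (ψ (X i)) = ψ₀ (X i))
  (hmem : ∀ i, ψ₀ (X i) ∈ IsLocalRing.maximalIdeal (N0 k))

local notation "II" => Ideal.map (algebraMap R S) (IsLocalRing.maximalIdeal R)

include hρk hψX hmem in
lemma rho_psi (p : MvPowerSeries (Fin 2) R) :
    ρ (ψ p) = ψ₀ (MvPowerSeries.map (rhoR ρ) p) := by
  let _ : Algebra R (N0 k) := ((ρ : S →+* N0 k).comp (algebraMap R S)).toAlgebra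
  let φ1 : MvPowerSeries (Fin 2) R →ₐ[R] N0 k :=
    { toRingHom := (ρ : S →+* N0 k).comp (ψ : MvPowerSeries (Fin 2) R →+* S)
      commutes' := fun r => by
        show ρ (ψ (algebraMap R _ r)) = ρ (algebraMap R S r)
        rw [ψ.commutes] }
  let φ2 : MvPowerSeries (Fin 2) R →ₐ[R] N0 k :=
    { toRingHom := (ψ₀ : P k →+* N0 k).comp (MvPowerSeries.map (rhoR ρ))
      commutes' := fun r => by
        show ψ₀ (MvPowerSeries.map (rhoR ρ) (algebraMap R _ r)) = ρ (algebraMap R S r)
        rw [rho_alg ρ hρk r]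
        have : algebraMap R (MvPowerSeries (Fin 2) R) r = C r := rfl
        rw [this, map_C, ← ψ₀.commutes]
        rfl }
  have h := Groth.Agent.Lib.Helper61.PSEval2.algHom_ext (IsLocalRing.maximalIdeal (N0 k)) φ1 φ2
    (fun i => by
      show ρ (ψ (X i)) ∈ _
      rw [hψX]; exact hmem i)
    (fun i => by
      show ρ (ψ (X i)) = ψ₀ (MvPowerSeries.map (rhoR ρ) (X i))
      rw [hψX, map_X])
  exact DFunLike.congr_fun h p

include hρk hψX hmem hψ₀s in
lemma exists_approx (s : S) : ∃ p : MvPowerSeries (Fin 2) R, s - ψ p ∈ II := by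
  obtain ⟨p₀, hp₀⟩ := hψ₀s (ρ s)
  refine ⟨MvPowerSeries.map (algebraMap k R) p₀, ?_⟩
  rw [← hρk, map_sub, rho_psi ρ hρk ψ₀ ψ hψX hmem, map_rhoR_map, hp₀, sub_self]


include hρk hψX hmem hψ₀s in
theorem psi_surjective [IsNoetherianRing R] [IsAdicComplete (IsLocalRing.maximalIdeal R) R]
    [IsHausdorff (IsLocalRing.maximalIdeal S) S] : Function.Surjective ψ := by
  have hH : IsHausdorff (IsLocalRing.maximalIdeal R) S := by
    constructor
    intro x hx
    apply eq_zero_of_forall_mem_pow (IsLocalRing.maximalIdeal S)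
    intro n
    have h1 := hx n
    rw [SModEq.zero, Ideal.smul_top_eq_map, Ideal.map_pow] at h1
    exact Ideal.pow_right_mono (map_le_max (R := R) (S := S)) n h1
  have key : Function.Surjective ((Submodule.mkQ
      ((IsLocalRing.maximalIdeal R) • ⊤ : Submodule R S)) ∘ₗ ψ.toLinearMap) := by
    intro y
    obtain ⟨s, rfl⟩ := Submodule.mkQ_surjective _ y
    obtain ⟨p, hp⟩ := exists_approx ρ hρk ψ₀ hψ₀s ψ hψX hmem s
    refine ⟨p, ?_⟩
    show Submodule.mkQ _ (ψ p) = Submodule.mkQ _ s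
    rw [Submodule.mkQ_apply, Submodule.mkQ_apply, Submodule.Quotient.eq, Ideal.smul_top_eq_map]
    rw [← Ideal.neg_mem_iff] at hp
    rw [Submodule.restrictScalars_mem]
    convert hp using 1
    ring
  exact surjective_of_mkQ_comp_surjective (I := IsLocalRing.maximalIdeal R) key

lemma exists_fin_gens {A : Type*} [CommRing A] (J : Ideal A) (hJ : J.FG) :
    ∃ (s : ℕ) (g : Fin s → A), Ideal.span (Set.range g) = J := by
  classical
  obtain ⟨T, hT⟩ := hJ
  refine ⟨T.card, fun i => (T.equivFin.symm i : A), ?_⟩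
  rw [← hT]
  congr 1
  ext a
  constructor
  · rintro ⟨i, rfl⟩; exact (T.equivFin.symm i).2
  · intro ha; exact ⟨T.equivFin ⟨a, ha⟩, by simp⟩

lemma psi_C (r : R) : ψ (C r) = algebraMap R S r := by
  have : (C r : MvPowerSeries (Fin 2) R) = algebraMap R (MvPowerSeries (Fin 2) R) r := rfl
  rw [this, ψ.commutes]

include hρk hψX hmem hψ₀k in
theorem ker_psi [IsNoetherianRing R] [Module.Flat R S] (hψs : Function.Surjective ψ) (t : R)
    (ht : rhoR ρ t = 0) (hUV : ψ (X 0) * ψ (X 1) = algebraMap R S t) :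
    RingHom.ker (ψ : MvPowerSeries (Fin 2) R →+* S) =
      Ideal.span {(X 0 * X 1 - C t : MvPowerSeries (Fin 2) R)} := by
  have hgen : ψ (X 0 * X 1 - C t) = 0 := by
    rw [map_sub, map_mul, psi_C, hUV, sub_self]
  apply le_antisymm
  · have hfg : (RingHom.ker (ψ : MvPowerSeries (Fin 2) R →+* S)).FG := IsNoetherian.noetherian _
    have hjac : Ideal.map (C : R →+* MvPowerSeries (Fin 2) R) (IsLocalRing.maximalIdeal R) ≤
        (⊥ : Ideal (MvPowerSeries (Fin 2) R)).jacobson := by
      rw [IsLocalRing.jacobson_eq_maximalIdeal ⊥ bot_ne_top, Ideal.map_le_iff_le_comap]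
      intro r hr
      rw [Ideal.mem_comap, IsLocalRing.mem_maximalIdeal, mem_nonunits_iff,
        MvPowerSeries.isUnit_iff_constantCoeff, constantCoeff_C]
      exact (IsLocalRing.mem_maximalIdeal r).mp hr
    refine Submodule.le_of_le_smul_of_le_jacobson_bot hfg hjac ?_
    intro z hz
    have hz0 : ψ z = 0 := hz
    -- step (i)
    have h1 : ψ₀ (MvPowerSeries.map (rhoR ρ) z) = 0 := by
      rw [← rho_psi ρ hρk ψ₀ ψ hψX hmem, hz0, map_zero]
    obtain ⟨q₀, hq₀⟩ := hψ₀k _ h1
    set q := MvPowerSeries.map (algebraMap k R) q₀ with hq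
    set w := z - (X 0 * X 1 - C t) * q with hw
    have hw0 : ψ w = 0 := by
      rw [hw, map_sub, map_mul, hgen, zero_mul, hz0, sub_zero]
    have hmw : MvPowerSeries.map (rhoR ρ) w = 0 := by
      rw [hw, map_sub, map_mul, map_sub, map_mul, MvPowerSeries.map_X, MvPowerSeries.map_X,
        MvPowerSeries.map_C, ht, map_zero, sub_zero, hq, map_rhoR_map, hq₀, sub_self]
    have hwc : ∀ d, coeff d w ∈ IsLocalRing.maximalIdeal R := by
      intro d
      rw [← rhoR_eq_zero_iff ρ hρk, ← coeff_map, hmw, map_zero]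
    -- step (ii)
    obtain ⟨s, g, hg⟩ := exists_fin_gens (IsLocalRing.maximalIdeal R) (IsNoetherian.noetherian _)
    obtain ⟨y, hy⟩ := exists_sum_of_coeff_mem g w (by rw [hg]; exact hwc)
    have hrel : ∑ j, g j • ψ (y j) = 0 := by
      rw [← hw0, hy, map_sum]
      apply Finset.sum_congr rfl
      intro j _
      rw [map_mul, psi_C, Algebra.smul_def]
    obtain ⟨l, a, Y, hY1, hY2⟩ := Module.Flat.isTrivialRelation_of_sum_smul_eq_zero (R := R)
      (M := S) (f := g) (x := fun j => ψ (y j)) hrel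
    replace hY1 : ∀ i, ψ (y i) = ∑ j, a i j • Y j := hY1
    choose Q hQ using fun j => hψs (Y j)
    have hκ : ∀ i, y i - ∑ j, C (a i j) * Q j ∈ RingHom.ker (ψ : MvPowerSeries (Fin 2) R →+* S) := by
      intro i
      rw [RingHom.mem_ker]
      show ψ (y i - ∑ j, C (a i j) * Q j) = 0
      rw [map_sub, map_sum, hY1 i, sub_eq_zero]
      apply Finset.sum_congr rfl
      intro j _
      rw [map_mul, psi_C, hQ, Algebra.smul_def]
    have hwsum : w = ∑ i, C (g i) * (y i - ∑ j, C (a i j) * Q j) := by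
      have h3 : ∑ i, C (g i) * ∑ j, C (a i j) * Q j = (0 : MvPowerSeries (Fin 2) R) := by
        simp_rw [Finset.mul_sum]
        rw [Finset.sum_comm]
        apply Finset.sum_eq_zero
        intro j _
        have : ∑ i, C (g i) * (C (a i j) * Q j) = C (∑ i, g i * a i j) * Q j := by
          rw [map_sum, Finset.sum_mul]
          apply Finset.sum_congr rfl
          intro i _
          rw [map_mul]; ring
        rw [this, hY2 j, map_zero, zero_mul]
      simp_rw [mul_sub]
      rw [Finset.sum_sub_distrib, h3, sub_zero]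
      exact hy
    have hzw : z = (X 0 * X 1 - C t) * q + w := by rw [hw]; ring
    rw [hzw]
    apply Submodule.add_mem_sup
    · exact Ideal.mul_mem_right _ _ (Ideal.subset_span rfl)
    · rw [hwsum]
      apply Submodule.sum_mem
      intro i _
      rw [← smul_eq_mul]
      apply Submodule.smul_mem_smul _ (hκ i)
      apply Ideal.mem_map_of_mem
      rw [← hg]; exact Ideal.subset_span ⟨i, rfl⟩
  · rw [Ideal.span_le, Set.singleton_subset_iff]
    exact hgen

end Groth.Agent.Lib.Helper83.ArSingDf
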