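import Groth.Agent.Lib.Helper83.ArSingDf7
import Groth.Agent.Lib.Helper61.CompleteLE

set_option autoImplicit false
set_option linter.unusedSectionVars false

open MvPowerSeries

namespace Groth.Agent.Lib.Helper83.ArSingDf
open Groth.Agent.Lib.Helper83.ArSingCl

universe u

theorem main_S14084 (k R S : Type u) [Field k] [IsAlgClosed k]
    (h2 : (2 : k) ≠ 0)
    [CommRing R] [IsLocalRing R] [IsNoetherianRing R] [IsAdicComplete (IsLocalRing.maximalIdeal R) R]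
    [CommRing S] [IsLocalRing S] [IsNoetherianRing S] [IsAdicComplete (IsLocalRing.maximalIdeal S) S]
    [Algebra k R] [Algebra R S] [Algebra k S] [IsScalarTower k R S]
    [IsLocalHom (algebraMap R S)] [Module.Flat R S]
    (e : (S ⧸ Ideal.map (algebraMap R S) (IsLocalRing.maximalIdeal R)) ≃ₐ[k]
      (MvPowerSeries (Fin 2) k ⧸
        Ideal.span {(MvPowerSeries.X 1 ^ 2 - MvPowerSeries.X 0 ^ 2 : MvPowerSeries (Fin 2) k)}))
    (σ : S ≃ₐ[R] S) (hσ : ∀ s, σ (σ s) = s)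
    (hbr : ∀ P ∈ (Ideal.map (algebraMap R S) (IsLocalRing.maximalIdeal R)).minimalPrimes,
      Ideal.map (σ : S →+* S) P = P) :
    ∃ (t : R) (ξ₁ ξ₂ : k), ξ₁ ^ 2 = 1 ∧ ξ₂ ^ 2 = 1 ∧ (ξ₁ = -ξ₂ → t = 0) ∧
      ∃ f : S ≃ₐ[R] (MvPowerSeries (Fin 2) R ⧸
          Ideal.span {(MvPowerSeries.X 0 * MvPowerSeries.X 1 - MvPowerSeries.C t : MvPowerSeries (Fin 2) R)}),
        f (σ (f.symm (Ideal.Quotient.mk _ (MvPowerSeries.X 0)))) =
          algebraMap k R ξ₂ • Ideal.Quotient.mk _ (MvPowerSeries.X 0) ∧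
        f (σ (f.symm (Ideal.Quotient.mk _ (MvPowerSeries.X 1)))) =
          algebraMap k R ξ₁ • Ideal.Quotient.mk _ (MvPowerSeries.X 1) := by
  -- the reduction map
  let ρ : S →ₐ[k] N0 k := ((nodeEquiv h2).toAlgHom.comp e.toAlgHom).comp
    (Ideal.Quotient.mkₐ k (Ideal.map (algebraMap R S) (IsLocalRing.maximalIdeal R)))
  have hρs : Function.Surjective ρ :=
    ((nodeEquiv h2).surjective.comp e.surjective).comp (Ideal.Quotient.mkₐ_surjective k _)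
  have hρk : ∀ s, ρ s = 0 ↔ s ∈ Ideal.map (algebraMap R S) (IsLocalRing.maximalIdeal R) := by
    intro s
    show (nodeEquiv h2) (e (Ideal.Quotient.mk _ s)) = 0 ↔ _
    rw [map_eq_zero_iff _ (nodeEquiv h2).injective, map_eq_zero_iff _ e.injective,
      Ideal.Quotient.eq_zero_iff_mem]
  -- eigen lifts
  obtain ⟨ξ₂, U₀, w₀, hξ₂, hσU₀, hw₀, hρU₀⟩ := exists_eigen_lift ρ hρs hρk σ hσ h2 0 1 (by decide)
    (hbr _ (branch_mem_minimalPrimes ρ hρs hρk 0 1 (by decide)))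
  obtain ⟨ξ₁, V₀, w₁, hξ₁, hσV₀, hw₁, hρV₀⟩ := exists_eigen_lift ρ hρs hρk σ hσ h2 1 0 (by decide)
    (hbr _ (branch_mem_minimalPrimes ρ hρs hρk 1 0 (by decide)))
  obtain ⟨ψ₀, hψ₀X, hψ₀s, hψ₀k⟩ := exists_psi0 (k := k) ![w₀, w₁] (by
    intro s; fin_cases s
    · exact hw₀
    · exact hw₁)
  have hu : ψ₀ (X 0) = q0 k (X 0) * w₀ := hψ₀X 0
  have hv : ψ₀ (X 1) = q0 k (X 1) * w₁ := hψ₀X 1
  have huv : ψ₀ (X 0) * ψ₀ (X 1) = 0 := by
    rw [← map_mul]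
    have : (q0 k) (X 0 * X 1) = 0 := (q0_eq_zero_iff _).mpr dvd_rfl
    have h3 : ψ₀ (X 0 * X 1) = q0 k (X 0 * X 1) * (w₀ * w₁) := by
      rw [map_mul, map_mul, hu, hv]; ring
    rw [h3, this, zero_mul]
  have hmem : ∀ i, ψ₀ (X i) ∈ IsLocalRing.maximalIdeal (N0 k) := by
    intro i
    rw [mem_maximalIdeal_iff, hψ₀X, map_mul, resN_q0, constantCoeff_X, zero_mul]
  have hG3 : ∀ z : N0 k, ∃ (c : k) (a b : N0 k),
      z = algebraMap k (N0 k) c + ψ₀ (X 0) * a + ψ₀ (X 1) * b := by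
    intro z
    obtain ⟨f, rfl⟩ := hψ₀s z
    have h3 := mem_span_of_constantCoeff_eq_zero (f - C (constantCoeff f)) (by simp)
    rw [Ideal.mem_span_pair] at h3
    obtain ⟨a, b, hab⟩ := h3
    refine ⟨constantCoeff f, ψ₀ a, ψ₀ b, ?_⟩
    have h4 : f = C (constantCoeff f) + X 0 * a + X 1 * b := by linear_combination -hab
    have h5 : ψ₀ (C (constantCoeff f)) = algebraMap k (N0 k) (constantCoeff f) := by
      rw [← ψ₀.commutes]; rfl
    conv_lhs => rw [h4]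
    rw [map_add, map_add, map_mul, map_mul, h5]
  -- the solution
  obtain ⟨U, V, t, hρU, hρV, hσU, hσV, hUV, ht0⟩ :=
    exists_solution ρ hρs hρk σ hσ (ψ₀ (X 0)) (ψ₀ (X 1)) hG3 ξ₁ ξ₂ hξ₁ hξ₂ h2 U₀ V₀
      (by rw [hρU₀, hu]) (by rw [hρV₀, hv]) hσU₀ hσV₀ huv
  -- the evaluation map
  have hnonunit : ∀ (Y : S) (i : Fin 2), ρ Y = ψ₀ (X i) → Y ∈ IsLocalRing.maximalIdeal S := by
    intro Y i hY
    rw [IsLocalRing.mem_maximalIdeal, mem_nonunits_iff, ← rho_isUnit_iff ρ hρs, hY]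
    exact (IsLocalRing.mem_maximalIdeal _).mp (hmem i)
  have hUm := hnonunit U 0 hρU
  have hVm := hnonunit V 1 hρV
  have hle : Ideal.span (Set.range ![U, V]) ≤ IsLocalRing.maximalIdeal S := by
    rw [Ideal.span_le]
    rintro _ ⟨i, rfl⟩
    fin_cases i
    · exact hUm
    · exact hVm
  have hcompl : IsAdicComplete (Ideal.span (Set.range ![U, V])) S :=
    Groth.Agent.Lib.Helper61.CompleteLE.isAdicComplete_of_le _ _ hle
      (Submodule.fg_span (Set.finite_range _))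
  obtain ⟨ψ, hψ⟩ := Groth.Agent.Lib.Helper61.PSEval2.exists_eval (k := R) (R := S) ![U, V]
  have hψ0 : ψ (X 0) = U := hψ 0
  have hψ1 : ψ (X 1) = V := hψ 1
  have hψX : ∀ i, ρ (ψ (X i)) = ψ₀ (X i) := by
    intro i; fin_cases i
    · show ρ (ψ (X 0)) = ψ₀ (X 0)
      rw [hψ0, hρU]
    · show ρ (ψ (X 1)) = ψ₀ (X 1)
      rw [hψ1, hρV]
  have hψs := psi_surjective ρ hρk ψ₀ hψ₀s ψ hψX hmem
  have htR : rhoR ρ t = 0 := by
    rw [rhoR_apply, ← hUV, map_mul, hρU, hρV, huv, map_zero]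
  have hker := ker_psi ρ hρk ψ₀ hψ₀k ψ hψX hmem hψs t htR (by rw [hψ0, hψ1, hUV])
  -- the isomorphism
  let f : S ≃ₐ[R] (MvPowerSeries (Fin 2) R ⧸
      Ideal.span {(X 0 * X 1 - C t : MvPowerSeries (Fin 2) R)}) :=
    (Ideal.quotientKerAlgEquivOfSurjective hψs).symm.trans (Ideal.quotientEquivAlgOfEq R hker)
  have hfsymm : ∀ p, f.symm (Ideal.Quotient.mk _ p) = ψ p := by
    intro p
    rfl
  have hf : ∀ p, f (ψ p) = Ideal.Quotient.mk _ p := by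
    intro p
    rw [← hfsymm, AlgEquiv.apply_symm_apply]
  have hκ : ∀ (c : k) (Y : S), algebraMap k S c * Y = algebraMap k R c • Y := by
    intro c Y
    rw [Algebra.smul_def, ← IsScalarTower.algebraMap_apply]
  refine ⟨t, ξ₁, ξ₂, hξ₁, hξ₂, ht0, f, ?_, ?_⟩
  · rw [hfsymm, hψ0, hσU, hκ, map_smul, ← hψ0, hf]
  · rw [hfsymm, hψ1, hσV, hκ, map_smul, ← hψ1, hf]

end Groth.Agent.Lib.Helper83.ArSingDf
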