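import Groth.Agent.Lib.Helper83.ArSingD

set_option autoImplicit false

namespace Groth.Agent.Lib.Helper83.ArSingA

universe u v
variable (k : Type u) [Field k] (r : ℕ)

/-- **Hom ext** for `k`-algebra maps out of `A_r` into a `J`-adically separated algebra. -/
theorem algHom_ext {T : Type v} [CommRing T] [Algebra k T] (J : Ideal T)
    (hJ : ⨅ n : ℕ, J ^ n = ⊥) (f g : ArSing.ring k r →ₐ[k] T)
    (hx : f (ArSing.x k r) = g (ArSing.x k r)) (hy : f (ArSing.y k r) = g (ArSing.y k r))
    (hfJ : f (ArSing.x k r) ∈ J) : f = g := by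
  have h1 : f.comp (ArSing.xMap k r) = g.comp (ArSing.xMap k r) := by
    apply powerSeries_algHom_ext k J hJ
    · simp only [AlgHom.comp_apply, xMap_X, hx]
    · simp only [AlgHom.comp_apply, xMap_X]; exact hfJ
  ext s
  obtain ⟨a, b, rfl⟩ := basis_exists k r s
  have ha := congrArg (fun w => w a) h1
  have hb := congrArg (fun w => w b) h1
  simp only [AlgHom.comp_apply] at ha hb
  rw [map_add, map_add, map_mul, map_mul, ha, hb, hy]

/-- **Hom existence**: maps out of `A_r` into quotients of power series rings. -/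
theorem exists_algHom {τ : Type v} (K : Ideal (MvPowerSeries τ k)) (X' Y' : MvPowerSeries τ k)
    (hX : MvPowerSeries.constantCoeff X' = 0) (hY : MvPowerSeries.constantCoeff Y' = 0)
    (h : Y' ^ 2 - X' ^ (r + 1) ∈ K) :
    ∃ θ : ArSing.ring k r →ₐ[k] (MvPowerSeries τ k ⧸ K),
      θ (ArSing.x k r) = Ideal.Quotient.mk K X' ∧ θ (ArSing.y k r) = Ideal.Quotient.mk K Y' := by
  have ha : MvPowerSeries.HasSubst (![X', Y'] : Fin 2 → MvPowerSeries τ k) :=
    MvPowerSeries.hasSubst_of_constantCoeff_zero (by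
      intro s; fin_cases s <;> simp [hX, hY])
  let Θ : MvPowerSeries (Fin 2) k →ₐ[k] (MvPowerSeries τ k ⧸ K) :=
    (Ideal.Quotient.mkₐ k K).comp (MvPowerSeries.substAlgHom ha)
  have hΘ : ∀ F ∈ Ideal.span {ArSing.eqn k r}, Θ F = 0 := by
    intro F hF
    rw [Ideal.mem_span_singleton] at hF
    obtain ⟨G, rfl⟩ := hF
    have : Θ (ArSing.eqn k r) = 0 := by
      unfold ArSing.eqn
      simp only [Θ, AlgHom.comp_apply, map_sub, map_pow, MvPowerSeries.substAlgHom_X]
      simp only [Matrix.cons_val_zero, Matrix.cons_val_one]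
      rw [← map_pow, ← map_pow, ← map_sub]
      exact Ideal.Quotient.eq_zero_iff_mem.mpr h
    rw [map_mul, this, zero_mul]
  refine ⟨Ideal.Quotient.liftₐ _ Θ hΘ, ?_, ?_⟩
  · change Θ (MvPowerSeries.X 0) = _
    simp only [Θ, AlgHom.comp_apply, MvPowerSeries.substAlgHom_X]
    rfl
  · change Θ (MvPowerSeries.X 1) = _
    simp only [Θ, AlgHom.comp_apply, MvPowerSeries.substAlgHom_X]
    rfl

end Groth.Agent.Lib.Helper83.ArSingA
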