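import Groth.Agent.Lib.Helper83.ArSingE

set_option autoImplicit false

namespace Groth.Agent.Lib.Helper83.ArSingA

universe u v
variable (k : Type u) [Field k] (r : ℕ)

local notation "ι" => ArSing.xMap k r
local notation "Y" => ArSing.y k r

theorem mul_formula (a b c d : PowerSeries k) :
    (ι a + ι b * Y) * (ι c + ι d * Y) =
      ι (a * c + b * d * PowerSeries.X ^ (r + 1)) + ι (a * d + b * c) * Y := by
  simp only [map_add, map_mul]
  rw [← y_sq' k r]
  ring

theorem mul_y_formula (a b : PowerSeries k) :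
    (ι a + ι b * Y) * Y = ι (b * PowerSeries.X ^ (r + 1)) + ι a * Y := by
  simp only [map_mul]
  rw [← y_sq' k r]
  ring

theorem x_mul_formula (a b : PowerSeries k) :
    ArSing.x k r * (ι a + ι b * Y) = ι (PowerSeries.X * a) + ι (PowerSeries.X * b) * Y := by
  simp only [map_mul, xMap_X]
  ring

/-- membership in `(y)`. -/
theorem mem_span_y_iff (a b : PowerSeries k) :
    ι a + ι b * Y ∈ Ideal.span {Y} ↔ PowerSeries.X ^ (r + 1) ∣ a := by
  rw [Ideal.mem_span_singleton']
  constructor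
  · rintro ⟨s, hs⟩
    obtain ⟨c, d, rfl⟩ := basis_exists k r s
    rw [mul_y_formula] at hs
    obtain ⟨h1, -⟩ := basis_ext k r hs
    exact ⟨d, by rw [← h1]; ring⟩
  · rintro ⟨d, rfl⟩
    exact ⟨ι b + ι d * Y, by rw [mul_y_formula]; congr 2; ring⟩

/-- membership in `(x)`. -/
theorem mem_span_x_iff (a b : PowerSeries k) :
    ι a + ι b * Y ∈ Ideal.span {ArSing.x k r} ↔ PowerSeries.X ∣ a ∧ PowerSeries.X ∣ b := by
  rw [Ideal.mem_span_singleton]
  constructor
  · rintro ⟨s, hs⟩
    obtain ⟨c, d, rfl⟩ := basis_exists k r s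
    rw [x_mul_formula] at hs
    obtain ⟨h1, h2⟩ := basis_ext k r hs
    exact ⟨⟨c, h1⟩, ⟨d, h2⟩⟩
  · rintro ⟨⟨c, rfl⟩, ⟨d, rfl⟩⟩
    exact ⟨ι c + ι d * Y, by rw [x_mul_formula]⟩

theorem y_mem_nonZeroDivisors : Y ∈ nonZeroDivisors (ArSing.ring k r) := by
  rw [mem_nonZeroDivisors_iff_right]
  intro s hs
  obtain ⟨a, b, rfl⟩ := basis_exists k r s
  rw [mul_y_formula] at hs
  obtain ⟨h1, h2⟩ := basis_unique k r _ _ hs
  have hb : b = 0 := by
    rcases mul_eq_zero.mp h1 with h | h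
    · exact h
    · exact absurd h (pow_ne_zero _ PowerSeries.X_ne_zero)
  rw [h2, hb]; simp

theorem x_mem_nonZeroDivisors : ArSing.x k r ∈ nonZeroDivisors (ArSing.ring k r) := by
  rw [mem_nonZeroDivisors_iff_right]
  intro s hs
  obtain ⟨a, b, rfl⟩ := basis_exists k r s
  rw [mul_comm, x_mul_formula] at hs
  obtain ⟨h1, h2⟩ := basis_unique k r _ _ hs
  have ha : a = 0 := (mul_eq_zero.mp h1).resolve_left PowerSeries.X_ne_zero
  have hb : b = 0 := (mul_eq_zero.mp h2).resolve_left PowerSeries.X_ne_zero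
  rw [ha, hb]; simp

/-- the maximal ideal is `(x, y)`, in coordinates: `X ∣ a`. -/
theorem mem_max_iff (a b : PowerSeries k) :
    ι a + ι b * Y ∈ IsLocalRing.maximalIdeal (ArSing.ring k r) ↔ PowerSeries.X ∣ a := by
  have hby : ι b * Y ∈ IsLocalRing.maximalIdeal (ArSing.ring k r) :=
    Ideal.mul_mem_left _ _ (y_mem_max k r)
  constructor
  · intro h
    have ha : ι a ∈ IsLocalRing.maximalIdeal (ArSing.ring k r) := by
      have := Ideal.sub_mem _ h hby
      simpa using this
    rw [PowerSeries.X_dvd_iff]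
    by_contra hc
    have hu : IsUnit a := PowerSeries.isUnit_iff_constantCoeff.mpr (Ne.isUnit hc)
    exact (IsLocalRing.mem_maximalIdeal _).mp ha (hu.map _)
  · rintro ⟨c, rfl⟩
    refine Ideal.add_mem _ ?_ hby
    rw [map_mul, xMap_X]
    exact Ideal.mul_mem_right _ _ (x_mem_max k r)

theorem max_eq_span : IsLocalRing.maximalIdeal (ArSing.ring k r) =
    Ideal.span {ArSing.x k r, Y} := by
  apply le_antisymm
  · intro s hs
    obtain ⟨a, b, rfl⟩ := basis_exists k r s
    obtain ⟨c, rfl⟩ := (mem_max_iff k r a b).mp hs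
    rw [Ideal.mem_span_pair]
    exact ⟨ι c, ι b, by rw [map_mul, xMap_X]; ring⟩
  · rw [Ideal.span_le]
    rintro s (rfl | rfl)
    · exact x_mem_max k r
    · exact y_mem_max k r

end Groth.Agent.Lib.Helper83.ArSingA
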