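import Groth.Agent.Lib.Helper83.ArSingF
import Groth.Agent.Lib.Helper83.ArLefG

set_option autoImplicit false

namespace Groth.Agent.Lib.Helper83.ArSingA

universe u v

/-- change of rings for lengths of cyclic modules along a surjection `R → S/J`. -/
theorem length_eq_of_surj {R S : Type*} [CommRing R] [CommRing S] (J : Ideal S)
    (ρ : R →+* S ⧸ J) (hρ : Function.Surjective ρ) (I : Ideal R) (hker : RingHom.ker ρ = I) :
    Module.length S (S ⧸ J) = Module.length R (R ⧸ I) := by
  have h1 : Module.length S (S ⧸ J) = Module.length (S ⧸ J) (S ⧸ J) :=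
    Module.length_eq_of_surjective Ideal.Quotient.mk_surjective
  let _ : Algebra R (S ⧸ J) := ρ.toAlgebra
  have h2 : Module.length R (S ⧸ J) = Module.length (S ⧸ J) (S ⧸ J) :=
    Module.length_eq_of_surjective (R := S ⧸ J) (S := R) (M := S ⧸ J) hρ
  rw [h1, ← h2]
  have hs : Function.Surjective (Algebra.linearMap R (S ⧸ J)) := hρ
  have e1 := LinearMap.quotKerEquivOfSurjective (Algebra.linearMap R (S ⧸ J)) hs
  have hk : LinearMap.ker (Algebra.linearMap R (S ⧸ J)) = I := by
    rw [← hker]; ext z; simp [RingHom.mem_ker, Algebra.linearMap_apply]; rfl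
  exact ((Submodule.quotEquivOfEq _ _ hk).symm.trans e1).length_eq.symm

/-- length of `k⟦X⟧/(X^n)`. -/
theorem length_powerSeries_quot (k : Type u) [Field k] (n : ℕ) :
    Module.length (PowerSeries k) (PowerSeries k ⧸ Ideal.span {(PowerSeries.X : PowerSeries k) ^ n})
      = n := by
  have hreg : IsSMulRegular (PowerSeries k ⧸ Ideal.span ({0} : Set (PowerSeries k)))
      (PowerSeries.X : PowerSeries k) := by
    rw [ArLefG.regular_iff]
    intro z w hz
    rw [zero_mul] at hz
    rw [zero_dvd_iff]
    exact (mul_eq_zero.mp hz).resolve_left PowerSeries.X_ne_zero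
  have h := ArLefG.ell_pow_pair (PowerSeries.X : PowerSeries k) 0 n hreg
  have e1 : Ideal.span ({(PowerSeries.X : PowerSeries k) ^ n, 0} : Set (PowerSeries k)) =
      Ideal.span {(PowerSeries.X : PowerSeries k) ^ n} := by
    rw [ArLefG.span_pair_eq_sup]; simp
  have e2 : Ideal.span ({(PowerSeries.X : PowerSeries k), 0} : Set (PowerSeries k)) =
      IsLocalRing.maximalIdeal (PowerSeries k) := by
    rw [ArLefG.span_pair_eq_sup, PowerSeries.maximalIdeal_eq_span_X]; simp
  rw [e1, e2, ArLefG.ell_maximal (IsLocalRing.maximalIdeal (PowerSeries k)), mul_one] at h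
  exact h

end Groth.Agent.Lib.Helper83.ArSingA
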