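import Groth.Agent.Lib.Helper83.ArSingG

set_option autoImplicit false

namespace Groth.Agent.Lib.Helper83.ArSingA

universe u v
variable (k : Type u) [Field k] (r : ℕ)

local notation "ι" => ArSing.xMap k r
local notation "Y" => ArSing.y k r

/-- general: how an algebra map acts on `ι a`, given the image of `x` lies in the maximal ideal. -/
theorem algHom_iota {r' : ℕ} (f : ArSing.ring k r →ₐ[k] ArSing.ring k r')
    (g : PowerSeries k →ₐ[k] PowerSeries k)
    (hx : f (ArSing.x k r) = ArSing.xMap k r' (g PowerSeries.X))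
    (hm : f (ArSing.x k r) ∈ IsLocalRing.maximalIdeal (ArSing.ring k r')) (a : PowerSeries k) :
    f (ι a) = ArSing.xMap k r' (g a) := by
  have : f.comp (ι) = (ArSing.xMap k r').comp g := by
    apply powerSeries_algHom_ext k (IsLocalRing.maximalIdeal (ArSing.ring k r')) (iInf_pow_max k r')
    · simp only [AlgHom.comp_apply, xMap_X, hx]
    · simp only [AlgHom.comp_apply, xMap_X]; exact hm
  exact congrArg (fun w => w a) this

theorem sigma_iota (σ : ArSing.ring k r ≃ₐ[k] ArSing.ring k r)
    (hx : σ (ArSing.x k r) = ArSing.x k r) (a : PowerSeries k) : σ (ι a) = ι a := by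
  have := algHom_iota k r (r' := r) σ.toAlgHom (AlgHom.id k _)
    (by simp [hx, xMap_X]) (by simpa [hx] using x_mem_max k r) a
  simpa using this

theorem free_of_basis : (ι).toRingHom.Flat := by
  unfold RingHom.Flat
  let _ : Algebra (PowerSeries k) (ArSing.ring k r) := (ι).toRingHom.toAlgebra
  have hsm : ∀ (a : PowerSeries k) (s : ArSing.ring k r), a • s = ι a * s := fun a s => rfl
  let f : (PowerSeries k × PowerSeries k) →ₗ[PowerSeries k] ArSing.ring k r :=
    (LinearMap.fst _ _ _).smulRight (1 : ArSing.ring k r) + (LinearMap.snd _ _ _).smulRight Y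
  have hf : ∀ p, f p = ι p.1 + ι p.2 * Y := by
    intro p; simp [f, hsm]
  have hbij : Function.Bijective f := by
    constructor
    · rw [injective_iff_map_eq_zero]
      intro p hp
      rw [hf] at hp
      obtain ⟨h1, h2⟩ := basis_unique k r _ _ hp
      exact Prod.ext h1 h2
    · intro s
      obtain ⟨a, b, rfl⟩ := basis_exists k r s
      exact ⟨(a, b), hf _⟩
  have : Module.Free (PowerSeries k) (ArSing.ring k r) :=
    Module.Free.of_equiv (LinearEquiv.ofBijective f hbij)
  infer_instance

theorem main_S14093 (h2 : (2 : k) ≠ 0)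
    (σ : ArSing.ring k r ≃ₐ[k] ArSing.ring k r) (hx : σ (ArSing.x k r) = ArSing.x k r)
    (hy : σ (ArSing.y k r) = -ArSing.y k r) :
    (∀ a : ArSing.ring k r, σ a = a ↔ a ∈ (ArSing.xMap k r).range) ∧
    ((ArSing.xMap k r).toRingHom.Flat ∧
      Ideal.map (ArSing.xMap k r) (IsLocalRing.maximalIdeal (PowerSeries k)) ≠ ⊤) ∧
    (∃ g : ArSing.ring k r, g ∈ nonZeroDivisors (ArSing.ring k r) ∧
      Ideal.span (Set.range fun a : ArSing.ring k r => σ a - a) = Ideal.span {g}) ∧
    Module.length (ArSing.ring k r)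
      (ArSing.ring k r ⧸ Ideal.span (Set.range fun a : ArSing.ring k r => σ a - a)) = r + 1 := by
  have h2' : (2 : PowerSeries k) ≠ 0 := by
    intro h
    have := congrArg (PowerSeries.constantCoeff) h
    simp at this
    exact h2 this
  have hσ : ∀ a b : PowerSeries k, σ (ι a + ι b * Y) = ι a - ι b * Y := by
    intro a b
    rw [map_add, map_mul, sigma_iota k r σ hx, sigma_iota k r σ hx, hy]; ring
  have hunit2 : IsUnit (2 : ArSing.ring k r) := by
    have : (2 : ArSing.ring k r) = algebraMap k _ 2 := (map_ofNat (algebraMap k _) 2).symm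
    rw [this]; exact (Ne.isUnit h2).map _
  have hfix : Ideal.span (Set.range fun a : ArSing.ring k r => σ a - a) = Ideal.span {Y} := by
    apply le_antisymm
    · rw [Ideal.span_le]
      rintro _ ⟨s, rfl⟩
      obtain ⟨a, b, rfl⟩ := basis_exists k r s
      simp only [hσ]
      rw [SetLike.mem_coe, Ideal.mem_span_singleton]
      exact ⟨-(2 * ι b), by ring⟩
    · rw [Ideal.span_le, Set.singleton_subset_iff, SetLike.mem_coe]
      have h1 : σ Y - Y ∈ Ideal.span (Set.range fun a : ArSing.ring k r => σ a - a) :=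
        Ideal.subset_span ⟨Y, rfl⟩
      rw [hy] at h1
      obtain ⟨w, hw⟩ := hunit2.exists_left_inv
      have : Y = (-w) * (-Y - Y) := by linear_combination (-Y) * hw
      rw [this]
      exact Ideal.mul_mem_left _ _ h1
  refine ⟨?_, ⟨free_of_basis k r, ?_⟩, ⟨Y, y_mem_nonZeroDivisors k r, hfix⟩, ?_⟩
  · intro s
    obtain ⟨a, b, rfl⟩ := basis_exists k r s
    rw [hσ]
    constructor
    · intro h
      have h' : ι (0 : PowerSeries k) + ι (2 * b) * Y = 0 := by
        rw [map_zero, map_mul, map_ofNat]; linear_combination -h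
      obtain ⟨-, hb⟩ := basis_unique k r _ _ h'
      have hb0 : b = 0 := (mul_eq_zero.mp hb).resolve_left h2'
      exact ⟨a, by rw [hb0]; simp⟩
    · rintro ⟨c, hc⟩
      have hc' : ι c + ι 0 * Y = ι a + ι b * Y := by rw [map_zero, zero_mul, add_zero]; exact hc
      obtain ⟨-, hb⟩ := basis_ext k r hc'
      rw [← hb]; simp
  · rw [PowerSeries.maximalIdeal_eq_span_X, Ideal.map_span, Set.image_singleton]
    intro h
    have h3 : (ι) PowerSeries.X ∈ IsLocalRing.maximalIdeal (ArSing.ring k r) := by
      rw [xMap_X]; exact x_mem_max k r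
    have : (⊤ : Ideal (ArSing.ring k r)) ≤ IsLocalRing.maximalIdeal (ArSing.ring k r) := by
      rw [← h, Ideal.span_le, Set.singleton_subset_iff]; exact h3
    exact (IsLocalRing.maximalIdeal.isMaximal _).ne_top (top_le_iff.mp this)
  · rw [hfix]
    -- surjection `k⟦X⟧ → A_r/(y)` with kernel `(X^(r+1))`
    let ρ : PowerSeries k →+* ArSing.ring k r ⧸ Ideal.span {Y} :=
      (Ideal.Quotient.mk _).comp (ι).toRingHom
    have hρs : Function.Surjective ρ := by
      intro z
      obtain ⟨s, rfl⟩ := Ideal.Quotient.mk_surjective z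
      obtain ⟨a, b, rfl⟩ := basis_exists k r s
      refine ⟨a, ?_⟩
      change Ideal.Quotient.mk _ (ι a) = _
      rw [Ideal.Quotient.mk_eq_mk_iff_sub_mem, Ideal.mem_span_singleton]
      exact ⟨-ι b, by ring⟩
    have hker : RingHom.ker ρ = Ideal.span {(PowerSeries.X : PowerSeries k) ^ (r + 1)} := by
      ext a
      rw [RingHom.mem_ker, Ideal.mem_span_singleton]
      change Ideal.Quotient.mk _ (ι a) = 0 ↔ _
      rw [Ideal.Quotient.eq_zero_iff_mem]
      have := mem_span_y_iff k r a 0
      simpa using this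
    rw [length_eq_of_surj _ ρ hρs _ hker, length_powerSeries_quot]
    simp

end Groth.Agent.Lib.Helper83.ArSingA
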