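import Mathlib

set_option autoImplicit false

namespace Groth.Agent.Lib.Helper83.ArSingP

universe u
variable (k : Type u) [Field k]

open PowerSeries

/-- `X ↦ X^2`. -/
noncomputable def ex2 : PowerSeries k →ₐ[k] PowerSeries k := PowerSeries.expand 2 (by norm_num)

/-- `X ↦ -X`. -/
noncomputable def nu : PowerSeries k →ₐ[k] PowerSeries k := PowerSeries.rescaleAlgHom (-1)

noncomputable def evenPart (a : PowerSeries k) : PowerSeries k :=
  PowerSeries.mk fun n => coeff (2 * n) a

noncomputable def oddPart (a : PowerSeries k) : PowerSeries k :=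
  PowerSeries.mk fun n => coeff (2 * n + 1) a

variable {k}

lemma coeff_ex2 (p : PowerSeries k) (n : ℕ) :
    coeff n (ex2 k p) = if 2 ∣ n then coeff (n / 2) p else 0 := by
  unfold ex2; exact PowerSeries.coeff_expand 2 (by norm_num) p

lemma ex2_X : ex2 k X = X ^ 2 := by
  unfold ex2; exact PowerSeries.expand_X 2 (by norm_num)

lemma coeff_nu (p : PowerSeries k) (n : ℕ) : coeff n (nu k p) = (-1) ^ n * coeff n p := by
  have h : nu k p = PowerSeries.rescale (-1) p :=
    congrArg (fun w : PowerSeries k →+* PowerSeries k => w p) (PowerSeries.coe_rescaleAlgHom (-1))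
  rw [h, PowerSeries.coeff_rescale]

lemma nu_X : nu k X = -X := by
  have h : nu k X = PowerSeries.rescale (-1) X :=
    congrArg (fun w : PowerSeries k →+* PowerSeries k => w X) (PowerSeries.coe_rescaleAlgHom (-1))
  rw [h, PowerSeries.rescale_neg_one_X]

lemma coeff_even_odd (p q : PowerSeries k) (n : ℕ) :
    coeff n (ex2 k p + X * ex2 k q) = if 2 ∣ n then coeff (n / 2) p else coeff (n / 2) q := by
  rw [map_add, coeff_ex2]
  rcases n with _ | n
  · simp
  · rw [PowerSeries.coeff_succ_X_mul, coeff_ex2]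
    by_cases h : 2 ∣ n + 1
    · have h' : ¬ 2 ∣ n := by omega
      simp [h, h']
    · have h' : 2 ∣ n := by omega
      have : n / 2 = (n + 1) / 2 := by omega
      simp [h, h', this]

lemma even_odd (a : PowerSeries k) : a = ex2 k (evenPart k a) + X * ex2 k (oddPart k a) := by
  ext n
  rw [coeff_even_odd]
  by_cases h : 2 ∣ n
  · obtain ⟨j, rfl⟩ := h
    simp [evenPart]
  · have : n = 2 * (n / 2) + 1 := by omega
    simp only [h, if_false, oddPart, PowerSeries.coeff_mk]
    rw [← this]

lemma even_odd_unique (p q : PowerSeries k) (h : ex2 k p + X * ex2 k q = 0) : p = 0 ∧ q = 0 := by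
  constructor
  · ext j
    have := congrArg (coeff (2 * j)) h
    rw [coeff_even_odd] at this
    simpa using this
  · ext j
    have := congrArg (coeff (2 * j + 1)) h
    rw [coeff_even_odd] at this
    have h' : ¬ 2 ∣ 2 * j + 1 := by omega
    have e : (2 * j + 1) / 2 = j := by omega
    simpa [h', e] using this

lemma even_odd_ext {p q p' q' : PowerSeries k}
    (h : ex2 k p + X * ex2 k q = ex2 k p' + X * ex2 k q') : p = p' ∧ q = q' := by
  have : ex2 k (p - p') + X * ex2 k (q - q') = 0 := by
    rw [map_sub, map_sub]; linear_combination h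
  obtain ⟨h1, h2⟩ := even_odd_unique _ _ this
  exact ⟨sub_eq_zero.mp h1, sub_eq_zero.mp h2⟩

lemma ex2_injective : Function.Injective (ex2 k) := by
  rw [injective_iff_map_eq_zero]
  intro p hp
  exact (even_odd_unique p 0 (by rw [hp]; simp)).1

lemma nu_ex2 (p : PowerSeries k) : nu k (ex2 k p) = ex2 k p := by
  ext n
  rw [coeff_nu, coeff_ex2]
  by_cases h : 2 ∣ n
  · obtain ⟨j, rfl⟩ := h
    simp [pow_mul]
  · simp [h]

lemma nu_even_odd (p q : PowerSeries k) :
    nu k (ex2 k p + X * ex2 k q) = ex2 k p - X * ex2 k q := by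
  rw [map_add, map_mul, nu_ex2, nu_ex2, nu_X]; ring

lemma two_ne_zero' (h2 : (2 : k) ≠ 0) : (2 : PowerSeries k) ≠ 0 := by
  intro h
  have := congrArg (PowerSeries.constantCoeff) h
  simp at this
  exact h2 this

lemma nu_fixed_iff (h2 : (2 : k) ≠ 0) (a : PowerSeries k) :
    nu k a = a ↔ ∃ p, a = ex2 k p := by
  constructor
  · intro h
    refine ⟨evenPart k a, ?_⟩
    have e := even_odd a
    rw [e, nu_even_odd] at h
    have h' : ex2 k 0 + X * ex2 k (2 * oddPart k a) = 0 := by
      rw [map_zero, map_mul, map_ofNat]; linear_combination -h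
    obtain ⟨-, hq⟩ := even_odd_unique _ _ h'
    have hq0 : oddPart k a = 0 := (mul_eq_zero.mp hq).resolve_left (two_ne_zero' h2)
    rw [hq0] at e; simpa using e
  · rintro ⟨p, rfl⟩; exact nu_ex2 p

lemma nu_anti_iff (h2 : (2 : k) ≠ 0) (a : PowerSeries k) :
    nu k a = -a ↔ ∃ q, a = X * ex2 k q := by
  constructor
  · intro h
    refine ⟨oddPart k a, ?_⟩
    have e := even_odd a
    rw [e, nu_even_odd] at h
    have h' : ex2 k (2 * evenPart k a) + X * ex2 k 0 = 0 := by
      rw [map_zero, map_mul, map_ofNat]; linear_combination h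
    obtain ⟨hp, -⟩ := even_odd_unique _ _ h'
    have hp0 : evenPart k a = 0 := (mul_eq_zero.mp hp).resolve_left (two_ne_zero' h2)
    rw [hp0] at e; simpa using e
  · rintro ⟨q, rfl⟩
    rw [map_mul, nu_ex2, nu_X]; ring

lemma X_dvd_nu_sub (a : PowerSeries k) : X ∣ nu k a - a := by
  rw [PowerSeries.X_dvd_iff, map_sub, ← PowerSeries.coeff_zero_eq_constantCoeff_apply,
    ← PowerSeries.coeff_zero_eq_constantCoeff_apply, coeff_nu]
  simp

lemma nu_nu (a : PowerSeries k) : nu k (nu k a) = a := by
  ext n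
  rw [coeff_nu, coeff_nu, ← mul_assoc, ← pow_add, ← two_mul, pow_mul]
  simp

end Groth.Agent.Lib.Helper83.ArSingP
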