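import Groth.Agent.Lib.Helper83.ArSingH
import Groth.Agent.Lib.Helper83.ArSingP

set_option autoImplicit false

namespace Groth.Agent.Lib.Helper83.ArSingA

open ArSingP

universe u v
variable (k : Type u) [Field k] (r : ℕ)

local notation "ι" => ArSing.xMap k r
local notation "Y" => ArSing.y k r

theorem ell_span_x : Module.length (ArSing.ring k r)
    (ArSing.ring k r ⧸ Ideal.span {ArSing.x k r}) = 2 := by
  have h := ArLefG.ell_colon_add (Ideal.span {ArSing.x k r}) Y
  have h1 : Ideal.span {ArSing.x k r} ⊔ Ideal.span {Y} =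
      IsLocalRing.maximalIdeal (ArSing.ring k r) := by
    rw [max_eq_span, ArLefG.span_pair_eq_sup]
  have h2 : (Ideal.span {ArSing.x k r}).colon {Y} =
      IsLocalRing.maximalIdeal (ArSing.ring k r) := by
    ext s
    obtain ⟨a, b, rfl⟩ := basis_exists k r s
    rw [Submodule.mem_colon_singleton, smul_eq_mul, mul_y_formula, mem_span_x_iff, mem_max_iff]
    constructor
    · exact fun h => h.2
    · intro h
      exact ⟨Dvd.dvd.mul_left (dvd_pow_self _ (Nat.succ_ne_zero r)) _, h⟩
  rw [h1, h2, ArLefG.ell_maximal (IsLocalRing.maximalIdeal (ArSing.ring k r))] at h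
  rw [← ArLefG.ell_def, h]; rfl

theorem isUnit_two (h2 : (2 : k) ≠ 0) : IsUnit (2 : ArSing.ring k r) := by
  have : (2 : ArSing.ring k r) = algebraMap k _ 2 := (map_ofNat (algebraMap k _) 2).symm
  rw [this]; exact (Ne.isUnit h2).map _

/-- `σ(x) = -x` forces `σ (ι a) = ι (ν a)`. -/
theorem sigma_iota_neg (σ : ArSing.ring k r ≃ₐ[k] ArSing.ring k r)
    (hx : σ (ArSing.x k r) = -ArSing.x k r) (a : PowerSeries k) : σ (ι a) = ι (nu k a) := by
  have := algHom_iota k r (r' := r) σ.toAlgHom (nu k)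
    (by simp [hx, xMap_X, nu_X]) (by
      change σ (ArSing.x k r) ∈ _
      rw [hx]; exact neg_mem (x_mem_max k r)) a
  simpa using this

theorem map_le_max_of {r' : ℕ} (φ : ArSing.ring k r' →ₐ[k] ArSing.ring k r)
    (hx : φ (ArSing.x k r') ∈ IsLocalRing.maximalIdeal (ArSing.ring k r))
    (hy : φ (ArSing.y k r') ∈ IsLocalRing.maximalIdeal (ArSing.ring k r)) :
    ∀ I : Ideal (ArSing.ring k r'), I.IsMaximal → Ideal.map φ I ≠ ⊤ := by
  intro I hI
  rw [IsLocalRing.eq_maximalIdeal hI, max_eq_span, Ideal.map_span]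
  intro h
  have : (⊤ : Ideal (ArSing.ring k r)) ≤ IsLocalRing.maximalIdeal (ArSing.ring k r) := by
    rw [← h, Ideal.span_le]
    rintro _ ⟨s, (rfl | rfl), rfl⟩
    · exact hx
    · exact hy
  exact (IsLocalRing.maximalIdeal.isMaximal _).ne_top (top_le_iff.mp this)

theorem main_S14094 (m : ℕ)
    (hm : 2 ≤ m) (hr : r = 2 * m - 1) (h2 : (2 : k) ≠ 0)
    (σ : ArSing.ring k r ≃ₐ[k] ArSing.ring k r) (hx : σ (ArSing.x k r) = -ArSing.x k r)
    (hy : σ (ArSing.y k r) = ArSing.y k r)
    (φ : ArSing.ring k (m - 1) →ₐ[k] ArSing.ring k r) (hφx : φ (ArSing.x k (m - 1)) = ArSing.x k r ^ 2)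
    (hφy : φ (ArSing.y k (m - 1)) = ArSing.y k r) :
    (∀ a : ArSing.ring k r, σ a = a ↔ a ∈ φ.range) ∧
    (φ.toRingHom.Flat ∧ ∀ I : Ideal (ArSing.ring k (m - 1)), I.IsMaximal → Ideal.map φ I ≠ ⊤) ∧
    (∃ g : ArSing.ring k r, g ∈ nonZeroDivisors (ArSing.ring k r) ∧ Ideal.span (Set.range fun a : ArSing.ring k r => σ a - a) = Ideal.span {g}) ∧
    Module.length (ArSing.ring k r) (ArSing.ring k r ⧸ Ideal.span (Set.range fun a : ArSing.ring k r => σ a - a)) = 2 := by
  have hxmax : ArSing.x k r ^ 2 ∈ IsLocalRing.maximalIdeal (ArSing.ring k r) :=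
    Ideal.pow_mem_of_mem _ (x_mem_max k r) 2 (by norm_num)
  have hφι : ∀ a : PowerSeries k, φ (ArSing.xMap k (m - 1) a) = ι (ex2 k a) := by
    intro a
    exact algHom_iota k (m - 1) (r' := r) φ (ex2 k)
      (by rw [hφx, ex2_X, map_pow, xMap_X]) (by rw [hφx]; exact hxmax) a
  have hφ : ∀ a b : PowerSeries k, φ (ArSing.xMap k (m - 1) a + ArSing.xMap k (m - 1) b *
      ArSing.y k (m - 1)) = ι (ex2 k a) + ι (ex2 k b) * Y := by
    intro a b
    rw [map_add, map_mul, hφι, hφι, hφy]
  have hσ : ∀ a b : PowerSeries k, σ (ι a + ι b * Y) = ι (nu k a) + ι (nu k b) * Y := by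
    intro a b
    rw [map_add, map_mul, sigma_iota_neg k r σ hx, sigma_iota_neg k r σ hx, hy]
  have hfix : Ideal.span (Set.range fun a : ArSing.ring k r => σ a - a) =
      Ideal.span {ArSing.x k r} := by
    apply le_antisymm
    · rw [Ideal.span_le]
      rintro _ ⟨s, rfl⟩
      obtain ⟨a, b, rfl⟩ := basis_exists k r s
      simp only [hσ]
      have : ι (nu k a) + ι (nu k b) * Y - (ι a + ι b * Y) =
          ι (nu k a - a) + ι (nu k b - b) * Y := by rw [map_sub, map_sub]; ring
      rw [SetLike.mem_coe, this, mem_span_x_iff]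
      exact ⟨X_dvd_nu_sub a, X_dvd_nu_sub b⟩
    · rw [Ideal.span_le, Set.singleton_subset_iff, SetLike.mem_coe]
      have h1 : σ (ArSing.x k r) - ArSing.x k r ∈
          Ideal.span (Set.range fun a : ArSing.ring k r => σ a - a) :=
        Ideal.subset_span ⟨ArSing.x k r, rfl⟩
      rw [hx] at h1
      obtain ⟨w, hw⟩ := (isUnit_two k r h2).exists_left_inv
      have : ArSing.x k r = (-w) * (-ArSing.x k r - ArSing.x k r) := by
        linear_combination (-ArSing.x k r) * hw
      rw [this]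
      exact Ideal.mul_mem_left _ _ h1
  refine ⟨?_, ⟨?_, ?_⟩, ⟨ArSing.x k r, x_mem_nonZeroDivisors k r, hfix⟩, ?_⟩
  · intro s
    obtain ⟨a, b, rfl⟩ := basis_exists k r s
    rw [hσ]
    constructor
    · intro h
      obtain ⟨ha, hb⟩ := basis_ext k r h
      obtain ⟨p, rfl⟩ := (nu_fixed_iff h2 a).mp ha
      obtain ⟨q, rfl⟩ := (nu_fixed_iff h2 b).mp hb
      exact ⟨_, hφ p q⟩
    · rintro ⟨t, ht⟩
      obtain ⟨c, d, rfl⟩ := basis_exists k (m - 1) t
      change φ _ = _ at ht
      rw [hφ] at ht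
      obtain ⟨ha, hb⟩ := basis_ext k r ht
      rw [← ha, ← hb, nu_ex2, nu_ex2]
  · -- flatness: free with basis 1, x
    unfold RingHom.Flat
    let _ : Algebra (ArSing.ring k (m - 1)) (ArSing.ring k r) := φ.toRingHom.toAlgebra
    have hsm : ∀ (t : ArSing.ring k (m - 1)) (s : ArSing.ring k r), t • s = φ t * s :=
      fun t s => rfl
    let f : (ArSing.ring k (m - 1) × ArSing.ring k (m - 1)) →ₗ[ArSing.ring k (m - 1)]
        ArSing.ring k r :=
      (LinearMap.fst _ _ _).smulRight (1 : ArSing.ring k r) +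
        (LinearMap.snd _ _ _).smulRight (ArSing.x k r)
    have hf : ∀ p, f p = φ p.1 + φ p.2 * ArSing.x k r := by
      intro p; simp [f, hsm]
    have hbij : Function.Bijective f := by
      constructor
      · rw [injective_iff_map_eq_zero]
        intro p hp
        rw [hf] at hp
        obtain ⟨c1, d1, h1⟩ := basis_exists k (m - 1) p.1
        obtain ⟨c2, d2, h2'⟩ := basis_exists k (m - 1) p.2
        rw [h1, h2', hφ, hφ] at hp
        have e : ι (ex2 k c1 + PowerSeries.X * ex2 k c2) +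
            ι (ex2 k d1 + PowerSeries.X * ex2 k d2) * Y = 0 := by
          rw [← hp]
          simp only [map_add, map_mul, xMap_X]; ring
        obtain ⟨e1, e2⟩ := basis_unique k r _ _ e
        obtain ⟨hc1, hc2⟩ := even_odd_unique _ _ e1
        obtain ⟨hd1, hd2⟩ := even_odd_unique _ _ e2
        apply Prod.ext
        · rw [h1, hc1, hd1]; simp
        · rw [h2', hc2, hd2]; simp
      · intro s
        obtain ⟨a, b, rfl⟩ := basis_exists k r s
        refine ⟨(ArSing.xMap k (m - 1) (evenPart k a) + ArSing.xMap k (m - 1) (evenPart k b) *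
          ArSing.y k (m - 1), ArSing.xMap k (m - 1) (oddPart k a) +
          ArSing.xMap k (m - 1) (oddPart k b) * ArSing.y k (m - 1)), ?_⟩
        rw [hf, hφ, hφ]
        conv_rhs => rw [even_odd a, even_odd b]
        simp only [map_add, map_mul, xMap_X]; ring
    have : Module.Free (ArSing.ring k (m - 1)) (ArSing.ring k r) :=
      Module.Free.of_equiv (LinearEquiv.ofBijective f hbij)
    infer_instance
  · exact map_le_max_of k r φ (by rw [hφx]; exact hxmax) (by rw [hφy]; exact y_mem_max k r)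
  · rw [hfix]; exact ell_span_x k r

end Groth.Agent.Lib.Helper83.ArSingA
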