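import Groth.Agent.Lib.Helper83.ArSingI

set_option autoImplicit false

namespace Groth.Agent.Lib.Helper83.ArSingA

open ArSingP

universe u v

/-- a two-term relation whose syzygies have first coordinate in `N`, witnessing non-flatness. -/
theorem not_flat_of_relation {A B : Type*} [CommRing A] [CommRing B] (φ : A →+* B) (f₁ f₂ : A)
    (x₁ x₂ : B) (hrel : φ f₁ * x₁ + φ f₂ * x₂ = 0) (N : Ideal A)
    (hN : ∀ a₁ a₂ : A, f₁ * a₁ + f₂ * a₂ = 0 → a₁ ∈ N) (hx : x₁ ∉ Ideal.map φ N) : ¬ φ.Flat := by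
  intro hflat
  unfold RingHom.Flat at hflat
  let _ : Algebra A B := φ.toAlgebra
  have : Module.Flat A B := hflat
  have hsm : ∀ (a : A) (b : B), a • b = φ a * b := fun a b => rfl
  have h0 : ∑ i : Fin 2, (![f₁, f₂] i) • (![x₁, x₂] i) = 0 := by
    simp [Fin.sum_univ_two, hsm, hrel]
  obtain ⟨κ, a, y, hxy, hfa⟩ := Module.Flat.isTrivialRelation_of_sum_smul_eq_zero (R := A) (M := B)
    (f := ![f₁, f₂]) (x := ![x₁, x₂]) h0
  apply hx
  have h1 := hxy 0
  simp only [Matrix.cons_val_zero] at h1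
  rw [h1]
  refine Ideal.sum_mem _ fun j _ => ?_
  rw [hsm]
  refine Ideal.mul_mem_right _ _ (Ideal.mem_map_of_mem φ ?_)
  have := hfa j
  simp only [Fin.sum_univ_two, Matrix.cons_val_zero, Matrix.cons_val_one] at this
  exact hN _ _ this

variable (k : Type u) [Field k] (r : ℕ)

local notation "ι" => ArSing.xMap k r
local notation "Y" => ArSing.y k r

theorem cc_xMap_mem (a b : PowerSeries k) (h : PowerSeries.constantCoeff a = 0) :
    ι a + ι b * Y ∈ IsLocalRing.maximalIdeal (ArSing.ring k r) := by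
  rw [mem_max_iff, PowerSeries.X_dvd_iff]; exact h

/-- the maximal ideal of `A_r` (`r ≥ 1`) is not principal. -/
theorem max_not_principal (hr : 1 ≤ r) (g : ArSing.ring k r)
    (hg : IsLocalRing.maximalIdeal (ArSing.ring k r) = Ideal.span {g}) : False := by
  obtain ⟨a, b, rfl⟩ := basis_exists k r g
  have hgm : ι a + ι b * Y ∈ IsLocalRing.maximalIdeal (ArSing.ring k r) := by
    rw [hg]; exact Ideal.mem_span_singleton_self _
  obtain ⟨a', rfl⟩ := (mem_max_iff k r a b).mp hgm
  have hxm : ArSing.x k r ∈ Ideal.span {ι (PowerSeries.X * a') + ι b * Y} := by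
    rw [← hg]; exact x_mem_max k r
  have hym : Y ∈ Ideal.span {ι (PowerSeries.X * a') + ι b * Y} := by
    rw [← hg]; exact y_mem_max k r
  rw [Ideal.mem_span_singleton] at hxm hym
  obtain ⟨s, hs⟩ := hxm
  obtain ⟨s', hs'⟩ := hym
  obtain ⟨c, d, rfl⟩ := basis_exists k r s
  obtain ⟨c', d', rfl⟩ := basis_exists k r s'
  rw [mul_formula] at hs hs'
  have hs1 : ι PowerSeries.X + ι 0 * Y = ι (PowerSeries.X * a' * c + b * d * PowerSeries.X ^ (r + 1)) +
      ι (PowerSeries.X * a' * d + b * c) * Y := by rw [← hs, xMap_X]; simp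
  have hs2 : ι 0 + ι 1 * Y = ι (PowerSeries.X * a' * c' + b * d' * PowerSeries.X ^ (r + 1)) +
      ι (PowerSeries.X * a' * d' + b * c') * Y := by rw [← hs']; simp
  obtain ⟨e1, -⟩ := basis_ext k r hs1
  obtain ⟨e3, e4⟩ := basis_ext k r hs2
  obtain ⟨r', rfl⟩ : ∃ r', r = r' + 1 := ⟨r - 1, by omega⟩
  -- cancel X
  have e1' : a' * c + b * d * PowerSeries.X ^ (r' + 1) = 1 := by
    apply mul_left_cancel₀ (PowerSeries.X_ne_zero (R := k))
    linear_combination -e1
  have e3' : a' * c' + b * d' * PowerSeries.X ^ (r' + 1) = 0 := by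
    apply mul_left_cancel₀ (PowerSeries.X_ne_zero (R := k))
    linear_combination -e3
  have c1 := congrArg PowerSeries.constantCoeff e1'
  have c3 := congrArg PowerSeries.constantCoeff e3'
  have c4 := congrArg PowerSeries.constantCoeff e4
  simp only [map_add, map_mul, map_pow, PowerSeries.constantCoeff_X, map_one, map_zero,
    ne_eq, Nat.add_eq_zero_iff, one_ne_zero, and_false, not_false_eq_true, zero_pow, mul_zero,
    add_zero, zero_mul, zero_add] at c1 c3 c4
  have hc' : PowerSeries.constantCoeff c' ≠ 0 := by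
    intro h; rw [h, mul_zero] at c4; exact one_ne_zero c4
  have ha' : PowerSeries.constantCoeff a' = 0 := (mul_eq_zero.mp c3).resolve_right hc'
  rw [ha', zero_mul] at c1
  exact zero_ne_one c1

theorem main_S14095 (m : ℕ)
    (hm : 1 ≤ m) (hr : r = 2 * m - 1) (h2 : (2 : k) ≠ 0)
    (σ : ArSing.ring k r ≃ₐ[k] ArSing.ring k r) (hx : σ (ArSing.x k r) = -ArSing.x k r)
    (hy : σ (ArSing.y k r) = -ArSing.y k r)
    (φ : ArSing.ring k m →ₐ[k] ArSing.ring k r) (hφx : φ (ArSing.x k m) = ArSing.x k r ^ 2)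
    (hφy : φ (ArSing.y k m) = ArSing.x k r * ArSing.y k r) :
    (∀ a : ArSing.ring k r, σ a = a ↔ a ∈ φ.range) ∧ Function.Injective φ ∧
    ¬ φ.toRingHom.Flat ∧
    Module.length (ArSing.ring k r) (ArSing.ring k r ⧸ Ideal.span (Set.range fun a : ArSing.ring k r => σ a - a)) = 1 ∧
    ¬ (∃ g : ArSing.ring k r, g ∈ nonZeroDivisors (ArSing.ring k r) ∧ Ideal.span (Set.range fun a : ArSing.ring k r => σ a - a) = Ideal.span {g}) := by
  have hxmax : ArSing.x k r ^ 2 ∈ IsLocalRing.maximalIdeal (ArSing.ring k r) :=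
    Ideal.pow_mem_of_mem _ (x_mem_max k r) 2 (by norm_num)
  have hφι : ∀ a : PowerSeries k, φ (ArSing.xMap k m a) = ι (ex2 k a) := by
    intro a
    exact algHom_iota k m (r' := r) φ (ex2 k)
      (by rw [hφx, ex2_X, map_pow, xMap_X]) (by rw [hφx]; exact hxmax) a
  have hφ : ∀ a b : PowerSeries k, φ (ArSing.xMap k m a + ArSing.xMap k m b *
      ArSing.y k m) = ι (ex2 k a) + ι (PowerSeries.X * ex2 k b) * Y := by
    intro a b
    rw [map_add, map_mul, hφι, hφι, hφy, map_mul, xMap_X]; ring
  have hσ : ∀ a b : PowerSeries k, σ (ι a + ι b * Y) = ι (nu k a) + ι (-nu k b) * Y := by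
    intro a b
    rw [map_add, map_mul, sigma_iota_neg k r σ hx, sigma_iota_neg k r σ hx, hy, map_neg]; ring
  have hfix : Ideal.span (Set.range fun a : ArSing.ring k r => σ a - a) =
      IsLocalRing.maximalIdeal (ArSing.ring k r) := by
    apply le_antisymm
    · rw [Ideal.span_le]
      rintro _ ⟨s, rfl⟩
      obtain ⟨a, b, rfl⟩ := basis_exists k r s
      simp only [hσ]
      have : ι (nu k a) + ι (-nu k b) * Y - (ι a + ι b * Y) =
          ι (nu k a - a) + ι (-nu k b - b) * Y := by simp only [map_sub, map_neg]; ring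
      rw [SetLike.mem_coe, this, mem_max_iff]
      exact X_dvd_nu_sub a
    · rw [max_eq_span, Ideal.span_le]
      obtain ⟨w, hw⟩ := (isUnit_two k r h2).exists_left_inv
      rintro z (rfl | rfl)
      · have h1 : σ (ArSing.x k r) - ArSing.x k r ∈
            Ideal.span (Set.range fun a : ArSing.ring k r => σ a - a) :=
          Ideal.subset_span ⟨ArSing.x k r, rfl⟩
        rw [hx] at h1
        have : ArSing.x k r = (-w) * (-ArSing.x k r - ArSing.x k r) := by
          linear_combination (-ArSing.x k r) * hw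
        rw [SetLike.mem_coe, this]
        exact Ideal.mul_mem_left _ _ h1
      · have h1 : σ Y - Y ∈ Ideal.span (Set.range fun a : ArSing.ring k r => σ a - a) :=
          Ideal.subset_span ⟨Y, rfl⟩
        rw [hy] at h1
        have : Y = (-w) * (-Y - Y) := by linear_combination (-Y) * hw
        rw [SetLike.mem_coe, this]
        exact Ideal.mul_mem_left _ _ h1
  refine ⟨?_, ?_, ?_, ?_, ?_⟩
  · intro s
    obtain ⟨a, b, rfl⟩ := basis_exists k r s
    rw [hσ]
    constructor
    · intro h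
      obtain ⟨ha, hb⟩ := basis_ext k r h
      obtain ⟨p, rfl⟩ := (nu_fixed_iff h2 a).mp ha
      obtain ⟨q, rfl⟩ := (nu_anti_iff h2 b).mp (neg_eq_iff_eq_neg.mp hb)
      exact ⟨_, hφ p q⟩
    · rintro ⟨t, ht⟩
      obtain ⟨c, d, rfl⟩ := basis_exists k m t
      change φ _ = _ at ht
      rw [hφ] at ht
      obtain ⟨ha, hb⟩ := basis_ext k r ht
      rw [← ha, ← hb, nu_ex2, map_mul, nu_ex2, nu_X]
      congr 3; ring
  · rw [injective_iff_map_eq_zero]
    intro t ht
    obtain ⟨c, d, rfl⟩ := basis_exists k m t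
    rw [hφ] at ht
    obtain ⟨h1, h2'⟩ := basis_unique k r _ _ ht
    have hc : c = 0 := ex2_injective (by rw [h1, map_zero])
    have hd : d = 0 := ex2_injective (by
      rw [map_zero]; exact (mul_eq_zero.mp h2').resolve_left PowerSeries.X_ne_zero)
    rw [hc, hd]; simp
  · -- non-flatness via the relation x² · y - (xy) · x = 0
    apply not_flat_of_relation φ.toRingHom (ArSing.x k m) (ArSing.y k m) Y (-ArSing.x k r)
      (by
        change φ (ArSing.x k m) * Y + φ (ArSing.y k m) * (-ArSing.x k r) = 0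
        rw [hφx, hφy]; ring)
      (IsLocalRing.maximalIdeal (ArSing.ring k m))
    · intro a₁ a₂ h
      obtain ⟨p, q, rfl⟩ := basis_exists k m a₁
      obtain ⟨s, t, rfl⟩ := basis_exists k m a₂
      rw [x_mul_formula, mul_comm (ArSing.y k m), mul_y_formula] at h
      have h' : ArSing.xMap k m (PowerSeries.X * p + t * PowerSeries.X ^ (m + 1)) +
          ArSing.xMap k m (PowerSeries.X * q + s) * ArSing.y k m = 0 := by
        rw [← h]; simp only [map_add, map_mul]; ring
      obtain ⟨e1, -⟩ := basis_unique k m _ _ h'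
      rw [mem_max_iff]
      obtain ⟨m', rfl⟩ : ∃ m', m = m' + 1 := ⟨m - 1, by omega⟩
      have : p = -(t * PowerSeries.X ^ (m' + 1)) := by
        apply mul_left_cancel₀ (PowerSeries.X_ne_zero (R := k))
        linear_combination e1
      rw [this]
      exact Dvd.dvd.neg_right (Dvd.dvd.mul_left (dvd_pow_self _ (Nat.succ_ne_zero m')) _)
    · intro hy'
      have hle : Ideal.map φ.toRingHom (IsLocalRing.maximalIdeal (ArSing.ring k m)) ≤
          Ideal.span {ArSing.x k r} := by
        rw [max_eq_span, Ideal.map_span, Ideal.span_le]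
        rintro _ ⟨s, (rfl | rfl), rfl⟩
        · change φ (ArSing.x k m) ∈ _
          rw [hφx, SetLike.mem_coe, Ideal.mem_span_singleton]
          exact ⟨ArSing.x k r, by ring⟩
        · change φ (ArSing.y k m) ∈ _
          rw [hφy, SetLike.mem_coe, Ideal.mem_span_singleton]
          exact ⟨Y, rfl⟩
      have := hle hy'
      have e : Y = ι 0 + ι 1 * Y := by simp
      rw [e, mem_span_x_iff] at this
      have h1 := this.2
      rw [PowerSeries.X_dvd_iff] at h1
      simp at h1
  · rw [hfix]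
    exact ArLefG.ell_maximal (IsLocalRing.maximalIdeal (ArSing.ring k r))
  · rintro ⟨g, -, hg⟩
    rw [hfix] at hg
    exact max_not_principal k r (by omega) g hg

end Groth.Agent.Lib.Helper83.ArSingA
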