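import Groth.Agent.Lib.Helper83.ArSingJ

set_option autoImplicit false

namespace Groth.Agent.Lib.Helper83.ArSingA

open ArSingP

universe u v
variable (k : Type u) [Field k] (r : ℕ)

/-- **Hom existence**, power series target. -/
theorem exists_algHom' {τ : Type v} (X' Y' : MvPowerSeries τ k)
    (hX : MvPowerSeries.constantCoeff X' = 0) (hY : MvPowerSeries.constantCoeff Y' = 0)
    (h : Y' ^ 2 = X' ^ (r + 1)) :
    ∃ θ : ArSing.ring k r →ₐ[k] MvPowerSeries τ k,
      θ (ArSing.x k r) = X' ∧ θ (ArSing.y k r) = Y' := by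
  have ha : MvPowerSeries.HasSubst (![X', Y'] : Fin 2 → MvPowerSeries τ k) :=
    MvPowerSeries.hasSubst_of_constantCoeff_zero (by
      intro s; fin_cases s <;> simp [hX, hY])
  let Θ : MvPowerSeries (Fin 2) k →ₐ[k] MvPowerSeries τ k := MvPowerSeries.substAlgHom ha
  have hΘ : ∀ F ∈ Ideal.span {ArSing.eqn k r}, Θ F = 0 := by
    intro F hF
    rw [Ideal.mem_span_singleton] at hF
    obtain ⟨G, rfl⟩ := hF
    have : Θ (ArSing.eqn k r) = 0 := by
      unfold ArSing.eqn
      simp only [Θ, map_sub, map_pow, MvPowerSeries.substAlgHom_X]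
      simp only [Matrix.cons_val_zero, Matrix.cons_val_one]
      rw [h, sub_self]
    rw [map_mul, this, zero_mul]
  refine ⟨Ideal.Quotient.liftₐ _ Θ hΘ, ?_, ?_⟩
  · change Θ (MvPowerSeries.X 0) = _
    simp only [Θ, MvPowerSeries.substAlgHom_X]
    rfl
  · change Θ (MvPowerSeries.X 1) = _
    simp only [Θ, MvPowerSeries.substAlgHom_X]
    rfl

lemma iInf_pow_X : ⨅ n : ℕ, (Ideal.span {(PowerSeries.X : PowerSeries k)}) ^ n = ⊥ := by
  rw [← PowerSeries.maximalIdeal_eq_span_X]
  exact Ideal.iInf_pow_eq_bot_of_isLocalRing _ (IsLocalRing.maximalIdeal.isMaximal _).ne_top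

/-- maps `A_r → k⟦X⟧` are determined by the images of `x`, `y`. -/
theorem algHom_ext_ps (f g : ArSing.ring k r →ₐ[k] PowerSeries k)
    (hx : f (ArSing.x k r) = g (ArSing.x k r)) (hy : f (ArSing.y k r) = g (ArSing.y k r))
    (hfx : PowerSeries.constantCoeff (f (ArSing.x k r)) = 0) : f = g :=
  algHom_ext k r (Ideal.span {(PowerSeries.X : PowerSeries k)}) (iInf_pow_X k) f g hx hy
    (by rw [Ideal.mem_span_singleton, PowerSeries.X_dvd_iff]; exact hfx)

/-- endomorphisms of `k⟦X⟧` are determined by the image of `X`. -/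
theorem ps_algHom_ext (f g : PowerSeries k →ₐ[k] PowerSeries k)
    (hX : f PowerSeries.X = g PowerSeries.X)
    (hfx : PowerSeries.constantCoeff (f PowerSeries.X) = 0) : f = g :=
  powerSeries_algHom_ext k (Ideal.span {(PowerSeries.X : PowerSeries k)}) (iInf_pow_X k) f g hX
    (by rw [Ideal.mem_span_singleton, PowerSeries.X_dvd_iff]; exact hfx)

/-- existence of a hom to `k⟦X⟧` and its coordinate formula. -/
theorem exists_branch (X' Y' : PowerSeries k) (hX : PowerSeries.constantCoeff X' = 0)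
    (hY : PowerSeries.constantCoeff Y' = 0) (h : Y' ^ 2 = X' ^ (r + 1)) :
    ∃ θ : ArSing.ring k r →ₐ[k] PowerSeries k,
      θ (ArSing.x k r) = X' ∧ θ (ArSing.y k r) = Y' :=
  exists_algHom' k r (τ := Unit) X' Y' hX hY h

end Groth.Agent.Lib.Helper83.ArSingA
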