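import Groth.Agent.Lib.Helper83.ArSingK

set_option autoImplicit false

namespace Groth.Agent.Lib.Helper83.ArSingA

open ArSingP

universe u v
variable (k : Type u) [Field k] (r : ℕ) (m : ℕ) (hrm : r + 1 = 2 * m)

local notation "ι" => ArSing.xMap k r
local notation "Y" => ArSing.y k r

include hrm in
lemma m_pos : m ≠ 0 := by omega

include hrm in
lemma exists_pP : ∃ θ : ArSing.ring k r →ₐ[k] PowerSeries k,
    θ (ArSing.x k r) = PowerSeries.X ∧ θ (ArSing.y k r) = PowerSeries.X ^ m :=
  exists_branch k r PowerSeries.X (PowerSeries.X ^ m) (by simp)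
    (by simp [m_pos r m hrm]) (by rw [← pow_mul, hrm, mul_comm])

include hrm in
lemma exists_pM : ∃ θ : ArSing.ring k r →ₐ[k] PowerSeries k,
    θ (ArSing.x k r) = PowerSeries.X ∧ θ (ArSing.y k r) = -PowerSeries.X ^ m :=
  exists_branch k r PowerSeries.X (-PowerSeries.X ^ m) (by simp)
    (by simp [m_pos r m hrm]) (by rw [neg_sq, ← pow_mul, hrm, mul_comm])

/-- the `+` branch. -/
noncomputable def pP : ArSing.ring k r →ₐ[k] PowerSeries k := Classical.choose (exists_pP k r m hrm)
/-- the `-` branch. -/
noncomputable def pM : ArSing.ring k r →ₐ[k] PowerSeries k := Classical.choose (exists_pM k r m hrm)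

lemma pP_x : pP k r m hrm (ArSing.x k r) = PowerSeries.X :=
  (Classical.choose_spec (exists_pP k r m hrm)).1
lemma pP_y : pP k r m hrm Y = PowerSeries.X ^ m :=
  (Classical.choose_spec (exists_pP k r m hrm)).2
lemma pM_x : pM k r m hrm (ArSing.x k r) = PowerSeries.X :=
  (Classical.choose_spec (exists_pM k r m hrm)).1
lemma pM_y : pM k r m hrm Y = -PowerSeries.X ^ m :=
  (Classical.choose_spec (exists_pM k r m hrm)).2

lemma pP_iota (a : PowerSeries k) : pP k r m hrm (ι a) = a := by
  have : (pP k r m hrm).comp (ι) = AlgHom.id k _ :=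
    ps_algHom_ext k _ _ (by simp [xMap_X, pP_x]) (by simp [xMap_X, pP_x])
  exact congrArg (fun w => w a) this

lemma pM_iota (a : PowerSeries k) : pM k r m hrm (ι a) = a := by
  have : (pM k r m hrm).comp (ι) = AlgHom.id k _ :=
    ps_algHom_ext k _ _ (by simp [xMap_X, pM_x]) (by simp [xMap_X, pM_x])
  exact congrArg (fun w => w a) this

lemma pP_formula (a b : PowerSeries k) :
    pP k r m hrm (ι a + ι b * Y) = a + b * PowerSeries.X ^ m := by
  rw [map_add, map_mul, pP_iota, pP_iota, pP_y]

lemma pM_formula (a b : PowerSeries k) :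
    pM k r m hrm (ι a + ι b * Y) = a - b * PowerSeries.X ^ m := by
  rw [map_add, map_mul, pM_iota, pM_iota, pM_y]; ring

/-- (N1) the two branches separate points. -/
theorem branch_ext (h2 : (2 : k) ≠ 0) {s t : ArSing.ring k r}
    (hP : pP k r m hrm s = pP k r m hrm t) (hM : pM k r m hrm s = pM k r m hrm t) : s = t := by
  obtain ⟨a, b, rfl⟩ := basis_exists k r s
  obtain ⟨c, d, rfl⟩ := basis_exists k r t
  rw [pP_formula, pP_formula] at hP
  rw [pM_formula, pM_formula] at hM
  have h2' := two_ne_zero' h2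
  have ha : a = c := by
    apply mul_left_cancel₀ h2'
    linear_combination hP + hM
  have hb : b = d := by
    have : b * PowerSeries.X ^ m = d * PowerSeries.X ^ m := by
      apply mul_left_cancel₀ h2'
      linear_combination hP - hM
    exact mul_right_cancel₀ (pow_ne_zero _ PowerSeries.X_ne_zero) this
  rw [ha, hb]

/-- (N2) kernel of the `+` branch. -/
theorem ker_pP : RingHom.ker (pP k r m hrm) = Ideal.span {Y - ArSing.x k r ^ m} := by
  ext s
  rw [RingHom.mem_ker, Ideal.mem_span_singleton]
  obtain ⟨a, b, rfl⟩ := basis_exists k r s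
  rw [pP_formula]
  constructor
  · intro h
    refine ⟨ι b, ?_⟩
    have : a = -(b * PowerSeries.X ^ m) := by linear_combination h
    rw [this]
    simp only [map_neg, map_mul, map_pow, xMap_X]; ring
  · rintro ⟨t, ht⟩
    have := congrArg (pP k r m hrm) ht
    rw [pP_formula, map_mul, map_sub, map_pow, pP_y, pP_x, sub_self, zero_mul] at this
    exact this

/-- kernel of the `-` branch. -/
theorem ker_pM : RingHom.ker (pM k r m hrm) = Ideal.span {Y + ArSing.x k r ^ m} := by
  ext s
  rw [RingHom.mem_ker, Ideal.mem_span_singleton]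
  obtain ⟨a, b, rfl⟩ := basis_exists k r s
  rw [pM_formula]
  constructor
  · intro h
    refine ⟨ι b, ?_⟩
    have : a = b * PowerSeries.X ^ m := by linear_combination h
    rw [this]
    simp only [map_mul, map_pow, xMap_X]; ring
  · rintro ⟨t, ht⟩
    have := congrArg (pM k r m hrm) ht
    rw [pM_formula, map_mul, map_add, map_pow, pM_y, pM_x, neg_add_cancel, zero_mul] at this
    exact this

/-- (N3) the image of the two branches is the fibre product over `k⟦X⟧/(X^m)`. -/
theorem branch_surj (h2 : (2 : k) ≠ 0) (p q : PowerSeries k) (h : PowerSeries.X ^ m ∣ p - q) :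
    ∃ s : ArSing.ring k r, pP k r m hrm s = p ∧ pM k r m hrm s = q := by
  obtain ⟨d, hd⟩ := h
  have hC : (PowerSeries.C (2⁻¹ : k)) * 2 = 1 := by
    have : (2 : PowerSeries k) = PowerSeries.C (2 : k) := (map_ofNat _ 2).symm
    rw [this, ← map_mul, inv_mul_cancel₀ h2, map_one]
  refine ⟨ι (PowerSeries.C (2⁻¹ : k) * (p + q)) + ι (PowerSeries.C (2⁻¹ : k) * d) * Y, ?_, ?_⟩
  · rw [pP_formula]
    linear_combination (p) * hC - (PowerSeries.C (2⁻¹ : k)) * hd
  · rw [pM_formula]
    linear_combination (q) * hC + (PowerSeries.C (2⁻¹ : k)) * hd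

end Groth.Agent.Lib.Helper83.ArSingA
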