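import Groth.Agent.Lib.Helper83.ArSingL

set_option autoImplicit false

namespace Groth.Agent.Lib.Helper83.ArSingA

open ArSingP

universe u v
variable (k : Type u) [Field k]

/-- `X ↦ -2 X^2`. -/
noncomputable def mu : PowerSeries k →ₐ[k] PowerSeries k :=
  (ex2 k).comp (PowerSeries.rescaleAlgHom (-2))

lemma rescaleAlgHom_apply (c : k) (p : PowerSeries k) :
    PowerSeries.rescaleAlgHom c p = PowerSeries.rescale c p :=
  congrArg (fun w : PowerSeries k →+* PowerSeries k => w p) (PowerSeries.coe_rescaleAlgHom c)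

lemma mu_apply (p : PowerSeries k) : mu k p = ex2 k (PowerSeries.rescale (-2) p) := by
  unfold mu; rw [AlgHom.comp_apply, rescaleAlgHom_apply]

lemma mu_X : mu k PowerSeries.X = -2 * PowerSeries.X ^ 2 := by
  rw [mu_apply, PowerSeries.rescale_X, map_mul, ex2_X]
  congr 1
  have : (PowerSeries.C (-2 : k)) = algebraMap k (PowerSeries k) (-2) := rfl
  rw [this, AlgHom.commutes]
  simp only [map_neg, neg_inj]
  exact map_ofNat _ 2

lemma rescale_injective (c : k) (hc : c ≠ 0) : Function.Injective (PowerSeries.rescale c) := by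
  rw [injective_iff_map_eq_zero]
  intro p hp
  ext n
  have := congrArg (PowerSeries.coeff n) hp
  rw [PowerSeries.coeff_rescale, map_zero] at this
  rw [map_zero]
  exact (mul_eq_zero.mp this).resolve_left (pow_ne_zero _ hc)

lemma mu_injective (h2 : (2 : k) ≠ 0) : Function.Injective (mu k) := by
  intro p q h
  rw [mu_apply, mu_apply] at h
  exact rescale_injective k (-2) (neg_ne_zero.mpr h2) (ex2_injective h)

lemma nu_mu (p : PowerSeries k) : nu k (mu k p) = mu k p := by
  rw [mu_apply, nu_ex2]

lemma mu_rescale (h2 : (2 : k) ≠ 0) (q : PowerSeries k) :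
    mu k (PowerSeries.rescale (-2 : k)⁻¹ q) = ex2 k q := by
  rw [mu_apply, PowerSeries.rescale_rescale, inv_mul_cancel₀ (neg_ne_zero.mpr h2),
    PowerSeries.rescale_one]
  rfl

end Groth.Agent.Lib.Helper83.ArSingA
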