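import Groth.Agent.Lib.Helper83.ArSingM

set_option autoImplicit false

namespace Groth.Agent.Lib.Helper83.ArSingA

open ArSingP

universe u v
variable (k : Type u) [Field k]

local notation "S" => ArSing.ring k 1
local notation "x" => ArSing.x k 1
local notation "y" => ArSing.y k 1
local notation "P" => pP k 1 1 rfl
local notation "M" => pM k 1 1 rfl

lemma P_x : P x = PowerSeries.X := pP_x k 1 1 rfl
lemma P_y : P y = PowerSeries.X := by rw [pP_y, pow_one]
lemma M_x : M x = PowerSeries.X := pM_x k 1 1 rfl
lemma M_y : M y = -PowerSeries.X := by rw [pM_y, pow_one]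

theorem main_S14096 (h2 : (2 : k) ≠ 0)
    (σ : ArSing.ring k 1 ≃ₐ[k] ArSing.ring k 1) (hx : σ (ArSing.x k 1) = ArSing.y k 1)
    (hy : σ (ArSing.y k 1) = ArSing.x k 1)
    (φ : ArSing.ring k 1 →ₐ[k] ArSing.ring k 1) (hφu : φ (ArSing.x k 1 + ArSing.y k 1) = ArSing.x k 1 + ArSing.y k 1)
    (hφv : φ (ArSing.y k 1 - ArSing.x k 1) = (ArSing.y k 1 - ArSing.x k 1) ^ 2) :
    (∀ a : ArSing.ring k 1, σ a = a ↔ a ∈ φ.range) ∧ Function.Injective φ ∧
    Ideal.span (Set.range fun a : ArSing.ring k 1 => σ a - a) = Ideal.span {ArSing.y k 1 - ArSing.x k 1} ∧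
    (ArSing.y k 1 - ArSing.x k 1) ∉ nonZeroDivisors (ArSing.ring k 1) ∧
    Ideal.span {ArSing.y k 1 - ArSing.x k 1} ∈ minimalPrimes (ArSing.ring k 1) ∧
    ¬ φ.toRingHom.Flat := by
  have h2' := two_ne_zero' h2
  -- values of φ on x, y (doubled)
  have hφx2 : 2 * φ x = (x + y) - (y - x) ^ 2 := by
    rw [← hφu, ← hφv, map_add, map_sub]; ring
  have hφy2 : 2 * φ y = (x + y) + (y - x) ^ 2 := by
    rw [← hφu, ← hφv, map_add, map_sub]; ring
  have hPφx : P (φ x) = PowerSeries.X := by
    apply mul_left_cancel₀ h2'
    have := congrArg P hφx2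
    simp only [map_mul, map_ofNat, map_sub, map_add, map_pow, P_x, P_y] at this
    rw [this]; ring
  have hPφy : P (φ y) = PowerSeries.X := by
    apply mul_left_cancel₀ h2'
    have := congrArg P hφy2
    simp only [map_mul, map_ofNat, map_sub, map_add, map_pow, P_x, P_y] at this
    rw [this]; ring
  have hMφx : M (φ x) = -2 * PowerSeries.X ^ 2 := by
    apply mul_left_cancel₀ h2'
    have := congrArg M hφx2
    simp only [map_mul, map_ofNat, map_sub, map_add, map_pow, M_x, M_y] at this
    rw [this]; ring
  have hMφy : M (φ y) = 2 * PowerSeries.X ^ 2 := by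
    apply mul_left_cancel₀ h2'
    have := congrArg M hφy2
    simp only [map_mul, map_ofNat, map_sub, map_add, map_pow, M_x, M_y] at this
    rw [this]; ring
  have hPσ : ∀ s, P (σ s) = P s := by
    have : (P).comp σ.toAlgHom = P :=
      algHom_ext_ps k 1 _ _ (by simp [hx, P_x, P_y]) (by simp [hy, P_x, P_y])
        (by simp [hx, P_y])
    exact fun s => congrArg (fun w => w s) this
  have hMσ : ∀ s, M (σ s) = nu k (M s) := by
    have : (M).comp σ.toAlgHom = (nu k).comp M :=
      algHom_ext_ps k 1 _ _ (by simp [hx, M_x, M_y, nu_X]) (by simp [hy, M_x, M_y, nu_X])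
        (by simp [hx, M_y])
    exact fun s => congrArg (fun w => w s) this
  have hPφ : ∀ s, P (φ s) = P s := by
    have : (P).comp φ = P :=
      algHom_ext_ps k 1 _ _ (by simp [hPφx, P_x]) (by simp [hPφy, P_y])
        (by simp [hPφx])
    exact fun s => congrArg (fun w => w s) this
  have hMφ : ∀ s, M (φ s) = mu k (M s) := by
    have : (M).comp φ = (mu k).comp M :=
      algHom_ext_ps k 1 _ _ (by simp [hMφx, M_x, mu_X]) (by simp [hMφy, M_y, mu_X])
        (by simp [hMφx])
    exact fun s => congrArg (fun w => w s) this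
  have hPM0 : ∀ s, PowerSeries.constantCoeff (P s) = PowerSeries.constantCoeff (M s) := by
    intro s
    obtain ⟨a, b, rfl⟩ := basis_exists k 1 s
    rw [pP_formula, pM_formula]; simp
  have hker : RingHom.ker (P) = Ideal.span {y - x} := by
    have := ker_pP k 1 1 rfl
    rwa [pow_one] at this
  have hfix : Ideal.span (Set.range fun a : S => σ a - a) = Ideal.span {y - x} := by
    apply le_antisymm
    · rw [Ideal.span_le]
      rintro _ ⟨s, rfl⟩
      rw [SetLike.mem_coe, ← hker, RingHom.mem_ker, map_sub, hPσ, sub_self]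
    · rw [Ideal.span_le, Set.singleton_subset_iff, SetLike.mem_coe]
      have h1 : σ (y - x) - (y - x) ∈ Ideal.span (Set.range fun a : S => σ a - a) :=
        Ideal.subset_span ⟨y - x, rfl⟩
      rw [map_sub, hx, hy] at h1
      obtain ⟨w, hw⟩ := (isUnit_two k 1 h2).exists_left_inv
      have : y - x = (-w) * (x - y - (y - x)) := by
        linear_combination (-(y - x)) * hw
      rw [this]
      exact Ideal.mul_mem_left _ _ h1
  have huv : (x + y) * (y - x) = 0 := by
    have := y_sq k 1
    linear_combination this
  have hu_ne : (x + y : S) ≠ 0 := by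
    intro h
    have := congrArg P h
    rw [map_add, P_x, P_y, map_zero] at this
    have h3 : (2 : PowerSeries k) * PowerSeries.X = 0 := by linear_combination this
    rcases mul_eq_zero.mp h3 with h | h
    · exact h2' h
    · exact PowerSeries.X_ne_zero h
  refine ⟨?_, ?_, hfix, ?_, ?_, ?_⟩
  · intro s
    constructor
    · intro hs
      have hM1 : nu k (M s) = M s := by rw [← hMσ, hs]
      obtain ⟨q, hq⟩ := (nu_fixed_iff h2 _).mp hM1
      -- find t with P t = P s and M t = rescale (-2)⁻¹ q
      have hcc : PowerSeries.X ^ 1 ∣ P s - PowerSeries.rescale (-2 : k)⁻¹ q := by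
        rw [pow_one, PowerSeries.X_dvd_iff, map_sub, hPM0, hq]
        have e1 : PowerSeries.constantCoeff (ex2 k q) = PowerSeries.constantCoeff q := by
          unfold ex2; exact PowerSeries.constantCoeff_expand 2 (by norm_num) q
        have e2 : PowerSeries.constantCoeff (PowerSeries.rescale (-2 : k)⁻¹ q) =
            PowerSeries.constantCoeff q := by
          rw [← PowerSeries.coeff_zero_eq_constantCoeff_apply, PowerSeries.coeff_rescale]
          simp
        rw [e1, e2, sub_self]
      obtain ⟨t, htP, htM⟩ := branch_surj k 1 1 rfl h2 _ _ hcc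
      refine ⟨t, ?_⟩
      change φ t = s
      apply branch_ext k 1 1 rfl h2
      · rw [hPφ, htP]
      · rw [hMφ, htM, mu_rescale k h2, hq]
    · rintro ⟨t, rfl⟩
      change σ (φ t) = φ t
      apply branch_ext k 1 1 rfl h2
      · rw [hPσ]
      · rw [hMσ, hMφ, nu_mu]
  · rw [injective_iff_map_eq_zero]
    intro t ht
    apply branch_ext k 1 1 rfl h2
    · rw [← hPφ, ht]
    · apply mu_injective k h2
      rw [← hMφ, ht]; simp
  · intro hv
    rw [mem_nonZeroDivisors_iff_right] at hv
    exact hu_ne (hv _ huv)
  · change Minimal (fun q : Ideal S => q.IsPrime ∧ ⊥ ≤ q) _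
    refine ⟨⟨?_, bot_le⟩, ?_⟩
    · rw [← hker]; exact RingHom.ker_isPrime _
    · rintro q ⟨hq, -⟩ hle
      rw [Ideal.span_le, Set.singleton_subset_iff, SetLike.mem_coe]
      have h0 : (x + y) * (y - x) ∈ q := by rw [huv]; exact q.zero_mem
      rcases hq.mem_or_mem h0 with h | h
      · exfalso
        have := hle h
        rw [← hker, RingHom.mem_ker] at this
        exact hu_ne (by
          have h3 : P (x + y) = 0 := this
          rw [map_add, P_x, P_y] at h3
          have h4 : (2 : PowerSeries k) * PowerSeries.X = 0 := by linear_combination h3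
          rcases mul_eq_zero.mp h4 with h | h
          · exact absurd h h2'
          · exact absurd h PowerSeries.X_ne_zero)
      · exact h
  · -- non-flatness via the relation φ(u) · v = 0
    apply not_flat_of_relation φ.toRingHom (x + y) 0 (y - x) 0
      (by
        change φ (x + y) * (y - x) + φ 0 * 0 = 0
        rw [hφu, huv]; simp)
      (Ideal.span {y - x})
    · intro a₁ a₂ h
      rw [zero_mul, add_zero] at h
      rw [← hker, RingHom.mem_ker]
      have := congrArg P h
      rw [map_mul, map_add, P_x, P_y, map_zero] at this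
      rcases mul_eq_zero.mp this with h3 | h3
      · exfalso
        have h4 : (2 : PowerSeries k) * PowerSeries.X = 0 := by linear_combination h3
        rcases mul_eq_zero.mp h4 with h | h
        · exact h2' h
        · exact PowerSeries.X_ne_zero h
      · exact h3
    · intro hv
      rw [Ideal.map_span, Set.image_singleton] at hv
      change y - x ∈ Ideal.span {φ (y - x)} at hv
      rw [hφv, Ideal.mem_span_singleton] at hv
      obtain ⟨w, hw⟩ := hv
      -- apply M: -2X = 4X² · M w
      have := congrArg M hw
      simp only [map_mul, map_pow, map_sub, M_x, M_y] at this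
      have h5 : PowerSeries.X * ((2 : PowerSeries k) * (1 + 2 * PowerSeries.X * M w)) = 0 := by
        linear_combination -this
      rcases mul_eq_zero.mp h5 with h | h
      · exact PowerSeries.X_ne_zero h
      · rcases mul_eq_zero.mp h with h | h
        · exact h2' h
        · have := congrArg PowerSeries.constantCoeff h
          simp at this

end Groth.Agent.Lib.Helper83.ArSingA
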