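import Groth.Agent.Lib.Helper83.ArSingN

set_option autoImplicit false

namespace Groth.Agent.Lib.Helper83.ArSingA

open ArSingP

universe u v

/-- a surjective endomorphism of a Noetherian ring is injective. -/
theorem injective_of_surjective_endo {A : Type*} [CommRing A] [IsNoetherianRing A]
    (θ : A →+* A) (hθ : Function.Surjective θ) : Function.Injective θ := by
  let K : ℕ →o Ideal A :=
    ⟨fun n => RingHom.ker (θ ^ n), by
      intro a b hab z hz
      obtain ⟨c, rfl⟩ := Nat.exists_eq_add_of_le hab
      rw [RingHom.mem_ker] at hz ⊢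
      rw [add_comm, pow_add, RingHom.mul_def, RingHom.comp_apply, hz, map_zero]⟩
  obtain ⟨N, hN⟩ := monotone_stabilizes_iff_noetherian.mpr inferInstance K
  have hsurj : ∀ n : ℕ, Function.Surjective (θ ^ n) := by
    intro n
    induction n with
    | zero => exact fun z => ⟨z, rfl⟩
    | succ n ih =>
      rw [pow_succ, RingHom.mul_def]
      exact ih.comp hθ
  rw [injective_iff_map_eq_zero]
  intro a ha
  obtain ⟨b, rfl⟩ := hsurj N a
  have h1 : b ∈ K (N + 1) := by
    change b ∈ RingHom.ker (θ ^ (N + 1))
    rw [RingHom.mem_ker, pow_succ', RingHom.mul_def, RingHom.comp_apply, ha]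
  rw [← hN (N + 1) (Nat.le_succ N)] at h1
  exact h1

variable (k : Type u) [Field k] (r : ℕ)

local notation "ι" => ArSing.xMap k r
local notation "Y" => ArSing.y k r

/-- every element of `A_r` is a constant plus an element of the maximal ideal. -/
theorem exists_const_add (s : ArSing.ring k r) : ∃ c : k,
    s - algebraMap k _ c ∈ IsLocalRing.maximalIdeal (ArSing.ring k r) := by
  obtain ⟨a, b, rfl⟩ := basis_exists k r s
  refine ⟨PowerSeries.constantCoeff a, ?_⟩
  have : algebraMap k (ArSing.ring k r) (PowerSeries.constantCoeff a) =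
      ι (PowerSeries.C (PowerSeries.constantCoeff a)) := by
    rw [← AlgHom.commutes (ι)]; rfl
  rw [this]
  have e : ι a + ι b * Y - ι (PowerSeries.C (PowerSeries.constantCoeff a)) =
      ι (a - PowerSeries.C (PowerSeries.constantCoeff a)) + ι b * Y := by
    rw [map_sub]; ring
  rw [e, mem_max_iff, PowerSeries.X_dvd_iff]
  simp

/-- **Inverse function theorem** for `A_r`: an endomorphism whose images of `x`, `y` generate the
maximal ideal is bijective. -/
theorem bijective_of_span_eq (θ : ArSing.ring k r →ₐ[k] ArSing.ring k r)
    (h : Ideal.span {θ (ArSing.x k r), θ Y} = IsLocalRing.maximalIdeal (ArSing.ring k r)) :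
    Function.Bijective θ := by
  have hsurj : Function.Surjective θ := by
    let f : MvPowerSeries (Fin 2) k →+* ArSing.ring k r :=
      θ.toRingHom.comp (Ideal.Quotient.mk _)
    have hmap : Ideal.map f (Ideal.span (Set.range (MvPowerSeries.X : Fin 2 → _))) =
        IsLocalRing.maximalIdeal (ArSing.ring k r) := by
      rw [Ideal.map_span, ← h]
      congr 1
      ext z
      simp only [Set.mem_image, Set.mem_range, exists_exists_eq_and, Set.mem_insert_iff,
        Set.mem_singleton_iff]
      constructor
      · rintro ⟨i, rfl⟩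
        fin_cases i
        · left; rfl
        · right; rfl
      · rintro (rfl | rfl)
        · exact ⟨0, rfl⟩
        · exact ⟨1, rfl⟩
    have haus : IsHausdorff (Ideal.map f (Ideal.span (Set.range (MvPowerSeries.X : Fin 2 → _))))
        (ArSing.ring k r) := by
      rw [hmap]; infer_instance
    have hf : Function.Surjective f := by
      apply surjective_of_mk_map_comp_surjective (I := Ideal.span (Set.range
        (MvPowerSeries.X : Fin 2 → MvPowerSeries (Fin 2) k))) f
      intro z
      obtain ⟨s, rfl⟩ := Ideal.Quotient.mk_surjective z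
      obtain ⟨c, hc⟩ := exists_const_add k r s
      refine ⟨MvPowerSeries.C c, ?_⟩
      rw [RingHom.comp_apply, Ideal.Quotient.mk_eq_mk_iff_sub_mem, hmap]
      have : f (MvPowerSeries.C c) = algebraMap k _ c := by
        change θ (Ideal.Quotient.mk _ (MvPowerSeries.C c)) = _
        have e : Ideal.Quotient.mk (Ideal.span {ArSing.eqn k r}) (MvPowerSeries.C c) =
            algebraMap k (ArSing.ring k r) c := rfl
        rw [e, AlgHom.commutes]
      rw [this]
      have := neg_mem hc
      rwa [neg_sub] at this
    intro z
    obtain ⟨F, hF⟩ := hf z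
    exact ⟨Ideal.Quotient.mk _ F, hF⟩
  exact ⟨injective_of_surjective_endo θ.toRingHom hsurj, hsurj⟩

end Groth.Agent.Lib.Helper83.ArSingA
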