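import Groth.Agent.Lib.Helper83.ArSingQ

set_option autoImplicit false

namespace Groth.Agent.Lib.Helper83.ArSingA

open ArSingP

universe u v
variable (k : Type u) [Field k] (r : ℕ)

local notation "ι" => ArSing.xMap k r
local notation "Y" => ArSing.y k r

/-- endomorphisms of `A_r` from a pair `(x', y')` in the maximal ideal with `y'^2 = x'^(r+1)`. -/
theorem exists_endo (x' y' : ArSing.ring k r)
    (hx : x' ∈ IsLocalRing.maximalIdeal (ArSing.ring k r))
    (hy : y' ∈ IsLocalRing.maximalIdeal (ArSing.ring k r)) (h : y' ^ 2 = x' ^ (r + 1)) :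
    ∃ θ : ArSing.ring k r →ₐ[k] ArSing.ring k r,
      θ (ArSing.x k r) = x' ∧ θ (ArSing.y k r) = y' := by
  obtain ⟨X', rfl⟩ := Ideal.Quotient.mk_surjective x'
  obtain ⟨Y', rfl⟩ := Ideal.Quotient.mk_surjective y'
  have hcc : ∀ F : MvPowerSeries (Fin 2) k,
      Ideal.Quotient.mk (Ideal.span {ArSing.eqn k r}) F ∈
        IsLocalRing.maximalIdeal (ArSing.ring k r) → MvPowerSeries.constantCoeff F = 0 := by
    intro F hF
    by_contra hne
    have hu : IsUnit F := MvPowerSeries.isUnit_iff_constantCoeff.mpr (Ne.isUnit hne)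
    exact (IsLocalRing.mem_maximalIdeal _).mp hF (hu.map _)
  exact exists_algHom k r (Ideal.span {ArSing.eqn k r}) X' Y' (hcc X' hx) (hcc Y' hy) (by
    rw [← Ideal.Quotient.eq_zero_iff_mem, map_sub, map_pow, map_pow, h, sub_self])

/-- coordinate criterion for a pair to generate the maximal ideal. -/
theorem span_eq_max_of_det (a b c d : PowerSeries k) (ha : PowerSeries.constantCoeff a = 0)
    (hc : PowerSeries.constantCoeff c = 0)
    (hD : PowerSeries.coeff 1 a * PowerSeries.constantCoeff d -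
      PowerSeries.constantCoeff b * PowerSeries.coeff 1 c ≠ 0) :
    Ideal.span {ι a + ι b * Y, ι c + ι d * Y} = IsLocalRing.maximalIdeal (ArSing.ring k r) := by
  obtain ⟨a₁, rfl⟩ := PowerSeries.X_dvd_iff.mpr ha
  obtain ⟨c₁, rfl⟩ := PowerSeries.X_dvd_iff.mpr hc
  have e1 : PowerSeries.coeff 1 (PowerSeries.X * a₁) = PowerSeries.constantCoeff a₁ := by
    rw [show (1 : ℕ) = 0 + 1 from rfl, PowerSeries.coeff_succ_X_mul,
      PowerSeries.coeff_zero_eq_constantCoeff_apply]
  have e2 : PowerSeries.coeff 1 (PowerSeries.X * c₁) = PowerSeries.constantCoeff c₁ := by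
    rw [show (1 : ℕ) = 0 + 1 from rfl, PowerSeries.coeff_succ_X_mul,
      PowerSeries.coeff_zero_eq_constantCoeff_apply]
  rw [e1, e2] at hD
  set D : PowerSeries k := a₁ * d - b * c₁ with hDdef
  have hDu : IsUnit D := by
    rw [PowerSeries.isUnit_iff_constantCoeff]
    apply Ne.isUnit
    rw [hDdef]; simpa using hD
  have hιD : IsUnit (ι D) := hDu.map _
  obtain ⟨w, hw⟩ := hιD.exists_left_inv
  set x' := ι (PowerSeries.X * a₁) + ι b * Y with hx'
  set y' := ι (PowerSeries.X * c₁) + ι d * Y with hy'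
  have hx'' : x' = ι a₁ * ArSing.x k r + ι b * Y := by rw [hx', map_mul, xMap_X]; ring
  have hy'' : y' = ι c₁ * ArSing.x k r + ι d * Y := by rw [hy', map_mul, xMap_X]; ring
  have k1 : ι D * ArSing.x k r = ι d * x' - ι b * y' := by
    rw [hx'', hy'', hDdef, map_sub, map_mul, map_mul]; ring
  have k2 : ι D * Y = ι a₁ * y' - ι c₁ * x' := by
    rw [hx'', hy'', hDdef, map_sub, map_mul, map_mul]; ring
  apply le_antisymm
  · rw [Ideal.span_le]
    rintro z (rfl | rfl)
    · rw [SetLike.mem_coe, hx', mem_max_iff]; exact Dvd.intro _ rfl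
    · rw [SetLike.mem_coe, hy', mem_max_iff]; exact Dvd.intro _ rfl
  · rw [max_eq_span, Ideal.span_le]
    rintro z (rfl | rfl)
    · have : ArSing.x k r = w * (ι d * x' - ι b * y') := by
        rw [← k1, ← mul_assoc, hw, one_mul]
      rw [SetLike.mem_coe, this]
      refine Ideal.mul_mem_left _ _ (Ideal.sub_mem _ ?_ ?_)
      · exact Ideal.mul_mem_left _ _ (Ideal.subset_span (Set.mem_insert _ _))
      · exact Ideal.mul_mem_left _ _ (Ideal.subset_span (Set.mem_insert_of_mem _ rfl))
    · have : Y = w * (ι a₁ * y' - ι c₁ * x') := by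
        rw [← k2, ← mul_assoc, hw, one_mul]
      rw [SetLike.mem_coe, this]
      refine Ideal.mul_mem_left _ _ (Ideal.sub_mem _ ?_ ?_)
      · exact Ideal.mul_mem_left _ _ (Ideal.subset_span (Set.mem_insert_of_mem _ rfl))
      · exact Ideal.mul_mem_left _ _ (Ideal.subset_span (Set.mem_insert _ _))

/-- combined: endomorphism from coordinates, bijective under the determinant condition. -/
theorem exists_auto (a b c d : PowerSeries k) (ha : PowerSeries.constantCoeff a = 0)
    (hc : PowerSeries.constantCoeff c = 0)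
    (hD : PowerSeries.coeff 1 a * PowerSeries.constantCoeff d -
      PowerSeries.constantCoeff b * PowerSeries.coeff 1 c ≠ 0)
    (h : (ι c + ι d * Y) ^ 2 = (ι a + ι b * Y) ^ (r + 1)) :
    ∃ φ : ArSing.ring k r ≃ₐ[k] ArSing.ring k r,
      φ (ArSing.x k r) = ι a + ι b * Y ∧ φ Y = ι c + ι d * Y := by
  obtain ⟨θ, hθx, hθy⟩ := exists_endo k r (ι a + ι b * Y) (ι c + ι d * Y)
    (cc_xMap_mem k r a b ha) (cc_xMap_mem k r c d hc) h
  have hbij := bijective_of_span_eq k r θ (by
    rw [hθx, hθy]; exact span_eq_max_of_det k r a b c d ha hc hD)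
  exact ⟨AlgEquiv.ofBijective θ hbij, hθx, hθy⟩

end Groth.Agent.Lib.Helper83.ArSingA
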