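import Groth.Agent.Lib.Helper83.ArSingR
import Groth.Agent.Lib.Helper83.ArSingP2

set_option autoImplicit false

namespace Groth.Agent.Lib.Helper83.ArSingA

open ArSingP

universe u v
variable (k : Type u) [Field k] (r : ℕ) (m : ℕ) (hr : r = 2 * m)

local notation "ι" => ArSing.xMap k r
local notation "Y" => ArSing.y k r

include hr in
lemma exists_nmap : ∃ θ : ArSing.ring k r →ₐ[k] PowerSeries k,
    θ (ArSing.x k r) = PowerSeries.X ^ 2 ∧ θ (ArSing.y k r) = PowerSeries.X ^ (2 * m + 1) :=
  exists_branch k r (PowerSeries.X ^ 2) (PowerSeries.X ^ (2 * m + 1)) (by simp)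
    (by simp) (by rw [← pow_mul, ← pow_mul, hr]; ring_nf)

/-- the normalisation map `x ↦ t^2, y ↦ t^(2m+1)`. -/
noncomputable def nmap : ArSing.ring k r →ₐ[k] PowerSeries k :=
  Classical.choose (exists_nmap k r m hr)

lemma nmap_x : nmap k r m hr (ArSing.x k r) = PowerSeries.X ^ 2 :=
  (Classical.choose_spec (exists_nmap k r m hr)).1
lemma nmap_y : nmap k r m hr Y = PowerSeries.X ^ (2 * m + 1) :=
  (Classical.choose_spec (exists_nmap k r m hr)).2

lemma nmap_iota (a : PowerSeries k) : nmap k r m hr (ι a) = ex2 k a := by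
  have : (nmap k r m hr).comp (ι) = ex2 k :=
    ps_algHom_ext k _ _ (by simp [xMap_X, nmap_x, ex2_X]) (by simp [xMap_X, nmap_x])
  exact congrArg (fun w => w a) this

lemma nmap_formula (a b : PowerSeries k) :
    nmap k r m hr (ι a + ι b * Y) = ex2 k a + PowerSeries.X * ex2 k (PowerSeries.X ^ m * b) := by
  rw [map_add, map_mul, nmap_iota, nmap_iota, nmap_y, map_mul, map_pow, ex2_X]
  ring

lemma nmap_injective : Function.Injective (nmap k r m hr) := by
  rw [injective_iff_map_eq_zero]
  intro s hs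
  obtain ⟨a, b, rfl⟩ := basis_exists k r s
  rw [nmap_formula] at hs
  obtain ⟨ha, hb⟩ := even_odd_unique _ _ hs
  have hb' : b = 0 := (mul_eq_zero.mp hb).resolve_left (pow_ne_zero _ PowerSeries.X_ne_zero)
  rw [ha, hb']; simp

lemma nmap_cc (s : ArSing.ring k r) (hs : s ∈ IsLocalRing.maximalIdeal (ArSing.ring k r)) :
    PowerSeries.constantCoeff (nmap k r m hr s) = 0 := by
  obtain ⟨a, b, rfl⟩ := basis_exists k r s
  rw [mem_max_iff, PowerSeries.X_dvd_iff] at hs
  rw [nmap_formula, map_add, map_mul]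
  unfold ex2
  rw [PowerSeries.constantCoeff_expand, hs]
  simp

/-- multiples of `t^(2m+1)` are in the image, with explicit coordinates. -/
lemma nmap_conductor (g : PowerSeries k) :
    nmap k r m hr (ι (PowerSeries.X ^ (m + 1) * oddPart k g) + ι (evenPart k g) * Y) =
      PowerSeries.X ^ (2 * m + 1) * g := by
  rw [nmap_formula]
  conv_rhs => rw [even_odd g]
  simp only [map_mul, map_pow, ex2_X]
  ring

/-- an automorphism of `A_r` preserves the maximal ideal. -/
lemma algEquiv_mem_max (σ : ArSing.ring k r ≃ₐ[k] ArSing.ring k r) (s : ArSing.ring k r)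
    (hs : s ∈ IsLocalRing.maximalIdeal (ArSing.ring k r)) :
    σ s ∈ IsLocalRing.maximalIdeal (ArSing.ring k r) := by
  rw [IsLocalRing.mem_maximalIdeal, mem_nonunits_iff] at hs ⊢
  intro h
  apply hs
  have := h.map σ.symm
  simpa using this

/-- lifting an automorphism to the normalisation. -/
theorem exists_lift (σ : ArSing.ring k r ≃ₐ[k] ArSing.ring k r) :
    ∃ σb : PowerSeries k →ₐ[k] PowerSeries k,
      (∀ z, σb (nmap k r m hr z) = nmap k r m hr (σ z)) ∧
      PowerSeries.constantCoeff (σb PowerSeries.X) = 0 := by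
  set X' := nmap k r m hr (σ (ArSing.x k r)) with hX'
  set Y' := nmap k r m hr (σ Y) with hY'
  have hXne : X' ≠ 0 := by
    intro h0
    have h1 : σ (ArSing.x k r) = 0 := nmap_injective k r m hr (by rw [← hX', h0, map_zero])
    have h2 : ArSing.x k r = 0 := σ.injective (by rw [h1, map_zero])
    have := congrArg (nmap k r m hr) h2
    rw [nmap_x, map_zero] at this
    exact pow_ne_zero _ PowerSeries.X_ne_zero this
  have hrel : Y' ^ 2 = X' ^ (2 * m + 1) := by
    have h1 : σ Y ^ 2 = σ (ArSing.x k r) ^ (r + 1) := by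
      rw [← map_pow σ, ← map_pow σ, y_sq k r]
    have h2 := congrArg (nmap k r m hr) h1
    rw [map_pow, map_pow] at h2
    have e : r + 1 = 2 * m + 1 := by omega
    rw [hX', hY', h2]
    exact congrArg _ e
  obtain ⟨s, hs2, hsm⟩ := exists_sqrt_of_sq_eq_pow X' Y' hXne m hrel
  have hs0 : PowerSeries.constantCoeff s = 0 := by
    have h1 : PowerSeries.constantCoeff X' = 0 :=
      nmap_cc k r m hr _ (algEquiv_mem_max k r σ _ (x_mem_max k r))
    rw [← hs2, map_pow] at h1
    exact pow_eq_zero_iff (by norm_num) |>.mp h1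
  let σb : PowerSeries k →ₐ[k] PowerSeries k :=
    PowerSeries.substAlgHom (PowerSeries.HasSubst.of_constantCoeff_zero' hs0)
  have hσbX : σb PowerSeries.X = s := PowerSeries.substAlgHom_X _
  refine ⟨σb, ?_, by rw [hσbX]; exact hs0⟩
  have : σb.comp (nmap k r m hr) = (nmap k r m hr).comp σ.toAlgHom := by
    apply algHom_ext_ps k r
    · simp only [AlgHom.comp_apply, nmap_x, map_pow, hσbX, hs2]
      rfl
    · simp only [AlgHom.comp_apply, nmap_y, map_pow, hσbX]
      rw [pow_succ, pow_mul, hs2, mul_comm, hsm]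
      rfl
    · simp only [AlgHom.comp_apply, nmap_x, map_pow, hσbX, hs0]
      simp
  exact fun z => congrArg (fun w => w z) this

end Groth.Agent.Lib.Helper83.ArSingA
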