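import Groth.Agent.Lib.Helper83.ArSingS
import Groth.Agent.S14080

set_option autoImplicit false

namespace Groth.Agent.Lib.Helper83.ArSingA

open ArSingP

universe u v
variable (k : Type u) [Field k] (r : ℕ)

local notation "ι" => ArSing.xMap k r
local notation "Y" => ArSing.y k r

/-- `w^2 = v^2` in a domain. -/
lemma sq_eq_sq_cases {A : Type*} [CommRing A] [IsDomain A] {w v : A} (h : w ^ 2 = v ^ 2) :
    w = v ∨ w = -v := by
  have : (w - v) * (w + v) = 0 := by linear_combination h
  rcases mul_eq_zero.mp this with h | h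
  · left; exact sub_eq_zero.mp h
  · right; exact eq_neg_of_add_eq_zero_left h

theorem main_S14081 (h2 : (2 : k) ≠ 0) (hev : Even r)
    (σ : ArSing.ring k r ≃ₐ[k] ArSing.ring k r) (hσ : ∀ a, σ (σ a) = a) (hne : σ ≠ AlgEquiv.refl) :
    ∃ φ : ArSing.ring k r ≃ₐ[k] ArSing.ring k r,
      φ.symm (σ (φ (ArSing.x k r))) = ArSing.x k r ∧
      φ.symm (σ (φ (ArSing.y k r))) = -ArSing.y k r := by
  obtain ⟨m, hm⟩ := hev
  have hr : r = 2 * m := by omega
  have h2' := two_ne_zero' h2
  obtain ⟨σb, hσb, hσb0⟩ := exists_lift k r m hr σ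
  set n := nmap k r m hr with hn
  have hnx : n (ArSing.x k r) = PowerSeries.X ^ 2 := nmap_x k r m hr
  have hny : n Y = PowerSeries.X ^ (2 * m + 1) := nmap_y k r m hr
  have hninj : Function.Injective n := nmap_injective k r m hr
  set s := σb PowerSeries.X with hs
  -- involution
  have hinv : σb s = PowerSeries.X := by
    have e1 : σb (σb (n (ArSing.x k r))) = n (ArSing.x k r) := by rw [hσb, hσb, hσ]
    have e2 : σb (σb (n Y)) = n Y := by rw [hσb, hσb, hσ]
    rw [hnx, map_pow, map_pow] at e1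
    rw [hny, map_pow, map_pow] at e2
    rcases sq_eq_sq_cases e1 with h | h
    · exact h
    · exfalso
      rw [← hs, h, Odd.neg_pow ⟨m, rfl⟩] at e2
      have : (2 : PowerSeries k) * PowerSeries.X ^ (2 * m + 1) = 0 := by linear_combination -e2
      rcases mul_eq_zero.mp this with h | h
      · exact h2' h
      · exact pow_ne_zero _ PowerSeries.X_ne_zero h
  have hcomp : σb.comp σb = AlgHom.id k _ :=
    ps_algHom_ext k _ _ (by simp [← hs, hinv]) (by simp [← hs, hinv])
  let σe : PowerSeries k ≃ₐ[k] PowerSeries k := AlgEquiv.ofAlgHom σb σb hcomp hcomp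
  obtain ⟨hξ, -⟩ := Groth.Agent.S14080.result k h2 σe
    (fun f => congrArg (fun w : PowerSeries k →ₐ[k] PowerSeries k => w f) hcomp)
  have hξ' : (PowerSeries.coeff 1 s) ^ 2 = 1 := hξ
  obtain ⟨h₁, hh₁⟩ := PowerSeries.X_dvd_iff.mpr hσb0
  have hh₁0 : PowerSeries.constantCoeff h₁ = PowerSeries.coeff 1 s := by
    rw [hh₁, show (1 : ℕ) = 0 + 1 from rfl, PowerSeries.coeff_succ_X_mul,
      PowerSeries.coeff_zero_eq_constantCoeff_apply]
  -- the square root
  set w : PowerSeries k := PowerSeries.C (2⁻¹ : k) * (1 + h₁ ^ 2) with hw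
  have hw0 : PowerSeries.constantCoeff w = 1 := by
    rw [hw, map_mul, map_add, map_one, map_pow, hh₁0, hξ', PowerSeries.constantCoeff_C]
    rw [one_add_one_eq_two]; exact inv_mul_cancel₀ h2
  obtain ⟨h, hh2, hh0⟩ := exists_sqrt_one h2 w hw0
  set τ := PowerSeries.X * h with hτ
  -- invariant coordinate
  set x' : ArSing.ring k r := algebraMap k _ (2⁻¹ : k) * (ArSing.x k r + σ (ArSing.x k r)) with hx'
  have hσx' : σ x' = x' := by
    rw [hx', map_mul, AlgEquiv.commutes, map_add, hσ]; ring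
  have hnx' : n x' = τ ^ 2 := by
    rw [hx', map_mul, AlgHom.commutes, map_add, ← hσb, hnx, map_pow, ← hs, hτ, mul_pow, hh2, hw, hh₁]
    have : algebraMap k (PowerSeries k) (2⁻¹ : k) = PowerSeries.C (2⁻¹ : k) := rfl
    rw [this]; ring
  -- anti-invariant coordinate
  set g := h ^ (2 * m + 1) with hg
  set y' : ArSing.ring k r :=
    ι (PowerSeries.X ^ (m + 1) * oddPart k g) + ι (evenPart k g) * Y with hy'
  have hny' : n y' = τ ^ (2 * m + 1) := by
    rw [hy', hn, nmap_conductor, hτ, mul_pow]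
  have hrel : y' ^ 2 = x' ^ (r + 1) := by
    apply hninj
    rw [map_pow, map_pow, hny', hnx', ← pow_mul, ← pow_mul, hr]; ring_nf
  -- coordinates of x'
  obtain ⟨a, b, hab⟩ := basis_exists k r x'
  have hcoord : ex2 k a + PowerSeries.X * ex2 k (PowerSeries.X ^ m * b) =
      PowerSeries.X ^ 2 * w := by
    rw [← nmap_formula k r m hr, ← hab, ← hn, hnx', hτ, mul_pow, hh2]
  have r0 : PowerSeries.coeff 0 (PowerSeries.X ^ 2 * w) = 0 := by
    rw [PowerSeries.coeff_X_pow_mul']; simp
  have r1 : PowerSeries.coeff 1 (PowerSeries.X ^ 2 * w) = 0 := by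
    rw [PowerSeries.coeff_X_pow_mul']; simp
  have r2 : PowerSeries.coeff 2 (PowerSeries.X ^ 2 * w) = 1 := by
    rw [PowerSeries.coeff_X_pow_mul']; simp [hw0]
  have ha0 : PowerSeries.constantCoeff a = 0 := by
    have := congrArg (PowerSeries.coeff 0) hcoord
    rw [coeff_even_odd, r0] at this
    simpa using this
  have ha1 : PowerSeries.coeff 1 a = 1 := by
    have := congrArg (PowerSeries.coeff 2) hcoord
    rw [coeff_even_odd, r2] at this
    simpa using this
  have hb0 : PowerSeries.coeff 0 (PowerSeries.X ^ m * b) = 0 := by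
    have := congrArg (PowerSeries.coeff 1) hcoord
    rw [coeff_even_odd, r1] at this
    have h1 : ¬ (2 ∣ 1) := by norm_num
    simpa only [h1, if_false] using this
  have hd0 : PowerSeries.constantCoeff (evenPart k g) = 1 := by
    rw [← PowerSeries.coeff_zero_eq_constantCoeff_apply, evenPart, PowerSeries.coeff_mk,
      mul_zero, PowerSeries.coeff_zero_eq_constantCoeff_apply, hg, map_pow, hh0, one_pow]
  have hc0 : PowerSeries.constantCoeff (PowerSeries.X ^ (m + 1) * oddPart k g) = 0 := by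
    simp
  have hD : PowerSeries.coeff 1 a * PowerSeries.constantCoeff (evenPart k g) -
      PowerSeries.constantCoeff b *
        PowerSeries.coeff 1 (PowerSeries.X ^ (m + 1) * oddPart k g) ≠ 0 := by
    rw [ha1, hd0, PowerSeries.coeff_X_pow_mul']
    rcases Nat.eq_zero_or_pos m with h0 | hpos
    · subst h0
      rw [pow_zero, one_mul, PowerSeries.coeff_zero_eq_constantCoeff_apply] at hb0
      rw [hb0]; simp
    · have : ¬ (m + 1 ≤ 1) := by omega
      simp [this]
  have hrel' : (ι (PowerSeries.X ^ (m + 1) * oddPart k g) + ι (evenPart k g) * Y) ^ 2 =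
      (ι a + ι b * Y) ^ (r + 1) := by rw [← hab, ← hy']; exact hrel
  obtain ⟨φ, hφx, hφy⟩ := exists_auto k r a b _ _ ha0 hc0 hD hrel'
  rw [← hab] at hφx
  rw [← hy'] at hφy
  -- sign
  have hτcases : σb τ = τ ∨ σb τ = -τ := by
    apply sq_eq_sq_cases
    rw [← map_pow, ← hnx', hσb, hσx']
  have hny'σ : n (σ y') = (σb τ) ^ (2 * m + 1) := by
    rw [← hσb, hny', map_pow]
  rcases hτcases with hplus | hminus
  · exfalso
    have hσy' : σ y' = y' := hninj (by rw [hny'σ, hplus, hny'])
    have hcomp2 : (σ.toAlgHom).comp φ.toAlgHom = φ.toAlgHom := by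
      apply algHom_ext k r (IsLocalRing.maximalIdeal (ArSing.ring k r)) (iInf_pow_max k r)
      · change σ (φ (ArSing.x k r)) = φ (ArSing.x k r)
        rw [hφx, hσx']
      · change σ (φ Y) = φ Y
        rw [hφy, hσy']
      · change σ (φ (ArSing.x k r)) ∈ _
        rw [hφx, hσx', hab]
        exact cc_xMap_mem k r a b ha0
    apply hne
    ext z
    have := congrArg (fun w : ArSing.ring k r →ₐ[k] ArSing.ring k r => w (φ.symm z)) hcomp2
    simpa using this
  · have hσy' : σ y' = -y' := hninj (by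
      rw [hny'σ, hminus, Odd.neg_pow ⟨m, rfl⟩, map_neg, hny'])
    refine ⟨φ, ?_, ?_⟩
    · rw [hφx, hσx', ← hφx, AlgEquiv.symm_apply_apply]
    · rw [hφy, hσy', ← hφy, map_neg, AlgEquiv.symm_apply_apply]

end Groth.Agent.Lib.Helper83.ArSingA
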