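import Groth.Agent.Lib.Helper83.ArSingT

set_option autoImplicit false

namespace Groth.Agent.Lib.Helper83.ArSingA

open ArSingP

universe u v
variable (k : Type u) [Field k] (r : ℕ) (m : ℕ) (hrm : r + 1 = 2 * m)

local notation "ι" => ArSing.xMap k r
local notation "Y" => ArSing.y k r
local notation "P" => pP k r m hrm
local notation "M" => pM k r m hrm

/-- the two branches are compatible mod `X^m`. -/
lemma branch_dvd (z : ArSing.ring k r) : PowerSeries.X ^ m ∣ P z - M z := by
  obtain ⟨a, b, rfl⟩ := basis_exists k r z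
  rw [pP_formula, pM_formula]
  exact ⟨2 * b, by ring⟩

lemma pP_surjective : Function.Surjective (P) := fun a => ⟨ι a, pP_iota k r m hrm a⟩
lemma pM_surjective : Function.Surjective (M) := fun a => ⟨ι a, pM_iota k r m hrm a⟩

lemma pP_cc (z : ArSing.ring k r) (hz : z ∈ IsLocalRing.maximalIdeal (ArSing.ring k r)) :
    PowerSeries.constantCoeff (P z) = 0 := by
  obtain ⟨a, b, rfl⟩ := basis_exists k r z
  rw [mem_max_iff, PowerSeries.X_dvd_iff] at hz
  rw [pP_formula, map_add, map_mul, map_pow, hz]
  simp [m_pos r m hrm]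

lemma pM_cc (z : ArSing.ring k r) (hz : z ∈ IsLocalRing.maximalIdeal (ArSing.ring k r)) :
    PowerSeries.constantCoeff (M z) = 0 := by
  obtain ⟨a, b, rfl⟩ := basis_exists k r z
  rw [mem_max_iff, PowerSeries.X_dvd_iff] at hz
  rw [pM_formula, map_sub, map_mul, map_pow, hz]
  simp [m_pos r m hrm]

/-- **Dichotomy**: an automorphism either preserves or swaps the two branches. -/
theorem branch_dichotomy (h2 : (2 : k) ≠ 0) (σ : ArSing.ring k r ≃ₐ[k] ArSing.ring k r) :
    (∃ α β : PowerSeries k →ₐ[k] PowerSeries k,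
      (∀ z, P (σ z) = α (P z)) ∧ (∀ z, M (σ z) = β (M z))) ∨
    (∃ α β : PowerSeries k →ₐ[k] PowerSeries k,
      (∀ z, P (σ z) = α (M z)) ∧ (∀ z, M (σ z) = β (P z))) := by
  have h2' := two_ne_zero' h2
  let α : PowerSeries k →ₐ[k] PowerSeries k := ((P).comp σ.toAlgHom).comp (ι)
  let β : PowerSeries k →ₐ[k] PowerSeries k := ((M).comp σ.toAlgHom).comp (ι)
  have hα : ∀ a, P (σ (ι a)) = α a := fun a => rfl
  have hβ : ∀ a, M (σ (ι a)) = β a := fun a => rfl
  have hysq : σ Y ^ 2 = σ (ι (PowerSeries.X ^ m)) ^ 2 := by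
    rw [← map_pow σ, ← map_pow σ, y_sq' k r, ← map_pow (ι), ← pow_mul, hrm, mul_comm]
  have hP2 : (P (σ Y)) ^ 2 = (α (PowerSeries.X ^ m)) ^ 2 := by
    have := congrArg (P) hysq
    rw [map_pow, map_pow] at this
    rw [this]; rfl
  have hM2 : (M (σ Y)) ^ 2 = (β (PowerSeries.X ^ m)) ^ 2 := by
    have := congrArg (M) hysq
    rw [map_pow, map_pow] at this
    rw [this]; rfl
  have formP : ∀ a b, P (σ (ι a + ι b * Y)) = α a + α b * P (σ Y) := by
    intro a b; rw [map_add, map_mul, map_add, map_mul, hα, hα]
  have formM : ∀ a b, M (σ (ι a + ι b * Y)) = β a + β b * M (σ Y) := by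
    intro a b; rw [map_add, map_mul, map_add, map_mul, hβ, hβ]
  have hXm : (PowerSeries.X : PowerSeries k) ^ m ≠ 0 := pow_ne_zero _ PowerSeries.X_ne_zero
  -- the four sign combinations
  rcases sq_eq_sq_cases hP2 with hp | hp <;> rcases sq_eq_sq_cases hM2 with hq | hq
  · -- both through P: impossible
    exfalso
    have key : ∀ z, P z = 0 → σ z = 0 := by
      intro z hz
      obtain ⟨a, b, rfl⟩ := basis_exists k r z
      rw [pP_formula] at hz
      apply branch_ext k r m hrm h2
      · rw [formP, hp, ← map_mul, ← map_add, hz, map_zero, map_zero]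
      · rw [formM, hq, ← map_mul, ← map_add, hz, map_zero, map_zero]
    have h0 := key (ι (-(PowerSeries.X ^ m)) + ι 1 * Y) (by rw [pP_formula]; ring)
    have h1 := σ.injective (h0.trans (map_zero σ).symm)
    have := congrArg (M) h1
    rw [pM_formula, map_zero] at this
    have e : (2 : PowerSeries k) * PowerSeries.X ^ m = 0 := by linear_combination -this
    rcases mul_eq_zero.mp e with h | h
    · exact h2' h
    · exact hXm h
  · -- case A
    left
    refine ⟨α, β, ?_, ?_⟩
    · intro z
      obtain ⟨a, b, rfl⟩ := basis_exists k r z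
      rw [formP, hp, pP_formula, map_add, map_mul]
    · intro z
      obtain ⟨a, b, rfl⟩ := basis_exists k r z
      rw [formM, hq, pM_formula, map_sub, map_mul]; ring
  · -- case B
    right
    refine ⟨α, β, ?_, ?_⟩
    · intro z
      obtain ⟨a, b, rfl⟩ := basis_exists k r z
      rw [formP, hp, pM_formula, map_sub, map_mul]; ring
    · intro z
      obtain ⟨a, b, rfl⟩ := basis_exists k r z
      rw [formM, hq, pP_formula, map_add, map_mul]
  · -- both through M: impossible
    exfalso
    have key : ∀ z, M z = 0 → σ z = 0 := by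
      intro z hz
      obtain ⟨a, b, rfl⟩ := basis_exists k r z
      rw [pM_formula] at hz
      apply branch_ext k r m hrm h2
      · rw [formP, hp, map_zero]
        have : α a + α b * -α (PowerSeries.X ^ m) = α (a - b * PowerSeries.X ^ m) := by
          rw [map_sub, map_mul]; ring
        rw [this, hz, map_zero]
      · rw [formM, hq, map_zero]
        have : β a + β b * -β (PowerSeries.X ^ m) = β (a - b * PowerSeries.X ^ m) := by
          rw [map_sub, map_mul]; ring
        rw [this, hz, map_zero]
    have h0 := key (ι (PowerSeries.X ^ m) + ι 1 * Y) (by rw [pM_formula]; ring)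
    have h1 := σ.injective (h0.trans (map_zero σ).symm)
    have := congrArg (P) h1
    rw [pP_formula, map_zero] at this
    have e : (2 : PowerSeries k) * PowerSeries.X ^ m = 0 := by linear_combination this
    rcases mul_eq_zero.mp e with h | h
    · exact h2' h
    · exact hXm h

end Groth.Agent.Lib.Helper83.ArSingA
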