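import Groth.Agent.Lib.Helper83.ArSingU

set_option autoImplicit false

namespace Groth.Agent.Lib.Helper83.ArSingA

open ArSingP

universe u v
variable (k : Type u) [Field k] (r : ℕ) (m : ℕ) (hrm : r + 1 = 2 * m)

local notation "ι" => ArSing.xMap k r
local notation "Y" => ArSing.y k r
local notation "P" => pP k r m hrm
local notation "M" => pM k r m hrm

lemma C_half_mul_two (h2 : (2 : k) ≠ 0) : (PowerSeries.C (2⁻¹ : k)) * 2 = 1 := by
  have : (2 : PowerSeries k) = PowerSeries.C (2 : k) := (map_ofNat _ 2).symm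
  rw [this, ← map_mul, inv_mul_cancel₀ h2, map_one]

lemma coeff_one_X_mul (h : PowerSeries k) :
    PowerSeries.coeff 1 (PowerSeries.X * h) = PowerSeries.constantCoeff h := by
  rw [show (1 : ℕ) = 0 + 1 from rfl, PowerSeries.coeff_succ_X_mul,
    PowerSeries.coeff_zero_eq_constantCoeff_apply]

/-- **Build**: an automorphism of `A_r` (`r` odd) with prescribed branch coordinates. -/
theorem build (h2 : (2 : k) ≠ 0) (hp hq : PowerSeries k)
    (hdiv : PowerSeries.X ^ m ∣ PowerSeries.X * hp - PowerSeries.X * hq)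
    (hlp : PowerSeries.constantCoeff hp ≠ 0) (hlq : PowerSeries.constantCoeff hq ≠ 0)
    (δ : k) (hδ : δ = 1 ∨ δ = -1) :
    ∃ φ : ArSing.ring k r ≃ₐ[k] ArSing.ring k r,
      P (φ (ArSing.x k r)) = PowerSeries.X * hp ∧ M (φ (ArSing.x k r)) = PowerSeries.X * hq ∧
      P (φ Y) = PowerSeries.C δ * (PowerSeries.X * hp) ^ m ∧
      M (φ Y) = -(PowerSeries.C δ * (PowerSeries.X * hq) ^ m) := by
  have hm0 := m_pos r m hrm
  have hC := C_half_mul_two k h2
  have hδ2 : (PowerSeries.C δ : PowerSeries k) ^ 2 = 1 := by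
    rcases hδ with rfl | rfl <;> simp
  obtain ⟨e, he⟩ := hdiv
  set c2 : PowerSeries k := PowerSeries.C (2⁻¹ : k) with hc2
  set a : PowerSeries k := c2 * (PowerSeries.X * hp + PowerSeries.X * hq) with ha
  set b : PowerSeries k := c2 * e with hb
  set c : PowerSeries k := c2 * PowerSeries.C δ *
    ((PowerSeries.X * hp) ^ m - (PowerSeries.X * hq) ^ m) with hc
  set d : PowerSeries k := c2 * PowerSeries.C δ * (hp ^ m + hq ^ m) with hd
  have hPx : P (ι a + ι b * Y) = PowerSeries.X * hp := by
    rw [pP_formula, ha, hb]; linear_combination (PowerSeries.X * hp) * hC - c2 * he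
  have hMx : M (ι a + ι b * Y) = PowerSeries.X * hq := by
    rw [pM_formula, ha, hb]; linear_combination (PowerSeries.X * hq) * hC + c2 * he
  have hPy : P (ι c + ι d * Y) = PowerSeries.C δ * (PowerSeries.X * hp) ^ m := by
    rw [pP_formula, hc, hd, mul_pow, mul_pow]
    linear_combination (PowerSeries.C δ * (PowerSeries.X ^ m * hp ^ m)) * hC
  have hMy : M (ι c + ι d * Y) = -(PowerSeries.C δ * (PowerSeries.X * hq) ^ m) := by
    rw [pM_formula, hc, hd, mul_pow, mul_pow]
    linear_combination (-(PowerSeries.C δ * (PowerSeries.X ^ m * hq ^ m))) * hC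
  have ha0 : PowerSeries.constantCoeff a = 0 := by rw [ha]; simp
  have hc0 : PowerSeries.constantCoeff c = 0 := by rw [hc]; simp [hm0]
  have hrel : (ι c + ι d * Y) ^ 2 = (ι a + ι b * Y) ^ (r + 1) := by
    apply branch_ext k r m hrm h2
    · rw [map_pow, map_pow, hPy, hPx, mul_pow, hδ2, one_mul, ← pow_mul, hrm, Nat.mul_comm m 2]
    · rw [map_pow, map_pow, hMy, hMx, neg_sq, mul_pow, hδ2, one_mul, ← pow_mul, hrm,
        Nat.mul_comm m 2]
  have hδ0 : δ ≠ 0 := by rcases hδ with rfl | rfl <;> simp
  have hD : PowerSeries.coeff 1 a * PowerSeries.constantCoeff d -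
      PowerSeries.constantCoeff b * PowerSeries.coeff 1 c ≠ 0 := by
    have e1 : PowerSeries.coeff 1 a = 2⁻¹ * (PowerSeries.constantCoeff hp +
        PowerSeries.constantCoeff hq) := by
      rw [ha, hc2, PowerSeries.coeff_C_mul, map_add, coeff_one_X_mul, coeff_one_X_mul]
    have e2 : PowerSeries.constantCoeff d = 2⁻¹ * δ * (PowerSeries.constantCoeff hp ^ m +
        PowerSeries.constantCoeff hq ^ m) := by
      rw [hd, hc2]; simp
    rcases Nat.lt_or_ge m 2 with hlt | hge
    · -- m = 1
      have hm1 : m = 1 := by omega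
      subst hm1
      have he' : hp - hq = e := by
        apply mul_left_cancel₀ (PowerSeries.X_ne_zero (R := k))
        rw [pow_one] at he; rw [← he]; ring
      have e3 : PowerSeries.constantCoeff b = 2⁻¹ * (PowerSeries.constantCoeff hp -
          PowerSeries.constantCoeff hq) := by
        rw [hb, hc2, ← he']; simp
      have e4 : PowerSeries.coeff 1 c = 2⁻¹ * δ * (PowerSeries.constantCoeff hp -
          PowerSeries.constantCoeff hq) := by
        rw [hc, hc2, pow_one, pow_one, ← map_mul, PowerSeries.coeff_C_mul, map_sub,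
          coeff_one_X_mul, coeff_one_X_mul]
      rw [e1, e2, e3, e4, pow_one, pow_one]
      have : 2⁻¹ * (PowerSeries.constantCoeff hp + PowerSeries.constantCoeff hq) *
          (2⁻¹ * δ * (PowerSeries.constantCoeff hp + PowerSeries.constantCoeff hq)) -
          2⁻¹ * (PowerSeries.constantCoeff hp - PowerSeries.constantCoeff hq) *
          (2⁻¹ * δ * (PowerSeries.constantCoeff hp - PowerSeries.constantCoeff hq)) =
          δ * PowerSeries.constantCoeff hp * PowerSeries.constantCoeff hq := by
        field_simp; ring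
      rw [this]
      exact mul_ne_zero (mul_ne_zero hδ0 hlp) hlq
    · -- m ≥ 2
      obtain ⟨m', rfl⟩ : ∃ m', m = m' + 2 := ⟨m - 2, by omega⟩
      have e4 : PowerSeries.coeff 1 c = 0 := by
        rw [hc, mul_pow, mul_pow, ← mul_sub]
        have : c2 * PowerSeries.C δ * (PowerSeries.X ^ (m' + 2) * (hp ^ (m' + 2) - hq ^ (m' + 2))) =
            PowerSeries.X ^ (m' + 2) * (c2 * PowerSeries.C δ * (hp ^ (m' + 2) - hq ^ (m' + 2))) := by
          ring
        rw [this, PowerSeries.coeff_X_pow_mul']
        simp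
      have hpq : PowerSeries.constantCoeff hp = PowerSeries.constantCoeff hq := by
        have : hp - hq = PowerSeries.X ^ (m' + 1) * e := by
          apply mul_left_cancel₀ (PowerSeries.X_ne_zero (R := k))
          rw [← mul_assoc, ← pow_succ', ← he]; ring
        have h0 := congrArg PowerSeries.constantCoeff this
        simp at h0
        exact sub_eq_zero.mp h0
      rw [e1, e2, e4, mul_zero, sub_zero, hpq]
      have : 2⁻¹ * (PowerSeries.constantCoeff hq + PowerSeries.constantCoeff hq) *
          (2⁻¹ * δ * (PowerSeries.constantCoeff hq ^ (m' + 2) +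
            PowerSeries.constantCoeff hq ^ (m' + 2))) =
          δ * PowerSeries.constantCoeff hq ^ (m' + 3) := by
        field_simp; ring
      rw [this]
      exact mul_ne_zero hδ0 (pow_ne_zero _ hlq)
  obtain ⟨φ, hφx, hφy⟩ := exists_auto k r a b c d ha0 hc0 hD hrel
  exact ⟨φ, by rw [hφx, hPx], by rw [hφx, hMx], by rw [hφy, hPy], by rw [hφy, hMy]⟩

end Groth.Agent.Lib.Helper83.ArSingA
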