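import Groth.Agent.Lib.Helper83.ArSingV

set_option autoImplicit false

namespace Groth.Agent.Lib.Helper83.ArSingA

open ArSingP

universe u v
variable (k : Type u) [Field k]

/-- an involution of `k⟦X⟧` is trivial or has linear coefficient `-1`. -/
theorem invol_cases (h2 : (2 : k) ≠ 0) (α : PowerSeries k →ₐ[k] PowerSeries k)
    (hα : ∀ f, α (α f) = f) :
    α = AlgHom.id k _ ∨ PowerSeries.coeff 1 (α PowerSeries.X) = -1 := by
  have hcomp : α.comp α = AlgHom.id k _ := AlgHom.ext hα
  let σe : PowerSeries k ≃ₐ[k] PowerSeries k := AlgEquiv.ofAlgHom α α hcomp hcomp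
  obtain ⟨hξ, φ, -, hφ⟩ := Groth.Agent.S14080.result k h2 σe hα
  have hξ' : (PowerSeries.coeff 1 (α PowerSeries.X)) ^ 2 = 1 := hξ
  rcases sq_eq_sq_cases (v := (1 : k)) (by rw [hξ', one_pow]) with h | h
  · left
    apply AlgHom.ext
    intro f
    have h1 := hφ (φ.symm f)
    have hX : PowerSeries.coeff 1 (σe PowerSeries.X) = 1 := h
    rw [hX, PowerSeries.rescale_one, RingHom.id_apply, AlgEquiv.apply_symm_apply] at h1
    have h2 := congrArg φ h1
    rw [AlgEquiv.apply_symm_apply, AlgEquiv.apply_symm_apply] at h2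
    exact h2
  · right; exact h

/-- linear coefficient of `α f`. -/
theorem coeff_one_algHom (α : PowerSeries k →ₐ[k] PowerSeries k)
    (hα0 : PowerSeries.constantCoeff (α PowerSeries.X) = 0) (f : PowerSeries k)
    (hf : PowerSeries.constantCoeff f = 0) :
    PowerSeries.coeff 1 (α f) = PowerSeries.coeff 1 f * PowerSeries.coeff 1 (α PowerSeries.X) := by
  obtain ⟨f₁, rfl⟩ := PowerSeries.X_dvd_iff.mpr hf
  obtain ⟨a₁, ha₁⟩ := PowerSeries.X_dvd_iff.mpr hα0
  have hf₁ : PowerSeries.X ∣ f₁ - PowerSeries.C (PowerSeries.constantCoeff f₁) := by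
    rw [PowerSeries.X_dvd_iff]; simp
  obtain ⟨f₂, hf₂⟩ := hf₁
  have e : PowerSeries.X * f₁ = PowerSeries.C (PowerSeries.constantCoeff f₁) * PowerSeries.X +
      PowerSeries.X ^ 2 * f₂ := by
    have : f₁ = PowerSeries.C (PowerSeries.constantCoeff f₁) + PowerSeries.X * f₂ := by
      rw [← hf₂]; ring
    conv_lhs => rw [this]
    ring
  have hC : α (PowerSeries.C (PowerSeries.constantCoeff f₁)) =
      PowerSeries.C (PowerSeries.constantCoeff f₁) := by
    have : (PowerSeries.C (PowerSeries.constantCoeff f₁) : PowerSeries k) =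
        algebraMap k _ (PowerSeries.constantCoeff f₁) := rfl
    rw [this, AlgHom.commutes]
  rw [coeff_one_X_mul, e, map_add, map_mul, map_mul, map_pow, hC, ha₁, map_add,
    PowerSeries.coeff_C_mul, coeff_one_X_mul]
  have : (PowerSeries.X * a₁) ^ 2 * α f₂ = PowerSeries.X ^ 2 * (a₁ ^ 2 * α f₂) := by ring
  rw [this, PowerSeries.coeff_X_pow_mul']
  simp

end Groth.Agent.Lib.Helper83.ArSingA
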