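import Groth.Agent.Lib.Helper83.ArSingW

set_option autoImplicit false

namespace Groth.Agent.Lib.Helper83.ArSingA

open ArSingP

universe u v
variable (k : Type u) [Field k] (r : ℕ) (m : ℕ) (hrm : r + 1 = 2 * m)

local notation "ι" => ArSing.xMap k r
local notation "Y" => ArSing.y k r
local notation "P" => pP k r m hrm
local notation "M" => pM k r m hrm

lemma algHom_C (α : PowerSeries k →ₐ[k] PowerSeries k) (c : k) :
    α (PowerSeries.C c) = PowerSeries.C c := by
  have : (PowerSeries.C c : PowerSeries k) = algebraMap k _ c := rfl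
  rw [this, AlgHom.commutes]

lemma pP_algebraMap (c : k) : P (algebraMap k _ c) = PowerSeries.C c := by
  rw [AlgHom.commutes]; rfl

lemma pM_algebraMap (c : k) : M (algebraMap k _ c) = PowerSeries.C c := by
  rw [AlgHom.commutes]; rfl

/-- Case A (branches preserved, both linear coefficients `-1`). -/
theorem caseA_build (h2 : (2 : k) ≠ 0) (σ : ArSing.ring k r ≃ₐ[k] ArSing.ring k r)
    (α β : PowerSeries k →ₐ[k] PowerSeries k)
    (hP : ∀ z, P (σ z) = α (P z)) (hM : ∀ z, M (σ z) = β (M z))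
    (hαα : ∀ f, α (α f) = f) (hββ : ∀ f, β (β f) = f)
    (hξa : PowerSeries.coeff 1 (α PowerSeries.X) = -1)
    (hξb : PowerSeries.coeff 1 (β PowerSeries.X) = -1) :
    ∃ φ : ArSing.ring k r ≃ₐ[k] ArSing.ring k r,
      σ (φ (ArSing.x k r)) = -φ (ArSing.x k r) ∧ σ (φ Y) = (-1) ^ m * φ Y := by
  have hC := C_half_mul_two k h2
  have ha : α PowerSeries.X = P (σ (ArSing.x k r)) := by rw [hP, pP_x]
  have hb : β PowerSeries.X = M (σ (ArSing.x k r)) := by rw [hM, pM_x]
  have hσx := algEquiv_mem_max k r σ _ (x_mem_max k r)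
  have ha0 : PowerSeries.constantCoeff (α PowerSeries.X) = 0 := by
    rw [ha]; exact pP_cc k r m hrm _ hσx
  have hb0 : PowerSeries.constantCoeff (β PowerSeries.X) = 0 := by
    rw [hb]; exact pM_cc k r m hrm _ hσx
  obtain ⟨ga, hga⟩ := PowerSeries.X_dvd_iff.mpr ha0
  obtain ⟨gb, hgb⟩ := PowerSeries.X_dvd_iff.mpr hb0
  have hga0 : PowerSeries.constantCoeff ga = -1 := by rw [← coeff_one_X_mul, ← hga, hξa]
  have hgb0 : PowerSeries.constantCoeff gb = -1 := by rw [← coeff_one_X_mul, ← hgb, hξb]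
  set c2 : PowerSeries k := PowerSeries.C (2⁻¹ : k) with hc2
  set hp : PowerSeries k := c2 * (1 - ga) with hhp
  set hq : PowerSeries k := c2 * (1 - gb) with hhq
  have hp0 : PowerSeries.constantCoeff hp ≠ 0 := by
    rw [hhp, hc2, map_mul, map_sub, map_one, hga0, PowerSeries.constantCoeff_C]
    rw [sub_neg_eq_add, one_add_one_eq_two, inv_mul_cancel₀ h2]; exact one_ne_zero
  have hq0 : PowerSeries.constantCoeff hq ≠ 0 := by
    rw [hhq, hc2, map_mul, map_sub, map_one, hgb0, PowerSeries.constantCoeff_C]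
    rw [sub_neg_eq_add, one_add_one_eq_two, inv_mul_cancel₀ h2]; exact one_ne_zero
  have eP : PowerSeries.X * hp = c2 * (PowerSeries.X - α PowerSeries.X) := by
    rw [hhp, hga]; ring
  have eQ : PowerSeries.X * hq = c2 * (PowerSeries.X - β PowerSeries.X) := by
    rw [hhq, hgb]; ring
  have hdiv : PowerSeries.X ^ m ∣ PowerSeries.X * hp - PowerSeries.X * hq := by
    obtain ⟨e, he⟩ := branch_dvd k r m hrm (σ (ArSing.x k r))
    refine ⟨-(c2 * e), ?_⟩
    rw [eP, eQ, ha, hb]
    linear_combination (-c2) * he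
  obtain ⟨φ, h1, h2', h3, h4⟩ := build k r m hrm h2 hp hq hdiv hp0 hq0 1 (Or.inl rfl)
  rw [map_one, one_mul] at h3 h4
  have hαP : α (PowerSeries.X * hp) = -(PowerSeries.X * hp) := by
    rw [eP, map_mul, map_sub, hαα, hc2, algHom_C]; ring
  have hβQ : β (PowerSeries.X * hq) = -(PowerSeries.X * hq) := by
    rw [eQ, map_mul, map_sub, hββ, hc2, algHom_C]; ring
  refine ⟨φ, ?_, ?_⟩
  · apply branch_ext k r m hrm h2
    · rw [hP, h1, hαP, map_neg, h1]
    · rw [hM, h2', hβQ, map_neg, h2']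
  · apply branch_ext k r m hrm h2
    · rw [hP, h3, map_pow, hαP, map_mul, map_pow, map_neg, map_one, h3, neg_pow]
    · rw [hM, h4, map_neg, map_pow, hβQ, map_mul, map_pow, map_neg, map_one, h4, neg_pow]
      ring

/-- Case B (branches swapped). -/
theorem caseB_build (h2 : (2 : k) ≠ 0) (σ : ArSing.ring k r ≃ₐ[k] ArSing.ring k r)
    (α β : PowerSeries k →ₐ[k] PowerSeries k)
    (hP : ∀ z, P (σ z) = α (M z)) (hM : ∀ z, M (σ z) = β (P z))
    (hαβ : ∀ f, α (β f) = f) (hβα : ∀ f, β (α f) = f)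
    (ε : k) (hε : ε = 1 ∨ ε = -1)
    (hca : 1 + ε * PowerSeries.coeff 1 (α PowerSeries.X) ≠ 0)
    (hcb : 1 + ε * PowerSeries.coeff 1 (β PowerSeries.X) ≠ 0) :
    ∃ φ : ArSing.ring k r ≃ₐ[k] ArSing.ring k r,
      σ (φ (ArSing.x k r)) = algebraMap k _ ε * φ (ArSing.x k r) ∧
      σ (φ Y) = -(algebraMap k _ ε) ^ m * φ Y := by
  have hC := C_half_mul_two k h2
  have hε2 : (PowerSeries.C ε : PowerSeries k) * PowerSeries.C ε = 1 := by
    rcases hε with rfl | rfl <;> simp
  have ha : α PowerSeries.X = P (σ (ArSing.x k r)) := by rw [hP, pM_x]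
  have hb : β PowerSeries.X = M (σ (ArSing.x k r)) := by rw [hM, pP_x]
  have hσx := algEquiv_mem_max k r σ _ (x_mem_max k r)
  have ha0 : PowerSeries.constantCoeff (α PowerSeries.X) = 0 := by
    rw [ha]; exact pP_cc k r m hrm _ hσx
  have hb0 : PowerSeries.constantCoeff (β PowerSeries.X) = 0 := by
    rw [hb]; exact pM_cc k r m hrm _ hσx
  obtain ⟨ga, hga⟩ := PowerSeries.X_dvd_iff.mpr ha0
  obtain ⟨gb, hgb⟩ := PowerSeries.X_dvd_iff.mpr hb0
  have hga0 : PowerSeries.constantCoeff ga = PowerSeries.coeff 1 (α PowerSeries.X) := by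
    rw [← coeff_one_X_mul, ← hga]
  have hgb0 : PowerSeries.constantCoeff gb = PowerSeries.coeff 1 (β PowerSeries.X) := by
    rw [← coeff_one_X_mul, ← hgb]
  set c2 : PowerSeries k := PowerSeries.C (2⁻¹ : k) with hc2
  set cε : PowerSeries k := PowerSeries.C ε with hcε
  set hp : PowerSeries k := c2 * (1 + cε * ga) with hhp
  set hq : PowerSeries k := c2 * (1 + cε * gb) with hhq
  have hp0 : PowerSeries.constantCoeff hp ≠ 0 := by
    rw [hhp, hc2, hcε, map_mul, map_add, map_one, map_mul, hga0, PowerSeries.constantCoeff_C,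
      PowerSeries.constantCoeff_C]
    exact mul_ne_zero (inv_ne_zero h2) hca
  have hq0 : PowerSeries.constantCoeff hq ≠ 0 := by
    rw [hhq, hc2, hcε, map_mul, map_add, map_one, map_mul, hgb0, PowerSeries.constantCoeff_C,
      PowerSeries.constantCoeff_C]
    exact mul_ne_zero (inv_ne_zero h2) hcb
  have eP : PowerSeries.X * hp = c2 * (PowerSeries.X + cε * α PowerSeries.X) := by
    rw [hhp, hga]; ring
  have eQ : PowerSeries.X * hq = c2 * (PowerSeries.X + cε * β PowerSeries.X) := by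
    rw [hhq, hgb]; ring
  have hdiv : PowerSeries.X ^ m ∣ PowerSeries.X * hp - PowerSeries.X * hq := by
    obtain ⟨e, he⟩ := branch_dvd k r m hrm (σ (ArSing.x k r))
    refine ⟨c2 * cε * e, ?_⟩
    rw [eP, eQ, ha, hb]
    linear_combination (c2 * cε) * he
  obtain ⟨φ, h1, h2', h3, h4⟩ := build k r m hrm h2 hp hq hdiv hp0 hq0 1 (Or.inl rfl)
  rw [map_one, one_mul] at h3 h4
  have hαQ : α (PowerSeries.X * hq) = cε * (PowerSeries.X * hp) := by
    rw [eQ, eP, map_mul, map_add, map_mul, hαβ, hc2, hcε, algHom_C, algHom_C]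
    linear_combination (-(PowerSeries.C (2⁻¹ : k)) * α PowerSeries.X) * hε2
  have hβP : β (PowerSeries.X * hp) = cε * (PowerSeries.X * hq) := by
    rw [eQ, eP, map_mul, map_add, map_mul, hβα, hc2, hcε, algHom_C, algHom_C]
    linear_combination (-(PowerSeries.C (2⁻¹ : k)) * β PowerSeries.X) * hε2
  refine ⟨φ, ?_, ?_⟩
  · apply branch_ext k r m hrm h2
    · rw [hP, h2', hαQ, map_mul, pP_algebraMap, h1]
    · rw [hM, h1, hβP, map_mul, pM_algebraMap, h2']
  · apply branch_ext k r m hrm h2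
    · rw [hP, h4, map_neg, map_pow, hαQ, map_mul, map_neg, map_pow, pP_algebraMap, h3, mul_pow]
      ring
    · rw [hM, h3, map_pow, hβP, map_mul, map_neg, map_pow, pM_algebraMap, h4, mul_pow]
      ring

end Groth.Agent.Lib.Helper83.ArSingA
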