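import Groth.Agent.Lib.Helper83.ArSingX

set_option autoImplicit false

namespace Groth.Agent.Lib.Helper83.ArSingA

open ArSingP

universe u v
variable (k : Type u) [Field k] (r : ℕ)

local notation "ι" => ArSing.xMap k r
local notation "Y" => ArSing.y k r

lemma neg_one_pow_even' {A : Type*} [CommRing A] {m : ℕ} (he : Even m) : (-1 : A) ^ m = 1 :=
  he.neg_one_pow

lemma neg_one_pow_odd' {A : Type*} [CommRing A] {m : ℕ} (ho : Odd m) : (-1 : A) ^ m = -1 :=
  ho.neg_one_pow

lemma two_ne_zero_k_of (h2 : (2 : k) ≠ 0) : (1 : k) ≠ -1 := by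
  intro h
  apply h2
  have : (2 : k) = 1 + 1 := by norm_num
  rw [this]; nth_rewrite 1 [h]; ring

theorem main_S14082 (h2 : (2 : k) ≠ 0) (hodd : Odd r) (h3 : 3 ≤ r)
    (σ : ArSing.ring k r ≃ₐ[k] ArSing.ring k r) (hσ : ∀ a, σ (σ a) = a) (hne : σ ≠ AlgEquiv.refl) :
    ∃ φ : ArSing.ring k r ≃ₐ[k] ArSing.ring k r,
      (φ.symm (σ (φ (ArSing.x k r))) = ArSing.x k r ∧ φ.symm (σ (φ (ArSing.y k r))) = -ArSing.y k r) ∨
      (φ.symm (σ (φ (ArSing.x k r))) = -ArSing.x k r ∧ φ.symm (σ (φ (ArSing.y k r))) = ArSing.y k r) ∨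
      (φ.symm (σ (φ (ArSing.x k r))) = -ArSing.x k r ∧ φ.symm (σ (φ (ArSing.y k r))) = -ArSing.y k r) := by
  obtain ⟨m₀, hm₀⟩ := hodd
  obtain ⟨m, hm⟩ : ∃ m, m = m₀ + 1 := ⟨_, rfl⟩
  have hrm : r + 1 = 2 * m := by omega
  have hm2 : 2 ≤ m := by omega
  have h1ne := two_ne_zero_k_of k h2
  -- linear coefficients of the two branches agree
  have hlin : ∀ z, PowerSeries.coeff 1 (pP k r m hrm z) = PowerSeries.coeff 1 (pM k r m hrm z) := by
    intro z
    obtain ⟨e, he⟩ := branch_dvd k r m hrm z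
    have := congrArg (PowerSeries.coeff 1) he
    rw [PowerSeries.coeff_X_pow_mul', if_neg (by omega), map_sub, sub_eq_zero] at this
    exact this
  have hsymm : ∀ (φ : ArSing.ring k r ≃ₐ[k] ArSing.ring k r) (z w : ArSing.ring k r),
      σ (φ z) = φ w → φ.symm (σ (φ z)) = w := by
    intro φ z w h; rw [h, AlgEquiv.symm_apply_apply]
  rcases branch_dichotomy k r m hrm h2 σ with ⟨α, β, hP, hM⟩ | ⟨α, β, hP, hM⟩
  · -- Case A
    have hαα : ∀ f, α (α f) = f := by
      intro f; obtain ⟨z, rfl⟩ := pP_surjective k r m hrm f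
      rw [← hP, ← hP, hσ]
    have hββ : ∀ f, β (β f) = f := by
      intro f; obtain ⟨z, rfl⟩ := pM_surjective k r m hrm f
      rw [← hM, ← hM, hσ]
    have hab : PowerSeries.coeff 1 (α PowerSeries.X) = PowerSeries.coeff 1 (β PowerSeries.X) := by
      have := hlin (σ (ArSing.x k r))
      rwa [hP, hM, pP_x, pM_x] at this
    rcases invol_cases k h2 α hαα with ha | ha <;> rcases invol_cases k h2 β hββ with hb | hb
    · exfalso; apply hne
      ext z
      apply branch_ext k r m hrm h2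
      · rw [hP, ha]; rfl
      · rw [hM, hb]; rfl
    · exfalso
      rw [ha, hb] at hab
      simp at hab
      exact h1ne hab
    · exfalso
      rw [ha, hb] at hab
      simp at hab
      exact h1ne hab.symm
    · obtain ⟨φ, hφx, hφy⟩ := caseA_build k r m hrm h2 σ α β hP hM hαα hββ ha hb
      refine ⟨φ, ?_⟩
      rcases Nat.even_or_odd m with he | ho
      · right; left
        have hpow : ((-1 : ArSing.ring k r)) ^ m = 1 := neg_one_pow_even' he
        have hφy' : σ (φ Y) = φ Y := by rw [hφy, hpow]; ring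
        exact ⟨hsymm φ _ _ (by rw [hφx, map_neg]), hsymm φ _ _ hφy'⟩
      · right; right
        have hpow : ((-1 : ArSing.ring k r)) ^ m = -1 := neg_one_pow_odd' ho
        have hφy' : σ (φ Y) = -φ Y := by rw [hφy, hpow]; ring
        exact ⟨hsymm φ _ _ (by rw [hφx, map_neg]), hsymm φ _ _ (by rw [hφy', map_neg])⟩
  · -- Case B
    have hαβ : ∀ f, α (β f) = f := by
      intro f; obtain ⟨z, rfl⟩ := pP_surjective k r m hrm f
      rw [← hM, ← hP, hσ]
    have hβα : ∀ f, β (α f) = f := by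
      intro f; obtain ⟨z, rfl⟩ := pM_surjective k r m hrm f
      rw [← hP, ← hM, hσ]
    have hσx := algEquiv_mem_max k r σ _ (x_mem_max k r)
    have ha0 : PowerSeries.constantCoeff (α PowerSeries.X) = 0 := by
      have : α PowerSeries.X = pP k r m hrm (σ (ArSing.x k r)) := by rw [hP, pM_x]
      rw [this]; exact pP_cc k r m hrm _ hσx
    have hb0 : PowerSeries.constantCoeff (β PowerSeries.X) = 0 := by
      have : β PowerSeries.X = pM k r m hrm (σ (ArSing.x k r)) := by rw [hM, pP_x]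
      rw [this]; exact pM_cc k r m hrm _ hσx
    have hab : PowerSeries.coeff 1 (α PowerSeries.X) = PowerSeries.coeff 1 (β PowerSeries.X) := by
      have := hlin (σ (ArSing.x k r))
      rwa [hP, hM, pP_x, pM_x] at this
    have hprod : PowerSeries.coeff 1 (β PowerSeries.X) * PowerSeries.coeff 1 (α PowerSeries.X) = 1 := by
      rw [← coeff_one_algHom k α ha0 _ hb0, hαβ]; simp
    rw [← hab] at hprod
    have hsq : PowerSeries.coeff 1 (α PowerSeries.X) ^ 2 = 1 ^ 2 := by rw [one_pow, sq]; exact hprod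
    have hε := sq_eq_sq_cases hsq
    have hca : 1 + PowerSeries.coeff 1 (α PowerSeries.X) * PowerSeries.coeff 1 (α PowerSeries.X) ≠ 0 := by
      rw [hprod, one_add_one_eq_two]; exact h2
    obtain ⟨φ, hφx, hφy⟩ := caseB_build k r m hrm h2 σ α β hP hM hαβ hβα
      (PowerSeries.coeff 1 (α PowerSeries.X)) hε hca (by rw [← hab]; exact hca)
    refine ⟨φ, ?_⟩
    rcases hε with h1 | h1
    · left
      have hφx' : σ (φ (ArSing.x k r)) = φ (ArSing.x k r) := by
        rw [hφx, h1, map_one]; ring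
      have hφy' : σ (φ Y) = -φ Y := by
        rw [hφy, h1, map_one]; ring
      exact ⟨hsymm φ _ _ hφx', hsymm φ _ _ (by rw [hφy', map_neg])⟩
    · have hφx' : σ (φ (ArSing.x k r)) = -φ (ArSing.x k r) := by
        rw [hφx, h1, map_neg, map_one]; ring
      rcases Nat.even_or_odd m with he | ho
      · right; right
        have hpow : ((-1 : ArSing.ring k r)) ^ m = 1 := neg_one_pow_even' he
        have hφy' : σ (φ Y) = -φ Y := by
          rw [hφy, h1, map_neg, map_one, hpow]; ring
        exact ⟨hsymm φ _ _ (by rw [hφx', map_neg]), hsymm φ _ _ (by rw [hφy', map_neg])⟩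
      · right; left
        have hpow : ((-1 : ArSing.ring k r)) ^ m = -1 := neg_one_pow_odd' ho
        have hφy' : σ (φ Y) = φ Y := by
          rw [hφy, h1, map_neg, map_one, hpow]; ring
        exact ⟨hsymm φ _ _ (by rw [hφx', map_neg]), hsymm φ _ _ hφy'⟩

end Groth.Agent.Lib.Helper83.ArSingA
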