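import Groth.Agent.Lib.Helper83.ArSingY

set_option autoImplicit false

namespace Groth.Agent.Lib.Helper83.ArSingA

open ArSingP

universe u v
variable (k : Type u) [Field k]

local notation "S" => ArSing.ring k 1
local notation "x" => ArSing.x k 1
local notation "y" => ArSing.y k 1
local notation "P" => pP k 1 1 rfl
local notation "M" => pM k 1 1 rfl

/-- the anti-invariant uniformiser attached to an involution with linear coefficient `-1`. -/
lemma exists_anti (h2 : (2 : k) ≠ 0) (α : PowerSeries k →ₐ[k] PowerSeries k)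
    (a' : PowerSeries k) (ha' : α a' = PowerSeries.X) (haX : α PowerSeries.X = a')
    (ha0 : PowerSeries.constantCoeff a' = 0) (hξ : PowerSeries.coeff 1 a' = -1) :
    ∃ hp : PowerSeries k, PowerSeries.constantCoeff hp ≠ 0 ∧
      PowerSeries.X * hp = PowerSeries.C (2⁻¹ : k) * (PowerSeries.X - a') ∧
      α (PowerSeries.C (2⁻¹ : k) * (PowerSeries.X - a')) =
        -(PowerSeries.C (2⁻¹ : k) * (PowerSeries.X - a')) := by
  obtain ⟨g, hg⟩ := PowerSeries.X_dvd_iff.mpr ha0
  have hg0 : PowerSeries.constantCoeff g = -1 := by rw [← coeff_one_X_mul, ← hg, hξ]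
  refine ⟨PowerSeries.C (2⁻¹ : k) * (1 - g), ?_, ?_, ?_⟩
  · rw [map_mul, map_sub, map_one, hg0, PowerSeries.constantCoeff_C, sub_neg_eq_add,
      one_add_one_eq_two, inv_mul_cancel₀ h2]
    exact one_ne_zero
  · rw [hg]; ring
  · rw [map_mul, map_sub, haX, ha', algHom_C]; ring

theorem main_S14083 (h2 : (2 : k) ≠ 0)
    (σ : ArSing.ring k 1 ≃ₐ[k] ArSing.ring k 1) (hσ : ∀ a, σ (σ a) = a) (hne : σ ≠ AlgEquiv.refl) :
    ∃ φ : ArSing.ring k 1 ≃ₐ[k] ArSing.ring k 1,
      (φ.symm (σ (φ (ArSing.x k 1))) = ArSing.x k 1 ∧ φ.symm (σ (φ (ArSing.y k 1))) = -ArSing.y k 1) ∨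
      (φ.symm (σ (φ (ArSing.x k 1))) = -ArSing.x k 1 ∧ φ.symm (σ (φ (ArSing.y k 1))) = -ArSing.y k 1) ∨
      (φ.symm (σ (φ (ArSing.x k 1))) = ArSing.y k 1 ∧ φ.symm (σ (φ (ArSing.y k 1))) = ArSing.x k 1) := by
  have h1ne := two_ne_zero_k_of k h2
  have hsymm : ∀ (φ : S ≃ₐ[k] S) (z w : S), σ (φ z) = φ w → φ.symm (σ (φ z)) = w := by
    intro φ z w h; rw [h, AlgEquiv.symm_apply_apply]
  have hσx := algEquiv_mem_max k 1 σ _ (x_mem_max k 1)
  have hdiv1 : ∀ p q : PowerSeries k, PowerSeries.X ^ 1 ∣ PowerSeries.X * p - PowerSeries.X * q :=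
    fun p q => ⟨p - q, by ring⟩
  rcases branch_dichotomy k 1 1 rfl h2 σ with ⟨α, β, hP, hM⟩ | ⟨α, β, hP, hM⟩
  · -- Case A
    have hαα : ∀ f, α (α f) = f := by
      intro f; obtain ⟨z, rfl⟩ := pP_surjective k 1 1 rfl f
      rw [← hP, ← hP, hσ]
    have hββ : ∀ f, β (β f) = f := by
      intro f; obtain ⟨z, rfl⟩ := pM_surjective k 1 1 rfl f
      rw [← hM, ← hM, hσ]
    have ha0 : PowerSeries.constantCoeff (α PowerSeries.X) = 0 := by
      have : α PowerSeries.X = P (σ x) := by rw [hP, pP_x]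
      rw [this]; exact pP_cc k 1 1 rfl _ hσx
    have hb0 : PowerSeries.constantCoeff (β PowerSeries.X) = 0 := by
      have : β PowerSeries.X = M (σ x) := by rw [hM, pM_x]
      rw [this]; exact pM_cc k 1 1 rfl _ hσx
    rcases invol_cases k h2 α hαα with ha | ha <;> rcases invol_cases k h2 β hββ with hb | hb
    · exfalso; apply hne
      ext z
      apply branch_ext k 1 1 rfl h2
      · rw [hP, ha]; rfl
      · rw [hM, hb]; rfl
    · -- α = id, β nontrivial: swap form
      obtain ⟨hq, hq0, eQ, hβQ⟩ := exists_anti k h2 β (β PowerSeries.X) (hββ _) rfl hb0 hb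
      obtain ⟨φ, h1, h2', h3, h4⟩ := build k 1 1 rfl h2 1 hq (hdiv1 _ _) (by simp) hq0 1
        (Or.inl rfl)
      rw [map_one, one_mul, pow_one] at h3 h4
      rw [← eQ] at hβQ
      refine ⟨φ, Or.inr (Or.inr ⟨hsymm φ _ _ ?_, hsymm φ _ _ ?_⟩)⟩
      · apply branch_ext k 1 1 rfl h2
        · rw [hP, h1, ha, h3]; rfl
        · rw [hM, h2', hβQ, h4]
      · apply branch_ext k 1 1 rfl h2
        · rw [hP, h3, ha, h1]; rfl
        · rw [hM, h4, map_neg, hβQ, neg_neg, h2']
    · -- α nontrivial, β = id: swap form with δ = -1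
      obtain ⟨hp, hp0, eP, hαP⟩ := exists_anti k h2 α (α PowerSeries.X) (hαα _) rfl ha0 ha
      obtain ⟨φ, h1, h2', h3, h4⟩ := build k 1 1 rfl h2 hp 1 (hdiv1 _ _) hp0 (by simp) (-1)
        (Or.inr rfl)
      rw [map_neg, map_one, pow_one] at h3 h4
      rw [← eP] at hαP
      refine ⟨φ, Or.inr (Or.inr ⟨hsymm φ _ _ ?_, hsymm φ _ _ ?_⟩)⟩
      · apply branch_ext k 1 1 rfl h2
        · rw [hP, h1, hαP, h3]; ring
        · rw [hM, h2', hb, h4]
          simp
      · apply branch_ext k 1 1 rfl h2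
        · rw [hP, h3, map_mul, map_neg, map_one, hαP, h1]; ring
        · rw [hM, h4, hb, h2']
          simp
    · obtain ⟨φ, hφx, hφy⟩ := caseA_build k 1 1 rfl h2 σ α β hP hM hαα hββ ha hb
      refine ⟨φ, Or.inr (Or.inl ⟨hsymm φ _ _ (by rw [hφx, map_neg]), hsymm φ _ _ ?_⟩)⟩
      rw [hφy, map_neg]; ring
  · -- Case B
    have hαβ : ∀ f, α (β f) = f := by
      intro f; obtain ⟨z, rfl⟩ := pP_surjective k 1 1 rfl f
      rw [← hM, ← hP, hσ]
    have hβα : ∀ f, β (α f) = f := by
      intro f; obtain ⟨z, rfl⟩ := pM_surjective k 1 1 rfl f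
      rw [← hP, ← hM, hσ]
    have ha0 : PowerSeries.constantCoeff (α PowerSeries.X) = 0 := by
      have : α PowerSeries.X = P (σ x) := by rw [hP, pM_x]
      rw [this]; exact pP_cc k 1 1 rfl _ hσx
    have hb0 : PowerSeries.constantCoeff (β PowerSeries.X) = 0 := by
      have : β PowerSeries.X = M (σ x) := by rw [hM, pP_x]
      rw [this]; exact pM_cc k 1 1 rfl _ hσx
    have hprod : PowerSeries.coeff 1 (β PowerSeries.X) * PowerSeries.coeff 1 (α PowerSeries.X) = 1 := by
      rw [← coeff_one_algHom k α ha0 _ hb0, hαβ]; simp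
    by_cases hla : PowerSeries.coeff 1 (α PowerSeries.X) = -1
    · -- both linear coefficients are -1: swapped construction
      have hlb : PowerSeries.coeff 1 (β PowerSeries.X) = -1 := by
        rw [hla] at hprod
        have : PowerSeries.coeff 1 (β PowerSeries.X) = -(PowerSeries.coeff 1 (β PowerSeries.X) * -1) := by
          ring
        rw [this, hprod]
      -- τ₊ = ½(X - a), τ₋ = ½(X - b)
      obtain ⟨ga, hga⟩ := PowerSeries.X_dvd_iff.mpr ha0
      obtain ⟨gb, hgb⟩ := PowerSeries.X_dvd_iff.mpr hb0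
      have hga0 : PowerSeries.constantCoeff ga = -1 := by rw [← coeff_one_X_mul, ← hga, hla]
      have hgb0 : PowerSeries.constantCoeff gb = -1 := by rw [← coeff_one_X_mul, ← hgb, hlb]
      set c2 : PowerSeries k := PowerSeries.C (2⁻¹ : k) with hc2
      set hp : PowerSeries k := c2 * (1 - ga) with hhp
      set hq : PowerSeries k := c2 * (1 - gb) with hhq
      have hp0 : PowerSeries.constantCoeff hp ≠ 0 := by
        rw [hhp, hc2, map_mul, map_sub, map_one, hga0, PowerSeries.constantCoeff_C]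
        rw [sub_neg_eq_add, one_add_one_eq_two, inv_mul_cancel₀ h2]; exact one_ne_zero
      have hq0 : PowerSeries.constantCoeff (-hq) ≠ 0 := by
        rw [map_neg, hhq, hc2, map_mul, map_sub, map_one, hgb0, PowerSeries.constantCoeff_C]
        rw [sub_neg_eq_add, one_add_one_eq_two, inv_mul_cancel₀ h2]; simp
      have eP : PowerSeries.X * hp = c2 * (PowerSeries.X - α PowerSeries.X) := by
        rw [hhp, hga]; ring
      have eQ : PowerSeries.X * hq = c2 * (PowerSeries.X - β PowerSeries.X) := by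
        rw [hhq, hgb]; ring
      have hαQ : α (PowerSeries.X * hq) = -(PowerSeries.X * hp) := by
        rw [eQ, eP, map_mul, map_sub, hαβ, hc2, algHom_C]; ring
      have hβP : β (PowerSeries.X * hp) = -(PowerSeries.X * hq) := by
        rw [eQ, eP, map_mul, map_sub, hβα, hc2, algHom_C]; ring
      obtain ⟨φ, h1, h2', h3, h4⟩ := build k 1 1 rfl h2 hp (-hq) (hdiv1 _ _) hp0 hq0 1
        (Or.inl rfl)
      rw [map_one, one_mul, pow_one] at h3 h4
      have e1 : PowerSeries.X * -hq = -(PowerSeries.X * hq) := by ring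
      rw [e1] at h2' h4
      rw [neg_neg] at h4
      refine ⟨φ, Or.inl ⟨hsymm φ _ _ ?_, hsymm φ _ _ ?_⟩⟩
      · apply branch_ext k 1 1 rfl h2
        · rw [hP, h2', map_neg, hαQ, neg_neg, h1]
        · rw [hM, h1, hβP, h2']
      · apply branch_ext k 1 1 rfl h2
        · rw [hP, h4, hαQ, map_neg, map_neg, h3]
        · rw [hM, h3, hβP, map_neg, map_neg, h4]
    · -- ε = 1
      have hca : 1 + (1 : k) * PowerSeries.coeff 1 (α PowerSeries.X) ≠ 0 := by
        rw [one_mul]; intro h; apply hla; linear_combination h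
      have hcb : 1 + (1 : k) * PowerSeries.coeff 1 (β PowerSeries.X) ≠ 0 := by
        rw [one_mul]; intro h
        have hb : PowerSeries.coeff 1 (β PowerSeries.X) = -1 := by linear_combination h
        rw [hb] at hprod
        apply hla; linear_combination -hprod
      obtain ⟨φ, hφx, hφy⟩ := caseB_build k 1 1 rfl h2 σ α β hP hM hαβ hβα 1 (Or.inl rfl) hca hcb
      have hφx' : σ (φ x) = φ x := by rw [hφx, map_one]; ring
      have hφy' : σ (φ y) = -φ y := by rw [hφy, map_one]; ring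
      exact ⟨φ, Or.inl ⟨hsymm φ _ _ hφx', hsymm φ _ _ (by rw [hφy', map_neg])⟩⟩

end Groth.Agent.Lib.Helper83.ArSingA
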