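import Mathlib

set_option autoImplicit false

namespace Groth.Agent.Lib.Helper83.BLPoints

universe u

section Ring

variable {A A' : Type u} [CommRing A] [CommRing A'] (φ : A →+* A') (t : A)
  (hq : ∀ m : ℕ, Function.Bijective
    (Ideal.quotientMap (Ideal.map φ (Ideal.span {t} ^ m)) φ Ideal.le_comap_map))
  (htor : ∀ a' : A', (∃ m : ℕ, φ t ^ m * a' = 0) →
    ∃! a : A, (∃ m : ℕ, t ^ m * a = 0) ∧ φ a = a')

include hq in
theorem mem_of_map_mem (k : ℕ) (x : A) (hx : φ x ∈ Ideal.span {φ t ^ k}) :
    x ∈ Ideal.span {t ^ k} := by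
  have hmap : Ideal.map φ (Ideal.span {t} ^ k) = Ideal.span {φ t ^ k} := by
    rw [Ideal.span_singleton_pow, Ideal.map_span, Set.image_singleton, map_pow]
  have h1 : Ideal.quotientMap (Ideal.map φ (Ideal.span {t} ^ k)) φ Ideal.le_comap_map
      (Ideal.Quotient.mk _ x) = 0 := by
    rw [Ideal.quotientMap_mk, Ideal.Quotient.eq_zero_iff_mem, hmap]; exact hx
  have h2 := (hq k).1 (h1.trans (map_zero _).symm)
  rw [Ideal.Quotient.eq_zero_iff_mem, Ideal.span_singleton_pow] at h2
  exact h2

include htor in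
theorem eq_zero_of_tor (d : A) (hd : ∃ m : ℕ, t ^ m * d = 0) (hφ : φ d = 0) : d = 0 := by
  obtain ⟨a, -, hu⟩ := htor 0 ⟨0, by simp⟩
  have h1 := hu d ⟨hd, hφ⟩
  have h2 := hu 0 ⟨⟨0, by simp⟩, map_zero _⟩
  rw [h1, h2]

include hq htor in
/-- the Beauville–Laszlo fibre square, at the level of elements. -/
theorem fibre_square (a' : A') (b : Localization.Away t)
    (h : algebraMap A' (Localization.Away (φ t)) a' = Localization.awayMap φ t b) :
    ∃ a : A, φ a = a' ∧ algebraMap A (Localization.Away t) a = b := by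
  obtain ⟨k, c, hc⟩ := IsLocalization.Away.surj t b
  -- b * t^k = c
  have h1 : algebraMap A' (Localization.Away (φ t)) (φ c) =
      algebraMap A' (Localization.Away (φ t)) (φ t ^ k * a') := by
    have hmap : ∀ x : A, Localization.awayMap φ t (algebraMap A (Localization.Away t) x) =
        algebraMap A' (Localization.Away (φ t)) (φ x) := by
      intro x
      rw [Localization.awayMap, IsLocalization.Away.map, IsLocalization.map_eq]
    rw [← hmap c, ← hc, map_mul, map_mul, h, map_pow, hmap, map_pow]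
    ring
  obtain ⟨⟨_, j, rfl⟩, hj⟩ := IsLocalization.exists_of_eq (M := Submonoid.powers (φ t)) h1
  simp only at hj
  have htor' : ∃ m : ℕ, φ t ^ m * (φ c - φ t ^ k * a') = 0 := ⟨j, by rw [mul_sub, hj, sub_self]⟩
  obtain ⟨τ, ⟨hτ1, hτ2⟩, -⟩ := htor _ htor'
  have h2 : φ (c - τ) ∈ Ideal.span {φ t ^ k} := by
    rw [map_sub, hτ2, Ideal.mem_span_singleton']
    exact ⟨a', by ring⟩
  obtain ⟨a₀, ha₀⟩ := Ideal.mem_span_singleton'.mp (mem_of_map_mem φ t hq k _ h2)
  -- a₀ * t^k = c - τ
  have h3 : ∃ m : ℕ, φ t ^ m * (a' - φ a₀) = 0 := by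
    refine ⟨k, ?_⟩
    have := congrArg φ ha₀
    rw [map_mul, map_pow, map_sub, hτ2] at this
    linear_combination -this
  obtain ⟨τ₂, ⟨hτ21, hτ22⟩, -⟩ := htor _ h3
  have hloc : ∀ d : A, (∃ m : ℕ, t ^ m * d = 0) → algebraMap A (Localization.Away t) d = 0 := by
    rintro d ⟨m, hm⟩
    have hu : IsUnit (algebraMap A (Localization.Away t) (t ^ m)) := by
      rw [map_pow]; exact (IsLocalization.Away.algebraMap_isUnit t).pow m
    have := congrArg (algebraMap A (Localization.Away t)) hm
    rw [map_mul, map_zero] at this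
    exact (hu.mul_right_eq_zero).mp this
  refine ⟨a₀ + τ₂, by rw [map_add, hτ22]; ring, ?_⟩
  rw [map_add, hloc τ₂ hτ21, add_zero]
  have hu : IsUnit (algebraMap A (Localization.Away t) (t ^ k)) := by
    rw [map_pow]; exact (IsLocalization.Away.algebraMap_isUnit t).pow k
  apply hu.mul_left_injective
  simp only
  rw [← map_mul, ha₀, map_sub, hloc τ hτ1, sub_zero, ← hc, map_pow]

include htor in
theorem fibre_square_unique (a₁ a₂ : A) (h1 : φ a₁ = φ a₂)
    (h2 : algebraMap A (Localization.Away t) a₁ = algebraMap A (Localization.Away t) a₂) :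
    a₁ = a₂ := by
  obtain ⟨⟨_, m, rfl⟩, hm⟩ := IsLocalization.exists_of_eq (M := Submonoid.powers t) h2
  simp only at hm
  have : a₁ - a₂ = 0 := eq_zero_of_tor φ t htor (a₁ - a₂) ⟨m, by rw [mul_sub, hm, sub_self]⟩
    (by rw [map_sub, h1, sub_self])
  exact sub_eq_zero.mp this

include hq htor in
/-- gluing ring homomorphisms along the fibre square. -/
theorem exists_ringHom {Γ : Type u} [CommRing Γ] (f' : Γ →+* A') (ft : Γ →+* Localization.Away t)
    (h : (algebraMap A' (Localization.Away (φ t))).comp f' = (Localization.awayMap φ t).comp ft) :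
    ∃ f : Γ →+* A, φ.comp f = f' ∧ (algebraMap A (Localization.Away t)).comp f = ft := by
  have hx : ∀ x : Γ, ∃ a : A, φ a = f' x ∧ algebraMap A (Localization.Away t) a = ft x :=
    fun x => fibre_square φ t hq htor (f' x) (ft x) (congrArg (fun ρ : Γ →+* _ => ρ x) h)
  choose g hg1 hg2 using hx
  have huniq : ∀ a₁ a₂ : A, φ a₁ = φ a₂ → algebraMap A (Localization.Away t) a₁ =
      algebraMap A (Localization.Away t) a₂ → a₁ = a₂ := fibre_square_unique φ t htor
  refine ⟨{ toFun := g, map_one' := ?_, map_mul' := ?_, map_zero' := ?_, map_add' := ?_ }, ?_, ?_⟩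
  · apply huniq <;> simp [hg1, hg2]
  · intro x y; apply huniq <;> simp [hg1, hg2]
  · apply huniq <;> simp [hg1, hg2]
  · intro x y; apply huniq <;> simp [hg1, hg2]
  · ext x; exact hg1 x
  · ext x; exact hg2 x

include hq in
/-- joint surjectivity on spectra. -/
theorem exists_prime (y : PrimeSpectrum A) :
    (∃ y' : PrimeSpectrum A', PrimeSpectrum.comap φ y' = y) ∨
    (∃ z : PrimeSpectrum (Localization.Away t),
      PrimeSpectrum.comap (algebraMap A (Localization.Away t)) z = y) := by
  by_cases ht : t ∈ y.asIdeal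
  · left
    have hb := hq 1
    rw [pow_one] at hb
    let e := RingEquiv.ofBijective _ hb
    have hker : RingHom.ker (Ideal.Quotient.mk (Ideal.span {t})) ≤ y.asIdeal := by
      rw [Ideal.mk_ker, Ideal.span_le, Set.singleton_subset_iff]; exact ht
    have hprime : (Ideal.map (Ideal.Quotient.mk (Ideal.span {t})) y.asIdeal).IsPrime :=
      Ideal.map_isPrime_of_surjective Ideal.Quotient.mk_surjective hker
    let ybar : PrimeSpectrum (A ⧸ Ideal.span {t}) := ⟨_, hprime⟩
    refine ⟨PrimeSpectrum.comap (Ideal.Quotient.mk _) (PrimeSpectrum.comap e.symm.toRingHom ybar), ?_⟩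
    ext x
    simp only [PrimeSpectrum.comap_asIdeal, Ideal.mem_comap]
    have h1 : e.symm.toRingHom (Ideal.Quotient.mk _ (φ x)) = Ideal.Quotient.mk _ x := by
      have : Ideal.Quotient.mk (Ideal.map φ (Ideal.span {t})) (φ x) = e (Ideal.Quotient.mk _ x) := by
        simp [e]
      rw [this]; simp
    rw [h1]
    show Ideal.Quotient.mk _ x ∈ Ideal.map (Ideal.Quotient.mk (Ideal.span {t})) y.asIdeal ↔ _
    rw [Ideal.mem_map_iff_of_surjective _ Ideal.Quotient.mk_surjective]
    constructor
    · rintro ⟨x', hx', hxx'⟩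
      rw [Ideal.Quotient.eq] at hxx'
      have : x = x' - (x' - x) := by ring
      rw [this]
      exact Ideal.sub_mem _ hx' (hker (by rw [Ideal.mk_ker]; exact hxx'))
    · intro hx; exact ⟨x, hx, rfl⟩
  · right
    have hr := PrimeSpectrum.localization_away_comap_range (Localization.Away t) t
    have : y ∈ Set.range (PrimeSpectrum.comap (algebraMap A (Localization.Away t))) := by
      rw [hr]; exact ht
    exact this

end Ring

end Groth.Agent.Lib.Helper83.BLPoints
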