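import Mathlib
import Groth.Agent.Lib.Helper83.BLPoints1

set_option autoImplicit false

namespace Groth.Agent.Lib.Helper83.BLPoints

open CategoryTheory AlgebraicGeometry

universe u

theorem main_S15769 (A A' : Type u) [CommRing A] [CommRing A']
    (φ : A →+* A') (t : A)
    (hq : ∀ m : ℕ, Function.Bijective (Ideal.quotientMap (Ideal.map φ (Ideal.span {t} ^ m)) φ Ideal.le_comap_map))
    (htor : ∀ a' : A', (∃ m : ℕ, φ t ^ m * a' = 0) → ∃! a : A, (∃ m : ℕ, t ^ m * a = 0) ∧ φ a = a')
    (X : Scheme.{u}) [X.IsQuasiAffine] (p : X ⟶ Spec (CommRingCat.of A)) :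
    (∀ s₁ s₂ : Spec (CommRingCat.of A) ⟶ X, s₁ ≫ p = 𝟙 _ → s₂ ≫ p = 𝟙 _ →
        Spec.map (CommRingCat.ofHom φ) ≫ s₁ = Spec.map (CommRingCat.ofHom φ) ≫ s₂ →
        Spec.map (CommRingCat.ofHom (algebraMap A (Localization.Away t))) ≫ s₁ =
          Spec.map (CommRingCat.ofHom (algebraMap A (Localization.Away t))) ≫ s₂ →
        s₁ = s₂) ∧
    (∀ (x' : Spec (CommRingCat.of A') ⟶ X) (xt : Spec (CommRingCat.of (Localization.Away t)) ⟶ X),
        x' ≫ p = Spec.map (CommRingCat.ofHom φ) →
        xt ≫ p = Spec.map (CommRingCat.ofHom (algebraMap A (Localization.Away t))) →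
        Spec.map (CommRingCat.ofHom (algebraMap A' (Localization.Away (φ t)))) ≫ x' =
          Spec.map (CommRingCat.ofHom (Localization.awayMap φ t)) ≫ xt →
        ∃ s : Spec (CommRingCat.of A) ⟶ X, s ≫ p = 𝟙 _ ∧
          Spec.map (CommRingCat.ofHom φ) ≫ s = x' ∧
          Spec.map (CommRingCat.ofHom (algebraMap A (Localization.Away t))) ≫ s = xt) := by
  -- two Spec-morphisms out of `Spec A` agreeing on both pieces agree
  have hsep : ∀ (Γ : CommRingCat.{u}) (f₁ f₂ : Spec (CommRingCat.of A) ⟶ Spec Γ),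
      Spec.map (CommRingCat.ofHom φ) ≫ f₁ = Spec.map (CommRingCat.ofHom φ) ≫ f₂ →
      Spec.map (CommRingCat.ofHom (algebraMap A (Localization.Away t))) ≫ f₁ =
        Spec.map (CommRingCat.ofHom (algebraMap A (Localization.Away t))) ≫ f₂ → f₁ = f₂ := by
    intro Γ f₁ f₂ h1 h2
    rw [← Spec.map_preimage f₁, ← Spec.map_preimage f₂] at h1 h2 ⊢
    rw [← Spec.map_comp, ← Spec.map_comp, Spec.map_inj] at h1 h2
    congr 1
    ext x
    apply fibre_square_unique φ t htor
    · exact congrArg (fun ρ : Γ ⟶ CommRingCat.of A' => ρ.hom x) h1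
    · exact congrArg (fun ρ : Γ ⟶ CommRingCat.of (Localization.Away t) => ρ.hom x) h2
  refine ⟨?_, ?_⟩
  · intro s₁ s₂ _ _ h1 h2
    have : s₁ ≫ X.toSpecΓ = s₂ ≫ X.toSpecΓ := by
      apply hsep
      · rw [← Category.assoc, h1, Category.assoc]
      · rw [← Category.assoc, h2, Category.assoc]
    exact (cancel_mono X.toSpecΓ).mp this
  · intro x' xt hx' hxt hcompat
    -- ring homs
    set f' := Spec.preimage (x' ≫ X.toSpecΓ) with hf'
    set ft := Spec.preimage (xt ≫ X.toSpecΓ) with hft
    have hcomp : (algebraMap A' (Localization.Away (φ t))).comp f'.hom =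
        (Localization.awayMap φ t).comp ft.hom := by
      have h1 : Spec.map (CommRingCat.ofHom (algebraMap A' (Localization.Away (φ t)))) ≫
          Spec.map f' = Spec.map (CommRingCat.ofHom (Localization.awayMap φ t)) ≫ Spec.map ft := by
        rw [hf', hft, Spec.map_preimage, Spec.map_preimage, ← Category.assoc, hcompat,
          Category.assoc]
      rw [← Spec.map_comp, ← Spec.map_comp, Spec.map_inj] at h1
      have := congrArg CommRingCat.Hom.hom h1
      simpa using this
    obtain ⟨f, hf1, hf2⟩ := exists_ringHom φ t hq htor f'.hom ft.hom hcomp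
    set sbar : Spec (CommRingCat.of A) ⟶ Spec Γ(X, ⊤) := Spec.map (CommRingCat.ofHom f) with hsbar
    have hs1 : Spec.map (CommRingCat.ofHom φ) ≫ sbar = x' ≫ X.toSpecΓ := by
      rw [hsbar, ← Spec.map_comp, ← Spec.map_preimage (x' ≫ X.toSpecΓ)]
      congr 1
      ext x
      exact congrArg (fun ρ : _ →+* A' => ρ x) hf1
    have hs2 : Spec.map (CommRingCat.ofHom (algebraMap A (Localization.Away t))) ≫ sbar =
        xt ≫ X.toSpecΓ := by
      rw [hsbar, ← Spec.map_comp, ← Spec.map_preimage (xt ≫ X.toSpecΓ)]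
      congr 1
      ext x
      exact congrArg (fun ρ : _ →+* Localization.Away t => ρ x) hf2
    have hrange : Set.range sbar ⊆ Set.range X.toSpecΓ := by
      rintro _ ⟨y, rfl⟩
      rcases exists_prime φ t hq y with ⟨y', hy'⟩ | ⟨z, hz⟩
      · let y'' : ↥(Spec (CommRingCat.of A')) := y'
        refine ⟨x' y'', ?_⟩
        have h3 : (x' ≫ X.toSpecΓ) y'' = (Spec.map (CommRingCat.ofHom φ) ≫ sbar) y'' := by
          rw [hs1]
        refine h3.trans ?_
        show sbar ((Spec.map (CommRingCat.ofHom φ)) y'') = sbar y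
        congr 1
      · let z' : ↥(Spec (CommRingCat.of (Localization.Away t))) := z
        refine ⟨xt z', ?_⟩
        have h3 : (xt ≫ X.toSpecΓ) z' =
            (Spec.map (CommRingCat.ofHom (algebraMap A (Localization.Away t))) ≫ sbar) z' := by
          rw [hs2]
        refine h3.trans ?_
        show sbar ((Spec.map (CommRingCat.ofHom (algebraMap A (Localization.Away t)))) z') = sbar y
        congr 1
    set s := IsOpenImmersion.lift X.toSpecΓ sbar hrange with hs
    have hsfac : s ≫ X.toSpecΓ = sbar := IsOpenImmersion.lift_fac _ _ _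
    have hsx' : Spec.map (CommRingCat.ofHom φ) ≫ s = x' := by
      apply (cancel_mono X.toSpecΓ).mp
      rw [Category.assoc, hsfac, hs1]
    have hsxt : Spec.map (CommRingCat.ofHom (algebraMap A (Localization.Away t))) ≫ s = xt := by
      apply (cancel_mono X.toSpecΓ).mp
      rw [Category.assoc, hsfac, hs2]
    refine ⟨s, ?_, hsx', hsxt⟩
    apply hsep
    · rw [← Category.assoc, hsx', hx', Category.comp_id]
    · rw [← Category.assoc, hsxt, hxt, Category.comp_id]

end Groth.Agent.Lib.Helper83.BLPoints
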