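import Mathlib
import Groth.Prelude.Def_BlowUp2

/-!
# BlowUp.affineAlgebra: compatibility with quotients and localization (helper83)

`g_algebraMap`, `g_mk'`: values of `Localization.awayMap`; `quot_main` (S12097), `loc_main` (S12096).
-/

namespace Groth.Agent.Lib.Helper83.BlowUpAff
open BlowUp

universe u

section quot
variable (B A : Type u) [CommRing B] [CommRing A] [Algebra B A]
    (hq : Function.Surjective (algebraMap B A)) (I : Ideal B) (π : B)

local notation "g" => Localization.awayMap (algebraMap B A) π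

theorem g_algebraMap (b : B) : g (algebraMap B (Localization.Away π) b) =
    algebraMap A (Localization.Away (algebraMap B A π)) (algebraMap B A b) := by
  unfold Localization.awayMap IsLocalization.Away.map
  rw [IsLocalization.map_eq]

theorem g_mk' (x : B) (m : ℕ) :
    g (IsLocalization.mk' (Localization.Away π) x
        (⟨π ^ m, m, rfl⟩ : Submonoid.powers π)) =
      IsLocalization.mk' (Localization.Away (algebraMap B A π)) (algebraMap B A x)
        (⟨algebraMap B A π ^ m, m, rfl⟩ : Submonoid.powers (algebraMap B A π)) := by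
  unfold Localization.awayMap IsLocalization.Away.map
  rw [IsLocalization.map_mk']
  congr 1
  apply Subtype.ext
  simp

include hq in
theorem exists_preimage (y : Localization.Away (algebraMap B A π))
    (hy : y ∈ affineAlgebra A (I.map (algebraMap B A)) (algebraMap B A π)) :
    ∃ x : Localization.Away π, x ∈ affineAlgebra B I π ∧ g x = y := by
  unfold affineAlgebra at hy
  induction hy using Algebra.adjoin_induction with
  | mem y hy =>
    obtain ⟨x', hx', rfl⟩ := hy
    obtain ⟨x, hx, rfl⟩ := (Ideal.mem_map_iff_of_surjective _ hq).1 hx'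
    refine ⟨IsLocalization.mk' (Localization.Away π) x ⟨π, Submonoid.mem_powers π⟩,
      Algebra.subset_adjoin ⟨x, hx, rfl⟩, ?_⟩
    have := g_mk' B A π x 1
    simp only [pow_one] at this
    exact this
  | algebraMap a =>
    obtain ⟨b, rfl⟩ := hq a
    exact ⟨algebraMap B _ b, Subalgebra.algebraMap_mem _ b, g_algebraMap B A π b⟩
  | add y₁ y₂ _ _ h₁ h₂ =>
    obtain ⟨x₁, hx₁, rfl⟩ := h₁
    obtain ⟨x₂, hx₂, rfl⟩ := h₂
    exact ⟨x₁ + x₂, add_mem hx₁ hx₂, map_add _ _ _⟩
  | mul y₁ y₂ _ _ h₁ h₂ =>
    obtain ⟨x₁, hx₁, rfl⟩ := h₁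
    obtain ⟨x₂, hx₂, rfl⟩ := h₂
    exact ⟨x₁ * x₂, mul_mem hx₁ hx₂, map_mul _ _ _⟩

include hq in
theorem quot_main
    (ψ : affineAlgebra B I π →+* affineAlgebra A (I.map (algebraMap B A)) (algebraMap B A π))
    (hψ : ∀ x : affineAlgebra B I π,
      ((ψ x : affineAlgebra A (I.map (algebraMap B A)) (algebraMap B A π)) :
          Localization.Away (algebraMap B A π)) = g (x : Localization.Away π)) :
    Function.Surjective ψ ∧
      ∀ x : affineAlgebra B I π, x ∈ RingHom.ker ψ ↔
        ∃ n : ℕ, algebraMap B (affineAlgebra B I π) π ^ n * x ∈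
          (RingHom.ker (algebraMap B A)).map (algebraMap B (affineAlgebra B I π)) := by
  have hJ : (RingHom.ker (algebraMap B A)).map (algebraMap B (affineAlgebra B I π)) ≤
      RingHom.ker ψ := by
    rw [Ideal.map_le_iff_le_comap]
    intro j hj
    rw [Ideal.mem_comap, RingHom.mem_ker]
    apply Subtype.ext
    rw [hψ]
    change g (algebraMap B (Localization.Away π) j) = 0
    rw [g_algebraMap, (RingHom.mem_ker).1 hj, map_zero]
  have hπu : IsUnit (((ψ (algebraMap B (affineAlgebra B I π) π) :
      affineAlgebra A (I.map (algebraMap B A)) (algebraMap B A π)) :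
        Localization.Away (algebraMap B A π))) := by
    rw [hψ]
    change IsUnit (g (algebraMap B (Localization.Away π) π))
    rw [g_algebraMap]
    exact IsLocalization.Away.algebraMap_isUnit _
  refine ⟨?_, ?_⟩
  · intro y
    obtain ⟨x, hx, hxy⟩ := exists_preimage B A hq I π y.1 y.2
    exact ⟨⟨x, hx⟩, Subtype.ext (by rw [hψ]; exact hxy)⟩
  · intro x
    constructor
    · intro hx
      rw [RingHom.mem_ker] at hx
      have h0 : g (x : Localization.Away π) = 0 := by rw [← hψ, hx]; rfl
      obtain ⟨⟨b, ⟨_, m, rfl⟩⟩, hb⟩ := IsLocalization.mk'_surjective (Submonoid.powers π)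
        (x : Localization.Away π)
      rw [← hb, g_mk', IsLocalization.mk'_eq_zero_iff] at h0
      obtain ⟨⟨_, k, rfl⟩, hk⟩ := h0
      refine ⟨m + k, ?_⟩
      have hmem : π ^ k * b ∈ RingHom.ker (algebraMap B A) := by
        rw [RingHom.mem_ker, map_mul, map_pow]; exact hk
      have heq : algebraMap B (affineAlgebra B I π) π ^ (m + k) * x =
          algebraMap B (affineAlgebra B I π) (π ^ k * b) := by
        apply Subtype.ext
        change algebraMap B (Localization.Away π) π ^ (m + k) * (x : Localization.Away π) =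
          algebraMap B (Localization.Away π) (π ^ k * b)
        have hb' : IsLocalization.mk' (Localization.Away π) b
            (⟨π ^ m, m, rfl⟩ : Submonoid.powers π) = (x : Localization.Away π) := hb
        have hs := IsLocalization.mk'_spec' (Localization.Away π) b
          (⟨π ^ m, m, rfl⟩ : Submonoid.powers π)
        rw [hb'] at hs
        simp only [map_pow] at hs
        rw [map_mul, map_pow, ← hs]
        ring
      rw [heq]
      exact Ideal.mem_map_of_mem _ hmem
    · rintro ⟨n, hn⟩
      have h1 := hJ hn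
      rw [RingHom.mem_ker, map_mul, map_pow] at h1
      rw [RingHom.mem_ker]
      apply Subtype.ext
      have h2 := congrArg (Subtype.val) h1
      change ((ψ (algebraMap B (affineAlgebra B I π) π) :
        affineAlgebra A (I.map (algebraMap B A)) (algebraMap B A π)) :
          Localization.Away (algebraMap B A π)) ^ n * ((ψ x :
        affineAlgebra A (I.map (algebraMap B A)) (algebraMap B A π)) :
          Localization.Away (algebraMap B A π)) = 0 at h2
      exact ((hπu.pow n).mul_right_eq_zero).1 h2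

end quot

section loc
variable (A : Type u) [CommRing A] (I : Ideal A) (π a : A)

local notation "Aa" => Localization.Away a
local notation "g" => Localization.awayMap (algebraMap A (Localization.Away a)) π
local notation "A'" => affineAlgebra A I π
local notation "Aa'" => affineAlgebra (Localization.Away a)
  (I.map (algebraMap A (Localization.Away a))) (algebraMap A (Localization.Away a) π)

theorem loc_surj (a' : Localization.Away (algebraMap A Aa π))
    (ha' : a' = algebraMap Aa _ (algebraMap A Aa a))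
    (y : Localization.Away (algebraMap A Aa π)) (hy : y ∈ Aa') :
    ∃ x : Localization.Away π, x ∈ A' ∧ ∃ n : ℕ, y * a' ^ n = g x := by
  unfold affineAlgebra at hy
  induction hy using Algebra.adjoin_induction with
  | mem y hy =>
    obtain ⟨x', hx', rfl⟩ := hy
    obtain ⟨⟨⟨x, hx⟩, ⟨_, n, rfl⟩⟩, h⟩ :=
      (IsLocalization.mem_map_algebraMap_iff (Submonoid.powers a) Aa).1 hx'
    refine ⟨IsLocalization.mk' (Localization.Away π) x ⟨π, Submonoid.mem_powers π⟩,
      Algebra.subset_adjoin ⟨x, hx, rfl⟩, n, ?_⟩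
    have h1 := g_mk' A Aa π x 1
    simp only [pow_one] at h1
    rw [h1, ha', ← map_pow, mul_comm, IsLocalization.mul_mk'_eq_mk'_of_mul, ← map_pow, mul_comm]
    simp only at h
    rw [h]
  | algebraMap c =>
    obtain ⟨⟨b, ⟨_, n, rfl⟩⟩, h⟩ := IsLocalization.surj (Submonoid.powers a) c
    refine ⟨algebraMap A _ b, Subalgebra.algebraMap_mem _ b, n, ?_⟩
    rw [g_algebraMap, ha', ← map_pow, ← map_mul, ← map_pow]
    simp only at h
    rw [h]
  | add y₁ y₂ _ _ h₁ h₂ =>
    obtain ⟨x₁, hx₁, n₁, e₁⟩ := h₁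
    obtain ⟨x₂, hx₂, n₂, e₂⟩ := h₂
    refine ⟨x₁ * algebraMap A _ (a ^ n₂) + x₂ * algebraMap A _ (a ^ n₁),
      add_mem (mul_mem hx₁ (Subalgebra.algebraMap_mem _ _))
        (mul_mem hx₂ (Subalgebra.algebraMap_mem _ _)), n₁ + n₂, ?_⟩
    rw [map_add, map_mul, map_mul, g_algebraMap, g_algebraMap, ← e₁, ← e₂, map_pow, map_pow,
      map_pow, map_pow, ← ha', pow_add]
    ring
  | mul y₁ y₂ _ _ h₁ h₂ =>
    obtain ⟨x₁, hx₁, n₁, e₁⟩ := h₁
    obtain ⟨x₂, hx₂, n₂, e₂⟩ := h₂
    refine ⟨x₁ * x₂, mul_mem hx₁ hx₂, n₁ + n₂, ?_⟩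
    rw [map_mul, ← e₁, ← e₂, pow_add]
    ring

theorem loc_inj (w : Localization.Away π) (hw : g w = 0) :
    ∃ n : ℕ, algebraMap A (Localization.Away π) (a ^ n) * w = 0 := by
  obtain ⟨⟨b, ⟨_, m, rfl⟩⟩, hb⟩ := IsLocalization.mk'_surjective (Submonoid.powers π) w
  have hb' : IsLocalization.mk' (Localization.Away π) b
      (⟨π ^ m, m, rfl⟩ : Submonoid.powers π) = w := hb
  rw [← hb', g_mk', IsLocalization.mk'_eq_zero_iff] at hw
  obtain ⟨⟨_, k, rfl⟩, hk⟩ := hw
  simp only at hk
  rw [← map_pow, ← map_mul, IsLocalization.map_eq_zero_iff (Submonoid.powers a)] at hk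
  obtain ⟨⟨_, n, rfl⟩, hn⟩ := hk
  simp only at hn
  refine ⟨n, ?_⟩
  rw [← hb', IsLocalization.mul_mk'_eq_mk'_of_mul, IsLocalization.mk'_eq_zero_iff]
  exact ⟨⟨π ^ k, k, rfl⟩, by simp only; rw [← hn]; ring⟩

theorem loc_main (ψ : A' →+* Aa')
    (hψ : ∀ x : A', ((ψ x : Aa') : Localization.Away (algebraMap A Aa π)) =
      g (x : Localization.Away π)) :
    letI := ψ.toAlgebra
    IsLocalization.Away (algebraMap A A' a) Aa' := by
  let _ := ψ.toAlgebra
  have hψa : ψ (algebraMap A A' a) = algebraMap Aa Aa' (algebraMap A Aa a) := by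
    apply Subtype.ext; rw [hψ]; exact g_algebraMap A Aa π a
  refine (isLocalization_iff _ _).2 ⟨?_, ?_, ?_⟩
  · rintro ⟨_, n, rfl⟩
    rw [RingHom.algebraMap_toAlgebra]
    simp only
    rw [map_pow, hψa]
    exact ((IsLocalization.Away.algebraMap_isUnit a).map _).pow n
  · intro y
    obtain ⟨x, hx, n, e⟩ := loc_surj A I π a _ rfl y.1 y.2
    refine ⟨(⟨x, hx⟩, ⟨_, n, rfl⟩), ?_⟩
    rw [RingHom.algebraMap_toAlgebra]
    simp only
    apply Subtype.ext
    rw [hψ, map_pow, hψa]
    exact e
  · intro x y hxy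
    rw [RingHom.algebraMap_toAlgebra] at hxy
    have h0 : g ((x : Localization.Away π) - (y : Localization.Away π)) = 0 := by
      rw [map_sub, ← hψ, ← hψ, hxy, sub_self]
    obtain ⟨n, hn⟩ := loc_inj A π a _ h0
    refine ⟨⟨_, n, rfl⟩, ?_⟩
    simp only
    apply Subtype.ext
    rw [mul_sub, sub_eq_zero] at hn
    rw [← map_pow]
    exact hn

end loc

end Groth.Agent.Lib.Helper83.BlowUpAff
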