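import Mathlib
import Groth.Agent.Lib.Helper83.PlaneCoord

/-!
# A Cartier-type identity for the trace on `R[x]/(x^p - a)` in characteristic `p`
-/

namespace Groth.Agent.Lib.Helper83.CartierTrace

open Polynomial

section Lambda

/-- The polynomial `Λ = ((X+Y)^p - X^p - Y^p)/p` through its partial derivatives. -/
theorem exists_Lambda (p : ℕ) (hp : p.Prime) : ∃ Λ : MvPolynomial (Fin 2) ℤ,
    MvPolynomial.pderiv 0 Λ = (MvPolynomial.X 0 + MvPolynomial.X 1) ^ (p - 1) - MvPolynomial.X 0 ^ (p - 1) ∧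
    MvPolynomial.pderiv 1 Λ = (MvPolynomial.X 0 + MvPolynomial.X 1) ^ (p - 1) - MvPolynomial.X 1 ^ (p - 1) := by
  obtain ⟨r, hr⟩ := exists_add_pow_prime_eq hp (MvPolynomial.X 0 : MvPolynomial (Fin 2) ℤ)
    (MvPolynomial.X 1)
  refine ⟨MvPolynomial.X 0 * MvPolynomial.X 1 * r, ?_, ?_⟩
  · have h := congrArg (MvPolynomial.pderiv (0 : Fin 2)) hr
    have h10 : MvPolynomial.pderiv (0 : Fin 2) (MvPolynomial.X 1 : MvPolynomial (Fin 2) ℤ) = 0 :=
      MvPolynomial.pderiv_X_of_ne (by decide)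
    have hpp : MvPolynomial.pderiv (0 : Fin 2) ((p : ℕ) : MvPolynomial (Fin 2) ℤ) = 0 :=
      Derivation.map_natCast _ p
    have e : (p : MvPolynomial (Fin 2) ℤ) * MvPolynomial.X 0 * MvPolynomial.X 1 * r =
        (p : MvPolynomial (Fin 2) ℤ) * (MvPolynomial.X 0 * MvPolynomial.X 1 * r) := by ring
    rw [e] at h
    simp only [map_add, Derivation.leibniz_pow, MvPolynomial.pderiv_X_self, h10, add_zero, smul_zero,
      Derivation.leibniz (MvPolynomial.pderiv (0 : Fin 2)) (p : MvPolynomial (Fin 2) ℤ), hpp,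
      smul_eq_mul, nsmul_eq_mul, mul_one, mul_zero] at h
    have hp0 : (p : MvPolynomial (Fin 2) ℤ) ≠ 0 := by
      exact_mod_cast hp.ne_zero
    apply mul_left_cancel₀ hp0
    linear_combination -h
  · have h := congrArg (MvPolynomial.pderiv (1 : Fin 2)) hr
    have h01 : MvPolynomial.pderiv (1 : Fin 2) (MvPolynomial.X 0 : MvPolynomial (Fin 2) ℤ) = 0 :=
      MvPolynomial.pderiv_X_of_ne (by decide)
    have hpp : MvPolynomial.pderiv (1 : Fin 2) ((p : ℕ) : MvPolynomial (Fin 2) ℤ) = 0 :=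
      Derivation.map_natCast _ p
    have e : (p : MvPolynomial (Fin 2) ℤ) * MvPolynomial.X 0 * MvPolynomial.X 1 * r =
        (p : MvPolynomial (Fin 2) ℤ) * (MvPolynomial.X 0 * MvPolynomial.X 1 * r) := by ring
    rw [e] at h
    simp only [map_add, Derivation.leibniz_pow, MvPolynomial.pderiv_X_self, h01, zero_add, smul_zero,
      Derivation.leibniz (MvPolynomial.pderiv (1 : Fin 2)) (p : MvPolynomial (Fin 2) ℤ), hpp,
      smul_eq_mul, nsmul_eq_mul, mul_one, mul_zero, add_zero] at h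
    have hp0 : (p : MvPolynomial (Fin 2) ℤ) ≠ 0 := by
      exact_mod_cast hp.ne_zero
    apply mul_left_cancel₀ hp0
    linear_combination -h

/-- `(g+h)^(p-1) d(g+h) - g^(p-1) dg - h^(p-1) dh` is exact. -/
theorem exists_exact (p : ℕ) (hp : p.Prime) {S M : Type*} [CommRing S] [AddCommGroup M] [Module S M]
    (D : Derivation ℤ S M) (g h : S) :
    ∃ l : S, (g + h) ^ (p - 1) • D (g + h) = g ^ (p - 1) • D g + h ^ (p - 1) • D h + D l := by
  obtain ⟨Λ, h0, h1⟩ := exists_Lambda p hp
  refine ⟨MvPolynomial.aeval ![g, h] Λ, ?_⟩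
  rw [PlaneCoord.deriv_aeval D ![g, h] Λ, Fin.sum_univ_two, h0, h1]
  simp only [map_sub, map_pow, map_add, MvPolynomial.aeval_X, Matrix.cons_val_zero, Matrix.cons_val_one]
  module

end Lambda

section AR

set_option linter.unusedSectionVars false

variable (p : ℕ) [hp : Fact p.Prime] {R : Type*} [CommRing R] [CharP R p] (b : R)

/-- `y`, the root -/
noncomputable abbrev yy : AdjoinRoot (X ^ p - C b : R[X]) := AdjoinRoot.root (X ^ p - C b)

lemma nontriv (p : ℕ) [hp : Fact p.Prime] (R : Type*) [CommRing R] [CharP R p] : Nontrivial R :=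
  CharP.nontrivial_of_char_ne_one (R := R) hp.out.ne_one

lemma monic_f : (X ^ p - C b : R[X]).Monic := monic_X_pow_sub_C b hp.out.ne_zero

lemma natDegree_f : (X ^ p - C b : R[X]).natDegree = p := by
  have := nontriv p R
  exact natDegree_X_pow_sub_C

lemma yy_pow : (yy p b) ^ p = algebraMap R (AdjoinRoot (X ^ p - C b : R[X])) b := by
  have h := AdjoinRoot.eval₂_root (X ^ p - C b : R[X])
  simp only [eval₂_sub, eval₂_pow, eval₂_X, eval₂_C] at h
  rw [sub_eq_zero] at h
  exact h

/-- every element is `Σ_{j<p} c_j y^j` -/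
lemma exists_coeffs (g : AdjoinRoot (X ^ p - C b : R[X])) :
    ∃ c : ℕ → R, g = ∑ j ∈ Finset.range p, c j • (yy p b) ^ j := by
  have := nontriv p R
  obtain ⟨q, rfl⟩ := AdjoinRoot.mk_surjective g
  set r := q %ₘ (X ^ p - C b : R[X]) with hr
  have hdeg : r.natDegree < p := by
    by_cases hr0 : r = 0
    · rw [hr0, natDegree_zero]; exact hp.out.pos
    · have hne : (X ^ p - C b : R[X]) ≠ 1 := by
        intro h
        have := congrArg natDegree h
        rw [natDegree_f, natDegree_one] at this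
        exact hp.out.ne_zero this
      have := natDegree_modByMonic_lt q (monic_f p b) hne
      rwa [natDegree_f] at this
  have hmk : AdjoinRoot.mk (X ^ p - C b : R[X]) q = AdjoinRoot.mk _ r := by
    rw [AdjoinRoot.mk_eq_mk, hr, modByMonic_eq_sub_mul_div, sub_sub_cancel]
    exact dvd_mul_right _ _
  refine ⟨fun j => r.coeff j, ?_⟩
  rw [hmk]
  conv_lhs => rw [r.as_sum_range' p hdeg]
  rw [map_sum]
  apply Finset.sum_congr rfl
  intro j _
  rw [← C_mul_X_pow_eq_monomial, map_mul, map_pow, AdjoinRoot.mk_C, AdjoinRoot.mk_X,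
    Algebra.smul_def]
  rfl

end AR

section Trace

set_option linter.unusedSectionVars false

variable (p : ℕ) [hp : Fact p.Prime] {R : Type*} [CommRing R] [CharP R p] (b : R)
  (Ty : Ω[AdjoinRoot (X ^ p - C b : R[X])⁄R] →ₗ[R] Ω[R⁄ℤ])
  (hTy : ∀ i : ℕ, i + 2 ≤ p →
    Ty ((yy p b) ^ i • KaehlerDifferential.D R _ (yy p b)) = 0)
  (hTy' : Ty ((yy p b) ^ (p - 1) • KaehlerDifferential.D R _ (yy p b)) =
    KaehlerDifferential.D ℤ R b)

include hTy in
/-- the trace kills exact forms -/
lemma Ty_D (g : AdjoinRoot (X ^ p - C b : R[X])) : Ty (KaehlerDifferential.D R _ g) = 0 := by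
  obtain ⟨c, rfl⟩ := exists_coeffs p b g
  rw [map_sum, map_sum]
  apply Finset.sum_eq_zero
  intro j hj
  rw [Derivation.map_smul, map_smul, Derivation.leibniz_pow, map_nsmul]
  rcases Nat.eq_zero_or_pos j with rfl | hj0
  · simp
  · rw [hTy (j - 1) (by have := Finset.mem_range.mp hj; omega)]
    simp

include hTy in
lemma psi_add (g h : AdjoinRoot (X ^ p - C b : R[X])) :
    Ty ((g + h) ^ (p - 1) • KaehlerDifferential.D R _ (g + h)) =
      Ty (g ^ (p - 1) • KaehlerDifferential.D R _ g) +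
        Ty (h ^ (p - 1) • KaehlerDifferential.D R _ h) := by
  obtain ⟨l, hl⟩ := exists_exact p hp.out
    ((KaehlerDifferential.D R (AdjoinRoot (X ^ p - C b : R[X]))).restrictScalars ℤ) g h
  have hl' : (g + h) ^ (p - 1) • KaehlerDifferential.D R _ (g + h) =
      g ^ (p - 1) • KaehlerDifferential.D R _ g + h ^ (p - 1) • KaehlerDifferential.D R _ h +
        KaehlerDifferential.D R _ l := hl
  rw [hl', map_add, map_add, Ty_D p b Ty hTy, add_zero]

include hTy in
lemma psi_sum {ι : Type*} (s : Finset ι) (g : ι → AdjoinRoot (X ^ p - C b : R[X])) :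
    Ty ((∑ j ∈ s, g j) ^ (p - 1) • KaehlerDifferential.D R _ (∑ j ∈ s, g j)) =
      ∑ j ∈ s, Ty ((g j) ^ (p - 1) • KaehlerDifferential.D R _ (g j)) := by
  classical
  induction s using Finset.induction_on with
  | empty => simp
  | insert a s ha ih =>
    rw [Finset.sum_insert ha, Finset.sum_insert ha, psi_add p b Ty hTy, ih]

include hTy' in
lemma psi_monomial (c : R) (j : ℕ) :
    Ty ((c • (yy p b) ^ j) ^ (p - 1) • KaehlerDifferential.D R _ (c • (yy p b) ^ j)) =
      ((j : R) * c ^ p * b ^ (j - 1)) • KaehlerDifferential.D ℤ R b := by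
  rcases Nat.eq_zero_or_pos j with rfl | hj0
  · have : c • (yy p b) ^ 0 = algebraMap R (AdjoinRoot (X ^ p - C b : R[X])) c := by
      rw [pow_zero, Algebra.algebraMap_eq_smul_one]
    rw [this, Derivation.map_algebraMap]
    simp
  · obtain ⟨j', rfl⟩ : ∃ j', j = j' + 1 := ⟨j - 1, by omega⟩
    have key : (c • (yy p b) ^ (j' + 1)) ^ (p - 1) •
        KaehlerDifferential.D R _ (c • (yy p b) ^ (j' + 1)) =
        (((j' + 1 : ℕ) : R) * c ^ p * b ^ j') •
          ((yy p b) ^ (p - 1) • KaehlerDifferential.D R _ (yy p b)) := by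
      have h1 : KaehlerDifferential.D R _ (c • (yy p b) ^ (j' + 1)) =
          (algebraMap R (AdjoinRoot (X ^ p - C b : R[X])) c *
            (((j' + 1 : ℕ) : AdjoinRoot (X ^ p - C b : R[X])) * (yy p b) ^ j')) •
            KaehlerDifferential.D R _ (yy p b) := by
        rw [Derivation.map_smul, Derivation.leibniz_pow, Nat.add_sub_cancel,
          ← algebraMap_smul (AdjoinRoot (X ^ p - C b : R[X])) c,
          ← Nat.cast_smul_eq_nsmul (AdjoinRoot (X ^ p - C b : R[X])), smul_smul, smul_smul,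
          mul_assoc]
      have h2 : (c • (yy p b) ^ (j' + 1)) ^ (p - 1) =
          (algebraMap R (AdjoinRoot (X ^ p - C b : R[X])) c) ^ (p - 1) *
            (yy p b) ^ ((j' + 1) * (p - 1)) := by
        rw [Algebra.smul_def, mul_pow, ← pow_mul]
      rw [h1, h2, smul_smul,
        ← algebraMap_smul (AdjoinRoot (X ^ p - C b : R[X])) (((j' + 1 : ℕ) : R) * c ^ p * b ^ j'),
        smul_smul]
      congr 1
      rw [map_mul, map_mul, map_pow, map_pow, map_natCast, ← yy_pow p b]
      obtain ⟨q, hq⟩ : ∃ q, p = q + 1 := ⟨p - 1, (Nat.sub_add_cancel hp.out.one_le).symm⟩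
      have hq' : p - 1 = q := by omega
      rw [hq']
      generalize algebraMap R (AdjoinRoot (X ^ p - C b : R[X])) c = A
      generalize yy p b = y
      have e1 : ∀ z : AdjoinRoot (X ^ p - C b : R[X]), z ^ p = z ^ q * z :=
        fun z => (congrArg (fun n => z ^ n) hq).trans (pow_succ z q)
      rw [e1 A, e1 y]
      ring
    rw [Nat.add_sub_cancel, key, map_smul, hTy']

end Trace

section Inj

set_option linter.unusedSectionVars false

variable (p : ℕ) [hp : Fact p.Prime] {R : Type*} [CommRing R] [CharP R p] (b : R)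

lemma algebraMap_injective :
    Function.Injective (algebraMap R (AdjoinRoot (X ^ p - C b : R[X]))) := by
  have := nontriv p R
  rw [injective_iff_map_eq_zero]
  intro r hr
  have h1 : AdjoinRoot.modByMonicHom (monic_f p b)
      (algebraMap R (AdjoinRoot (X ^ p - C b : R[X])) r) = C r := by
    rw [AdjoinRoot.algebraMap_eq, ← AdjoinRoot.mk_C, AdjoinRoot.modByMonicHom_mk,
      (modByMonic_eq_self_iff (monic_f p b)).mpr]
    rw [degree_eq_natDegree (monic_f p b).ne_zero, natDegree_f]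
    exact lt_of_le_of_lt degree_C_le (by exact_mod_cast hp.out.pos)
  rw [hr, map_zero] at h1
  exact C_eq_zero.mp h1.symm

instance charP_adjoinRoot : CharP (AdjoinRoot (X ^ p - C b : R[X])) p :=
  charP_of_injective_algebraMap (algebraMap_injective p b) p

end Inj

section Main

set_option linter.unusedSectionVars false

variable (p : ℕ) [hp : Fact p.Prime] {R : Type*} [CommRing R] [CharP R p] (b : R)
  (Ty : Ω[AdjoinRoot (X ^ p - C b : R[X])⁄R] →ₗ[R] Ω[R⁄ℤ])
  (hTy : ∀ i : ℕ, i + 2 ≤ p →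
    Ty ((yy p b) ^ i • KaehlerDifferential.D R _ (yy p b)) = 0)
  (hTy' : Ty ((yy p b) ^ (p - 1) • KaehlerDifferential.D R _ (yy p b)) =
    KaehlerDifferential.D ℤ R b)

include hTy in
lemma low_zero (g : AdjoinRoot (X ^ p - C b : R[X])) (i : ℕ) (hi : i + 2 ≤ p) :
    Ty (g ^ i • KaehlerDifferential.D R _ g) = 0 := by
  have h1 := Ty_D p b Ty hTy (g ^ (i + 1))
  rw [Derivation.leibniz_pow, Nat.add_sub_cancel, map_nsmul, ← Nat.cast_smul_eq_nsmul R] at h1
  have hu : IsUnit (((i + 1 : ℕ) : R)) := by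
    rw [CharP.isUnit_natCast_iff hp.out]
    intro hdvd
    have := Nat.le_of_dvd (by omega) hdvd
    omega
  exact hu.smul_eq_zero.mp h1

include hTy hTy' in
lemma top_eq (g : AdjoinRoot (X ^ p - C b : R[X])) (a : R)
    (hg : g ^ p = algebraMap R _ a) :
    Ty (g ^ (p - 1) • KaehlerDifferential.D R _ g) = KaehlerDifferential.D ℤ R a := by
  have : ExpChar (AdjoinRoot (X ^ p - C b : R[X])) p := ExpChar.prime hp.out
  obtain ⟨c, rfl⟩ := exists_coeffs p b g
  rw [psi_sum p b Ty hTy]
  simp_rw [psi_monomial p b Ty hTy']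
  -- compute `a`
  have ha : a = ∑ j ∈ Finset.range p, c j ^ p * b ^ j := by
    apply algebraMap_injective p b
    rw [← hg, sum_pow_char, map_sum]
    apply Finset.sum_congr rfl
    intro j _
    rw [_root_.smul_pow, ← pow_mul, mul_comm j p, pow_mul, yy_pow, ← map_pow, Algebra.smul_def,
      ← map_mul]
  rw [ha, map_sum]
  apply Finset.sum_congr rfl
  intro j _
  rw [Derivation.leibniz, Derivation.leibniz_pow, Derivation.leibniz_pow]
  have hp0 : (p : ℕ) • ((c j) ^ (p - 1) • KaehlerDifferential.D ℤ R (c j)) = 0 := by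
    rw [← Nat.cast_smul_eq_nsmul R, CharP.cast_eq_zero, zero_smul]
  rw [hp0, smul_zero, add_zero, ← Nat.cast_smul_eq_nsmul R, smul_smul, smul_smul]
  congr 1
  ring

end Main

section Final

set_option linter.unusedSectionVars false

theorem main (p : ℕ) [hp : Fact p.Prime] (R : Type*) [CommRing R] [CharP R p] (a b : R)
    (φ : AdjoinRoot (X ^ p - C a : R[X]) →ₐ[R] AdjoinRoot (X ^ p - C b : R[X]))
    (Tx : Ω[AdjoinRoot (X ^ p - C a : R[X])⁄R] →ₗ[R] Ω[R⁄ℤ])
    (Ty : Ω[AdjoinRoot (X ^ p - C b : R[X])⁄R] →ₗ[R] Ω[R⁄ℤ])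
    (hTx : ∀ i : ℕ, i + 2 ≤ p →
      Tx (AdjoinRoot.root (X ^ p - C a) ^ i • KaehlerDifferential.D R _ (AdjoinRoot.root (X ^ p - C a))) = 0)
    (hTx' : Tx (AdjoinRoot.root (X ^ p - C a) ^ (p - 1) •
        KaehlerDifferential.D R _ (AdjoinRoot.root (X ^ p - C a))) = KaehlerDifferential.D ℤ R a)
    (hTy : ∀ i : ℕ, i + 2 ≤ p →
      Ty (AdjoinRoot.root (X ^ p - C b) ^ i • KaehlerDifferential.D R _ (AdjoinRoot.root (X ^ p - C b))) = 0)
    (hTy' : Ty (AdjoinRoot.root (X ^ p - C b) ^ (p - 1) •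
        KaehlerDifferential.D R _ (AdjoinRoot.root (X ^ p - C b))) = KaehlerDifferential.D ℤ R b)
    (s t : AdjoinRoot (X ^ p - C a : R[X])) :
    Tx (s • KaehlerDifferential.D R _ t) = Ty (φ s • KaehlerDifferential.D R _ (φ t)) := by
  set x := yy p a with hx
  set g := φ x with hgdef
  have hg : g ^ p = algebraMap R _ a := by
    rw [hgdef, ← map_pow, yy_pow, AlgHom.commutes]
  -- the key identity for forms `w dx`
  have key : ∀ w : AdjoinRoot (X ^ p - C a : R[X]),
      Tx (w • KaehlerDifferential.D R _ x) = Ty (φ w • KaehlerDifferential.D R _ g) := by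
    intro w
    obtain ⟨c, rfl⟩ := exists_coeffs p a w
    have hφw : φ (∑ j ∈ Finset.range p, c j • (yy p a) ^ j) =
        ∑ j ∈ Finset.range p, c j • g ^ j := by
      rw [map_sum]
      apply Finset.sum_congr rfl
      intro j _
      rw [map_smul, map_pow]
    rw [hφw, Finset.sum_smul, map_sum, Finset.sum_smul, map_sum]
    apply Finset.sum_congr rfl
    intro j hj
    rw [smul_assoc, LinearMap.map_smul, smul_assoc, LinearMap.map_smul]
    by_cases hjp : j = p - 1
    · rw [hjp, hTx', top_eq p b Ty hTy hTy' g a hg]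
    · have hj2 : j + 2 ≤ p := by have := Finset.mem_range.mp hj; omega
      rw [hTx j hj2, low_zero p b Ty hTy g j hj2]
  -- reduce to `key`
  obtain ⟨q, rfl⟩ := AdjoinRoot.mk_surjective t
  have ht : AdjoinRoot.mk (X ^ p - C a : R[X]) q = aeval x q := (AdjoinRoot.aeval_eq q).symm
  have hφt : φ (aeval x q) = aeval g q := (aeval_algHom_apply φ x q).symm
  rw [ht, hφt, Derivation.map_aeval, Derivation.map_aeval, smul_smul, smul_smul, key,
    map_mul, aeval_algHom_apply]

end Final

end Groth.Agent.Lib.Helper83.CartierTrace
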