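import Mathlib

/-! Exterior algebra coordinate lemmas for Clifford computations (helper83). -/
set_option autoImplicit false

namespace Groth.Agent.Lib.Helper83.Cl2

open Set Set.powersetCard ExteriorAlgebra

variable {R : Type*} [CommRing R] {M : Type*} [AddCommGroup M] [Module R M]
variable {I : Type*} [LinearOrder I] (b : Module.Basis I R M)

/-- basis element of a singleton is the vector. -/
theorem E_singleton (i : I) : b.ExteriorAlgebra {i} = ExteriorAlgebra.ι R (b i) := by
  have h : ({i} : Finset I).card = 1 := Finset.card_singleton i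
  rw [ExteriorAlgebra.basis_apply_ofCard b h]
  have h0 : (ofFinEmbEquiv.symm (ofCard h)) 0 = i := by
    have := (mem_range_ofFinEmbEquiv_symm_iff_mem (ofCard h) ((ofFinEmbEquiv.symm (ofCard h)) 0)).mp ⟨0, rfl⟩
    simpa [ofCard] using this
  rw [ιMulti_family, ExteriorAlgebra.ιMulti_apply]
  simp [h0]

theorem E_empty : b.ExteriorAlgebra ∅ = 1 := by
  have h : (∅ : Finset I).card = 0 := Finset.card_empty
  rw [ExteriorAlgebra.basis_apply_ofCard b h, ιMulti_family, ExteriorAlgebra.ιMulti_zero_apply]

theorem ι_mul_E_of_mem {i : I} {S : Finset I} (hi : i ∈ S) :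
    ExteriorAlgebra.ι R (b i) * b.ExteriorAlgebra S = 0 := by
  rw [← E_singleton]
  have h1 : ({i} : Finset I).card = 1 := Finset.card_singleton i
  have := ExteriorAlgebra.basis_mul_of_not_disjoint b (ofCard h1) (ofCard (rfl : S.card = S.card))
    (by simp [ofCard, hi])
  exact this

theorem ι_mul_E_of_not_mem {i : I} {S : Finset I} (hi : i ∉ S) :
    ∃ u : ℤˣ, ExteriorAlgebra.ι R (b i) * b.ExteriorAlgebra S = u • b.ExteriorAlgebra (insert i S) := by
  rw [← E_singleton]
  have h1 : ({i} : Finset I).card = 1 := Finset.card_singleton i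
  have hd : Disjoint (ofCard h1).val (ofCard (rfl : S.card = S.card)).val := by
    simp [ofCard, hi]
  have := ExteriorAlgebra.basis_mul_of_disjoint b (ofCard h1) (ofCard (rfl : S.card = S.card)) hd
  refine ⟨Equiv.Perm.sign (permOfDisjoint hd), this.trans ?_⟩
  congr 2
  ext j
  simp [ofCard]

theorem repr_eq_zero_of_ι_mul_eq_zero (ξ : ExteriorAlgebra R M) {i : I} {S : Finset I} (hi : i ∉ S)
    (h : ExteriorAlgebra.ι R (b i) * ξ = 0) : b.ExteriorAlgebra.repr ξ S = 0 := by
  classical
  obtain ⟨u, hu⟩ := ι_mul_E_of_not_mem b hi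
  have key : (b.ExteriorAlgebra.coord (insert i S)) ∘ₗ (LinearMap.mulLeft R (ExteriorAlgebra.ι R (b i)))
      = (u : ℤ) • b.ExteriorAlgebra.coord S := by
    refine b.ExteriorAlgebra.ext fun T => ?_
    simp only [LinearMap.comp_apply, LinearMap.mulLeft_apply, LinearMap.smul_apply,
      Module.Basis.coord_apply, Module.Basis.repr_self]
    by_cases hT : i ∈ T
    · rw [ι_mul_E_of_mem b hT, map_zero, Finsupp.zero_apply]
      have : T ≠ S := fun e => hi (e ▸ hT)
      rw [Finsupp.single_eq_of_ne' this, smul_zero]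
    · by_cases hTS : T = S
      · subst hTS
        rw [hu, Units.smul_def, map_zsmul, Module.Basis.repr_self]
        simp
      · obtain ⟨u', hu'⟩ := ι_mul_E_of_not_mem b hT
        rw [hu', Units.smul_def, map_zsmul, Module.Basis.repr_self]
        have : insert i T ≠ insert i S := by
          intro e
          apply hTS
          ext j
          by_cases hj : j = i
          · subst hj; simp [hi, hT]
          · have := Finset.ext_iff.mp e j
            simpa [hj] using this
        rw [Finsupp.smul_apply, Finsupp.single_eq_of_ne' this, smul_zero, Finsupp.single_eq_of_ne' hTS, smul_zero]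
  have := LinearMap.congr_fun key ξ
  simp only [LinearMap.comp_apply, LinearMap.mulLeft_apply, h, map_zero, LinearMap.smul_apply,
    Module.Basis.coord_apply] at this
  have h2 : ((u⁻¹ : ℤˣ) : ℤ) • ((u : ℤ) • b.ExteriorAlgebra.repr ξ S) = 0 := by rw [← this, smul_zero]
  rw [smul_smul, ← Units.val_mul, inv_mul_cancel, Units.val_one, one_smul] at h2
  exact h2

theorem eq_smul_top_of_ι_mul_eq_zero [Fintype I] (ξ : ExteriorAlgebra R M)
    (h : ∀ i, ExteriorAlgebra.ι R (b i) * ξ = 0) :
    ξ = b.ExteriorAlgebra.repr ξ Finset.univ • b.ExteriorAlgebra Finset.univ := by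
  classical
  apply b.ExteriorAlgebra.repr.injective
  ext S
  rw [map_smul, Module.Basis.repr_self, Finsupp.smul_apply, smul_eq_mul]
  by_cases hS : S = Finset.univ
  · subst hS; simp
  · obtain ⟨i, hi⟩ : ∃ i, i ∉ S := by
      by_contra hcon
      push Not at hcon
      exact hS (Finset.eq_univ_iff_forall.mpr hcon)
    rw [repr_eq_zero_of_ι_mul_eq_zero b ξ hi (h i), Finsupp.single_eq_of_ne' (Ne.symm hS), mul_zero]

open CliffordAlgebra in
theorem contractLeft_list_prod_eq_zero {Q : QuadraticForm R M} (d : Module.Dual R M) (l : List M)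
    (h : ∀ v ∈ l, d v = 0) : contractLeft d ((l.map (CliffordAlgebra.ι Q)).prod) = 0 := by
  induction l with
  | nil => simp
  | cons a l ih =>
    rw [List.map_cons, List.prod_cons, contractLeft_ι_mul, h a (List.mem_cons_self ..), zero_smul,
      ih (fun v hv => h v (List.mem_cons_of_mem _ hv)), mul_zero, sub_zero]

open CliffordAlgebra in
theorem contractLeft_E_of_not_mem {i : I} {T : Finset I} (hi : i ∉ T) :
    contractLeft (b.coord i) (b.ExteriorAlgebra T) = 0 := by
  rw [ExteriorAlgebra.basis_apply_ofCard b (rfl : T.card = T.card), ιMulti_family,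
    ExteriorAlgebra.ιMulti_apply]
  have : (List.ofFn fun j => (ExteriorAlgebra.ι R) ((b ∘ (ofFinEmbEquiv.symm (ofCard (rfl : T.card = T.card)))) j))
      = (List.ofFn fun j => (b ∘ (ofFinEmbEquiv.symm (ofCard (rfl : T.card = T.card)))) j).map (CliffordAlgebra.ι (0 : QuadraticForm R M)) := by
    rw [List.map_ofFn]; rfl
  rw [this]
  apply contractLeft_list_prod_eq_zero
  intro v hv
  rw [List.mem_ofFn] at hv
  obtain ⟨j, rfl⟩ := hv
  simp only [Function.comp_apply, Module.Basis.coord_apply, Module.Basis.repr_self]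
  have hm := (mem_range_ofFinEmbEquiv_symm_iff_mem (ofCard (rfl : T.card = T.card))
    ((ofFinEmbEquiv.symm (ofCard (rfl : T.card = T.card))) j)).mp ⟨j, rfl⟩
  have hne : (ofFinEmbEquiv.symm (ofCard (rfl : T.card = T.card))) j ≠ i := by
    intro e
    rw [e] at hm
    exact hi (by simpa [ofCard] using hm)
  exact Finsupp.single_eq_of_ne' hne

open CliffordAlgebra in
theorem contractLeft_E_of_mem {i : I} {S : Finset I} (hi : i ∈ S) :
    ∃ u : ℤˣ, contractLeft (b.coord i) (b.ExteriorAlgebra S) = u • b.ExteriorAlgebra (S.erase i) := by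
  obtain ⟨u, hu⟩ := ι_mul_E_of_not_mem b (Finset.notMem_erase i S)
  rw [Finset.insert_erase hi] at hu
  refine ⟨u⁻¹, ?_⟩
  have hS : b.ExteriorAlgebra S = u⁻¹ • (ExteriorAlgebra.ι R (b i) * b.ExteriorAlgebra (S.erase i)) := by
    rw [hu, smul_smul, inv_mul_cancel, one_smul]
  rw [hS, Units.smul_def, map_zsmul, ← Units.smul_def]
  congr 1
  change contractLeft (b.coord i) (CliffordAlgebra.ι (0 : QuadraticForm R M) (b i) * _) = _
  rw [contractLeft_ι_mul, contractLeft_E_of_not_mem b (Finset.notMem_erase i S), mul_zero, sub_zero]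
  simp

open CliffordAlgebra in
theorem repr_eq_zero_of_contractLeft_eq_zero (ξ : ExteriorAlgebra R M) {i : I} {S : Finset I} (hi : i ∈ S)
    (h : contractLeft (b.coord i) ξ = 0) : b.ExteriorAlgebra.repr ξ S = 0 := by
  classical
  obtain ⟨u, hu⟩ := contractLeft_E_of_mem b hi
  have key : (b.ExteriorAlgebra.coord (S.erase i)) ∘ₗ (contractLeft (Q := (0 : QuadraticForm R M)) (b.coord i))
      = (u : ℤ) • b.ExteriorAlgebra.coord S := by
    refine b.ExteriorAlgebra.ext fun T => ?_
    simp only [LinearMap.comp_apply, LinearMap.smul_apply,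
      Module.Basis.coord_apply, Module.Basis.repr_self]
    by_cases hT : i ∈ T
    · by_cases hTS : T = S
      · subst hTS
        rw [hu, Units.smul_def, map_zsmul, Module.Basis.repr_self]
        simp
      · obtain ⟨u', hu'⟩ := contractLeft_E_of_mem b hT
        rw [hu', Units.smul_def, map_zsmul, Module.Basis.repr_self]
        have : T.erase i ≠ S.erase i := by
          intro e
          apply hTS
          rw [← Finset.insert_erase hT, ← Finset.insert_erase hi, e]
        rw [Finsupp.smul_apply, Finsupp.single_eq_of_ne' this, smul_zero, Finsupp.single_eq_of_ne' hTS, smul_zero]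
    · rw [contractLeft_E_of_not_mem b hT, map_zero, Finsupp.zero_apply]
      have : T ≠ S := fun e => hT (e ▸ hi)
      rw [Finsupp.single_eq_of_ne' this, smul_zero]
  have := LinearMap.congr_fun key ξ
  simp only [LinearMap.comp_apply, h, map_zero, LinearMap.smul_apply,
    Module.Basis.coord_apply] at this
  have h2 : ((u⁻¹ : ℤˣ) : ℤ) • ((u : ℤ) • b.ExteriorAlgebra.repr ξ S) = 0 := by rw [← this, smul_zero]
  rw [smul_smul, ← Units.val_mul, inv_mul_cancel, Units.val_one, one_smul] at h2
  exact h2

open CliffordAlgebra in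
theorem eq_algebraMap_of_contractLeft_eq_zero [Fintype I] (ξ : ExteriorAlgebra R M)
    (h : ∀ i, contractLeft (b.coord i) ξ = 0) :
    ξ = algebraMap R _ (b.ExteriorAlgebra.repr ξ ∅) := by
  classical
  rw [Algebra.algebraMap_eq_smul_one, ← E_empty b]
  apply b.ExteriorAlgebra.repr.injective
  ext S
  rw [map_smul, Module.Basis.repr_self, Finsupp.smul_apply, smul_eq_mul]
  by_cases hS : S = ∅
  · subst hS; simp
  · obtain ⟨i, hi⟩ := Finset.nonempty_iff_ne_empty.mpr hS
    rw [repr_eq_zero_of_contractLeft_eq_zero b ξ hi (h i), Finsupp.single_eq_of_ne' (Ne.symm hS), mul_zero]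




/-- alternating maps in top degree scale by det. -/
theorem alt_map_comp_eq_det_smul {N : Type*} [AddCommGroup N] [Module R N] {ι : Type*} [Fintype ι] [DecidableEq ι]
    (e : Module.Basis ι R M) (f : M [⋀^ι]→ₗ[R] N) (g : M →ₗ[R] M)
    (hsep : ∀ x : N, (∀ φ : N →ₗ[R] R, φ x = 0) → x = 0) :
    f (g ∘ e) = LinearMap.det g • f e := by
  rw [← sub_eq_zero]
  apply hsep
  intro φ
  rw [map_sub, map_smul, sub_eq_zero]
  have h := AlternatingMap.eq_smul_basis_det e (φ.compAlternatingMap f)
  have h1 := congrArg (fun F => F (g ∘ e)) h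
  simp only [LinearMap.compAlternatingMap_apply, AlternatingMap.smul_apply] at h1
  rw [h1, Module.Basis.det_comp, Module.Basis.det_self]
  simp [mul_comm]

theorem map_E_univ [Fintype I] (g : M →ₗ[R] M) :
    ExteriorAlgebra.map g (b.ExteriorAlgebra Finset.univ) = LinearMap.det g • b.ExteriorAlgebra Finset.univ := by
  classical
  have hc : (Finset.univ : Finset I).card = Fintype.card I := Finset.card_univ
  rw [ExteriorAlgebra.basis_apply_ofCard b hc, ιMulti_family]
  set emb := ofFinEmbEquiv.symm (ofCard hc) with hemb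
  have hsurj : Function.Surjective emb := by
    intro i
    exact (mem_range_ofFinEmbEquiv_symm_iff_mem (ofCard hc) i).mpr (by simp [ofCard])
  let σ : Fin (Fintype.card I) ≃ I := Equiv.ofBijective emb ⟨emb.injective, hsurj⟩
  let e : Module.Basis (Fin (Fintype.card I)) R M := b.reindex σ.symm
  have he : ⇑e = ⇑b ∘ ⇑emb := by
    ext j
    simp only [e, σ, Module.Basis.reindex_apply, Equiv.symm_symm, Function.comp_apply]
    rfl
  rw [ExteriorAlgebra.map_apply_ιMulti, ← he]
  refine alt_map_comp_eq_det_smul e (ExteriorAlgebra.ιMulti R _) g ?_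
  intro x hx
  apply b.ExteriorAlgebra.repr.injective
  ext S
  simpa using hx (b.ExteriorAlgebra.coord S)

theorem ι_mul_E_univ [Fintype I] (w : M) :
    ExteriorAlgebra.ι R w * b.ExteriorAlgebra Finset.univ = 0 := by
  classical
  rw [← b.sum_repr w, map_sum, Finset.sum_mul]
  refine Finset.sum_eq_zero fun i _ => ?_
  rw [map_smul, smul_mul_assoc, ι_mul_E_of_mem b (Finset.mem_univ i), smul_zero]


open CliffordAlgebra in
theorem list_prod_mem_evenOdd {Q : QuadraticForm R M} (l : List M) :
    (l.map (CliffordAlgebra.ι Q)).prod ∈ evenOdd Q (l.length : ZMod 2) := by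
  induction l with
  | nil => simpa using SetLike.one_mem_graded (evenOdd Q)
  | cons a l ih =>
    rw [List.map_cons, List.prod_cons, List.length_cons]
    have := SetLike.mul_mem_graded (ι_mem_evenOdd_one Q a) ih
    convert this using 2
    push_cast
    ring

open CliffordAlgebra in
theorem E_mem_evenOdd (S : Finset I) :
    b.ExteriorAlgebra S ∈ evenOdd (0 : QuadraticForm R M) (S.card : ZMod 2) := by
  rw [ExteriorAlgebra.basis_apply_ofCard b (rfl : S.card = S.card), ιMulti_family,
    ExteriorAlgebra.ιMulti_apply]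
  have : (List.ofFn fun j => (ExteriorAlgebra.ι R) ((b ∘ (ofFinEmbEquiv.symm (ofCard (rfl : S.card = S.card)))) j))
      = (List.ofFn fun j => (b ∘ (ofFinEmbEquiv.symm (ofCard (rfl : S.card = S.card)))) j).map (CliffordAlgebra.ι (0 : QuadraticForm R M)) := by
    rw [List.map_ofFn]; rfl
  rw [this]
  have := list_prod_mem_evenOdd (Q := (0 : QuadraticForm R M))
    (List.ofFn fun j => (b ∘ (ofFinEmbEquiv.symm (ofCard (rfl : S.card = S.card)))) j)
  rwa [List.length_ofFn] at this

end Groth.Agent.Lib.Helper83.Cl2
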