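import Mathlib

/-! Clifford algebra contraction identities, parity of changeForm, equivariance (helper83). -/
set_option autoImplicit false

namespace Groth.Agent.Lib.Helper83.Cl2

open CliffordAlgebra

variable {R : Type*} [CommRing R] {M : Type*} [AddCommGroup M] [Module R M]
variable {Q Q' : QuadraticForm R M}

/-- twisted commutator with a vector is contraction with the polar form. -/
theorem ι_mul_sub_involute_mul_ι (v : M) (x : CliffordAlgebra Q) :
    ι Q v * x - involute x * ι Q v = contractLeft (QuadraticMap.polarBilin Q v) x := by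
  induction x using CliffordAlgebra.left_induction with
  | algebraMap r =>
    rw [contractLeft_algebraMap, AlgHom.commutes, Algebra.commutes, sub_self]
  | add x y hx hy =>
    rw [map_add, map_add, mul_add, add_mul, ← hx, ← hy]; abel
  | ι_mul x m hx =>
    rw [contractLeft_ι_mul, ← hx, map_mul, involute_ι]
    have h := ι_mul_ι_add_swap (Q := Q) v m
    have h' : ι Q v * ι Q m = algebraMap R _ (QuadraticMap.polar Q v m) - ι Q m * ι Q v := by
      rw [← h]; abel
    rw [← mul_assoc, h', sub_mul, ← Algebra.smul_def, QuadraticMap.polarBilin_apply_apply]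
    simp only [mul_sub, neg_mul, mul_assoc]
    abel

theorem contractLeft_mem_evenOdd (d : Module.Dual R M) (n : ZMod 2) (x : CliffordAlgebra Q)
    (hx : x ∈ evenOdd Q n) : contractLeft d x ∈ evenOdd Q (n + 1) := by
  have step : ∀ (k : ZMod 2) (m₁ m₂ : M) (y : CliffordAlgebra Q), y ∈ evenOdd Q k →
      contractLeft d y ∈ evenOdd Q (k + 1) →
      contractLeft d (ι Q m₁ * ι Q m₂ * y) ∈ evenOdd Q (k + 1) := by
    intro k m₁ m₂ y hy ih
    rw [mul_assoc, contractLeft_ι_mul, contractLeft_ι_mul]
    have h1 : ι Q m₂ * y ∈ evenOdd Q (k + 1) := by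
      have := SetLike.mul_mem_graded (ι_mem_evenOdd_one Q m₂) hy
      rwa [add_comm] at this
    have h2 : ι Q m₁ * y ∈ evenOdd Q (k + 1) := by
      have := SetLike.mul_mem_graded (ι_mem_evenOdd_one Q m₁) hy
      rwa [add_comm] at this
    have h3 : ι Q m₁ * (ι Q m₂ * contractLeft d y) ∈ evenOdd Q (k + 1) := by
      have := SetLike.mul_mem_graded (ι_mem_evenOdd_one Q m₁)
        (SetLike.mul_mem_graded (ι_mem_evenOdd_one Q m₂) ih)
      convert this using 2
      have : (1 : ZMod 2) + 1 = 0 := by decide
      rw [← add_assoc, this, zero_add]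
    refine Submodule.sub_mem _ (Submodule.smul_mem _ _ h1) ?_
    rw [mul_sub, mul_smul_comm]
    exact Submodule.sub_mem _ (Submodule.smul_mem _ _ h2) h3
  fin_cases n
  · refine even_induction Q (motive := fun x _ => contractLeft d x ∈ evenOdd Q (0 + 1)) ?_ ?_ ?_ x hx
    · intro r; rw [contractLeft_algebraMap]; exact Submodule.zero_mem _
    · intro x y _ _ hx hy; rw [map_add]; exact Submodule.add_mem _ hx hy
    · intro m₁ m₂ y hy ih; exact step 0 m₁ m₂ y hy ih
  · refine odd_induction Q (P := fun x _ => contractLeft d x ∈ evenOdd Q (1 + 1)) ?_ ?_ ?_ x hx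
    · intro v; rw [contractLeft_ι]
      have : algebraMap R (CliffordAlgebra Q) (d v) ∈ evenOdd Q 0 := SetLike.algebraMap_mem_graded (evenOdd Q) _
      exact this
    · intro x y _ _ hx hy; rw [map_add]; exact Submodule.add_mem _ hx hy
    · intro m₁ m₂ y hy ih; exact step 1 m₁ m₂ y hy ih

theorem changeForm_mem_evenOdd {B : LinearMap.BilinForm R M} (h : B.toQuadraticMap = Q' - Q)
    (n : ZMod 2) (x : CliffordAlgebra Q) (hx : x ∈ evenOdd Q n) :
    changeForm h x ∈ evenOdd Q' n := by
  have h11 : (1 : ZMod 2) + 1 = 0 := by decide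
  have step : ∀ (k : ZMod 2) (m₁ m₂ : M) (y : CliffordAlgebra Q),
      changeForm h y ∈ evenOdd Q' k →
      changeForm h (ι Q m₁ * ι Q m₂ * y) ∈ evenOdd Q' k := by
    intro k m₁ m₂ y ih
    rw [mul_assoc, changeForm_ι_mul, changeForm_ι_mul]
    have h1 : ι Q' m₂ * changeForm h y - contractLeft (B m₂) (changeForm h y) ∈ evenOdd Q' (k + 1) := by
      refine Submodule.sub_mem _ ?_ (contractLeft_mem_evenOdd _ _ _ ih)
      have := SetLike.mul_mem_graded (ι_mem_evenOdd_one Q' m₂) ih
      rwa [add_comm] at this
    refine Submodule.sub_mem _ ?_ ?_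
    · have := SetLike.mul_mem_graded (ι_mem_evenOdd_one Q' m₁) h1
      convert this using 2
      rw [add_comm k, ← add_assoc, h11, zero_add]
    · have := contractLeft_mem_evenOdd (B m₁) _ _ h1
      convert this using 2
      rw [add_assoc, h11, add_zero]
  fin_cases n
  · refine even_induction Q (motive := fun x _ => changeForm h x ∈ evenOdd Q' 0) ?_ ?_ ?_ x hx
    · intro r; rw [changeForm_algebraMap]; exact SetLike.algebraMap_mem_graded _ _
    · intro x y _ _ hx hy; rw [map_add]; exact Submodule.add_mem _ hx hy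
    · intro m₁ m₂ y _ ih; exact step 0 m₁ m₂ y ih
  · refine odd_induction Q (P := fun x _ => changeForm h x ∈ evenOdd Q' 1) ?_ ?_ ?_ x hx
    · intro v; rw [changeForm_ι]; exact ι_mem_evenOdd_one _ _
    · intro x y _ _ hx hy; rw [map_add]; exact Submodule.add_mem _ hx hy
    · intro m₁ m₂ y _ ih; exact step 1 m₁ m₂ y ih


theorem map_contractLeft {M₂ : Type*} [AddCommGroup M₂] [Module R M₂] {Q₂ : QuadraticForm R M₂}
    (f : Q →qᵢ Q₂) (d : Module.Dual R M₂) (x : CliffordAlgebra Q) :
    CliffordAlgebra.map f (contractLeft (d ∘ₗ f.toLinearMap) x) = contractLeft d (CliffordAlgebra.map f x) := by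
  induction x using CliffordAlgebra.left_induction with
  | algebraMap r => simp
  | add x y hx hy => simp only [map_add, hx, hy]
  | ι_mul x m hx =>
    rw [contractLeft_ι_mul, map_sub, map_smul, map_mul, map_mul, map_apply_ι, hx, contractLeft_ι_mul]
    rfl

theorem changeForm_map {B : LinearMap.BilinForm R M} (h : B.toQuadraticMap = Q' - Q)
    (g : Q →qᵢ Q) (g' : Q' →qᵢ Q') (hgg : ∀ m, g m = g' m)
    (hB : ∀ m m', B (g m) (g m') = B m m') (x : CliffordAlgebra Q) :
    changeForm h (CliffordAlgebra.map g x) = CliffordAlgebra.map g' (changeForm h x) := by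
  induction x using CliffordAlgebra.left_induction with
  | algebraMap r => simp
  | add x y hx hy => simp only [map_add, hx, hy]
  | ι_mul x m hx =>
    rw [map_mul, map_apply_ι, changeForm_ι_mul, hx, changeForm_ι_mul, map_sub, map_mul, map_apply_ι,
      ← hgg, ← map_contractLeft]
    have : (B (g m)) ∘ₗ g'.toLinearMap = B m := by
      ext m'
      simp only [LinearMap.comp_apply]
      change B (g m) (g' m') = B m m'
      rw [← hgg, hB]
    rw [this]

end Groth.Agent.Lib.Helper83.Cl2
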