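import Groth.Agent.Lib.Helper83.Cl2A
import Groth.Agent.Lib.Helper83.Cl2B
set_option autoImplicit false

namespace Groth.Agent.Lib.Helper83.Cl2

open CliffordAlgebra

variable {R : Type*} [CommRing R] [Invertible (2 : R)] {M : Type*} [AddCommGroup M] [Module R M]
variable (Q : QuadraticForm R M)

/-- minus half the polar form. -/
noncomputable def hB : LinearMap.BilinForm R M := -((⅟2 : R) • QuadraticMap.polarBilin Q)

theorem hB_apply (v w : M) : hB Q v w = -(⅟2 * QuadraticMap.polar Q v w) := by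
  simp [hB]

theorem hB_proof : (hB Q).toQuadraticMap = (0 : QuadraticForm R M) - Q := by
  ext v
  rw [LinearMap.BilinMap.toQuadraticMap_apply, hB_apply, QuadraticMap.polar_self]
  simp only [zero_sub]
  rw [_root_.neg_apply, nsmul_eq_mul, Nat.cast_ofNat, ← mul_assoc, invOf_mul_self, one_mul]

/-- The linear iso from the Clifford algebra to the exterior algebra. -/
noncomputable def Φ : CliffordAlgebra Q ≃ₗ[R] CliffordAlgebra (0 : QuadraticForm R M) :=
  changeFormEquiv (hB_proof Q)

theorem Φ_apply (x : CliffordAlgebra Q) : Φ Q x = changeForm (hB_proof Q) x := rfl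

theorem Φ_symm_apply (y : CliffordAlgebra (0 : QuadraticForm R M)) :
    (Φ Q).symm y = changeForm (changeForm.neg_proof (hB_proof Q)) y := rfl

theorem Φ_algebraMap (r : R) : Φ Q (algebraMap R _ r) = algebraMap R _ r :=
  changeForm_algebraMap (hB_proof Q) r

theorem Φ_ι_mul (m : M) (x : CliffordAlgebra Q) :
    Φ Q (ι Q m * x) = ι (0 : QuadraticForm R M) m * Φ Q x
      + (⅟2 : R) • contractLeft (QuadraticMap.polarBilin Q m) (Φ Q x) := by
  rw [Φ_apply, changeForm_ι_mul]
  have : hB Q m = -((⅟2 : R) • QuadraticMap.polarBilin Q m) := rfl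
  rw [this, map_neg, map_smul, LinearMap.neg_apply, LinearMap.smul_apply, sub_neg_eq_add]
  rfl

theorem Φ_contractLeft (d : Module.Dual R M) (x : CliffordAlgebra Q) :
    Φ Q (contractLeft d x) = contractLeft d (Φ Q x) := changeForm_contractLeft (hB_proof Q) d x

theorem Φ_mem_evenOdd (n : ZMod 2) (x : CliffordAlgebra Q) (hx : x ∈ evenOdd Q n) :
    Φ Q x ∈ evenOdd (0 : QuadraticForm R M) n := changeForm_mem_evenOdd (hB_proof Q) n x hx

theorem Φ_symm_mem_evenOdd (n : ZMod 2) (y : CliffordAlgebra (0 : QuadraticForm R M))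
    (hy : y ∈ evenOdd (0 : QuadraticForm R M) n) :
    (Φ Q).symm y ∈ evenOdd Q n := changeForm_mem_evenOdd (changeForm.neg_proof (hB_proof Q)) n y hy

theorem Φ_map (g : Q →qᵢ Q) (x : CliffordAlgebra Q) :
    Φ Q (CliffordAlgebra.map g x) = ExteriorAlgebra.map g.toLinearMap (Φ Q x) := by
  rw [Φ_apply, Φ_apply]
  refine changeForm_map (hB_proof Q) g { g.toLinearMap with map_app' := fun _ => rfl } (fun _ => rfl) ?_ x
  intro m m'
  rw [hB_apply, hB_apply, QuadraticMap.polar, QuadraticMap.polar, ← map_add, g.map_app, g.map_app, g.map_app]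

end Groth.Agent.Lib.Helper83.Cl2
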