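import Groth.Agent.Lib.Helper83.Cl2C
set_option autoImplicit false

namespace Groth.Agent.Lib.Helper83.Cl2

open CliffordAlgebra

variable {R : Type*} [CommRing R] [Invertible (2 : R)] {M : Type*} [AddCommGroup M] [Module R M]
variable (Q : QuadraticForm R M)
variable {I : Type*} [LinearOrder I] [Fintype I] (b : Module.Basis I R M)

/-- the volume element of the Clifford algebra. -/
noncomputable def ω : CliffordAlgebra Q := (Φ Q).symm (b.ExteriorAlgebra Finset.univ)

theorem Φ_ω : Φ Q (ω Q b) = b.ExteriorAlgebra Finset.univ := (Φ Q).apply_symm_apply _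

theorem ω_mem_evenOdd : ω Q b ∈ evenOdd Q (Fintype.card I : ZMod 2) := by
  refine Φ_symm_mem_evenOdd Q _ _ ?_
  have := E_mem_evenOdd b (Finset.univ : Finset I)
  rwa [Finset.card_univ] at this

theorem ι_mul_ω (v : M) :
    ι Q v * ω Q b = (⅟2 : R) • contractLeft (QuadraticMap.polarBilin Q v) (ω Q b) := by
  apply (Φ Q).injective
  rw [Φ_ι_mul, map_smul, Φ_contractLeft, Φ_ω]
  have := ι_mul_E_univ b v
  change ι (0 : QuadraticForm R M) v * _ = 0 at this
  rw [this, zero_add]

/-- `x` with `v x = ½ (polar v)⌋x` for all `v` is a multiple of `ω`. -/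
theorem eq_smul_ω_of_ι_mul (x : CliffordAlgebra Q)
    (h : ∀ v, ι Q v * x = (⅟2 : R) • contractLeft (QuadraticMap.polarBilin Q v) x) :
    ∃ c : R, x = c • ω Q b := by
  have h0 : ∀ i, ExteriorAlgebra.ι R (b i) * Φ Q x = 0 := by
    intro i
    have h1 := congrArg (Φ Q) (h (b i))
    rw [Φ_ι_mul, map_smul, Φ_contractLeft] at h1
    exact add_eq_right.mp h1
  have := eq_smul_top_of_ι_mul_eq_zero b (Φ Q x) h0
  refine ⟨b.ExteriorAlgebra.repr (Φ Q x) Finset.univ, ?_⟩
  apply (Φ Q).injective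
  rw [map_smul, Φ_ω]
  exact this

include b in
theorem eq_algebraMap_of_contractLeft (x : CliffordAlgebra Q)
    (h : ∀ d : Module.Dual R M, contractLeft d x = 0) : ∃ r : R, x = algebraMap R _ r := by
  have h0 : ∀ i, contractLeft (b.coord i) (Φ Q x) = 0 := by
    intro i
    rw [← Φ_contractLeft, h, map_zero]
  have := eq_algebraMap_of_contractLeft_eq_zero b (Φ Q x) h0
  refine ⟨b.ExteriorAlgebra.repr (Φ Q x) ∅, ?_⟩
  apply (Φ Q).injective
  rw [Φ_algebraMap]
  exact this

theorem map_ω (g : Q →qᵢ Q) :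
    CliffordAlgebra.map g (ω Q b) = LinearMap.det g.toLinearMap • ω Q b := by
  apply (Φ Q).injective
  rw [Φ_map, map_smul, Φ_ω, map_E_univ]

theorem eq_zero_of_add_smul_ω [Nonempty I] (a c : R)
    (h : algebraMap R (CliffordAlgebra Q) a + c • ω Q b = 0) : a = 0 ∧ c = 0 := by
  classical
  have h1 := congrArg (Φ Q) h
  rw [map_add, map_smul, Φ_ω, Φ_algebraMap, map_zero, Algebra.algebraMap_eq_smul_one,
    ← E_empty b] at h1
  have hne : (∅ : Finset I) ≠ Finset.univ := by
    intro e
    have : (Classical.arbitrary I) ∈ (∅ : Finset I) := e ▸ Finset.mem_univ _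
    simp at this
  have h2 := congrArg (fun y => b.ExteriorAlgebra.repr y) h1
  simp only [map_add, map_smul, Module.Basis.repr_self, map_zero] at h2
  constructor
  · have := DFunLike.congr_fun h2 ∅
    simpa [Finsupp.single_eq_of_ne' hne, Finsupp.single_eq_of_ne' (Ne.symm hne)] using this
  · have := DFunLike.congr_fun h2 Finset.univ
    simpa [Finsupp.single_eq_of_ne' hne, Finsupp.single_eq_of_ne' (Ne.symm hne)] using this

/-- even and anticommuting with vectors implies multiple of `ω`. -/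
theorem eq_smul_ω_of_even_anticomm (x : CliffordAlgebra Q) (hx : x ∈ evenOdd Q 0)
    (h : ∀ v, ι Q v * x = -(x * ι Q v)) : ∃ c : R, x = c • ω Q b := by
  refine eq_smul_ω_of_ι_mul Q b x fun v => ?_
  have h1 := ι_mul_sub_involute_mul_ι (Q := Q) v x
  rw [involute_eq_of_mem_even hx] at h1
  have h2 : x * ι Q v = -(ι Q v * x) := by rw [h v, neg_neg]
  rw [h2, sub_neg_eq_add, ← two_smul R] at h1
  rw [← h1, smul_smul, invOf_mul_self, one_smul]

/-- odd and commuting with vectors implies multiple of `ω`. -/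
theorem eq_smul_ω_of_odd_comm (x : CliffordAlgebra Q) (hx : x ∈ evenOdd Q 1)
    (h : ∀ v, ι Q v * x = x * ι Q v) : ∃ c : R, x = c • ω Q b := by
  refine eq_smul_ω_of_ι_mul Q b x fun v => ?_
  have h1 := ι_mul_sub_involute_mul_ι (Q := Q) v x
  rw [involute_eq_of_mem_odd hx, neg_mul, sub_neg_eq_add, ← h v, ← two_smul R] at h1
  rw [← h1, smul_smul, invOf_mul_self, one_smul]

include b in
/-- even and commuting with vectors implies scalar, for a regular form. -/
theorem eq_algebraMap_of_even_comm (hQ : Function.Surjective (QuadraticMap.polarBilin Q))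
    (x : CliffordAlgebra Q) (hx : x ∈ evenOdd Q 0)
    (h : ∀ v, ι Q v * x = x * ι Q v) : ∃ r : R, x = algebraMap R _ r := by
  refine eq_algebraMap_of_contractLeft Q b x fun d => ?_
  obtain ⟨v, rfl⟩ := hQ d
  rw [← ι_mul_sub_involute_mul_ι, involute_eq_of_mem_even hx, h v, sub_self]

theorem ω_mul_ι_of_even (hI : Even (Fintype.card I)) (v : M) :
    ω Q b * ι Q v = -(ι Q v * ω Q b) := by
  have hx : ω Q b ∈ evenOdd Q 0 := by
    have := ω_mem_evenOdd Q b
    rwa [(ZMod.natCast_eq_zero_iff_even).mpr hI] at this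
  have h1 := ι_mul_sub_involute_mul_ι (Q := Q) v (ω Q b)
  rw [involute_eq_of_mem_even hx] at h1
  have h3 : contractLeft (QuadraticMap.polarBilin Q v) (ω Q b) = (2 : R) • (ι Q v * ω Q b) := by
    rw [ι_mul_ω, smul_smul, mul_invOf_self, one_smul]
  rw [h3, two_smul] at h1
  calc ω Q b * ι Q v = ι Q v * ω Q b - (ι Q v * ω Q b - ω Q b * ι Q v) := by abel
    _ = ι Q v * ω Q b - (ι Q v * ω Q b + ι Q v * ω Q b) := by rw [h1]
    _ = -(ι Q v * ω Q b) := by abel

theorem ω_mul_ι_of_odd (hI : Odd (Fintype.card I)) (v : M) :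
    ω Q b * ι Q v = ι Q v * ω Q b := by
  have hx : ω Q b ∈ evenOdd Q 1 := by
    have := ω_mem_evenOdd Q b
    rwa [(ZMod.natCast_eq_one_iff_odd).mpr hI] at this
  have h1 := ι_mul_sub_involute_mul_ι (Q := Q) v (ω Q b)
  rw [involute_eq_of_mem_odd hx, neg_mul, sub_neg_eq_add] at h1
  have h3 : contractLeft (QuadraticMap.polarBilin Q v) (ω Q b) = (2 : R) • (ι Q v * ω Q b) := by
    rw [ι_mul_ω, smul_smul, mul_invOf_self, one_smul]
  rw [h3, two_smul] at h1
  exact add_left_cancel h1

end Groth.Agent.Lib.Helper83.Cl2
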