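import Groth.Agent.Lib.Helper83.Cl2D
set_option autoImplicit false

namespace Groth.Agent.Lib.Helper83.Cl2

open CliffordAlgebra

variable {R : Type*} [CommRing R] [Invertible (2 : R)] {M : Type*} [AddCommGroup M] [Module R M]
variable (Q : QuadraticForm R M)
variable {I : Type*} [LinearOrder I] [Fintype I] (b : Module.Basis I R M)

/-- the span of `1` and `ω`. -/
noncomputable def Zω : Submodule R (CliffordAlgebra Q) := Submodule.span R {1, ω Q b}

theorem mem_Zω_iff (z : CliffordAlgebra Q) :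
    z ∈ Zω Q b ↔ ∃ a c : R, z = algebraMap R _ a + c • ω Q b := by
  rw [Zω, Submodule.mem_span_pair]
  constructor
  · rintro ⟨a, c, rfl⟩; exact ⟨a, c, by rw [Algebra.algebraMap_eq_smul_one]⟩
  · rintro ⟨a, c, rfl⟩; exact ⟨a, c, by rw [Algebra.algebraMap_eq_smul_one]⟩

theorem two_Q_smul_mem_Zω
    (hQ : Function.Surjective (QuadraticMap.polarBilin Q))
    (x : CliffordAlgebra Q) (hx : x ∈ evenOdd Q 0)
    (hc : ∀ u v, ι Q u * ι Q v * x = x * (ι Q u * ι Q v)) (v : M) :
    ((2 : R) * Q v) • x ∈ Zω Q b := by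
  set y := ι Q v * x * ι Q v with hy
  have hA : ∀ w, ι Q w * y = Q v • (x * ι Q w) := by
    intro w
    rw [hy, ← mul_assoc, ← mul_assoc, hc w v, mul_assoc, mul_assoc, ι_sq_scalar, ← mul_assoc,
      ← Algebra.commutes, ← Algebra.smul_def]
  have hB : ∀ w, y * ι Q w = Q v • (ι Q w * x) := by
    intro w
    rw [hy, mul_assoc, mul_assoc, ← hc v w, ← mul_assoc, ← mul_assoc, ι_sq_scalar, mul_assoc,
      ← Algebra.smul_def]
  have hyeven : y ∈ evenOdd Q 0 := by
    have := SetLike.mul_mem_graded (SetLike.mul_mem_graded (ι_mem_evenOdd_one Q v) hx) (ι_mem_evenOdd_one Q v)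
    exact this
  obtain ⟨r, hr⟩ := eq_algebraMap_of_even_comm Q b hQ (Q v • x + y)
    (Submodule.add_mem _ (Submodule.smul_mem _ _ hx) hyeven) (fun w => by
      rw [mul_add, add_mul, hA, hB, mul_smul_comm, smul_mul_assoc, add_comm])
  obtain ⟨c, hc'⟩ := eq_smul_ω_of_even_anticomm Q b (Q v • x - y)
    (Submodule.sub_mem _ (Submodule.smul_mem _ _ hx) hyeven) (fun w => by
      rw [mul_sub, sub_mul, hA, hB, mul_smul_comm, smul_mul_assoc, neg_sub])
  rw [mem_Zω_iff]
  refine ⟨r, c, ?_⟩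
  rw [← hr, ← hc', mul_smul, two_smul]
  abel

theorem mem_Zω_of_center_even [Nonempty I]
    (hQ : Function.Surjective (QuadraticMap.polarBilin Q))
    (x : CliffordAlgebra Q) (hx : x ∈ evenOdd Q 0)
    (hc : ∀ u v, ι Q u * ι Q v * x = x * (ι Q u * ι Q v)) : x ∈ Zω Q b := by
  obtain ⟨w, hw⟩ := hQ (b.coord (Classical.arbitrary I))
  set u := b (Classical.arbitrary I) with hu
  have h1 : QuadraticMap.polar Q w u = 1 := by
    have := LinearMap.congr_fun hw u
    rw [QuadraticMap.polarBilin_apply_apply] at this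
    rw [this, hu]; simp
  have h2 : (2 : R) • x = ((2 : R) * Q (w + u)) • x - ((2 : R) * Q w) • x - ((2 : R) * Q u) • x := by
    rw [← sub_smul, ← sub_smul, ← mul_sub, ← mul_sub]
    have : Q (w + u) - Q w - Q u = 1 := h1
    rw [this, mul_one]
  have h3 : (2 : R) • x ∈ Zω Q b := by
    rw [h2]
    exact Submodule.sub_mem _ (Submodule.sub_mem _ (two_Q_smul_mem_Zω Q b hQ x hx hc _)
      (two_Q_smul_mem_Zω Q b hQ x hx hc _)) (two_Q_smul_mem_Zω Q b hQ x hx hc _)
  have := Submodule.smul_mem _ (⅟2 : R) h3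
  rwa [smul_smul, invOf_mul_self, one_smul] at this

end Groth.Agent.Lib.Helper83.Cl2
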