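import Groth.Agent.Lib.Helper83.Cl2E
import Groth.Prelude.Def_QuadGrp
set_option autoImplicit false

namespace Groth.Agent.Lib.Helper83.Cl2

open CliffordAlgebra

universe u v

variable {R : Type u} [CommRing R] [Invertible (2 : R)] {M : Type v} [AddCommGroup M] [Module R M]
variable (Q : QuadraticForm R M)
variable {I : Type*} [LinearOrder I] [Fintype I] (b : Module.Basis I R M)

theorem ω_comm_even (hI : Even (Fintype.card I)) (y : CliffordAlgebra Q) (hy : y ∈ evenOdd Q 0) :
    y * ω Q b = ω Q b * y := by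
  refine even_induction Q (motive := fun y _ => y * ω Q b = ω Q b * y) ?_ ?_ ?_ y hy
  · intro r; exact Algebra.commutes r _
  · intro x y _ _ hx hy; rw [add_mul, mul_add, hx, hy]
  · intro m₁ m₂ x _ ih
    have h1 := ω_mul_ι_of_even Q b hI m₁
    have h2 := ω_mul_ι_of_even Q b hI m₂
    calc ι Q m₁ * ι Q m₂ * x * ω Q b = ι Q m₁ * ι Q m₂ * (ω Q b * x) := by rw [mul_assoc, ih]
      _ = ι Q m₁ * (ι Q m₂ * ω Q b) * x := by simp only [mul_assoc]
      _ = ι Q m₁ * (-(ω Q b * ι Q m₂)) * x := by rw [h2, neg_neg]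
      _ = -(ι Q m₁ * ω Q b) * ι Q m₂ * x := by simp only [mul_neg, neg_mul, mul_assoc]
      _ = ω Q b * ι Q m₁ * ι Q m₂ * x := by rw [h1]
      _ = ω Q b * (ι Q m₁ * ι Q m₂ * x) := by simp only [mul_assoc]

theorem main_S16990 {M : Type v} [AddCommGroup M] [Module R M] [Module.Free R M] [Module.Finite R M]
    (m : ℕ) (hm : 1 ≤ m) (hM : Module.finrank R M = 2 * m) (Q : QuadraticForm R M) (hQ : QuadGrp.IsRegular Q) :
    QuadGrp.SOeven Q = QuadGrp.SO' Q := by
  classical
  rcases subsingleton_or_nontrivial R with hR | hR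
  · have : Subsingleton M := Module.subsingleton R M
    ext g
    have hg1 : g = 1 := LinearEquiv.ext fun x => Subsingleton.elim _ _
    rw [hg1]
    exact ⟨fun _ => one_mem _, fun _ => one_mem _⟩
  let b : Module.Basis (Fin (2 * m)) R M := Module.finBasisOfFinrankEq R M hM
  have hI : Even (Fintype.card (Fin (2 * m))) := by rw [Fintype.card_fin]; exact even_two_mul m
  have : Nonempty (Fin (2 * m)) := ⟨⟨0, by omega⟩⟩
  have hωeven : ω Q b ∈ evenOdd Q 0 := by
    have := ω_mem_evenOdd Q b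
    rwa [(ZMod.natCast_eq_zero_iff_even).mpr hI] at this
  have hmap : ∀ (g : M ≃ₗ[R] M) (hg : g ∈ QuadGrp.O Q),
      CliffordAlgebra.map (QuadGrp.isometryOfMem Q g hg) (ω Q b) = ((LinearEquiv.det g : Rˣ) : R) • ω Q b := by
    intro g hg
    rw [map_ω, LinearEquiv.coe_det]
    rfl
  ext g
  constructor
  · rintro ⟨hg, hD⟩
    refine ⟨hg, ?_⟩
    change LinearEquiv.det g = 1
    let z : ↥(CliffordAlgebra.even Q) := ⟨ω Q b, hωeven⟩
    have hz : z ∈ Subalgebra.center R ↥(CliffordAlgebra.even Q) := by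
      rw [Subalgebra.mem_center_iff]
      intro y
      apply Subtype.ext
      exact ω_comm_even Q b hI y.1 y.2
    have h1 := hD z hz
    change CliffordAlgebra.map (QuadGrp.isometryOfMem Q g hg) (ω Q b) = ω Q b at h1
    rw [hmap] at h1
    have h2 : algebraMap R (CliffordAlgebra Q) 0 + (((LinearEquiv.det g : Rˣ) : R) - 1) • ω Q b = 0 := by
      rw [map_zero, zero_add, sub_smul, h1, one_smul, sub_self]
    have := (eq_zero_of_add_smul_ω Q b _ _ h2).2
    exact Units.ext (sub_eq_zero.mp this)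
  · rintro ⟨hg, hdet⟩
    change LinearEquiv.det g = 1 at hdet
    refine ⟨hg, ?_⟩
    intro z hz
    rw [Subalgebra.mem_center_iff] at hz
    have hzmem : (z : CliffordAlgebra Q) ∈ Zω Q b := by
      refine mem_Zω_of_center_even Q b hQ.2 _ z.2 ?_
      intro u v
      have := hz ⟨ι Q u * ι Q v, ι_mul_ι_mem_evenOdd_zero Q u v⟩
      exact congrArg Subtype.val this
    obtain ⟨a, c, hac⟩ := (mem_Zω_iff Q b _).mp hzmem
    rw [hac, map_add, map_smul, AlgHom.commutes, hmap, hdet]
    simp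

end Groth.Agent.Lib.Helper83.Cl2
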