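import Groth.Agent.Lib.Helper83.Cl2D
set_option autoImplicit false

namespace Groth.Agent.Lib.Helper83.Cl2

open CliffordAlgebra

variable {R : Type*} [CommRing R] {M : Type*} [AddCommGroup M] [Module R M]

theorem contractLeft_mul_ι {Q : QuadraticForm R M} (d : Module.Dual R M) (x : CliffordAlgebra Q) (m : M) :
    contractLeft d (x * ι Q m) = contractLeft d x * ι Q m + d m • involute x := by
  induction x using CliffordAlgebra.left_induction with
  | algebraMap r =>
    rw [contractLeft_algebraMap, zero_mul, zero_add, AlgHom.commutes,
      ← Algebra.smul_def, map_smul, contractLeft_ι, Algebra.algebraMap_eq_smul_one,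
      Algebra.algebraMap_eq_smul_one, smul_smul, smul_smul, mul_comm]
  | add x y hx hy =>
    rw [add_mul, map_add, hx, hy, map_add, map_add, add_mul, smul_add]; abel
  | ι_mul x a hx =>
    rw [mul_assoc, contractLeft_ι_mul, hx, contractLeft_ι_mul, map_mul, involute_ι]
    simp only [mul_add, sub_mul, smul_mul_assoc, mul_smul_comm, neg_mul, smul_neg, mul_assoc]
    abel

theorem contractRight_ι_mul {Q : QuadraticForm R M} (d : Module.Dual R M) (x : CliffordAlgebra Q) (n : M) :
    contractRight (ι Q n * x) d = ι Q n * contractRight x d + d n • involute x := by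
  rw [contractRight_eq, reverse.map_mul, reverse_ι, contractLeft_mul_ι, map_add, reverse.map_mul,
    reverse_ι, map_smul, ← contractRight_eq, reverse_involute, reverse_reverse]

theorem contractLeft_involute {Q : QuadraticForm R M} (d : Module.Dual R M) (x : CliffordAlgebra Q) :
    contractLeft d (involute x) = -involute (contractLeft d x) := by
  induction x using CliffordAlgebra.left_induction with
  | algebraMap r => simp
  | add x y hx hy => rw [map_add, map_add, hx, hy, map_add, map_add, neg_add]
  | ι_mul x a hx =>
    rw [map_mul, involute_ι, neg_mul, map_neg, contractLeft_ι_mul, hx, contractLeft_ι_mul, map_sub,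
      map_smul, map_mul, involute_ι]
    simp only [mul_neg, neg_mul, sub_neg_eq_add]

theorem contractRight_contractLeft' {Q : QuadraticForm R M} (d d' : Module.Dual R M) (x : CliffordAlgebra Q) :
    contractRight (contractLeft d x) d' = contractLeft d (contractRight x d') := by
  induction x using CliffordAlgebra.left_induction with
  | algebraMap r => simp
  | add x y hx hy => simp only [map_add, LinearMap.add_apply, hx, hy]
  | ι_mul x a hx =>
    rw [contractLeft_ι_mul, map_sub, LinearMap.sub_apply, map_smul, LinearMap.smul_apply,
      contractRight_ι_mul, hx, contractRight_ι_mul, map_add, contractLeft_ι_mul, map_smul,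
      contractLeft_involute]
    simp only [smul_neg]
    abel

section half
variable [Invertible (2 : R)] (Q : QuadraticForm R M)

theorem Φ_mul_ι (y : CliffordAlgebra Q) (m : M) :
    Φ Q (y * ι Q m) = Φ Q y * ι (0 : QuadraticForm R M) m
      + (⅟2 : R) • contractRight (Φ Q y) (QuadraticMap.polarBilin Q m) := by
  induction y using CliffordAlgebra.left_induction with
  | algebraMap r =>
    rw [Φ_algebraMap, contractRight_algebraMap, smul_zero, add_zero, ← Algebra.smul_def, map_smul,
      ← Algebra.smul_def]
    congr 1
    exact changeForm_ι (hB_proof Q) m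
  | add x y hx hy =>
    rw [add_mul, map_add, hx, hy, map_add, add_mul, map_add, LinearMap.add_apply, smul_add]; abel
  | ι_mul x n hx =>
    rw [mul_assoc, Φ_ι_mul, hx, Φ_ι_mul, map_add, map_smul, contractLeft_mul_ι, add_mul, map_add,
      LinearMap.add_apply, contractRight_ι_mul, map_smul, LinearMap.smul_apply,
      contractRight_contractLeft']
    have hsymm : QuadraticMap.polarBilin Q n m = QuadraticMap.polarBilin Q m n := by
      rw [QuadraticMap.polarBilin_apply_apply, QuadraticMap.polarBilin_apply_apply,
        QuadraticMap.polar_comm]
    rw [hsymm]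
    simp only [mul_add, smul_add, smul_mul_assoc, mul_smul_comm, smul_smul, mul_assoc]
    abel

theorem Φ_reverse (x : CliffordAlgebra Q) : Φ Q (reverse x) = reverse (Φ Q x) := by
  induction x using CliffordAlgebra.left_induction with
  | algebraMap r => rw [reverse.commutes, Φ_algebraMap, reverse.commutes]
  | add x y hx hy => rw [map_add, map_add, hx, hy, map_add, map_add]
  | ι_mul x m hx =>
    rw [reverse.map_mul, reverse_ι, Φ_mul_ι, hx, Φ_ι_mul, map_add, reverse.map_mul, reverse_ι,
      map_smul, contractRight_eq, reverse_reverse]

end half

end Groth.Agent.Lib.Helper83.Cl2
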