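import Groth.Agent.Lib.Helper83.Cl2G
set_option autoImplicit false

namespace Groth.Agent.Lib.Helper83.Cl2

open CliffordAlgebra Set Set.powersetCard

variable {R : Type*} [CommRing R] {M : Type*} [AddCommGroup M] [Module R M]

theorem ext_prod_mul_ι (l : List M) (a : M) :
    (l.map (ι (0 : QuadraticForm R M))).prod * ι (0 : QuadraticForm R M) a
      = ((-1 : R) ^ l.length) • (ι (0 : QuadraticForm R M) a * (l.map (ι (0 : QuadraticForm R M))).prod) := by
  induction l with
  | nil => simp
  | cons c l ih =>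
    rw [List.map_cons, List.prod_cons, mul_assoc, ih, mul_smul_comm, List.length_cons, pow_succ,
      mul_smul, ← mul_assoc, ← mul_assoc]
    congr 1
    have h := ι_mul_ι_add_swap (Q := (0 : QuadraticForm R M)) c a
    have h' : ι (0 : QuadraticForm R M) c * ι (0 : QuadraticForm R M) a
        = -(ι (0 : QuadraticForm R M) a * ι (0 : QuadraticForm R M) c) := by
      rw [eq_neg_iff_add_eq_zero, h]; simp [QuadraticMap.polar]
    rw [h', neg_mul, neg_smul, one_smul]

theorem ext_reverse_prod (l : List M) :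
    (l.reverse.map (ι (0 : QuadraticForm R M))).prod
      = ((-1 : R) ^ (l.length * (l.length - 1) / 2)) • (l.map (ι (0 : QuadraticForm R M))).prod := by
  induction l with
  | nil => simp
  | cons c l ih =>
    rw [List.reverse_cons, List.map_append, List.prod_append, ih, List.map_cons, List.map_nil,
      List.prod_cons, List.prod_nil, mul_one, smul_mul_assoc, ext_prod_mul_ι, smul_smul,
      List.map_cons, List.prod_cons, List.length_cons, ← pow_add, Nat.triangle_succ]

theorem reverse_E {I : Type*} [LinearOrder I] (b : Module.Basis I R M) (S : Finset I) :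
    reverse (Q := (0 : QuadraticForm R M)) (b.ExteriorAlgebra S)
      = ((-1 : R) ^ (S.card * (S.card - 1) / 2)) • b.ExteriorAlgebra S := by
  rw [ExteriorAlgebra.basis_apply_ofCard b (rfl : S.card = S.card), ExteriorAlgebra.ιMulti_family,
    ExteriorAlgebra.ιMulti_apply]
  have : (List.ofFn fun j => (ExteriorAlgebra.ι R) ((b ∘ (ofFinEmbEquiv.symm (ofCard (rfl : S.card = S.card)))) j))
      = (List.ofFn fun j => (b ∘ (ofFinEmbEquiv.symm (ofCard (rfl : S.card = S.card)))) j).map (CliffordAlgebra.ι (0 : QuadraticForm R M)) := by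
    rw [List.map_ofFn]; rfl
  rw [this, reverse_prod_map_ι, ← List.map_reverse, ext_reverse_prod, List.length_ofFn]

section half
variable [Invertible (2 : R)] (Q : QuadraticForm R M)
variable {I : Type*} [LinearOrder I] [Fintype I] (b : Module.Basis I R M)

theorem reverse_ω : reverse (ω Q b)
    = ((-1 : R) ^ (Fintype.card I * (Fintype.card I - 1) / 2)) • ω Q b := by
  apply (Φ Q).injective
  rw [Φ_reverse, map_smul, Φ_ω, reverse_E, Finset.card_univ]

theorem star_ω_of_odd (hI : Odd (Fintype.card I)) : star (ω Q b)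
    = (-((-1 : R) ^ (Fintype.card I * (Fintype.card I - 1) / 2))) • ω Q b := by
  have hx : ω Q b ∈ evenOdd Q 1 := by
    have := ω_mem_evenOdd Q b
    rwa [(ZMod.natCast_eq_one_iff_odd).mpr hI] at this
  rw [star_def, involute_eq_of_mem_odd hx, map_neg, reverse_ω, neg_smul]

omit [Invertible (2 : R)] in
theorem exists_even_odd (x : CliffordAlgebra Q) :
    ∃ x₀ ∈ evenOdd Q 0, ∃ x₁ ∈ evenOdd Q 1, x = x₀ + x₁ := by
  have h : x ∈ evenOdd Q 0 ⊔ evenOdd Q 1 := by
    rw [(evenOdd_isCompl Q).sup_eq_top]; trivial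
  obtain ⟨x₀, h0, x₁, h1, rfl⟩ := Submodule.mem_sup.mp h
  exact ⟨x₀, h0, x₁, h1, rfl⟩

theorem mem_even_of_involute_eq {x : CliffordAlgebra Q} (h : involute x = x) : x ∈ evenOdd Q 0 := by
  obtain ⟨x₀, h0, x₁, h1, rfl⟩ := exists_even_odd Q x
  rw [map_add, involute_eq_of_mem_even h0, involute_eq_of_mem_odd h1] at h
  have h2 : (2 : R) • x₁ = 0 := by
    rw [two_smul]
    have := add_left_cancel h
    rw [neg_eq_iff_add_eq_zero] at this
    exact this
  have h3 : x₁ = 0 := by
    have := congrArg (fun y => (⅟2 : R) • y) h2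
    simpa [smul_smul] using this
  rw [h3, add_zero]; exact h0

theorem mem_odd_of_involute_eq_neg {x : CliffordAlgebra Q} (h : involute x = -x) : x ∈ evenOdd Q 1 := by
  obtain ⟨x₀, h0, x₁, h1, rfl⟩ := exists_even_odd Q x
  rw [map_add, involute_eq_of_mem_even h0, involute_eq_of_mem_odd h1, neg_add] at h
  have h2 : (2 : R) • x₀ = 0 := by
    rw [two_smul]
    have := add_right_cancel h
    rw [eq_neg_iff_add_eq_zero] at this
    exact this
  have h3 : x₀ = 0 := by
    have := congrArg (fun y => (⅟2 : R) • y) h2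
    simpa [smul_smul] using this
  rw [h3, zero_add]; exact h1

end half

end Groth.Agent.Lib.Helper83.Cl2
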