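import Groth.Agent.Lib.Helper83.Cl2H
import Groth.Prelude.Def_QuadGrp
set_option autoImplicit false

namespace Groth.Agent.Lib.Helper83.Cl2

open CliffordAlgebra
open scoped Pointwise

universe u v
variable {R : Type u} [CommRing R] [Invertible (2 : R)] {M : Type v} [AddCommGroup M] [Module R M]
variable (Q : QuadraticForm R M)
variable {I : Type*} [LinearOrder I] [Fintype I] (b : Module.Basis I R M)

theorem center_odd
    (hQ : Function.Surjective (QuadraticMap.polarBilin Q))
    (c : CliffordAlgebra Q) (hc : ∀ v, ι Q v * c = c * ι Q v) :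
    ∃ a b' : R, c = algebraMap R _ a + b' • ω Q b := by
  obtain ⟨x₀, h0, x₁, h1, rfl⟩ := exists_even_odd Q c
  have h11 : (1 : ZMod 2) + 1 = 0 := by decide
  have key : ∀ v, ι Q v * x₀ = x₀ * ι Q v ∧ ι Q v * x₁ = x₁ * ι Q v := by
    intro v
    have hp : ι Q v * x₀ - x₀ * ι Q v ∈ evenOdd Q 1 := by
      refine Submodule.sub_mem _ ?_ ?_
      · have := SetLike.mul_mem_graded (ι_mem_evenOdd_one Q v) h0
        rwa [add_zero] at this
      · have := SetLike.mul_mem_graded h0 (ι_mem_evenOdd_one Q v)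
        rwa [zero_add] at this
    have hq : ι Q v * x₁ - x₁ * ι Q v ∈ evenOdd Q 0 := by
      refine Submodule.sub_mem _ ?_ ?_
      · have := SetLike.mul_mem_graded (ι_mem_evenOdd_one Q v) h1
        rwa [h11] at this
      · have := SetLike.mul_mem_graded h1 (ι_mem_evenOdd_one Q v)
        rwa [h11] at this
    have hsum : (ι Q v * x₀ - x₀ * ι Q v) + (ι Q v * x₁ - x₁ * ι Q v) = 0 := by
      have := hc v
      rw [mul_add, add_mul] at this
      rw [← sub_eq_zero] at this
      rw [← this]; abel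
    have hp0 : ι Q v * x₀ - x₀ * ι Q v ∈ evenOdd Q 0 := by
      rw [eq_neg_of_add_eq_zero_left hsum]
      exact Submodule.neg_mem _ hq
    have hpz : ι Q v * x₀ - x₀ * ι Q v = 0 :=
      (Submodule.disjoint_def.mp (evenOdd_isCompl Q).disjoint) _ hp0 hp
    rw [hpz, zero_add] at hsum
    exact ⟨sub_eq_zero.mp hpz, sub_eq_zero.mp hsum⟩
  obtain ⟨a, ha⟩ := eq_algebraMap_of_even_comm Q b hQ x₀ h0 (fun v => (key v).1)
  obtain ⟨b', hb'⟩ := eq_smul_ω_of_odd_comm Q b x₁ h1 (fun v => (key v).2)
  exact ⟨a, b', by rw [ha, hb']⟩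

theorem ω_sq (hI : Odd (Fintype.card I))
    (hQ : Function.Surjective (QuadraticMap.polarBilin Q)) :
    ∃ δ : R, ω Q b * ω Q b = algebraMap R _ δ := by
  have hx : ω Q b ∈ evenOdd Q 1 := by
    have := ω_mem_evenOdd Q b
    rwa [(ZMod.natCast_eq_one_iff_odd).mpr hI] at this
  have h11 : (1 : ZMod 2) + 1 = 0 := by decide
  refine eq_algebraMap_of_even_comm Q b hQ _ ?_ ?_
  · have := SetLike.mul_mem_graded hx hx
    rwa [h11] at this
  · intro v
    rw [← mul_assoc, ← ω_mul_ι_of_odd Q b hI v, mul_assoc, ← ω_mul_ι_of_odd Q b hI v, mul_assoc]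

omit [Invertible (2 : R)] in
theorem conj_mem_range_of_mem_GPin' (u : (CliffordAlgebra Q)ˣ) (hu : u ∈ QuadGrp.GPin' Q) (v : M) :
    ∃ v', (u : CliffordAlgebra Q) * ι Q v * ↑u⁻¹ = ι Q v' := by
  rw [QuadGrp.mem_GPin'] at hu
  have h1 : ConjAct.toConjAct u • ι Q v ∈ ConjAct.toConjAct u • LinearMap.range (ι Q) :=
    Submodule.smul_mem_pointwise_smul _ _ _ (LinearMap.mem_range_self _ v)
  rw [hu] at h1
  obtain ⟨v', hv'⟩ := h1
  refine ⟨v', ?_⟩
  rw [hv', ConjAct.units_smul_def, ConjAct.ofConjAct_toConjAct]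

theorem locHomog_of_normOne [Nonempty I] (hI : Odd (Fintype.card I))
    (hs : star (ω Q b) = ω Q b)
    (hQ : Function.Surjective (QuadraticMap.polarBilin Q))
    (u : (CliffordAlgebra Q)ˣ) (hu : u ∈ QuadGrp.GPin' Q)
    (hn : star (u : CliffordAlgebra Q) * u = 1) : QuadGrp.IsLocHomog Q (u : CliffordAlgebra Q) := by
  have hωodd : ω Q b ∈ evenOdd Q 1 := by
    have := ω_mem_evenOdd Q b
    rwa [(ZMod.natCast_eq_one_iff_odd).mpr hI] at this
  set U : CliffordAlgebra Q := involute (u : CliffordAlgebra Q) with hU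
  set Ui : CliffordAlgebra Q := involute (↑u⁻¹ : CliffordAlgebra Q) with hUi
  have hUUi : U * Ui = 1 := by rw [hU, hUi, ← map_mul, Units.mul_inv, map_one]
  have hUiU : Ui * U = 1 := by rw [hU, hUi, ← map_mul, Units.inv_mul, map_one]
  have hconj : ∀ v, U * ι Q v * Ui = (u : CliffordAlgebra Q) * ι Q v * ↑u⁻¹ := by
    intro v
    obtain ⟨v', hv'⟩ := conj_mem_range_of_mem_GPin' Q u hu v
    have h1 := congrArg involute hv'
    rw [map_mul, map_mul, involute_ι, involute_ι, ← hU, ← hUi, mul_neg, neg_mul, neg_inj] at h1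
    rw [h1, hv']
  set c : CliffordAlgebra Q := ↑u⁻¹ * U with hc
  have hcc : ∀ v, ι Q v * c = c * ι Q v := by
    intro v
    have h1 : U * ι Q v = (u : CliffordAlgebra Q) * ι Q v * ↑u⁻¹ * U := by
      rw [← hconj v, mul_assoc, hUiU, mul_one]
    rw [hc, mul_assoc, h1]
    simp only [← mul_assoc, Units.inv_mul, one_mul]
  obtain ⟨a, b', hab⟩ := center_odd Q b hQ c hcc
  obtain ⟨δ, hδ⟩ := ω_sq Q b hI hQ
  have hδ' : ω Q b * ω Q b = δ • (1 : CliffordAlgebra Q) := by rw [hδ, Algebra.algebraMap_eq_smul_one]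
  have hUc : U = (u : CliffordAlgebra Q) * c := by
    rw [hc, ← mul_assoc, Units.mul_inv, one_mul]
  have hic : involute c = algebraMap R _ a - b' • ω Q b := by
    rw [hab, map_add, map_smul, AlgHom.commutes, involute_eq_of_mem_odd hωodd, smul_neg, sub_eq_add_neg]
  -- first relation
  have h5 : c * involute c = 1 := by
    have h1 : involute U = (u : CliffordAlgebra Q) := by rw [hU, involute_involute]
    have h2 : involute U = (u : CliffordAlgebra Q) * (c * involute c) := by
      rw [hUc, map_mul, ← hU, hUc, mul_assoc]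
    rw [h1] at h2
    have := congrArg (fun y => (↑u⁻¹ : CliffordAlgebra Q) * y) h2
    simp only [← mul_assoc, Units.inv_mul, one_mul] at this
    exact this.symm
  have e5 : a * a - b' * b' * δ = 1 := by
    have h1 : c * involute c = algebraMap R _ (a * a - b' * b' * δ) := by
      rw [hic, hab]
      simp only [Algebra.algebraMap_eq_smul_one, add_mul, mul_sub, smul_mul_assoc, mul_smul_comm,
        one_mul, mul_one, hδ', smul_smul]
      module
    rw [h1] at h5
    have h2 : algebraMap R (CliffordAlgebra Q) (a * a - b' * b' * δ - 1) + (0 : R) • ω Q b = 0 := by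
      rw [zero_smul, add_zero, map_sub, h5, map_one, sub_self]
    exact sub_eq_zero.mp (eq_zero_of_add_smul_ω Q b _ _ h2).1
  -- second relation
  have hsU : star U * U = 1 := by
    have : star U = involute (star (u : CliffordAlgebra Q)) := by
      rw [hU, star_def, star_def, involute_involute, reverse_involute, involute_involute]
    rw [this, hU, ← map_mul, hn, map_one]
  have h6 : star c * c = 1 := by
    rw [hUc, StarMul.star_mul, mul_assoc, ← mul_assoc (star (u : CliffordAlgebra Q)), hn, one_mul] at hsU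
    exact hsU
  have hsc : star c = c := by
    rw [hab, StarAddMonoid.star_add, CliffordAlgebra.star_smul, hs]
    congr 1
    rw [star_def, AlgHom.commutes, reverse.commutes]
  have e6 : a * a + b' * b' * δ = 1 ∧ 2 * (a * b') = 0 := by
    have h1 : star c * c = algebraMap R _ (a * a + b' * b' * δ) + (2 * (a * b')) • ω Q b := by
      rw [hsc, hab]
      simp only [Algebra.algebraMap_eq_smul_one, add_mul, mul_add, smul_mul_assoc, mul_smul_comm,
        one_mul, mul_one, hδ', smul_smul]
      module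
    rw [h1] at h6
    have h2 : algebraMap R (CliffordAlgebra Q) (a * a + b' * b' * δ - 1) + (2 * (a * b')) • ω Q b = 0 := by
      rw [map_sub, map_one, sub_add_eq_add_sub, h6, sub_self]
    have := eq_zero_of_add_smul_ω Q b _ _ h2
    exact ⟨sub_eq_zero.mp this.1, this.2⟩
  have h2i : (⅟2 : R) * 2 = 1 := invOf_mul_self 2
  have hab0 : a * b' = 0 := by linear_combination (⅟2 : R) * e6.2 - (a * b') * h2i
  have haa : a * a = 1 := by linear_combination (⅟2 : R) * e5 + (⅟2 : R) * e6.1 - (a * a - 1) * h2i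
  have hb0 : b' = 0 := by linear_combination a * hab0 - b' * haa
  have hca : c = algebraMap R _ a := by rw [hab, hb0, zero_smul, add_zero]
  have hUa : U = a • (u : CliffordAlgebra Q) := by
    rw [hUc, hca, ← Algebra.commutes, ← Algebra.smul_def]
  refine ⟨⅟2 * (1 + a), ?_, ?_, ?_⟩
  · change ⅟2 * (1 + a) * (⅟2 * (1 + a)) = ⅟2 * (1 + a)
    linear_combination (⅟2 : R) * (⅟2 : R) * haa + (⅟2 : R) * (1 + a) * h2i
  · apply mem_even_of_involute_eq
    rw [map_smul, ← hU, hUa, smul_smul]
    congr 1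
    linear_combination (⅟2 : R) * haa
  · apply mem_odd_of_involute_eq_neg
    rw [map_smul, ← hU, hUa, smul_smul, ← neg_smul]
    congr 1
    linear_combination (-(⅟2 : R)) * haa - (a + 1) * h2i

end Groth.Agent.Lib.Helper83.Cl2
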