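import Groth.Agent.Lib.Helper83.Cl2I
import Groth.Agent.S17014
set_option autoImplicit false

namespace Groth.Agent.Lib.Helper83.Cl2

open CliffordAlgebra
open scoped Pointwise

universe u v
variable {R : Type u} [CommRing R] [Invertible (2 : R)] {M : Type v} [AddCommGroup M] [Module R M]

theorem polarBilin_surjective_of_semiregular {n : ℕ} (hn : Odd n) (b : Module.Basis (Fin n) R M)
    (Q : QuadraticForm R M) (hQ : QuadGrp.IsSemiregular b (LinearEquiv.refl R R) Q) :
    Function.Surjective (QuadraticMap.polarBilin Q) := by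
  classical
  set a := QuadGrp.coeffs b (LinearEquiv.refl R R) Q with ha
  set G := Groth.Agent.S17014.polarMat a with hG
  have hGkl : ∀ k l, G k l = QuadraticMap.polar Q (b k) (b l) := by
    intro k l
    simp only [hG, Groth.Agent.S17014.polarMat, Matrix.of_apply, ha, QuadGrp.coeffs_mk]
    by_cases h : k = l
    · subst h
      simp [QuadraticMap.polar_self, two_mul, two_smul]
    · simp [h]
  have hdet : IsUnit G.det := by
    have h1 := Groth.Agent.S17014.two_mul_hd hn a
    rw [← hG] at h1
    rw [← h1]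
    exact (isUnit_of_invertible (2 : R)).mul hQ
  intro d
  set y : Fin n → R := fun l => d (b l) with hy
  set x : Fin n → R := Matrix.vecMul y G⁻¹ with hx
  have hxy : Matrix.vecMul x G = y := by
    rw [hx, Matrix.vecMul_vecMul, Matrix.nonsing_inv_mul _ hdet, Matrix.vecMul_one]
  refine ⟨∑ k, x k • b k, ?_⟩
  refine b.ext fun l => ?_
  rw [map_sum, LinearMap.sum_apply]
  simp only [map_smul, LinearMap.smul_apply, QuadraticMap.polarBilin_apply_apply, ← hGkl, smul_eq_mul]
  have := congrFun hxy l
  simp only [Matrix.vecMul, dotProduct] at this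
  rw [this]

theorem main_S16997 {M : Type v} [AddCommGroup M] [Module R M] [Module.Free R M] [Module.Finite R M]
    (m : ℕ) (hm : Odd m) (b : Module.Basis (Fin (2 * m + 1)) R M) (Q : QuadraticForm R M)
    (hQ : QuadGrp.IsSemiregular b (LinearEquiv.refl R R) Q) :
    QuadGrp.Pin Q = QuadGrp.Pin' Q := by
  have hn : Odd (2 * m + 1) := ⟨m, rfl⟩
  have hI : Odd (Fintype.card (Fin (2 * m + 1))) := by rw [Fintype.card_fin]; exact hn
  have hsurj := polarBilin_surjective_of_semiregular hn b Q hQ
  have hs : star (ω Q b) = ω Q b := by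
    rw [star_ω_of_odd Q b hI, Fintype.card_fin]
    have h1 : (2 * m + 1) * (2 * m + 1 - 1) / 2 = (2 * m + 1) * m := by
      rw [Nat.add_sub_cancel, mul_comm 2 m, ← mul_assoc, Nat.mul_div_cancel _ (by norm_num)]
    have h2 : Odd ((2 * m + 1) * m) := hn.mul hm
    rw [h1, h2.neg_one_pow, neg_neg, one_smul]
  ext u
  constructor
  · rintro ⟨⟨hG, _⟩, hN⟩
    exact ⟨hG, hN⟩
  · rintro ⟨hG, hN⟩
    refine ⟨⟨hG, ?_⟩, hN⟩
    change QuadGrp.IsLocHomog Q (u : CliffordAlgebra Q)
    exact locHomog_of_normOne Q b hI hs hsurj u hG ((QuadGrp.mem_normOne Q u).mp hN)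

end Groth.Agent.Lib.Helper83.Cl2
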