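import Groth.Agent.Lib.Helper83.Cl2A
import Groth.Agent.Lib.Helper83.Cl2B
set_option autoImplicit false

namespace Groth.Agent.Lib.Helper83.Cl3

open CliffordAlgebra Groth.Agent.Lib.Helper83.Cl2

variable {R : Type*} [CommRing R] {M : Type*} [AddCommGroup M] [Module R M]
variable {I : Type*} [LinearOrder I] [Fintype I] (b : Module.Basis I R M)

/-- span of basis elements of cardinality `< k`. -/
noncomputable def G (k : ℕ) : Submodule R (ExteriorAlgebra R M) :=
  Submodule.span R {x | ∃ S : Finset I, S.card < k ∧ x = b.ExteriorAlgebra S}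

theorem E_mem_G {S : Finset I} {k : ℕ} (h : S.card < k) : b.ExteriorAlgebra S ∈ G b k :=
  Submodule.subset_span ⟨S, h, rfl⟩

theorem G_mono {k l : ℕ} (h : k ≤ l) : G b k ≤ G b l := by
  apply Submodule.span_mono
  rintro x ⟨S, hS, rfl⟩
  exact ⟨S, lt_of_lt_of_le hS h, rfl⟩

theorem G_zero : G b 0 = ⊥ := by
  rw [G, Submodule.span_eq_bot]
  rintro x ⟨S, hS, rfl⟩
  exact absurd hS (Nat.not_lt_zero _)

theorem G_top : G b (Fintype.card I + 1) = ⊤ := by
  rw [eq_top_iff, ← b.ExteriorAlgebra.span_eq]
  apply Submodule.span_mono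
  rintro x ⟨S, rfl⟩
  exact ⟨S, Nat.lt_succ_of_le (Finset.card_le_univ S), rfl⟩

theorem ι_mul_mem_G (v : M) {k : ℕ} {ξ : ExteriorAlgebra R M} (hξ : ξ ∈ G b k) :
    ExteriorAlgebra.ι R v * ξ ∈ G b (k + 1) := by
  classical
  induction hξ using Submodule.span_induction with
  | mem x hx =>
    obtain ⟨S, hS, rfl⟩ := hx
    rw [← b.sum_repr v, map_sum, Finset.sum_mul]
    refine Submodule.sum_mem _ fun i _ => ?_
    rw [map_smul, smul_mul_assoc]
    refine Submodule.smul_mem _ _ ?_
    by_cases hi : i ∈ S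
    · rw [ι_mul_E_of_mem b hi]; exact Submodule.zero_mem _
    · obtain ⟨u, hu⟩ := ι_mul_E_of_not_mem b hi
      rw [hu, Units.smul_def]
      refine Submodule.smul_of_tower_mem _ _ (E_mem_G b ?_)
      rw [Finset.card_insert_of_notMem hi]; omega
  | zero => rw [mul_zero]; exact Submodule.zero_mem _
  | add x y _ _ hx hy => rw [mul_add]; exact Submodule.add_mem _ hx hy
  | smul r x _ hx => rw [mul_smul_comm]; exact Submodule.smul_mem _ _ hx

theorem contractLeft_mem_G (d : Module.Dual R M) {k : ℕ} {ξ : ExteriorAlgebra R M}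
    (hξ : ξ ∈ G b (k + 1)) : contractLeft d ξ ∈ G b k := by
  classical
  have hd : d = ∑ i, d (b i) • b.coord i := by
    refine b.ext fun j => ?_
    simp [Finsupp.single_apply]
  induction hξ using Submodule.span_induction with
  | mem x hx =>
    obtain ⟨S, hS, rfl⟩ := hx
    rw [hd, map_sum, LinearMap.sum_apply]
    refine Submodule.sum_mem _ fun i _ => ?_
    rw [map_smul, LinearMap.smul_apply]
    refine Submodule.smul_mem _ _ ?_
    by_cases hi : i ∈ S
    · obtain ⟨u, hu⟩ := contractLeft_E_of_mem b hi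
      rw [hu, Units.smul_def]
      refine Submodule.smul_of_tower_mem _ _ (E_mem_G b ?_)
      rw [Finset.card_erase_of_mem hi]
      have : 0 < S.card := Finset.card_pos.mpr ⟨i, hi⟩
      omega
    · rw [contractLeft_E_of_not_mem b hi]; exact Submodule.zero_mem _
  | zero => rw [map_zero]; exact Submodule.zero_mem _
  | add x y _ _ hx hy => rw [map_add]; exact Submodule.add_mem _ hx hy
  | smul r x _ hx => rw [map_smul]; exact Submodule.smul_mem _ _ hx

/-- top coordinate. -/
noncomputable def top : ExteriorAlgebra R M →ₗ[R] R := b.ExteriorAlgebra.coord Finset.univ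

theorem top_eq_zero_of_mem_G {ξ : ExteriorAlgebra R M} (hξ : ξ ∈ G b (Fintype.card I)) :
    top b ξ = 0 := by
  classical
  induction hξ using Submodule.span_induction with
  | mem x hx =>
    obtain ⟨S, hS, rfl⟩ := hx
    rw [top, Module.Basis.coord_apply, Module.Basis.repr_self]
    have : S ≠ Finset.univ := by
      intro e; rw [e, Finset.card_univ] at hS; exact lt_irrefl _ hS
    exact Finsupp.single_eq_of_ne' this
  | zero => exact map_zero _
  | add x y _ _ hx hy => rw [map_add, hx, hy, add_zero]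
  | smul r x _ hx => rw [map_smul, hx, smul_zero]

theorem top_contractLeft (d : Module.Dual R M) (ξ : ExteriorAlgebra R M) :
    top b (contractLeft d ξ) = 0 := by
  apply top_eq_zero_of_mem_G
  apply contractLeft_mem_G
  rw [G_top]; trivial

end Groth.Agent.Lib.Helper83.Cl3
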