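import Groth.Agent.Lib.Helper83.Cl3A
set_option autoImplicit false

namespace Groth.Agent.Lib.Helper83.Cl3

open CliffordAlgebra Groth.Agent.Lib.Helper83.Cl2

variable {R : Type*} [CommRing R] {M : Type*} [AddCommGroup M] [Module R M]
variable {I : Type*} [LinearOrder I] [Fintype I] (b : Module.Basis I R M)

theorem top_E_univ : top b (b.ExteriorAlgebra Finset.univ) = 1 := by
  rw [top, Module.Basis.coord_apply, Module.Basis.repr_self, Finsupp.single_eq_same]

theorem top_E_of_ne {S : Finset I} (hS : S ≠ Finset.univ) : top b (b.ExteriorAlgebra S) = 0 := by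
  rw [top, Module.Basis.coord_apply, Module.Basis.repr_self]
  exact Finsupp.single_eq_of_ne' hS

theorem top_eq_zero_of_even (hI : Odd (Fintype.card I)) {ξ : ExteriorAlgebra R M}
    (hξ : ξ ∈ evenOdd (0 : QuadraticForm R M) 0) : top b ξ = 0 := by
  classical
  set c := b.ExteriorAlgebra.repr ξ with hc
  have hsum : ξ = ∑ S : Finset I, c S • b.ExteriorAlgebra S := (b.ExteriorAlgebra.sum_repr ξ).symm
  set ξ₁ : ExteriorAlgebra R M :=
    ∑ S ∈ Finset.univ.filter (fun S : Finset I => Odd S.card), c S • b.ExteriorAlgebra S with hξ₁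
  set ξ₀ : ExteriorAlgebra R M :=
    ∑ S ∈ Finset.univ.filter (fun S : Finset I => ¬ Odd S.card), c S • b.ExteriorAlgebra S with hξ₀
  have h01 : ξ = ξ₁ + ξ₀ := by
    rw [hsum, hξ₁, hξ₀]; exact (Finset.sum_filter_add_sum_filter_not _ _ _).symm
  have h0 : ξ₀ ∈ evenOdd (0 : QuadraticForm R M) 0 := by
    refine Submodule.sum_mem _ fun S hS => Submodule.smul_mem _ _ ?_
    have h1 := E_mem_evenOdd b S
    rw [Finset.mem_filter] at hS
    have h2 : (S.card : ZMod 2) = 0 := by
      rw [ZMod.natCast_eq_zero_iff_even]; exact Nat.not_odd_iff_even.mp hS.2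
    rwa [h2] at h1
  have h1 : ξ₁ ∈ evenOdd (0 : QuadraticForm R M) 1 := by
    refine Submodule.sum_mem _ fun S hS => Submodule.smul_mem _ _ ?_
    have h1 := E_mem_evenOdd b S
    rw [Finset.mem_filter] at hS
    have h2 : (S.card : ZMod 2) = 1 := by
      rw [ZMod.natCast_eq_one_iff_odd]; exact hS.2
    rwa [h2] at h1
  have h1' : ξ₁ ∈ evenOdd (0 : QuadraticForm R M) 0 := by
    have : ξ₁ = ξ - ξ₀ := by rw [h01]; abel
    rw [this]; exact Submodule.sub_mem _ hξ h0
  have hz : ξ₁ = 0 := by
    have hd := (evenOdd_isCompl (0 : QuadraticForm R M)).disjoint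
    rw [Submodule.disjoint_def] at hd
    exact hd ξ₁ h1' h1
  rw [h01, hz, zero_add, hξ₀, map_sum]
  refine Finset.sum_eq_zero fun S hS => ?_
  rw [Finset.mem_filter] at hS
  rw [map_smul, top_E_of_ne b, smul_zero]
  intro e
  apply hS.2
  rw [e, Finset.card_univ]; exact hI

variable {Q : QuadraticForm R M} {B : LinearMap.BilinForm R M}
  (h : B.toQuadraticMap = (0 : QuadraticForm R M) - Q)

theorem top_changeForm_ι_mul (v : M) (x : CliffordAlgebra Q) :
    top b (changeForm h (ι Q v * x)) = top b (ExteriorAlgebra.ι R v * changeForm h x) := by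
  rw [changeForm_ι_mul, map_sub, top_contractLeft, sub_zero]

theorem top_changeForm_contractLeft (d : Module.Dual R M) (x : CliffordAlgebra Q) :
    top b (changeForm h (contractLeft d x)) = 0 := by
  rw [changeForm_contractLeft, top_contractLeft]

theorem t_mul_ι (hI : Odd (Fintype.card I)) (x : CliffordAlgebra Q) (v : M) :
    top b (changeForm h (x * ι Q v)) = top b (changeForm h (ι Q v * x)) := by
  have h11 : (1 : ZMod 2) + 1 = 0 := by decide
  have hx : x ∈ evenOdd Q 0 ⊔ evenOdd Q 1 := by
    rw [(evenOdd_isCompl Q).sup_eq_top]; trivial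
  obtain ⟨x₀, h0, x₁, h1, rfl⟩ := Submodule.mem_sup.mp hx
  have e0 : x₀ * ι Q v = ι Q v * x₀ - contractLeft (QuadraticMap.polarBilin Q v) x₀ := by
    rw [← ι_mul_sub_involute_mul_ι, involute_eq_of_mem_even h0]; abel
  have e1 : x₁ * ι Q v = contractLeft (QuadraticMap.polarBilin Q v) x₁ - ι Q v * x₁ := by
    rw [← ι_mul_sub_involute_mul_ι, involute_eq_of_mem_odd h1]; simp
  have hz : top b (changeForm h (ι Q v * x₁)) = 0 := by
    apply top_eq_zero_of_even b hI
    apply changeForm_mem_evenOdd h 0
    have := SetLike.mul_mem_graded (ι_mem_evenOdd_one Q v) h1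
    rwa [h11] at this
  rw [add_mul, mul_add, map_add, map_add, map_add, map_add, e0, e1, map_sub, map_sub, map_sub, map_sub,
    top_changeForm_contractLeft, top_changeForm_contractLeft, hz]
  simp

theorem t_mul_comm (hI : Odd (Fintype.card I)) (x y : CliffordAlgebra Q) :
    top b (changeForm h (x * y)) = top b (changeForm h (y * x)) := by
  induction y using CliffordAlgebra.left_induction generalizing x with
  | algebraMap r => rw [Algebra.commutes]
  | add y z hy hz => rw [mul_add, add_mul, map_add, map_add, map_add, map_add, hy, hz]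
  | ι_mul y m hy =>
    rw [← mul_assoc, hy (x * ι Q m), ← mul_assoc, t_mul_ι b h hI, mul_assoc]

theorem t_conj (hI : Odd (Fintype.card I)) (u : (CliffordAlgebra Q)ˣ) (x : CliffordAlgebra Q) :
    top b (changeForm h ((u : CliffordAlgebra Q) * x * ↑u⁻¹)) = top b (changeForm h x) := by
  rw [mul_assoc, t_mul_comm b h hI, mul_assoc, Units.inv_mul, mul_one]

theorem changeForm_list_prod (l : List M) :
    (l.map (ι (0 : QuadraticForm R M))).prod ∈ G b (l.length + 1) ∧
    changeForm h (l.map (ι Q)).prod - (l.map (ι (0 : QuadraticForm R M))).prod ∈ G b l.length := by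
  induction l with
  | nil =>
    constructor
    · rw [List.map_nil, List.prod_nil, ← E_empty b]
      exact E_mem_G b (by simp)
    · rw [List.map_nil, List.prod_nil, List.map_nil, List.prod_nil, changeForm_one, sub_self]
      exact Submodule.zero_mem _
  | cons a l ih =>
    obtain ⟨ih1, ih2⟩ := ih
    rw [List.map_cons, List.prod_cons, List.map_cons, List.prod_cons, List.length_cons]
    refine ⟨ι_mul_mem_G b a ih1, ?_⟩
    rw [changeForm_ι_mul]
    set p := changeForm h (l.map (ι Q)).prod with hp
    set p' := (l.map (ι (0 : QuadraticForm R M))).prod with hp'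
    have hpm : p ∈ G b (l.length + 1) := by
      have : p = (p - p') + p' := by abel
      rw [this]; exact Submodule.add_mem _ (G_mono b (Nat.le_succ _) ih2) ih1
    have e : ι (0 : QuadraticForm R M) a * p - contractLeft (B a) p - ι (0 : QuadraticForm R M) a * p'
        = ι (0 : QuadraticForm R M) a * (p - p') - contractLeft (B a) p := by
      rw [mul_sub]; abel
    rw [e]
    refine Submodule.sub_mem _ (ι_mul_mem_G b a ih2) (G_mono b (Nat.le_succ _) ?_)
    exact contractLeft_mem_G b _ hpm

theorem top_changeForm_list_prod (l : List M) (hl : l.length = Fintype.card I) :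
    top b (changeForm h (l.map (ι Q)).prod) = top b (l.map (ι (0 : QuadraticForm R M))).prod := by
  have := (changeForm_list_prod b h l).2
  rw [hl] at this
  have h0 := top_eq_zero_of_mem_G b this
  rwa [map_sub, sub_eq_zero] at h0

open Set.powersetCard in
theorem exists_list_E_univ : ∃ l : List I, l.length = Fintype.card I ∧
    b.ExteriorAlgebra Finset.univ = (l.map (fun i => ExteriorAlgebra.ι R (b i))).prod := by
  have hcard : (Finset.univ : Finset I).card = Fintype.card I := Finset.card_univ
  refine ⟨List.ofFn fun j => (ofFinEmbEquiv.symm (ofCard (rfl : (Finset.univ : Finset I).card = (Finset.univ : Finset I).card))) j,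
    by rw [List.length_ofFn, hcard], ?_⟩
  rw [ExteriorAlgebra.basis_apply_ofCard b (rfl : (Finset.univ : Finset I).card = (Finset.univ : Finset I).card),
    ExteriorAlgebra.ιMulti_family, ExteriorAlgebra.ιMulti_apply, List.map_ofFn]
  rfl

theorem top_map_list_prod (g : M →ₗ[R] M) (l : List I)
    (hl : b.ExteriorAlgebra Finset.univ = (l.map (fun i => ExteriorAlgebra.ι R (b i))).prod) :
    top b (l.map (fun i => ExteriorAlgebra.ι R (g (b i)))).prod = LinearMap.det g := by
  have h1 : ExteriorAlgebra.map g (b.ExteriorAlgebra Finset.univ)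
      = (l.map (fun i => ExteriorAlgebra.ι R (g (b i)))).prod := by
    rw [hl, map_list_prod, List.map_map]
    congr 1
    apply List.map_congr_left
    intro i _
    simp
  rw [← h1, map_E_univ, map_smul, top_E_univ, smul_eq_mul, mul_one]

end Groth.Agent.Lib.Helper83.Cl3
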