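import Groth.Agent.Lib.Helper83.Cl3B
import Groth.Agent.Lib.Helper83.Cl2I
set_option autoImplicit false

namespace Groth.Agent.Lib.Helper83.Cl3

open CliffordAlgebra Groth.Agent.Lib.Helper83.Cl2
open scoped Pointwise

variable {R : Type*} [CommRing R] {M : Type*} [AddCommGroup M] [Module R M]
variable {Q : QuadraticForm R M} {B : LinearMap.BilinForm R M}
  (h : B.toQuadraticMap = (0 : QuadraticForm R M) - Q)

include h in
theorem ι_injective_of_changeForm : Function.Injective (ι Q) := by
  intro v w hvw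
  have := congrArg (changeForm h) hvw
  rw [changeForm_ι, changeForm_ι] at this
  exact (ExteriorAlgebra.ι_inj R v w).mp this

include h in
theorem algebraMap_injective_of_changeForm :
    Function.Injective (algebraMap R (CliffordAlgebra Q)) := by
  intro r s hrs
  have := congrArg (changeForm h) hrs
  rw [changeForm_algebraMap, changeForm_algebraMap] at this
  exact (ExteriorAlgebra.algebraMap_leftInverse M).injective this

theorem conj_list_prod {A : Type*} [Monoid A] (u : Aˣ) (l : List A) :
    (u : A) * l.prod * ↑u⁻¹ = (l.map (fun a => (u : A) * a * ↑u⁻¹)).prod := by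
  induction l with
  | nil => simp
  | cons a l ih =>
    rw [List.prod_cons, List.map_cons, List.prod_cons, ← ih]
    simp only [mul_assoc, Units.inv_mul_cancel_left]

include h in
theorem exists_conj_equiv (u : (CliffordAlgebra Q)ˣ) (hu : u ∈ QuadGrp.GPin' Q) :
    ∃ g : M ≃ₗ[R] M, g ∈ QuadGrp.O Q ∧
      ∀ v, (u : CliffordAlgebra Q) * ι Q v * ↑u⁻¹ = ι Q (g v) := by
  have hinj := ι_injective_of_changeForm h
  have hu' : u⁻¹ ∈ QuadGrp.GPin' Q := inv_mem hu
  choose f hf using conj_mem_range_of_mem_GPin' Q u hu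
  choose f' hf' using conj_mem_range_of_mem_GPin' Q u⁻¹ hu'
  rw [inv_inv] at hf'
  have hadd : ∀ v w, f (v + w) = f v + f w := by
    intro v w; apply hinj; rw [← hf, map_add, map_add, ← hf, ← hf, mul_add, add_mul]
  have hsmul : ∀ (r : R) v, f (r • v) = r • f v := by
    intro r v; apply hinj; rw [← hf, map_smul, map_smul, ← hf, mul_smul_comm, smul_mul_assoc]
  have hl : ∀ v, f' (f v) = v := by
    intro v; apply hinj; rw [← hf', ← hf]; simp [mul_assoc]
  have hr : ∀ v, f (f' v) = v := by
    intro v; apply hinj; rw [← hf, ← hf']; simp [mul_assoc]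
  let g : M ≃ₗ[R] M :=
    { toFun := f, map_add' := hadd, map_smul' := hsmul, invFun := f', left_inv := hl, right_inv := hr }
  refine ⟨g, ?_, hf⟩
  intro v
  apply algebraMap_injective_of_changeForm h
  rw [← ι_sq_scalar, ← ι_sq_scalar]
  change ι Q (f v) * ι Q (f v) = _
  rw [← hf]
  have e : (u : CliffordAlgebra Q) * ι Q v * ↑u⁻¹ * (↑u * ι Q v * ↑u⁻¹)
      = ↑u * (ι Q v * ι Q v) * ↑u⁻¹ := by
    simp only [mul_assoc, Units.inv_mul_cancel_left]
  rw [e, ι_sq_scalar, ← Algebra.commutes, mul_assoc, Units.mul_inv, mul_one]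

theorem main_S16994 [Module.Free R M] {I : Type*} [LinearOrder I] [Fintype I]
    (b : Module.Basis I R M) (hI : Odd (Fintype.card I)) (Q : QuadraticForm R M)
    (u : (CliffordAlgebra Q)ˣ) (hu : u ∈ QuadGrp.GPin' Q) :
    ∃ g ∈ QuadGrp.SO' Q, ∀ v : M,
      (u : CliffordAlgebra Q) * ι Q v * ↑u⁻¹ = ι Q (g v) := by
  obtain ⟨B₀, hB₀⟩ := LinearMap.BilinMap.toQuadraticMap_surjective Q
  have h : LinearMap.BilinMap.toQuadraticMap (-B₀) = (0 : QuadraticForm R M) - Q := by
    rw [zero_sub, ← hB₀]; ext v; simp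
  obtain ⟨g, hgO, hg⟩ := exists_conj_equiv h u hu
  refine ⟨g, ⟨hgO, ?_⟩, hg⟩
  obtain ⟨l, hlen, hl⟩ := exists_list_E_univ b
  set x₀ : CliffordAlgebra Q := ((l.map b).map (ι Q)).prod with hx₀
  have h1 : top b (changeForm h x₀) = 1 := by
    rw [hx₀, top_changeForm_list_prod b h _ (by rw [List.length_map, hlen]), List.map_map]
    have : (l.map (⇑(ι (0 : QuadraticForm R M)) ∘ ⇑b)).prod = b.ExteriorAlgebra Finset.univ := by
      rw [hl]; rfl
    rw [this, top_E_univ]
  have h2 : (u : CliffordAlgebra Q) * x₀ * ↑u⁻¹ = ((l.map (fun i => g (b i))).map (ι Q)).prod := by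
    rw [hx₀, conj_list_prod, List.map_map, List.map_map, List.map_map]
    congr 1
    apply List.map_congr_left
    intro i _
    simp only [Function.comp_apply]
    exact hg (b i)
  have h3 : top b (changeForm h ((u : CliffordAlgebra Q) * x₀ * ↑u⁻¹)) = LinearMap.det (g : M →ₗ[R] M) := by
    rw [h2, top_changeForm_list_prod b h _ (by rw [List.length_map, hlen]), List.map_map]
    exact top_map_list_prod b (g : M →ₗ[R] M) l hl
  have h4 := t_conj b h hI u x₀
  rw [h3, h1] at h4
  change LinearEquiv.det g = 1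
  apply Units.ext
  rw [LinearEquiv.coe_det]
  exact h4

end Groth.Agent.Lib.Helper83.Cl3
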