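import Groth.Agent.Lib.Helper83.Cl3B
set_option autoImplicit false

namespace Groth.Agent.Lib.Helper83.Cl4

open CliffordAlgebra Groth.Agent.Lib.Helper83.Cl2 Groth.Agent.Lib.Helper83.Cl3

variable {R : Type*} [CommRing R] {M : Type*} [AddCommGroup M] [Module R M]
variable {I : Type*} [LinearOrder I] (b : Module.Basis I R M)

theorem coord_insert_comp_mulLeft {i : I} {S : Finset I} (hi : i ∉ S) :
    ∃ u : ℤˣ, (b.ExteriorAlgebra.coord (insert i S)) ∘ₗ
        (LinearMap.mulLeft R (ExteriorAlgebra.ι R (b i)))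
      = (u : ℤ) • b.ExteriorAlgebra.coord S := by
  classical
  obtain ⟨u, hu⟩ := ι_mul_E_of_not_mem b hi
  refine ⟨u, ?_⟩
  refine b.ExteriorAlgebra.ext fun T => ?_
  simp only [LinearMap.comp_apply, LinearMap.mulLeft_apply, LinearMap.smul_apply,
    Module.Basis.coord_apply, Module.Basis.repr_self]
  by_cases hT : i ∈ T
  · rw [ι_mul_E_of_mem b hT, map_zero, Finsupp.zero_apply]
    have : T ≠ S := fun e => hi (e ▸ hT)
    rw [Finsupp.single_eq_of_ne' this, smul_zero]
  · by_cases hTS : T = S
    · subst hTS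
      rw [hu, Units.smul_def, map_zsmul, Module.Basis.repr_self]
      simp
    · obtain ⟨u', hu'⟩ := ι_mul_E_of_not_mem b hT
      rw [hu', Units.smul_def, map_zsmul, Module.Basis.repr_self]
      have : insert i T ≠ insert i S := by
        intro e
        apply hTS
        ext j
        by_cases hj : j = i
        · subst hj; simp [hi, hT]
        · have := Finset.ext_iff.mp e j
          simpa [hj] using this
      rw [Finsupp.smul_apply, Finsupp.single_eq_of_ne' this, smul_zero,
        Finsupp.single_eq_of_ne' hTS, smul_zero]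

theorem coord_erase_comp_contractLeft {i : I} {S : Finset I} (hi : i ∈ S) :
    ∃ u : ℤˣ, (b.ExteriorAlgebra.coord (S.erase i)) ∘ₗ
        (contractLeft (Q := (0 : QuadraticForm R M)) (b.coord i))
      = (u : ℤ) • b.ExteriorAlgebra.coord S := by
  classical
  obtain ⟨u, hu⟩ := contractLeft_E_of_mem b hi
  refine ⟨u, ?_⟩
  refine b.ExteriorAlgebra.ext fun T => ?_
  simp only [LinearMap.comp_apply, LinearMap.smul_apply,
    Module.Basis.coord_apply, Module.Basis.repr_self]
  by_cases hT : i ∈ T
  · by_cases hTS : T = S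
    · subst hTS
      rw [hu, Units.smul_def, map_zsmul, Module.Basis.repr_self]
      simp
    · obtain ⟨u', hu'⟩ := contractLeft_E_of_mem b hT
      rw [hu', Units.smul_def, map_zsmul, Module.Basis.repr_self]
      have : T.erase i ≠ S.erase i := by
        intro e
        apply hTS
        rw [← Finset.insert_erase hT, ← Finset.insert_erase hi, e]
      rw [Finsupp.smul_apply, Finsupp.single_eq_of_ne' this, smul_zero,
        Finsupp.single_eq_of_ne' hTS, smul_zero]
  · rw [contractLeft_E_of_not_mem b hT, map_zero, Finsupp.zero_apply]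
    have : T ≠ S := fun e => hT (e ▸ hi)
    rw [Finsupp.single_eq_of_ne' this, smul_zero]

/-- units of ℤ acting: if `u • c = d` then `c = ± d`. -/
theorem eq_or_eq_neg_of_units_smul {c d : R} (u : ℤˣ) (h : (u : ℤ) • c = d) : c = d ∨ c = -d := by
  rcases Int.units_eq_one_or u with rfl | rfl
  · left; simpa using h
  · right; rw [← h]; simp

variable [Fintype I]

theorem mem_G_iff (k : ℕ) (ξ : ExteriorAlgebra R M) :
    ξ ∈ G b k ↔ ∀ S : Finset I, k ≤ S.card → b.ExteriorAlgebra.repr ξ S = 0 := by
  classical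
  constructor
  · intro hξ S hS
    induction hξ using Submodule.span_induction with
    | mem x hx =>
      obtain ⟨S', hS', rfl⟩ := hx
      rw [Module.Basis.repr_self]
      have : S' ≠ S := by
        intro e; rw [e] at hS'; omega
      exact Finsupp.single_eq_of_ne' this
    | zero => simp
    | add x y _ _ hx hy => rw [map_add, Finsupp.add_apply, hx, hy, add_zero]
    | smul r x _ hx => rw [map_smul, Finsupp.smul_apply, hx, smul_zero]
  · intro hS
    rw [← b.ExteriorAlgebra.sum_repr ξ]
    refine Submodule.sum_mem _ fun S _ => ?_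
    by_cases hk : S.card < k
    · exact Submodule.smul_mem _ _ (E_mem_G b hk)
    · rw [hS S (not_lt.mp hk), zero_smul]; exact Submodule.zero_mem _

theorem repr_sum_filter (c : Finset I → R) (P : Finset I → Prop) [DecidablePred P] (S : Finset I) :
    b.ExteriorAlgebra.repr (∑ T ∈ Finset.univ.filter P, c T • b.ExteriorAlgebra T) S
      = if P S then c S else 0 := by
  classical
  rw [map_sum, Finsupp.finsetSum_apply]
  simp only [map_smul, Module.Basis.repr_self, Finsupp.smul_apply, smul_eq_mul]
  split_ifs with hP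
  · rw [Finset.sum_eq_single S]
    · simp
    · intro T _ hTS; rw [Finsupp.single_eq_of_ne' hTS, mul_zero]
    · intro hn; exact absurd (Finset.mem_filter.mpr ⟨Finset.mem_univ _, hP⟩) hn
  · refine Finset.sum_eq_zero fun T hT => ?_
    have : T ≠ S := by
      intro e; rw [e, Finset.mem_filter] at hT; exact hP hT.2
    rw [Finsupp.single_eq_of_ne' this, mul_zero]

theorem repr_eq_zero_of_mem_evenOdd (k : ZMod 2) {ξ : ExteriorAlgebra R M}
    (hξ : ξ ∈ evenOdd (0 : QuadraticForm R M) k) (S : Finset I) (hS : (S.card : ZMod 2) ≠ k) :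
    b.ExteriorAlgebra.repr ξ S = 0 := by
  classical
  have hZ : ∀ x k : ZMod 2, x ≠ k → x = k + 1 := by decide
  have hd : ∀ y, y ∈ evenOdd (0 : QuadraticForm R M) k → y ∈ evenOdd (0 : QuadraticForm R M) (k + 1) → y = 0 := by
    have h0 := (evenOdd_isCompl (0 : QuadraticForm R M)).disjoint
    rw [Submodule.disjoint_def] at h0
    have h11 : (1 : ZMod 2) + 1 = 0 := by decide
    intro y hy hy'
    obtain rfl | rfl : k = 0 ∨ k = 1 := by
      have : ∀ k : ZMod 2, k = 0 ∨ k = 1 := by decide
      exact this k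
    · rw [zero_add] at hy'; exact h0 y hy hy'
    · rw [h11] at hy'; exact h0 y hy' hy
  set c := b.ExteriorAlgebra.repr ξ with hc
  have hsum : ξ = ∑ S : Finset I, c S • b.ExteriorAlgebra S := (b.ExteriorAlgebra.sum_repr ξ).symm
  set ξa : ExteriorAlgebra R M :=
    ∑ T ∈ Finset.univ.filter (fun T : Finset I => (T.card : ZMod 2) = k), c T • b.ExteriorAlgebra T with hξa
  set ξb : ExteriorAlgebra R M :=
    ∑ T ∈ Finset.univ.filter (fun T : Finset I => ¬ (T.card : ZMod 2) = k), c T • b.ExteriorAlgebra T with hξb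
  have h01 : ξ = ξa + ξb := by
    rw [hsum, hξa, hξb]; exact (Finset.sum_filter_add_sum_filter_not _ _ _).symm
  have ha : ξa ∈ evenOdd (0 : QuadraticForm R M) k := by
    refine Submodule.sum_mem _ fun T hT => Submodule.smul_mem _ _ ?_
    have h1 := E_mem_evenOdd b T
    rw [Finset.mem_filter] at hT
    rwa [hT.2] at h1
  have hb : ξb ∈ evenOdd (0 : QuadraticForm R M) (k + 1) := by
    refine Submodule.sum_mem _ fun T hT => Submodule.smul_mem _ _ ?_
    have h1 := E_mem_evenOdd b T
    rw [Finset.mem_filter] at hT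
    rwa [hZ _ _ hT.2] at h1
  have hb' : ξb ∈ evenOdd (0 : QuadraticForm R M) k := by
    have : ξb = ξ - ξa := by rw [h01]; abel
    rw [this]; exact Submodule.sub_mem _ hξ ha
  have hz : ξb = 0 := hd ξb hb' hb
  have := repr_sum_filter b c (fun T : Finset I => ¬ (T.card : ZMod 2) = k) S
  rw [← hξb, hz, map_zero, Finsupp.zero_apply, if_pos hS] at this
  exact this.symm

theorem repr_map_mem (J : Ideal R) (L : ExteriorAlgebra R M →ₗ[R] ExteriorAlgebra R M)
    {ξ : ExteriorAlgebra R M} (hξ : ∀ S, b.ExteriorAlgebra.repr ξ S ∈ J) (T : Finset I) :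
    b.ExteriorAlgebra.repr (L ξ) T ∈ J := by
  have h1 : L ξ = ∑ S : Finset I, b.ExteriorAlgebra.repr ξ S • L (b.ExteriorAlgebra S) := by
    conv_lhs => rw [← b.ExteriorAlgebra.sum_repr ξ]
    rw [map_sum]
    simp only [map_smul]
  rw [h1, map_sum, Finsupp.finsetSum_apply]
  refine Ideal.sum_mem _ fun S _ => ?_
  rw [map_smul, Finsupp.smul_apply, smul_eq_mul]
  exact J.mul_mem_right _ (hξ S)

end Groth.Agent.Lib.Helper83.Cl4
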