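import Groth.Agent.Lib.Helper83.Cl4A
set_option autoImplicit false

namespace Groth.Agent.Lib.Helper83.Cl4

open CliffordAlgebra Groth.Agent.Lib.Helper83.Cl2 Groth.Agent.Lib.Helper83.Cl3

variable {R : Type*} [CommRing R] {M : Type*} [AddCommGroup M] [Module R M]
variable {I : Type*} [LinearOrder I] [Fintype I] (b : Module.Basis I R M)

/-- one step of the 2-power argument. -/
theorem two_smul_mem_G {k : ℕ} (hk : k < Fintype.card I) {q : ExteriorAlgebra R M}
    (hq : q ∈ G b (k + 1))
    (hprop : ∀ i, ∃ d : Module.Dual R M, ExteriorAlgebra.ι R (b i) * ((2 : R) • q) = contractLeft d q) :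
    (2 : R) • q ∈ G b k := by
  classical
  rw [mem_G_iff]
  intro S hS
  by_cases hS' : k + 1 ≤ S.card
  · rw [map_smul, Finsupp.smul_apply, (mem_G_iff b (k + 1) q).mp hq S hS', smul_zero]
  · have hcard : S.card = k := by omega
    obtain ⟨i, hi⟩ : ∃ i, i ∉ S := by
      by_contra hcon
      push Not at hcon
      have := Finset.eq_univ_iff_forall.mpr hcon
      rw [this, Finset.card_univ] at hcard
      omega
    obtain ⟨u, hu⟩ := coord_insert_comp_mulLeft b hi
    obtain ⟨d, hd⟩ := hprop i
    have h1 := LinearMap.congr_fun hu ((2 : R) • q)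
    simp only [LinearMap.comp_apply, LinearMap.mulLeft_apply, LinearMap.smul_apply,
      Module.Basis.coord_apply] at h1
    rw [hd] at h1
    have h2 : contractLeft d q ∈ G b k := contractLeft_mem_G b d hq
    have h3 := (mem_G_iff b k _).mp h2 (insert i S)
      (by rw [Finset.card_insert_of_notMem hi]; omega)
    rw [h3] at h1
    rcases eq_or_eq_neg_of_units_smul u h1.symm with h4 | h4
    · exact h4
    · rw [h4, neg_zero]

variable {Q : QuadraticForm R M} {B : LinearMap.BilinForm R M}
  (h : B.toQuadraticMap = (0 : QuadraticForm R M) - Q)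

include b h in
theorem odd_central_eq_zero (hI : Even (Fintype.card I))
    (hQ : Function.Surjective (QuadraticMap.polarBilin Q))
    (x : CliffordAlgebra Q) (hx : x ∈ evenOdd Q 1) (hc : ∀ v, ι Q v * x = x * ι Q v) : x = 0 := by
  classical
  set p : ExteriorAlgebra R M := changeForm h x with hp
  have hp1 : p ∈ evenOdd (0 : QuadraticForm R M) 1 := changeForm_mem_evenOdd h 1 x hx
  -- key identity
  have key1 : ∀ v, (2 : R) • (ι Q v * x) = contractLeft (QuadraticMap.polarBilin Q v) x := by
    intro v
    rw [← ι_mul_sub_involute_mul_ι, involute_eq_of_mem_odd hx, neg_mul, sub_neg_eq_add, ← hc v,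
      two_smul]
  have key2 : ∀ v, contractLeft (QuadraticMap.polarBilin Q v) p
      = (2 : R) • (ExteriorAlgebra.ι R v * p - contractLeft (B v) p) := by
    intro v
    rw [hp, ← changeForm_contractLeft, ← key1 v, map_smul, changeForm_ι_mul]
  -- coordinates
  set c := b.ExteriorAlgebra.repr p with hcdef
  set J : Ideal R := Ideal.span (Set.range c) with hJ
  have hcJ : ∀ S, c S ∈ J := fun S => Ideal.subset_span ⟨S, rfl⟩
  -- (a) J ≤ 2J
  have ha : ∀ S, c S ∈ Ideal.span {(2 : R)} * J := by
    intro S
    by_cases hS : (S.card : ZMod 2) = 1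
    · have hne : S.Nonempty := by
        rw [Finset.nonempty_iff_ne_empty]
        rintro rfl
        simp at hS
      obtain ⟨i, hi⟩ := hne
      obtain ⟨v, hv⟩ := hQ (b.coord i)
      obtain ⟨u, hu⟩ := coord_erase_comp_contractLeft b hi
      have h1 := LinearMap.congr_fun hu p
      simp only [LinearMap.comp_apply, LinearMap.smul_apply, Module.Basis.coord_apply] at h1
      rw [← hv, key2 v, map_smul, Finsupp.smul_apply, smul_eq_mul] at h1
      set L : ExteriorAlgebra R M →ₗ[R] ExteriorAlgebra R M :=
        LinearMap.mulLeft R (ExteriorAlgebra.ι R v) - contractLeft (B v) with hL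
      have h2 : b.ExteriorAlgebra.repr (ExteriorAlgebra.ι R v * p - contractLeft (B v) p) (S.erase i) ∈ J :=
        repr_map_mem b J L hcJ (S.erase i)
      rcases eq_or_eq_neg_of_units_smul u h1.symm with h4 | h4
      · change c S = _ at h4
        rw [h4]
        exact Ideal.mem_span_singleton_mul.mpr ⟨_, h2, rfl⟩
      · change c S = _ at h4
        rw [h4]
        exact (Ideal.span {(2 : R)} * J).neg_mem (Ideal.mem_span_singleton_mul.mpr ⟨_, h2, rfl⟩)
    · rw [hcdef, repr_eq_zero_of_mem_evenOdd b 1 hp1 S hS]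
      exact Submodule.zero_mem _
  have hJ2 : J ≤ Ideal.span {(2 : R)} * J := by
    rw [hJ, Ideal.span_le]
    rintro _ ⟨S, rfl⟩
    exact ha S
  -- (b) 2^n p = 0
  have hprop : ∀ (r : R) (i : I), ∃ d : Module.Dual R M,
      ExteriorAlgebra.ι R (b i) * ((2 : R) • (r • p)) = contractLeft d (r • p) := by
    intro r i
    refine ⟨QuadraticMap.polarBilin Q (b i) + (2 : R) • B (b i), ?_⟩
    rw [map_smul, map_add, LinearMap.add_apply, key2, map_smul, LinearMap.smul_apply,
      smul_comm (2 : R) r, mul_smul_comm, mul_smul_comm]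
    congr 1
    rw [smul_sub]
    abel
  have hb : ∀ j k : ℕ, j + k = Fintype.card I → ((2 : R) ^ j) • p ∈ G b k := by
    intro j
    induction j with
    | zero =>
      intro k hk
      rw [pow_zero, one_smul, mem_G_iff]
      intro S hS
      apply repr_eq_zero_of_mem_evenOdd b 1 hp1
      have hSc : S.card = Fintype.card I := by
        have := Finset.card_le_univ S
        omega
      rw [hSc]
      intro e
      rw [ZMod.natCast_eq_one_iff_odd] at e
      exact (Nat.not_odd_iff_even.mpr hI) e
    | succ j ih =>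
      intro k hk
      have h1 := ih (k + 1) (by omega)
      have h2 := two_smul_mem_G b (k := k) (by omega) h1 (hprop _)
      rwa [smul_smul, ← pow_succ'] at h2
  have hb' : ((2 : R) ^ (Fintype.card I)) • p = 0 := by
    have := hb (Fintype.card I) 0 (by omega)
    rwa [G_zero, Submodule.mem_bot] at this
  have hb2 : ∀ a ∈ J, (2 : R) ^ (Fintype.card I) * a = 0 := by
    intro a ha'
    rw [hJ] at ha'
    induction ha' using Submodule.span_induction with
    | mem a hm =>
      obtain ⟨S, rfl⟩ := hm
      have := congrArg (fun ξ => b.ExteriorAlgebra.repr ξ S) hb'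
      simpa using this
    | zero => rw [mul_zero]
    | add a a' _ _ h1 h2 => rw [mul_add, h1, h2, add_zero]
    | smul r a _ h1 => rw [smul_eq_mul, mul_left_comm, h1, mul_zero]
  -- (c)
  have hc2 : ∀ k : ℕ, ∀ a ∈ J, ∃ a' ∈ J, a = (2 : R) ^ k * a' := by
    intro k
    induction k with
    | zero => intro a ha'; exact ⟨a, ha', by rw [pow_zero, one_mul]⟩
    | succ k ih =>
      intro a ha'
      obtain ⟨a', ha'J, rfl⟩ := ih a ha'
      obtain ⟨z, hz, hz'⟩ := Ideal.mem_span_singleton_mul.mp (hJ2 ha'J)
      exact ⟨z, hz, by rw [← hz', pow_succ, mul_assoc]⟩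
  have hzero : ∀ S, c S = 0 := by
    intro S
    obtain ⟨a', ha', e⟩ := hc2 (Fintype.card I) (c S) (hcJ S)
    rw [e, hb2 a' ha']
  have hp0 : p = 0 := by
    apply b.ExteriorAlgebra.repr.injective
    ext S
    rw [map_zero, Finsupp.zero_apply]
    exact hzero S
  exact (changeFormEquiv h).injective (by rw [map_zero]; exact hp0)

include b h in
theorem even_central_eq_algebraMap
    (hQ : Function.Surjective (QuadraticMap.polarBilin Q))
    (x : CliffordAlgebra Q) (hx : x ∈ evenOdd Q 0) (hc : ∀ v, ι Q v * x = x * ι Q v) :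
    ∃ r : R, x = algebraMap R _ r := by
  set p : ExteriorAlgebra R M := changeForm h x with hp
  have key : ∀ d : Module.Dual R M, contractLeft d p = 0 := by
    intro d
    obtain ⟨v, rfl⟩ := hQ d
    rw [hp, ← changeForm_contractLeft, ← ι_mul_sub_involute_mul_ι, involute_eq_of_mem_even hx,
      hc v, sub_self, map_zero]
  have h1 := eq_algebraMap_of_contractLeft_eq_zero b p (fun i => key _)
  refine ⟨b.ExteriorAlgebra.repr p ∅, ?_⟩
  apply (changeFormEquiv h).injective
  change changeForm h x = changeForm h _
  rw [changeForm_algebraMap]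
  exact h1

end Groth.Agent.Lib.Helper83.Cl4
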