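import Groth.Agent.Lib.Helper83.Cl4B
import Groth.Agent.Lib.Helper83.Cl3C
set_option autoImplicit false

namespace Groth.Agent.Lib.Helper83.Cl4

open CliffordAlgebra Groth.Agent.Lib.Helper83.Cl2 Groth.Agent.Lib.Helper83.Cl3
open scoped Pointwise

variable {R : Type*} [CommRing R] {M : Type*} [AddCommGroup M] [Module R M]
variable {Q : QuadraticForm R M}

theorem parts_intertwine {a a₀ a₁ : CliffordAlgebra Q} {v v' : M}
    (h : a * ι Q v = ι Q v' * a) (h0 : a₀ ∈ evenOdd Q 0) (h1 : a₁ ∈ evenOdd Q 1)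
    (ha : a = a₀ + a₁) : a₀ * ι Q v = ι Q v' * a₀ ∧ a₁ * ι Q v = ι Q v' * a₁ := by
  have h11 : (1 : ZMod 2) + 1 = 0 := by decide
  have hd := (evenOdd_isCompl Q).disjoint
  rw [Submodule.disjoint_def] at hd
  have e1 : a₀ * ι Q v - ι Q v' * a₀ ∈ evenOdd Q 1 := by
    refine Submodule.sub_mem _ ?_ ?_
    · have := SetLike.mul_mem_graded h0 (ι_mem_evenOdd_one Q v)
      rwa [zero_add] at this
    · have := SetLike.mul_mem_graded (ι_mem_evenOdd_one Q v') h0
      rwa [add_zero] at this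
  have e0 : a₁ * ι Q v - ι Q v' * a₁ ∈ evenOdd Q 0 := by
    refine Submodule.sub_mem _ ?_ ?_
    · have := SetLike.mul_mem_graded h1 (ι_mem_evenOdd_one Q v)
      rwa [h11] at this
    · have := SetLike.mul_mem_graded (ι_mem_evenOdd_one Q v') h1
      rwa [h11] at this
  have hs : (a₀ * ι Q v - ι Q v' * a₀) + (a₁ * ι Q v - ι Q v' * a₁) = 0 := by
    rw [ha, add_mul, mul_add] at h
    rw [sub_add_sub_comm, h, sub_self]
  have hz1 : a₀ * ι Q v - ι Q v' * a₀ = 0 := by
    apply hd _ _ e1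
    have : a₀ * ι Q v - ι Q v' * a₀ = -(a₁ * ι Q v - ι Q v' * a₁) := eq_neg_of_add_eq_zero_left hs
    rw [this]; exact Submodule.neg_mem _ e0
  have hz0 : a₁ * ι Q v - ι Q v' * a₁ = 0 := by
    rw [hz1, zero_add] at hs; exact hs
  exact ⟨sub_eq_zero.mp hz1, sub_eq_zero.mp hz0⟩

theorem main_S17009 [Module.Free R M] {I : Type*} [LinearOrder I] [Fintype I]
    (b : Module.Basis I R M) (hI : Even (Fintype.card I)) (Q : QuadraticForm R M)
    (hQ : Function.Surjective (QuadraticMap.polarBilin Q))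
    (u : (CliffordAlgebra Q)ˣ) (hu : u ∈ QuadGrp.GPin' Q) :
    QuadGrp.IsLocHomog Q (u : CliffordAlgebra Q) := by
  have h11 : (1 : ZMod 2) + 1 = 0 := by decide
  obtain ⟨B₀, hB₀⟩ := LinearMap.BilinMap.toQuadraticMap_surjective Q
  have h : LinearMap.BilinMap.toQuadraticMap (-B₀) = (0 : QuadraticForm R M) - Q := by
    rw [zero_sub, ← hB₀]; ext v; simp
  obtain ⟨g, hgO, hg⟩ := exists_conj_equiv h u hu
  -- intertwining relations
  have hu1 : ∀ v, (u : CliffordAlgebra Q) * ι Q v = ι Q (g v) * u := by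
    intro v
    rw [← hg v, mul_assoc, Units.inv_mul, mul_one]
  have hw1 : ∀ v, (↑u⁻¹ : CliffordAlgebra Q) * ι Q (g v) = ι Q v * ↑u⁻¹ := by
    intro v
    rw [← hg v, ← mul_assoc, ← mul_assoc, Units.inv_mul, one_mul]
  obtain ⟨u₀, hu₀, u₁, hu₁, hudec⟩ := exists_even_odd Q (u : CliffordAlgebra Q)
  obtain ⟨w₀, hw₀, w₁, hw₁, hwdec⟩ := exists_even_odd Q (↑u⁻¹ : CliffordAlgebra Q)
  have hup : ∀ v, u₀ * ι Q v = ι Q (g v) * u₀ ∧ u₁ * ι Q v = ι Q (g v) * u₁ :=
    fun v => parts_intertwine (hu1 v) hu₀ hu₁ hudec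
  have hwp : ∀ v, w₀ * ι Q (g v) = ι Q v * w₀ ∧ w₁ * ι Q (g v) = ι Q v * w₁ :=
    fun v => parts_intertwine (hw1 v) hw₀ hw₁ hwdec
  -- products commuting with vectors
  have c1 : ∀ (a c : CliffordAlgebra Q), (∀ v, a * ι Q (g v) = ι Q v * a) →
      (∀ v, c * ι Q v = ι Q (g v) * c) → ∀ v, ι Q v * (a * c) = (a * c) * ι Q v := by
    intro a c ha hc v
    rw [← mul_assoc, ← ha v, mul_assoc, ← hc v, mul_assoc]
  have c2 : ∀ (a c : CliffordAlgebra Q), (∀ v, a * ι Q (g v) = ι Q v * a) →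
      (∀ v, c * ι Q v = ι Q (g v) * c) → ∀ v, ι Q v * (c * a) = (c * a) * ι Q v := by
    intro a c ha hc v
    obtain ⟨v', rfl⟩ := g.surjective v
    rw [← mul_assoc, ← hc v', mul_assoc, ← ha v', mul_assoc]
  have z01 : w₀ * u₁ = 0 := by
    apply odd_central_eq_zero b h hI hQ
    · have := SetLike.mul_mem_graded hw₀ hu₁
      rwa [zero_add] at this
    · exact c1 w₀ u₁ (fun v => (hwp v).1) (fun v => (hup v).2)
  have z10 : w₁ * u₀ = 0 := by
    apply odd_central_eq_zero b h hI hQ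
    · have := SetLike.mul_mem_graded hw₁ hu₀
      rwa [add_zero] at this
    · exact c1 w₁ u₀ (fun v => (hwp v).2) (fun v => (hup v).1)
  have y01 : u₀ * w₁ = 0 := by
    apply odd_central_eq_zero b h hI hQ
    · have := SetLike.mul_mem_graded hu₀ hw₁
      rwa [zero_add] at this
    · exact c2 w₁ u₀ (fun v => (hwp v).2) (fun v => (hup v).1)
  have y10 : u₁ * w₀ = 0 := by
    apply odd_central_eq_zero b h hI hQ
    · have := SetLike.mul_mem_graded hu₁ hw₀
      rwa [add_zero] at this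
    · exact c2 w₀ u₁ (fun v => (hwp v).1) (fun v => (hup v).2)
  obtain ⟨e, he⟩ : ∃ e : R, w₀ * u₀ = algebraMap R _ e := by
    apply even_central_eq_algebraMap b h hQ
    · have := SetLike.mul_mem_graded hw₀ hu₀
      rwa [add_zero] at this
    · exact c1 w₀ u₀ (fun v => (hwp v).1) (fun v => (hup v).1)
  obtain ⟨f, hf⟩ : ∃ f : R, w₁ * u₁ = algebraMap R _ f := by
    apply even_central_eq_algebraMap b h hQ
    · have := SetLike.mul_mem_graded hw₁ hu₁
      rwa [h11] at this
    · exact c1 w₁ u₁ (fun v => (hwp v).2) (fun v => (hup v).2)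
  have hinj := algebraMap_injective_of_changeForm h
  have hef : e + f = 1 := by
    apply hinj
    rw [map_add, map_one, ← he, ← hf]
    have : (↑u⁻¹ : CliffordAlgebra Q) * u = 1 := Units.inv_mul u
    rw [hwdec, hudec, add_mul, mul_add, mul_add, z01, z10, add_zero, zero_add] at this
    exact this
  have hef0 : e * f = 0 := by
    apply hinj
    rw [map_mul, map_zero, ← he, ← hf, mul_assoc, ← mul_assoc u₀, y01, zero_mul, mul_zero]
  have hf' : f = 1 - e := by rw [← hef]; ring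
  refine ⟨e, ?_, ?_, ?_⟩
  · change e * e = e
    have : e * (1 - e) = 0 := by rw [← hf']; exact hef0
    linear_combination -this
  · have : e • (u : CliffordAlgebra Q) = e • u₀ := by
      rw [hudec, smul_add]
      have : e • u₁ = 0 := by
        rw [Algebra.smul_def, Algebra.commutes, ← he, ← mul_assoc, y10, zero_mul]
      rw [this, add_zero]
    rw [this]; exact Submodule.smul_mem _ _ hu₀
  · have : (1 - e) • (u : CliffordAlgebra Q) = (1 - e) • u₁ := by
      rw [hudec, smul_add, ← hf']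
      have : f • u₀ = 0 := by
        rw [Algebra.smul_def, Algebra.commutes, ← hf, ← mul_assoc, y01, zero_mul]
      rw [this, zero_add]
    rw [this]; exact Submodule.smul_mem _ _ hu₁

theorem main_S17009' [Module.Free R M] [Module.Finite R M] (m : ℕ)
    (hM : Module.finrank R M = 2 * m) (Q : QuadraticForm R M) (hQ : QuadGrp.IsRegular Q) :
    QuadGrp.GPin' Q ≤ QuadGrp.LH Q := by
  intro u hu
  rw [QuadGrp.mem_LH]
  rcases subsingleton_or_nontrivial R with hR | hR
  · haveI : Subsingleton (CliffordAlgebra Q) := Module.subsingleton R _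
    refine ⟨1, IsIdempotentElem.one, ?_, ?_⟩
    · rw [Subsingleton.elim ((1 : R) • (u : CliffordAlgebra Q)) 0]; exact Submodule.zero_mem _
    · rw [Subsingleton.elim (((1 : R) - 1) • (u : CliffordAlgebra Q)) 0]; exact Submodule.zero_mem _
  · exact main_S17009 (Module.finBasisOfFinrankEq R M hM)
      (by rw [Fintype.card_fin]; exact ⟨m, by ring⟩) Q hQ.2 u hu

end Groth.Agent.Lib.Helper83.Cl4
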