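import Groth.Agent.Lib.Helper83.Cl2B
set_option autoImplicit false

namespace Groth.Agent.Lib.Helper83.Cl5

open CliffordAlgebra Groth.Agent.Lib.Helper83.Cl2

variable {R : Type*} [CommRing R] {M₁ : Type*} [AddCommGroup M₁] [Module R M₁]
  {M₂ : Type*} [AddCommGroup M₂] [Module R M₂]
  {Q₁ : QuadraticForm R M₁} {Q₂ : QuadraticForm R M₂}

theorem map_mem_evenOdd (f : Q₁ →qᵢ Q₂) (k : ZMod 2) (x : CliffordAlgebra Q₁)
    (hx : x ∈ evenOdd Q₁ k) : CliffordAlgebra.map f x ∈ evenOdd Q₂ k := by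
  have h11 : (1 : ZMod 2) + 1 = 0 := by decide
  have step : ∀ (k : ZMod 2) (m₁ m₂ : M₁) (y : CliffordAlgebra Q₁),
      CliffordAlgebra.map f y ∈ evenOdd Q₂ k →
      CliffordAlgebra.map f (ι Q₁ m₁ * ι Q₁ m₂ * y) ∈ evenOdd Q₂ k := by
    intro k m₁ m₂ y ih
    rw [map_mul, map_mul, map_apply_ι, map_apply_ι]
    have h1 := SetLike.mul_mem_graded (ι_mem_evenOdd_one Q₂ (f m₁)) (ι_mem_evenOdd_one Q₂ (f m₂))
    rw [h11] at h1
    have h2 := SetLike.mul_mem_graded h1 ih
    rwa [zero_add] at h2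
  obtain rfl | rfl : k = 0 ∨ k = 1 := by
    have : ∀ k : ZMod 2, k = 0 ∨ k = 1 := by decide
    exact this k
  · refine even_induction Q₁ (motive := fun x _ => CliffordAlgebra.map f x ∈ evenOdd Q₂ 0) ?_ ?_ ?_ x hx
    · intro r; rw [AlgHom.commutes]; exact SetLike.algebraMap_mem_graded _ _
    · intro x y _ _ hx hy; rw [map_add]; exact Submodule.add_mem _ hx hy
    · intro m₁ m₂ y _ ih; exact step 0 m₁ m₂ y ih
  · refine odd_induction Q₁ (P := fun x _ => CliffordAlgebra.map f x ∈ evenOdd Q₂ 1) ?_ ?_ ?_ x hx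
    · intro v; rw [map_apply_ι]; exact ι_mem_evenOdd_one _ _
    · intro x y _ _ hx hy; rw [map_add]; exact Submodule.add_mem _ hx hy
    · intro m₁ m₂ y _ ih; exact step 1 m₁ m₂ y ih

theorem involute_map (f : Q₁ →qᵢ Q₂) (x : CliffordAlgebra Q₁) :
    involute (CliffordAlgebra.map f x) = CliffordAlgebra.map f (involute x) := by
  have : (involute.comp (CliffordAlgebra.map f)) = (CliffordAlgebra.map f).comp involute := by
    apply CliffordAlgebra.hom_ext
    ext m
    simp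
  exact congrArg (fun g : CliffordAlgebra Q₁ →ₐ[R] CliffordAlgebra Q₂ => g x) this

theorem ι_mul_map_of_orth (f : Q₁ →qᵢ Q₂) (x : M₂)
    (hx : ∀ y, QuadraticMap.polar Q₂ x (f y) = 0) (Z : CliffordAlgebra Q₁) :
    ι Q₂ x * CliffordAlgebra.map f Z = involute (CliffordAlgebra.map f Z) * ι Q₂ x := by
  have h1 := ι_mul_sub_involute_mul_ι (Q := Q₂) x (CliffordAlgebra.map f Z)
  have h2 : (QuadraticMap.polarBilin Q₂ x) ∘ₗ f.toLinearMap = 0 := by
    ext y
    simp only [LinearMap.comp_apply, LinearMap.zero_apply]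
    exact hx y
  have h3 := map_contractLeft f (QuadraticMap.polarBilin Q₂ x) Z
  rw [h2, map_zero, LinearMap.zero_apply, map_zero] at h3
  rw [← h3] at h1
  exact sub_eq_zero.mp h1

variable {M : Type*} [AddCommGroup M] [Module R M] (Q : QuadraticForm R M)

/-- `z` is super-anticentral. -/
def SA (z : CliffordAlgebra Q) : Prop := ∀ v, ι Q v * z = -(involute z * ι Q v)

theorem ι_mul_ι_of_orth {x y : M} (h : QuadraticMap.polar Q x y = 0) :
    ι Q x * ι Q y = -(ι Q y * ι Q x) := by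
  have := ι_mul_ι_add_swap (Q := Q) x y
  rw [h, map_zero] at this
  exact eq_neg_of_add_eq_zero_left this

theorem plane_aux {A : Type*} [Ring A] (a b c α β : A) (hc : ∀ x, c * x = x * c)
    (hβ : ∀ x, β * x = x * β)
    (ha : a * a = α) (hb : b * b = β) (hba : b * a = c - a * b) :
    a * (c - (a * b + a * b)) = -((c - (a * b + a * b)) * a) ∧
    b * (c - (a * b + a * b)) = -((c - (a * b + a * b)) * b) ∧
    (c - (a * b + a * b)) * (c - (a * b + a * b)) = c * c - (α * β + α * β + α * β + α * β) := by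
  have e1 : a * (a * b) = α * b := by rw [← mul_assoc, ha]
  have e2 : a * b * a = c * a - α * b := by
    rw [mul_assoc, hba, mul_sub, e1, hc a]
  have e3 : b * (a * b) = c * b - β * a := by
    rw [← mul_assoc, hba, sub_mul, mul_assoc, hb, hβ a]
  have e4 : a * b * b = β * a := by rw [mul_assoc, hb, hβ a]
  have e5 : a * b * (a * b) = c * (a * b) - α * β := by
    rw [mul_assoc, e3, mul_sub, ← mul_assoc, ← hc a, mul_assoc, ← mul_assoc a β a, ← hβ a,
      mul_assoc, ha, ← hβ α]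
  refine ⟨?_, ?_, ?_⟩
  · rw [mul_sub, mul_add, e1, sub_mul, add_mul, e2, ← hc a]
    abel
  · rw [mul_sub, mul_add, e3, sub_mul, add_mul, e4, ← hc b]
    abel
  · rw [sub_mul, mul_sub, mul_sub, add_mul, add_mul, mul_add, mul_add, e5, ← hc (a * b)]
    abel

/-- plane element. -/
noncomputable def wP (e f : M) : CliffordAlgebra Q :=
  algebraMap R _ (QuadraticMap.polar Q e f) - (ι Q e * ι Q f + ι Q e * ι Q f)

theorem wP_mem_even (e f : M) : wP Q e f ∈ evenOdd Q 0 := by
  have h11 : (1 : ZMod 2) + 1 = 0 := by decide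
  have := SetLike.mul_mem_graded (ι_mem_evenOdd_one Q e) (ι_mem_evenOdd_one Q f)
  rw [h11] at this
  exact Submodule.sub_mem _ (SetLike.algebraMap_mem_graded _ _) (Submodule.add_mem _ this this)

theorem ι_e_mul_wP (e f : M) : ι Q e * wP Q e f = -(wP Q e f * ι Q e) :=
  (plane_aux (ι Q e) (ι Q f) (algebraMap R _ (QuadraticMap.polar Q e f)) (algebraMap R _ (Q e))
    (algebraMap R _ (Q f)) (fun x => Algebra.commutes _ x) (fun x => Algebra.commutes _ x)
    (ι_sq_scalar Q e) (ι_sq_scalar Q f)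
    (by rw [← ι_mul_ι_add_swap (Q := Q) e f]; abel)).1

theorem ι_f_mul_wP (e f : M) : ι Q f * wP Q e f = -(wP Q e f * ι Q f) :=
  (plane_aux (ι Q e) (ι Q f) (algebraMap R _ (QuadraticMap.polar Q e f)) (algebraMap R _ (Q e))
    (algebraMap R _ (Q f)) (fun x => Algebra.commutes _ x) (fun x => Algebra.commutes _ x)
    (ι_sq_scalar Q e) (ι_sq_scalar Q f)
    (by rw [← ι_mul_ι_add_swap (Q := Q) e f]; abel)).2.1

theorem wP_sq (e f : M) : wP Q e f * wP Q e f
    = algebraMap R _ (QuadraticMap.polar Q e f ^ 2 - 4 * Q e * Q f) := by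
  have h := (plane_aux (ι Q e) (ι Q f) (algebraMap R _ (QuadraticMap.polar Q e f)) (algebraMap R _ (Q e))
    (algebraMap R _ (Q f)) (fun x => Algebra.commutes _ x) (fun x => Algebra.commutes _ x)
    (ι_sq_scalar Q e) (ι_sq_scalar Q f)
    (by rw [← ι_mul_ι_add_swap (Q := Q) e f]; abel)).2.2
  rw [wP, h, ← map_mul, ← map_mul, ← map_add, ← map_add, ← map_add, ← map_sub]
  congr 1
  ring

theorem ι_mul_wP_of_orth (e f y : M) (he : QuadraticMap.polar Q y e = 0)
    (hf : QuadraticMap.polar Q y f = 0) : ι Q y * wP Q e f = wP Q e f * ι Q y := by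
  have h : ι Q y * (ι Q e * ι Q f) = ι Q e * ι Q f * ι Q y := by
    rw [← mul_assoc, ι_mul_ι_of_orth Q he, neg_mul, mul_assoc, ι_mul_ι_of_orth Q hf, mul_neg,
      neg_neg, mul_assoc]
  unfold wP
  rw [mul_sub, sub_mul, mul_add, add_mul, h, Algebra.commutes]

end Groth.Agent.Lib.Helper83.Cl5
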