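import Groth.Agent.Lib.Helper83.Cl5A
import Groth.Agent.Lib.Helper75.OrthSplit
set_option autoImplicit false

namespace Groth.Agent.Lib.Helper83.Cl5

open CliffordAlgebra Groth.Agent.Lib.Helper83.Cl2 Groth.Agent.Lib.Helper75.OrthSplit

universe u v
variable {R : Type u} [CommRing R]

/-- homogeneous element. -/
def Homog {N : Type v} [AddCommGroup N] [Module R N] (q : QuadraticForm R N)
    (z : CliffordAlgebra q) : Prop := z ∈ evenOdd q 0 ∨ z ∈ evenOdd q 1

theorem Homog.mul {N : Type v} [AddCommGroup N] [Module R N] {q : QuadraticForm R N}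
    {a b : CliffordAlgebra q} (ha : Homog q a) (hb : Homog q b) : Homog q (a * b) := by
  have h11 : (1 : ZMod 2) + 1 = 0 := by decide
  rcases ha with ha | ha <;> rcases hb with hb | hb
  · left; have := SetLike.mul_mem_graded ha hb; rwa [add_zero] at this
  · right; have := SetLike.mul_mem_graded ha hb; rwa [zero_add] at this
  · right; have := SetLike.mul_mem_graded ha hb; rwa [add_zero] at this
  · left; have := SetLike.mul_mem_graded ha hb; rwa [h11] at this

theorem Homog.involute_eq {N : Type v} [AddCommGroup N] [Module R N] {q : QuadraticForm R N}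
    {a : CliffordAlgebra q} (ha : Homog q a) : involute a = a ∨ involute a = -a := by
  rcases ha with ha | ha
  · left; exact involute_eq_of_mem_even ha
  · right; exact involute_eq_of_mem_odd ha

theorem peel {N : Type v} [AddCommGroup N] [Module R N] (q : QuadraticForm R N) {k : ℕ}
    (e : Fin k → N)
    (hG : IsUnit (Matrix.det (Matrix.of fun i j : Fin k => QuadraticMap.polar q (e i) (e j))))
    (w : CliffordAlgebra q) (hw : Homog q w)
    (hw1 : ∀ i, ι q (e i) * w = -(involute w * ι q (e i)))
    (hw2 : ∀ y ∈ perp q e, ι q y * w = involute w * ι q y)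
    (hw3 : ∃ r : Rˣ, w * w = algebraMap R _ r)
    (hw4 : ∀ Z : CliffordAlgebra q, (∀ i, ι q (e i) * Z = involute Z * ι q (e i)) →
      w * Z = Z * w ∨ w * Z = involute Z * w)
    (z' : CliffordAlgebra (q.comp (perp q e).subtype)) (hz' : Homog _ z') (hSA : SA _ z')
    (hz'2 : ∃ r : Rˣ, z' * z' = algebraMap R _ r) :
    ∃ z, Homog q z ∧ SA q z ∧ ∃ r : Rˣ, z * z = algebraMap R _ r := by
  let j : (q.comp (perp q e).subtype) →qᵢ q :=
    { (perp q e).subtype with map_app' := fun _ => rfl }
  have hj : ∀ y : ↥(perp q e), j y = (y : N) := fun _ => rfl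
  set Z' := CliffordAlgebra.map j z' with hZ'
  have hZh : Homog q Z' := by
    rcases hz' with h | h
    · left; exact map_mem_evenOdd j 0 z' h
    · right; exact map_mem_evenOdd j 1 z' h
  have hZe : ∀ i, ι q (e i) * Z' = involute Z' * ι q (e i) := by
    intro i
    apply ι_mul_map_of_orth j (e i)
    intro y
    rw [hj, QuadraticMap.polar_comm]
    exact (mem_perp_iff q e _).mp y.2 i
  have hZy : ∀ y ∈ perp q e, ι q y * Z' = -(involute Z' * ι q y) := by
    intro y hy
    have h1 := hSA ⟨y, hy⟩
    have h2 := congrArg (CliffordAlgebra.map j) h1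
    rw [map_mul, map_neg, map_mul, map_apply_ι, ← involute_map] at h2
    exact h2
  refine ⟨w * Z', hw.mul hZh, ?_, ?_⟩
  · intro v
    obtain ⟨a, y, hy, rfl⟩ := exists_decomp q e hG v
    have hP : ∀ i, ι q (e i) * (w * Z') = -(involute (w * Z') * ι q (e i)) := by
      intro i
      rw [← mul_assoc, hw1 i, neg_mul, mul_assoc, hZe i, map_mul, mul_assoc]
    have hY : ι q y * (w * Z') = -(involute (w * Z') * ι q y) := by
      rw [← mul_assoc, hw2 y hy, mul_assoc, hZy y hy, map_mul, mul_neg, mul_assoc]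
    rw [map_add, map_sum, add_mul, mul_add, Finset.sum_mul, Finset.mul_sum, hY, neg_add]
    congr 1
    rw [← Finset.sum_neg_distrib]
    refine Finset.sum_congr rfl fun i _ => ?_
    rw [map_smul, smul_mul_assoc, hP i, mul_smul_comm, smul_neg]
  · obtain ⟨r, hr⟩ := hw3
    obtain ⟨r', hr'⟩ := hz'2
    have hZZ : Z' * Z' = algebraMap R _ (r' : R) := by
      rw [hZ', ← map_mul, hr', AlgHom.commutes]
    rcases hw4 Z' hZe with h | h
    · refine ⟨r * r', ?_⟩
      rw [mul_assoc, ← mul_assoc Z', ← h, mul_assoc, ← mul_assoc, hr, hZZ, Units.val_mul, map_mul]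
    · rcases hZh.involute_eq with hi | hi
      · rw [hi] at h
        refine ⟨r * r', ?_⟩
        rw [mul_assoc, ← mul_assoc Z', ← h, mul_assoc, ← mul_assoc, hr, hZZ, Units.val_mul, map_mul]
      · rw [hi] at h
        refine ⟨-(r * r'), ?_⟩
        have : w * Z' * (w * Z') = -(w * w * (Z' * Z')) := by
          rw [mul_assoc, ← mul_assoc Z', ]
          have h' : Z' * w = -(w * Z') := by rw [h, neg_mul, neg_neg]
          rw [h', neg_mul, mul_neg, mul_assoc, ← mul_assoc]
        rw [this, hr, hZZ, Units.val_neg, Units.val_mul, map_neg, map_mul]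

theorem peel_line {N : Type v} [AddCommGroup N] [Module R N] (q : QuadraticForm R N)
    (e₀ : N) (h2 : IsUnit (2 : R)) (he : IsUnit (q e₀))
    (z' : CliffordAlgebra (q.comp (perp q ![e₀]).subtype)) (hz' : Homog _ z') (hSA : SA _ z')
    (hz'2 : ∃ r : Rˣ, z' * z' = algebraMap R _ r) :
    ∃ z, Homog q z ∧ SA q z ∧ ∃ r : Rˣ, z * z = algebraMap R _ r := by
  have hG : IsUnit (Matrix.det (Matrix.of fun i j : Fin 1 =>
      QuadraticMap.polar q ((![e₀] : Fin 1 → N) i) ((![e₀] : Fin 1 → N) j))) := by
    rw [Matrix.det_fin_one]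
    simp only [Matrix.of_apply, Matrix.cons_val_zero]
    rw [QuadraticMap.polar_self, nsmul_eq_mul]
    exact h2.mul he
  refine peel q ![e₀] hG (ι q e₀) (Or.inr (ι_mem_evenOdd_one q e₀)) ?_ ?_ ?_ ?_ z' hz' hSA hz'2
  · intro i
    fin_cases i
    simp only [Fin.zero_eta, Fin.isValue, Matrix.cons_val_zero, involute_ι, neg_mul, neg_neg]
  · intro y hy
    have h0 : QuadraticMap.polar q y e₀ = 0 := (mem_perp_iff q ![e₀] y).mp hy 0
    rw [involute_ι, neg_mul]
    exact ι_mul_ι_of_orth q h0
  · exact ⟨he.unit, by rw [ι_sq_scalar]; rfl⟩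
  · intro Z hZ
    right
    exact hZ 0

theorem peel_plane [IsLocalRing R] {N : Type v} [AddCommGroup N] [Module R N] (q : QuadraticForm R N)
    (e₀ f₀ : N) (h2 : ¬ IsUnit (2 : R)) (hef : QuadraticMap.polar q e₀ f₀ = 1)
    (hGG : IsUnit (Matrix.det (Matrix.of fun i j : Fin 2 =>
      QuadraticMap.polar q ((![e₀, f₀] : Fin 2 → N) i) ((![e₀, f₀] : Fin 2 → N) j))))
    (z' : CliffordAlgebra (q.comp (perp q ![e₀, f₀]).subtype)) (hz' : Homog _ z') (hSA : SA _ z')
    (hz'2 : ∃ r : Rˣ, z' * z' = algebraMap R _ r) :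
    ∃ z, Homog q z ∧ SA q z ∧ ∃ r : Rˣ, z * z = algebraMap R _ r := by
  have hinv : involute (wP q e₀ f₀) = wP q e₀ f₀ := involute_eq_of_mem_even (wP_mem_even q e₀ f₀)
  refine peel q ![e₀, f₀] hGG (wP q e₀ f₀) (Or.inl (wP_mem_even q e₀ f₀)) ?_ ?_ ?_ ?_ z' hz' hSA hz'2
  · intro i
    rw [hinv]
    fin_cases i
    · exact ι_e_mul_wP q e₀ f₀
    · exact ι_f_mul_wP q e₀ f₀
  · intro y hy
    rw [hinv]
    have h0 : QuadraticMap.polar q y e₀ = 0 := (mem_perp_iff q ![e₀, f₀] y).mp hy 0
    have h1 : QuadraticMap.polar q y f₀ = 0 := (mem_perp_iff q ![e₀, f₀] y).mp hy 1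
    exact ι_mul_wP_of_orth q e₀ f₀ y h0 h1
  · have hu : IsUnit (QuadraticMap.polar q e₀ f₀ ^ 2 - 4 * q e₀ * q f₀) := by
      rw [hef, one_pow]
      apply IsLocalRing.isUnit_one_sub_self_of_mem_nonunits
      have h2' : (2 : R) ∈ IsLocalRing.maximalIdeal R := (IsLocalRing.mem_maximalIdeal _).mpr h2
      have : (4 : R) * q e₀ * q f₀ ∈ IsLocalRing.maximalIdeal R := by
        have h4 : (4 : R) = 2 * 2 := by norm_num
        rw [h4, mul_assoc, mul_assoc]
        exact Ideal.mul_mem_right _ _ h2'
      exact (IsLocalRing.mem_maximalIdeal _).mp this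
    exact ⟨hu.unit, by rw [wP_sq]; rfl⟩
  · intro Z hZ
    left
    have he := hZ 0
    have hf := hZ 1
    simp only [Fin.isValue, Matrix.cons_val_zero, Matrix.cons_val_one] at he hf
    have he' : ι q e₀ * involute Z = Z * ι q e₀ := by
      have := congrArg involute he
      rw [map_mul, map_mul, involute_ι, involute_involute, neg_mul, mul_neg, neg_inj] at this
      exact this
    have h : ι q e₀ * ι q f₀ * Z = Z * (ι q e₀ * ι q f₀) := by
      rw [mul_assoc, hf, ← mul_assoc, he', mul_assoc]
    unfold wP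
    rw [sub_mul, mul_sub, add_mul, mul_add, h, Algebra.commutes]

theorem exists_SA [IsLocalRing R] : ∀ (n : ℕ) (N : Type v) [AddCommGroup N] [Module R N]
    [Module.Free R N] [Module.Finite R N] (q : QuadraticForm R N), Module.finrank R N = n →
    Function.Bijective (QuadraticMap.polarBilin q) →
    ∃ z, Homog q z ∧ SA q z ∧ ∃ r : Rˣ, z * z = algebraMap R _ r := by
  intro n
  induction n using Nat.strong_induction_on with
  | _ n ih =>
    intro N _ _ _ _ q hn hq
    rcases Nat.eq_zero_or_pos n with h0 | hpos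
    · rw [h0] at hn
      have hsub : Subsingleton N := (Module.finrank_eq_zero_iff_of_free R N).mp hn
      refine ⟨1, Or.inl (SetLike.one_mem_graded _), ?_, 1, by simp⟩
      intro v
      rw [Subsingleton.elim v 0, map_zero, zero_mul, mul_zero, neg_zero]
    · have hnt : Nontrivial N := (Module.finrank_pos_iff_of_free R N).mp (hn ▸ hpos)
      let b := Module.Free.chooseBasis R N
      obtain ⟨i₀⟩ : Nonempty (Module.Free.ChooseBasisIndex R N) := b.index_nonempty
      obtain ⟨x, hx⟩ := hq.2 (b.coord i₀)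
      have hx1 : QuadraticMap.polar q x (b i₀) = 1 := by
        have := LinearMap.congr_fun hx (b i₀)
        simpa using this
      by_cases h2 : IsUnit (2 : R)
      · have hex : ∃ e₀, IsUnit (q e₀) := by
          by_contra hcon
          push Not at hcon
          have hm : ∀ v, q v ∈ IsLocalRing.maximalIdeal R :=
            fun v => (IsLocalRing.mem_maximalIdeal _).mpr (hcon v)
          have : QuadraticMap.polar q x (b i₀) ∈ IsLocalRing.maximalIdeal R := by
            unfold QuadraticMap.polar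
            exact Ideal.sub_mem _ (Ideal.sub_mem _ (hm _) (hm _)) (hm _)
          rw [hx1] at this
          exact (Ideal.ne_top_iff_one _).mp (IsLocalRing.maximalIdeal.isMaximal R).ne_top this
        obtain ⟨e₀, he₀⟩ := hex
        have hG : IsUnit (Matrix.det (Matrix.of fun i j : Fin 1 =>
            QuadraticMap.polar q ((![e₀] : Fin 1 → N) i) ((![e₀] : Fin 1 → N) j))) := by
          rw [Matrix.det_fin_one]
          simp only [Matrix.of_apply, Matrix.cons_val_zero]
          rw [QuadraticMap.polar_self, nsmul_eq_mul]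
          exact h2.mul he₀
        obtain ⟨hfree, hfin, hrank⟩ := free_finite_perp q ![e₀] hG
        have hlt : Module.finrank R ↥(perp q ![e₀]) < n := by omega
        obtain ⟨z', hz', hSA, hz'2⟩ := ih _ hlt ↥(perp q ![e₀]) (q.comp (perp q ![e₀]).subtype) rfl
          (polarBilin_perp_bijective q ![e₀] hG hq)
        exact peel_line q e₀ h2 he₀ z' hz' hSA hz'2
      · have h2' : (2 : R) ∈ IsLocalRing.maximalIdeal R := (IsLocalRing.mem_maximalIdeal _).mpr h2
        have hG : IsUnit (Matrix.det (Matrix.of fun i j : Fin 2 =>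
            QuadraticMap.polar q ((![x, b i₀] : Fin 2 → N) i) ((![x, b i₀] : Fin 2 → N) j))) := by
          rw [Matrix.det_fin_two]
          simp only [Matrix.of_apply, Matrix.cons_val_zero, Matrix.cons_val_one]
          rw [QuadraticMap.polar_self, QuadraticMap.polar_self, QuadraticMap.polar_comm q (b i₀) x, hx1]
          have : (2 • q x) * (2 • q (b i₀)) - 1 * 1 = -(1 - 2 * (2 * q x * q (b i₀))) := by
            simp only [nsmul_eq_mul]; push_cast; ring
          rw [this]
          apply IsUnit.neg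
          apply IsLocalRing.isUnit_one_sub_self_of_mem_nonunits
          exact (IsLocalRing.mem_maximalIdeal _).mp (Ideal.mul_mem_right _ _ h2')
        obtain ⟨hfree, hfin, hrank⟩ := free_finite_perp q ![x, b i₀] hG
        have hlt : Module.finrank R ↥(perp q ![x, b i₀]) < n := by omega
        obtain ⟨z', hz', hSA, hz'2⟩ := ih _ hlt ↥(perp q ![x, b i₀])
          (q.comp (perp q ![x, b i₀]).subtype) rfl (polarBilin_perp_bijective q ![x, b i₀] hG hq)
        exact peel_plane q x (b i₀) h2 hx1 hG z' hz' hSA hz'2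

end Groth.Agent.Lib.Helper83.Cl5
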