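import Groth.Agent.Lib.Helper83.Cl5B
import Groth.Agent.Lib.Helper83.Cl4C
import Groth.Agent.Lib.Helper83.Cl2J
import Groth.Agent.Lib.Helper20.AdaptedBasis
set_option autoImplicit false

namespace Groth.Agent.Lib.Helper83.Cl5

open CliffordAlgebra Groth.Agent.Lib.Helper83.Cl2 Groth.Agent.Lib.Helper75.OrthSplit Matrix

universe u v
variable {R : Type u} [CommRing R]

theorem polarBilin_bijective_of_gram {N : Type v} [AddCommGroup N] [Module R N]
    (q : QuadraticForm R N) {k : ℕ} (bN : Module.Basis (Fin k) R N)
    (hG : IsUnit (Matrix.det (Matrix.of fun i j : Fin k => QuadraticMap.polar q (bN i) (bN j)))) :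
    Function.Bijective (QuadraticMap.polarBilin q) := by
  have hG' : IsUnit (gram q bN).det := hG
  have hS : ∀ v, S (⇑bN) (⇑(bN.repr v)) = v := by
    intro v; rw [S_apply]; exact bN.sum_repr v
  constructor
  · rw [injective_iff_map_eq_zero]
    intro x hx
    have h1 : pair q bN x = 0 := by
      funext j
      rw [pair_apply, ← QuadraticMap.polarBilin_apply_apply, hx]
      rfl
    have h2 : coef q bN x = 0 := by rw [coef_apply, h1, Matrix.mulVec_zero]
    have h3 := coef_S q bN hG (⇑(bN.repr x))
    rw [hS, h2] at h3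
    have : bN.repr x = 0 := by
      ext j; have := congrFun h3 j; simpa using this.symm
    exact (LinearEquiv.map_eq_zero_iff _).mp this
  · intro d
    set c : Fin k → R := fun j => d (bN j) with hc
    refine ⟨S (⇑bN) ((gram q bN)⁻¹ *ᵥ c), ?_⟩
    refine bN.ext fun j => ?_
    rw [QuadraticMap.polarBilin_apply_apply, ← pair_apply, pair_S, Matrix.mulVec_mulVec,
      Matrix.mul_nonsing_inv _ hG', Matrix.one_mulVec]

theorem commute_of_basis {M : Type v} [AddCommGroup M] [Module R M] {Q : QuadraticForm R M}
    {I : Type*} [Fintype I] (b : Module.Basis I R M) (z : CliffordAlgebra Q)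
    (h : ∀ j, ι Q (b j) * z = z * ι Q (b j)) : ∀ v, ι Q v * z = z * ι Q v := by
  intro v
  rw [← b.sum_repr v, map_sum, Finset.sum_mul, Finset.mul_sum]
  refine Finset.sum_congr rfl fun j _ => ?_
  rw [map_smul, smul_mul_assoc, mul_smul_comm, h j]

theorem polar_comp_lin {M : Type v} [AddCommGroup M] [Module R M] (Q : QuadraticForm R M)
    {N : Type*} [AddCommGroup N] [Module R N] (φ : N →ₗ[R] M) (x y : N) :
    QuadraticMap.polar (Q.comp φ) x y = QuadraticMap.polar Q (φ x) (φ y) := by
  unfold QuadraticMap.polar
  simp only [QuadraticMap.comp_apply, map_add]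

theorem local_structure [IsLocalRing R] {M : Type v} [AddCommGroup M] [Module R M] (m : ℕ)
    (b : Module.Basis (Fin (2 * m + 1)) R M) (Q : QuadraticForm R M)
    (hQ : QuadGrp.IsSemiregular b (LinearEquiv.refl R R) Q) :
    (∃ z ∈ evenOdd Q 1, (∀ v, ι Q v * z = z * ι Q v) ∧ ∃ r : Rˣ, z * z = algebraMap R _ r) ∧
    (∀ x ∈ evenOdd Q 0, (∀ v, ι Q v * x = x * ι Q v) → ∃ a : R, x = algebraMap R _ a) := by
  classical
  haveI : Module.Free R M := Module.Free.of_basis b
  haveI : Module.Finite R M := Module.Finite.of_basis b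
  obtain ⟨B₀, hB₀⟩ := LinearMap.BilinMap.toQuadraticMap_surjective Q
  have h : LinearMap.BilinMap.toQuadraticMap (-B₀) = (0 : QuadraticForm R M) - Q := by
    rw [zero_sub, ← hB₀]; ext v; simp
  have hinjA := Cl3.algebraMap_injective_of_changeForm h
  have hdis := (evenOdd_isCompl Q).disjoint
  rw [Submodule.disjoint_def] at hdis
  by_cases h2 : IsUnit (2 : R)
  · letI : Invertible (2 : R) := h2.invertible
    have hsurj := polarBilin_surjective_of_semiregular (n := 2 * m + 1) ⟨m, rfl⟩ b Q hQ
    have hinj : Function.Injective (QuadraticMap.polarBilin Q) := by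
      have h1 : Function.Surjective (b.toDualEquiv.symm.toLinearMap ∘ₗ QuadraticMap.polarBilin Q) := by
        rw [LinearMap.coe_comp]
        exact b.toDualEquiv.symm.surjective.comp hsurj
      have h3 := OrzechProperty.injective_of_surjective_endomorphism _ h1
      rw [LinearMap.coe_comp] at h3
      exact Function.Injective.of_comp h3
    constructor
    · obtain ⟨z, hz, hSA, r, hr⟩ := exists_SA (Module.finrank R M) M Q rfl ⟨hinj, hsurj⟩
      rcases hz with hz | hz
      · exfalso
        have hanti : ∀ v, ι Q v * z = -(z * ι Q v) := by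
          intro v; rw [hSA v, involute_eq_of_mem_even hz]
        obtain ⟨c, hc⟩ := eq_smul_ω_of_even_anticomm Q b z hz hanti
        have hω : ω Q b ∈ evenOdd Q 1 := by
          have := ω_mem_evenOdd Q b
          rwa [(ZMod.natCast_eq_one_iff_odd).mpr (by rw [Fintype.card_fin]; exact ⟨m, rfl⟩)] at this
        have hz1 : z ∈ evenOdd Q 1 := by rw [hc]; exact Submodule.smul_mem _ _ hω
        have hz0 : z = 0 := hdis z hz hz1
        rw [hz0, zero_mul] at hr
        exact r.ne_zero (hinjA (by rw [map_zero]; exact hr.symm))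
      · refine ⟨z, hz, ?_, r, hr⟩
        intro v; rw [hSA v, involute_eq_of_mem_odd hz, neg_mul, neg_neg]
    · intro x hx hc
      exact Cl4.even_central_eq_algebraMap b h hsurj x hx hc
  · have h2' : (2 : R) ∈ IsLocalRing.maximalIdeal R := (IsLocalRing.mem_maximalIdeal _).mpr h2
    obtain ⟨b', i₀, horth, hQw, hminor⟩ :=
      Groth.Agent.Lib.Helper20.AdaptedBasis.exists_adapted_basis h2' m b Q hQ
    let φ : (Fin (2 * m) → R) →ₗ[R] M :=
      Fintype.linearCombination R (fun p => b' (i₀.succAbove p))
    have hφ : ∀ p, φ (Pi.single p 1) = b' (i₀.succAbove p) := by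
      intro p
      change Fintype.linearCombination R (fun p => b' (i₀.succAbove p)) (Pi.single p 1) = _
      rw [Fintype.linearCombination_apply_single, one_smul]
    let bN := Pi.basisFun R (Fin (2 * m))
    have hbN : ∀ p, bN p = Pi.single p 1 := fun p => Pi.basisFun_apply R (Fin (2 * m)) p
    have hGq : IsUnit (Matrix.det (Matrix.of fun i j : Fin (2 * m) =>
        QuadraticMap.polar (Q.comp φ) (bN i) (bN j))) := by
      have : (Matrix.of fun i j : Fin (2 * m) => QuadraticMap.polar (Q.comp φ) (bN i) (bN j))
          = Matrix.of fun p q : Fin (2 * m) =>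
            QuadraticMap.polar Q (b' (i₀.succAbove p)) (b' (i₀.succAbove q)) := by
        ext p p'
        simp only [Matrix.of_apply]
        rw [polar_comp_lin, hbN, hbN, hφ, hφ]
      rw [this]; exact hminor
    have hbij := polarBilin_bijective_of_gram (Q.comp φ) bN hGq
    obtain ⟨z', hz', hSA, r', hr'⟩ :=
      exists_SA (2 * m) (Fin (2 * m) → R) (Q.comp φ) (by simp) hbij
    obtain ⟨Bq, hBq⟩ := LinearMap.BilinMap.toQuadraticMap_surjective (Q.comp φ)
    have hq : LinearMap.BilinMap.toQuadraticMap (-Bq)
        = (0 : QuadraticForm R (Fin (2 * m) → R)) - Q.comp φ := by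
      rw [zero_sub, ← hBq]; ext v; simp
    have hinjq := Cl3.algebraMap_injective_of_changeForm hq
    have hz'e : z' ∈ evenOdd (Q.comp φ) 0 := by
      rcases hz' with h0 | h1
      · exact h0
      · exfalso
        have hcomm : ∀ v, ι (Q.comp φ) v * z' = z' * ι (Q.comp φ) v := by
          intro v; rw [hSA v, involute_eq_of_mem_odd h1, neg_mul, neg_neg]
        have := Cl4.odd_central_eq_zero bN hq (by rw [Fintype.card_fin]; exact ⟨m, by ring⟩)
          hbij.2 z' h1 hcomm
        rw [this, zero_mul] at hr'
        exact r'.ne_zero (hinjq (by rw [map_zero]; exact hr'.symm))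
    have hanti : ∀ y, ι (Q.comp φ) y * z' = -(z' * ι (Q.comp φ) y) := by
      intro y; rw [hSA y, involute_eq_of_mem_even hz'e]
    let j : (Q.comp φ) →qᵢ Q := { φ with map_app' := fun _ => rfl }
    have hjφ : ∀ y, j y = φ y := fun _ => rfl
    have hZe : CliffordAlgebra.map j z' ∈ evenOdd Q 0 := map_mem_evenOdd j 0 z' hz'e
    have horth' : ∀ y, QuadraticMap.polar Q (b' i₀) (j y) = 0 := by
      intro y
      rw [hjφ]
      change QuadraticMap.polar Q (b' i₀)
        (Fintype.linearCombination R (fun p => b' (i₀.succAbove p)) y) = 0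
      rw [Fintype.linearCombination_apply, ← QuadraticMap.polarBilin_apply_apply, map_sum]
      refine Finset.sum_eq_zero fun p _ => ?_
      rw [map_smul, QuadraticMap.polarBilin_apply_apply, horth _ (Fin.succAbove_ne i₀ p), smul_zero]
    have hwZ : ι Q (b' i₀) * CliffordAlgebra.map j z' = CliffordAlgebra.map j z' * ι Q (b' i₀) := by
      rw [ι_mul_map_of_orth j (b' i₀) horth' z', involute_eq_of_mem_even hZe]
    have hyZ : ∀ y, ι Q (φ y) * CliffordAlgebra.map j z' = -(CliffordAlgebra.map j z' * ι Q (φ y)) := by
      intro y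
      have := congrArg (CliffordAlgebra.map j) (hanti y)
      rw [map_mul, map_neg, map_mul, map_apply_ι] at this
      exact this
    have hyw : ∀ y, ι Q (φ y) * ι Q (b' i₀) = -(ι Q (b' i₀) * ι Q (φ y)) := fun y =>
      ι_mul_ι_of_orth Q (by rw [QuadraticMap.polar_comm]; exact horth' y)
    constructor
    · refine ⟨CliffordAlgebra.map j z' * ι Q (b' i₀), ?_, ?_, ?_⟩
      · have := SetLike.mul_mem_graded hZe (ι_mem_evenOdd_one Q (b' i₀))
        rwa [zero_add] at this
      · apply commute_of_basis b'
        intro j'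
        by_cases hj : j' = i₀
        · rw [hj, ← mul_assoc, hwZ, mul_assoc]
        · obtain ⟨p, rfl⟩ := Fin.exists_succAbove_eq hj
          rw [← hφ p, ← mul_assoc, hyZ, neg_mul, mul_assoc, hyw, mul_neg, neg_neg, mul_assoc]
      · refine ⟨r' * hQw.unit, ?_⟩
        rw [mul_assoc, ← mul_assoc (ι Q (b' i₀)), hwZ, mul_assoc, ← mul_assoc, ι_sq_scalar,
          ← map_mul, hr', AlgHom.commutes, Units.val_mul, map_mul]
        rfl
    · intro x hx hc
      set p := changeForm h x with hp
      have hp0 : p ∈ evenOdd (0 : QuadraticForm R M) 0 := changeForm_mem_evenOdd h 0 x hx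
      have key : ∀ v, contractLeft (QuadraticMap.polarBilin Q v) p = 0 := by
        intro v
        rw [hp, ← changeForm_contractLeft, ← ι_mul_sub_involute_mul_ι, involute_eq_of_mem_even hx,
          hc v, sub_self, map_zero]
      have hcoord : ∀ p₀ : Fin (2 * m), ∃ v, QuadraticMap.polarBilin Q v = b'.coord (i₀.succAbove p₀) := by
        intro p₀
        obtain ⟨y, hy⟩ := hbij.2 (bN.coord p₀)
        refine ⟨φ y, ?_⟩
        refine b'.ext fun j' => ?_
        by_cases hj : j' = i₀
        · rw [hj, QuadraticMap.polarBilin_apply_apply, QuadraticMap.polar_comm, ← hjφ, horth' y,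
            Module.Basis.coord_apply, Module.Basis.repr_self,
            Finsupp.single_eq_of_ne' (Fin.succAbove_ne i₀ p₀).symm]
        · obtain ⟨p₁, rfl⟩ := Fin.exists_succAbove_eq hj
          rw [← hφ p₁, QuadraticMap.polarBilin_apply_apply, ← polar_comp_lin,
            ← QuadraticMap.polarBilin_apply_apply, hy, hφ, ← hbN p₁,
            Module.Basis.coord_apply, Module.Basis.repr_self, Module.Basis.coord_apply,
            Module.Basis.repr_self]
          by_cases hpp : p₁ = p₀
          · rw [hpp, Finsupp.single_eq_same, Finsupp.single_eq_same]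
          · rw [Finsupp.single_eq_of_ne' hpp,
              Finsupp.single_eq_of_ne' (fun e => hpp (Fin.succAbove_right_injective e))]
      have hrepr : ∀ S : Finset (Fin (2 * m + 1)), S ≠ ∅ → b'.ExteriorAlgebra.repr p S = 0 := by
        intro S hS
        by_cases hex : ∃ j' ∈ S, j' ≠ i₀
        · obtain ⟨j', hj'S, hj'⟩ := hex
          obtain ⟨p₀, rfl⟩ := Fin.exists_succAbove_eq hj'
          obtain ⟨v, hv⟩ := hcoord p₀
          exact repr_eq_zero_of_contractLeft_eq_zero b' p hj'S (by rw [← hv]; exact key v)
        · push Not at hex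
          have hS1 : S = {i₀} := by
            obtain ⟨i, hi⟩ := Finset.nonempty_iff_ne_empty.mpr hS
            ext a
            constructor
            · intro ha; rw [Finset.mem_singleton]; exact hex a ha
            · intro ha; rw [Finset.mem_singleton] at ha; rw [ha, ← hex i hi]; exact hi
          apply Cl4.repr_eq_zero_of_mem_evenOdd b' 0 hp0 S
          rw [hS1, Finset.card_singleton]
          decide
      refine ⟨b'.ExteriorAlgebra.repr p ∅, ?_⟩
      apply (changeFormEquiv h).injective
      change changeForm h x = changeForm h _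
      rw [changeForm_algebraMap, ← hp, Algebra.algebraMap_eq_smul_one]
      change p = _ • (1 : ExteriorAlgebra R M)
      rw [← E_empty b']
      apply b'.ExteriorAlgebra.repr.injective
      ext S
      rw [map_smul, Module.Basis.repr_self, Finsupp.smul_apply, smul_eq_mul]
      by_cases hS : S = ∅
      · subst hS; simp
      · rw [hrepr S hS, Finsupp.single_eq_of_ne' (Ne.symm hS), mul_zero]

end Groth.Agent.Lib.Helper83.Cl5
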