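import Groth.Agent.Lib.Helper83.Cl5C
set_option autoImplicit false

namespace Groth.Agent.Lib.Helper83.Cl5

open CliffordAlgebra Groth.Agent.Lib.Helper83.Cl2
open scoped Pointwise

universe u v
variable {R : Type u} [CommRing R]

theorem mem_center_of_comm {M : Type v} [AddCommGroup M] [Module R M] {Q : QuadraticForm R M}
    (z : CliffordAlgebra Q) (h : ∀ v, ι Q v * z = z * ι Q v) :
    z ∈ Subalgebra.center R (CliffordAlgebra Q) := by
  rw [Subalgebra.mem_center_iff]
  intro x
  induction x using CliffordAlgebra.left_induction with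
  | algebraMap r => exact Algebra.commutes r z
  | add x y hx hy => rw [add_mul, mul_add, hx, hy]
  | ι_mul x v hx => rw [mul_assoc, hx, ← mul_assoc, h v, mul_assoc]

theorem comm_of_mem_center {M : Type v} [AddCommGroup M] [Module R M] {Q : QuadraticForm R M}
    {z : CliffordAlgebra Q} (h : z ∈ Subalgebra.center R (CliffordAlgebra Q)) (x : CliffordAlgebra Q) :
    x * z = z * x := Subalgebra.mem_center_iff.mp h x

theorem main_S16999 [IsLocalRing R] {M : Type v} [AddCommGroup M] [Module R M] (m : ℕ)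
    (b : Module.Basis (Fin (2 * m + 1)) R M) (Q : QuadraticForm R M)
    (hQ : QuadGrp.IsSemiregular b (LinearEquiv.refl R R) Q) :
    ∃ z : CliffordAlgebra Q, z ∈ Subalgebra.center R (CliffordAlgebra Q) ∧ z ∈ CliffordAlgebra.evenOdd Q 1 ∧ IsUnit z ∧
      z * z ∈ (algebraMap R (CliffordAlgebra Q)).range ∧ LinearIndependent R ![(1 : CliffordAlgebra Q), z] ∧
      Subalgebra.toSubmodule (Subalgebra.center R (CliffordAlgebra Q)) = Submodule.span R {1, z} := by
  haveI : Module.Free R M := Module.Free.of_basis b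
  obtain ⟨B₀, hB₀⟩ := LinearMap.BilinMap.toQuadraticMap_surjective Q
  have h : LinearMap.BilinMap.toQuadraticMap (-B₀) = (0 : QuadraticForm R M) - Q := by
    rw [zero_sub, ← hB₀]; ext v; simp
  have hinjA := Cl3.algebraMap_injective_of_changeForm h
  have hdis := (evenOdd_isCompl Q).disjoint
  rw [Submodule.disjoint_def] at hdis
  have h11 : (1 : ZMod 2) + 1 = 0 := by decide
  obtain ⟨⟨z, hz1, hzc, r, hr⟩, hev⟩ := local_structure m b Q hQ
  have hzcen := mem_center_of_comm z hzc
  have hone : (1 : CliffordAlgebra Q) ∈ evenOdd Q 0 := SetLike.one_mem_graded _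
  have hrr : ((r⁻¹ : Rˣ) : R) * (r : R) = 1 := by rw [← Units.val_mul, inv_mul_cancel, Units.val_one]
  have hunit : IsUnit z := by
    rw [isUnit_iff_exists]
    refine ⟨((r⁻¹ : Rˣ) : R) • z, ?_, ?_⟩
    · rw [mul_smul_comm, hr, Algebra.smul_def, ← map_mul, hrr, map_one]
    · rw [smul_mul_assoc, hr, Algebra.smul_def, ← map_mul, hrr, map_one]
  refine ⟨z, hzcen, hz1, hunit, ⟨r, hr.symm⟩, ?_, ?_⟩
  · rw [LinearIndependent.pair_iff]
    intro s t hst
    have hs0 : s • (1 : CliffordAlgebra Q) ∈ evenOdd Q 0 := Submodule.smul_mem _ _ hone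
    have ht1 : t • z ∈ evenOdd Q 1 := Submodule.smul_mem _ _ hz1
    have hs1 : s • (1 : CliffordAlgebra Q) ∈ evenOdd Q 1 := by
      have : s • (1 : CliffordAlgebra Q) = -(t • z) := eq_neg_of_add_eq_zero_left hst
      rw [this]; exact Submodule.neg_mem _ ht1
    have hsz : s • (1 : CliffordAlgebra Q) = 0 := hdis _ hs0 hs1
    have hs : s = 0 := hinjA (by rw [map_zero, Algebra.algebraMap_eq_smul_one]; exact hsz)
    refine ⟨hs, ?_⟩
    rw [hsz, zero_add] at hst
    have h1 : t • (z * z) = 0 := by rw [← smul_mul_assoc, hst, zero_mul]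
    rw [hr, Algebra.smul_def, ← map_mul] at h1
    have h2 : t * (r : R) = 0 := hinjA (by rw [map_zero]; exact h1)
    exact (Units.mul_left_eq_zero r).mp h2
  · apply le_antisymm
    · intro x hx
      have hxc : ∀ v, x * ι Q v = ι Q v * x := fun v =>
        (comm_of_mem_center hx (ι Q v)).symm
      have hxsup : x ∈ evenOdd Q 0 ⊔ evenOdd Q 1 := by
        rw [(evenOdd_isCompl Q).sup_eq_top]; trivial
      obtain ⟨x₀, h0, x₁, h1, rfl⟩ := Submodule.mem_sup.mp hxsup
      have hparts : ∀ v, x₀ * ι Q v = ι Q v * x₀ ∧ x₁ * ι Q v = ι Q v * x₁ :=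
        fun v => Cl4.parts_intertwine (hxc v) h0 h1 rfl
      obtain ⟨a, ha⟩ := hev x₀ h0 (fun v => ((hparts v).1).symm)
      have hzx : z * x₁ ∈ evenOdd Q 0 := by
        have := SetLike.mul_mem_graded hz1 h1
        rwa [h11] at this
      obtain ⟨c, hc⟩ := hev (z * x₁) hzx (fun v => by
        rw [← mul_assoc, hzc v, mul_assoc, ← (hparts v).2, mul_assoc])
      have hx1 : x₁ = (((r⁻¹ : Rˣ) : R) * c) • z := by
        have e1 : z * (z * x₁) = (r : R) • x₁ := by
          rw [← mul_assoc, hr, ← Algebra.smul_def]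
        rw [hc, ← Algebra.commutes, ← Algebra.smul_def] at e1
        have e2 : ((r⁻¹ : Rˣ) : R) • ((r : R) • x₁) = x₁ := by
          rw [smul_smul, hrr, one_smul]
        rw [← e2, ← e1, smul_smul]
      rw [Submodule.mem_span_pair]
      refine ⟨a, ((r⁻¹ : Rˣ) : R) * c, ?_⟩
      rw [ha, ← hx1, Algebra.algebraMap_eq_smul_one]
    · rw [Submodule.span_le]
      intro y hy
      rcases hy with rfl | rfl
      · exact Subalgebra.one_mem _
      · exact hzcen

end Groth.Agent.Lib.Helper83.Cl5
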