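import Groth.Agent.Lib.Helper83.Cl5D
set_option autoImplicit false

namespace Groth.Agent.Lib.Helper83.Cl5

open CliffordAlgebra Groth.Agent.Lib.Helper83.Cl2
open scoped Pointwise

universe u v
variable {R : Type u} [CommRing R] {M : Type v} [AddCommGroup M] [Module R M]
  {Q : QuadraticForm R M}

theorem mem_GPin'_of_conj (U : (CliffordAlgebra Q)ˣ) (g : M ≃ₗ[R] M)
    (h : ∀ v, (U : CliffordAlgebra Q) * ι Q v = ι Q (g v) * U) : U ∈ QuadGrp.GPin' Q := by
  rw [QuadGrp.mem_GPin']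
  have hconj : ∀ v, ConjAct.toConjAct U • ι Q v = ι Q (g v) := by
    intro v
    rw [ConjAct.units_smul_def, ConjAct.ofConjAct_toConjAct, h v, mul_assoc, Units.mul_inv, mul_one]
  ext x
  constructor
  · intro hx
    obtain ⟨y, hy, rfl⟩ := (Submodule.mem_smul_pointwise_iff_exists _ _ _).mp hx
    obtain ⟨v, rfl⟩ := hy
    rw [hconj]
    exact ⟨g v, rfl⟩
  · rintro ⟨v, rfl⟩
    rw [Submodule.mem_smul_pointwise_iff_exists]
    exact ⟨ι Q (g.symm v), ⟨_, rfl⟩, by rw [hconj, g.apply_symm_apply]⟩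

theorem finish_aux
    (hev : ∀ x ∈ evenOdd Q 0, (∀ v, ι Q v * x = x * ι Q v) → ∃ a : R, x = algebraMap R _ a)
    (hinjA : Function.Injective (algebraMap R (CliffordAlgebra Q)))
    (u' : (CliffordAlgebra Q)ˣ) (g : M ≃ₗ[R] M)
    (hu1 : ∀ v, (u' : CliffordAlgebra Q) * ι Q v = ι Q (g v) * u')
    (a a' : CliffordAlgebra Q) (ha : a ∈ evenOdd Q 0) (ha' : a' ∈ evenOdd Q 0) (ε : R)
    (hε : IsUnit ε) (haa : a' * a = algebraMap R _ ε)
    (hai : ∀ v, a * ι Q v = ι Q (g v) * a) (ha'i : ∀ v, a' * ι Q (g v) = ι Q v * a') :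
    ∃ z : CliffordAlgebra Q, z ∈ Subalgebra.center R (CliffordAlgebra Q) ∧ IsUnit z ∧
      ∃ u ∈ QuadGrp.GSpin Q, (u' : CliffordAlgebra Q) = z * u := by
  have h1 : ∀ v, ι Q v * (a * a') = (a * a') * ι Q v := by
    intro v
    obtain ⟨v', rfl⟩ := g.surjective v
    rw [← mul_assoc, ← hai v', mul_assoc, ← ha'i v', mul_assoc]
  have heven : a * a' ∈ evenOdd Q 0 := by
    have := SetLike.mul_mem_graded ha ha'
    rwa [add_zero] at this
  obtain ⟨ε', hε'⟩ := hev (a * a') heven h1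
  have hεε : ε' = ε := by
    have e1 : a' * (a * a') * a = a' * a * (a' * a) := by simp only [mul_assoc]
    rw [hε', haa, ← Algebra.commutes, mul_assoc, haa, ← map_mul, ← map_mul] at e1
    have e2 := hinjA e1
    exact hε.mul_right_cancel e2
  rw [hεε] at hε'
  obtain ⟨εu, rfl⟩ := hε
  have hinv : ((εu⁻¹ : Rˣ) : R) * (εu : R) = 1 := by
    rw [← Units.val_mul, inv_mul_cancel, Units.val_one]
  let U : (CliffordAlgebra Q)ˣ :=
    ⟨a, ((εu⁻¹ : Rˣ) : R) • a',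
      by rw [mul_smul_comm, hε', Algebra.smul_def, ← map_mul, hinv, map_one],
      by rw [smul_mul_assoc, haa, Algebra.smul_def, ← map_mul, hinv, map_one]⟩
  have hUval : (U : CliffordAlgebra Q) = a := rfl
  have hUinv : ((U⁻¹ : (CliffordAlgebra Q)ˣ) : CliffordAlgebra Q) = ((εu⁻¹ : Rˣ) : R) • a' := rfl
  have hUg : U ∈ QuadGrp.GPin' Q := mem_GPin'_of_conj U g hai
  have hUspin : U ∈ QuadGrp.GSpin Q := by
    refine ⟨⟨hUg, ?_⟩, ?_⟩
    · change QuadGrp.IsLocHomog Q (U : CliffordAlgebra Q)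
      refine ⟨1, IsIdempotentElem.one, ?_, ?_⟩
      · rw [one_smul]; exact ha
      · rw [sub_self, zero_smul]; exact Submodule.zero_mem _
    · change (U : CliffordAlgebra Q) ∈ evenOdd Q 0
      exact ha
  refine ⟨((u' * U⁻¹ : (CliffordAlgebra Q)ˣ) : CliffordAlgebra Q), ?_, (u' * U⁻¹).isUnit, U, hUspin, ?_⟩
  · apply mem_center_of_comm
    intro v
    obtain ⟨v', rfl⟩ := g.surjective v
    rw [Units.val_mul, hUinv, mul_smul_comm, mul_smul_comm, smul_mul_assoc, mul_assoc, ha'i v',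
      ← mul_assoc (u' : CliffordAlgebra Q), hu1 v', mul_assoc]
  · rw [Units.val_mul, mul_assoc, Units.inv_mul, mul_one]

theorem main_S16996 [IsLocalRing R] [Module.Free R M] (m : ℕ)
    (b : Module.Basis (Fin (2 * m + 1)) R M) (Q : QuadraticForm R M)
    (hQ : QuadGrp.IsSemiregular b (LinearEquiv.refl R R) Q)
    (u' : (CliffordAlgebra Q)ˣ) (hu' : u' ∈ QuadGrp.GPin' Q) :
    ∃ z : CliffordAlgebra Q, z ∈ Subalgebra.center R (CliffordAlgebra Q) ∧ IsUnit z ∧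
      ∃ u ∈ QuadGrp.GSpin Q, (u' : CliffordAlgebra Q) = z * u := by
  have h11 : (1 : ZMod 2) + 1 = 0 := by decide
  obtain ⟨B₀, hB₀⟩ := LinearMap.BilinMap.toQuadraticMap_surjective Q
  have h : LinearMap.BilinMap.toQuadraticMap (-B₀) = (0 : QuadraticForm R M) - Q := by
    rw [zero_sub, ← hB₀]; ext v; simp
  have hinjA := Cl3.algebraMap_injective_of_changeForm h
  have hdis := (evenOdd_isCompl Q).disjoint
  rw [Submodule.disjoint_def] at hdis
  obtain ⟨⟨zc, hz1, hzc, r, hr⟩, hev⟩ := local_structure m b Q hQ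
  obtain ⟨g, _, hg⟩ := Cl3.exists_conj_equiv h u' hu'
  have hu1 : ∀ v, (u' : CliffordAlgebra Q) * ι Q v = ι Q (g v) * u' := by
    intro v
    rw [← hg v, mul_assoc, Units.inv_mul, mul_one]
  have hw1 : ∀ v, (↑u'⁻¹ : CliffordAlgebra Q) * ι Q (g v) = ι Q v * ↑u'⁻¹ := by
    intro v
    rw [← hg v, ← mul_assoc, ← mul_assoc, Units.inv_mul, one_mul]
  have hsupu : (u' : CliffordAlgebra Q) ∈ evenOdd Q 0 ⊔ evenOdd Q 1 := by
    rw [(evenOdd_isCompl Q).sup_eq_top]; trivial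
  obtain ⟨u₀, hu₀, u₁, hu₁, hudec⟩ := Submodule.mem_sup.mp hsupu
  have hsupw : (↑u'⁻¹ : CliffordAlgebra Q) ∈ evenOdd Q 0 ⊔ evenOdd Q 1 := by
    rw [(evenOdd_isCompl Q).sup_eq_top]; trivial
  obtain ⟨w₀, hw₀, w₁, hw₁, hwdec⟩ := Submodule.mem_sup.mp hsupw
  have hup : ∀ v, u₀ * ι Q v = ι Q (g v) * u₀ ∧ u₁ * ι Q v = ι Q (g v) * u₁ :=
    fun v => Cl4.parts_intertwine (hu1 v) hu₀ hu₁ hudec.symm
  have hwp : ∀ v, w₀ * ι Q (g v) = ι Q v * w₀ ∧ w₁ * ι Q (g v) = ι Q v * w₁ :=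
    fun v => Cl4.parts_intertwine (hw1 v) hw₀ hw₁ hwdec.symm
  have c1 : ∀ (a c : CliffordAlgebra Q), (∀ v, a * ι Q (g v) = ι Q v * a) →
      (∀ v, c * ι Q v = ι Q (g v) * c) → ∀ v, ι Q v * (a * c) = (a * c) * ι Q v := by
    intro a c ha hc v
    rw [← mul_assoc, ← ha v, mul_assoc, ← hc v, mul_assoc]
  obtain ⟨e, he⟩ : ∃ e : R, w₀ * u₀ = algebraMap R _ e := by
    apply hev
    · have := SetLike.mul_mem_graded hw₀ hu₀
      rwa [add_zero] at this
    · exact c1 w₀ u₀ (fun v => (hwp v).1) (fun v => (hup v).1)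
  obtain ⟨f, hf⟩ : ∃ f : R, w₁ * u₁ = algebraMap R _ f := by
    apply hev
    · have := SetLike.mul_mem_graded hw₁ hu₁
      rwa [h11] at this
    · exact c1 w₁ u₁ (fun v => (hwp v).2) (fun v => (hup v).2)
  have hef : e + f = 1 := by
    have hone : (↑u'⁻¹ : CliffordAlgebra Q) * u' = 1 := Units.inv_mul u'
    rw [← hwdec, ← hudec, add_mul, mul_add, mul_add, he, hf] at hone
    have hO1 : w₀ * u₁ + w₁ * u₀ ∈ evenOdd Q 1 := by
      refine Submodule.add_mem _ ?_ ?_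
      · have := SetLike.mul_mem_graded hw₀ hu₁
        rwa [zero_add] at this
      · have := SetLike.mul_mem_graded hw₁ hu₀
        rwa [add_zero] at this
    have hO0 : w₀ * u₁ + w₁ * u₀ ∈ evenOdd Q 0 := by
      have : w₀ * u₁ + w₁ * u₀ = 1 - algebraMap R _ (e + f) := by
        rw [map_add, ← hone]; abel
      rw [this]
      exact Submodule.sub_mem _ (SetLike.one_mem_graded _) (SetLike.algebraMap_mem_graded _ _)
    have hO : w₀ * u₁ + w₁ * u₀ = 0 := hdis _ hO0 hO1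
    have hE : algebraMap R (CliffordAlgebra Q) (e + f) = 1 := by
      rw [map_add, ← hone]
      have : algebraMap R (CliffordAlgebra Q) e + w₀ * u₁ + (w₁ * u₀ + algebraMap R _ f)
          = algebraMap R _ e + algebraMap R _ f + (w₀ * u₁ + w₁ * u₀) := by abel
      rw [this, hO, add_zero]
    exact hinjA (by rw [hE, map_one])
  rcases IsLocalRing.isUnit_or_isUnit_of_add_one hef with hue | huf
  · exact finish_aux hev hinjA u' g hu1 u₀ w₀ hu₀ hw₀ e hue he (fun v => (hup v).1)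
      (fun v => (hwp v).1)
  · have hrr : ((r⁻¹ : Rˣ) : R) * (r : R) = 1 := by
      rw [← Units.val_mul, inv_mul_cancel, Units.val_one]
    refine finish_aux hev hinjA u' g hu1 (zc * u₁) (w₁ * (((r⁻¹ : Rˣ) : R) • zc)) ?_ ?_ f huf ?_ ?_ ?_
    · have := SetLike.mul_mem_graded hz1 hu₁
      rwa [h11] at this
    · have := SetLike.mul_mem_graded hw₁ (Submodule.smul_mem _ (((r⁻¹ : Rˣ) : R)) hz1)
      rwa [h11] at this
    · have e1 : w₁ * (((r⁻¹ : Rˣ) : R) • zc) * (zc * u₁)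
          = ((r⁻¹ : Rˣ) : R) • (w₁ * (zc * zc) * u₁) := by
        rw [mul_smul_comm, smul_mul_assoc]
        simp only [mul_assoc]
      rw [e1, hr, ← Algebra.commutes, mul_assoc, ← Algebra.smul_def, smul_smul, hrr, one_smul, hf]
    · intro v
      rw [mul_assoc, (hup v).2, ← mul_assoc, ← hzc, mul_assoc]
    · intro v
      have e1 : w₁ * (((r⁻¹ : Rˣ) : R) • zc) * ι Q (g v)
          = ((r⁻¹ : Rˣ) : R) • (w₁ * ι Q (g v) * zc) := by
        rw [mul_smul_comm, smul_mul_assoc, mul_assoc, ← hzc, ← mul_assoc]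
      rw [e1, (hwp v).2, mul_smul_comm, mul_smul_comm, mul_assoc]

end Groth.Agent.Lib.Helper83.Cl5
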