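import Groth.Agent.Lib.Helper83.Cl5B
set_option autoImplicit false

namespace Groth.Agent.Lib.Helper83.Cl6

open CliffordAlgebra Groth.Agent.Lib.Helper83.Cl2 Groth.Agent.Lib.Helper83.Cl5
  Groth.Agent.Lib.Helper75.OrthSplit

universe u v
variable {R : Type u} [CommRing R]

/-- the sign `(-1)^(n choose 2)`. -/
def sgn (R : Type u) [CommRing R] (n : ℕ) : R := (-1 : R) ^ (n.choose 2)

theorem sgn_succ (n : ℕ) : sgn R (n + 1) = sgn R n * (-1 : R) ^ n := by
  unfold sgn
  rw [show (2 : ℕ) = 1 + 1 from rfl, Nat.choose_succ_succ' n 1, Nat.choose_one_right, pow_add, mul_comm]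

theorem sgn_add_two (n : ℕ) : sgn R (n + 2) = -sgn R n := by
  rw [show n + 2 = (n + 1) + 1 from rfl, sgn_succ, sgn_succ, mul_assoc, ← pow_add]
  have : (-1 : R) ^ (n + (n + 1)) = -1 := by
    rw [show n + (n + 1) = 2 * n + 1 by ring, pow_succ, pow_mul]; simp
  rw [this, mul_neg, mul_one]

theorem sgn_two_mul (m : ℕ) : sgn R (2 * m) = (-1 : R) ^ m := by
  induction m with
  | zero => simp [sgn]
  | succ m ih => rw [show 2 * (m + 1) = 2 * m + 2 by ring, sgn_add_two, ih, pow_succ]; ring

theorem sgn_two_mul_add_one (m : ℕ) : sgn R (2 * m + 1) = (-1 : R) ^ m := by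
  rw [sgn_succ, sgn_two_mul, pow_mul]; simp

theorem involute_of_mem {N : Type v} [AddCommGroup N] [Module R N] {q : QuadraticForm R N}
    (n : ℕ) {z : CliffordAlgebra q} (hz : z ∈ evenOdd q (n : ZMod 2)) :
    involute z = (-1 : R) ^ n • z := by
  rcases Nat.even_or_odd n with h | h
  · rw [(ZMod.natCast_eq_zero_iff_even).mpr h] at hz
    rw [involute_eq_of_mem_even hz, h.neg_one_pow, one_smul]
  · rw [(ZMod.natCast_eq_one_iff_odd).mpr h] at hz
    rw [involute_eq_of_mem_odd hz, h.neg_one_pow, neg_smul, one_smul]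

theorem reverse_map {M₁ : Type*} [AddCommGroup M₁] [Module R M₁] {M₂ : Type*} [AddCommGroup M₂]
    [Module R M₂] {Q₁ : QuadraticForm R M₁} {Q₂ : QuadraticForm R M₂} (f : Q₁ →qᵢ Q₂)
    (x : CliffordAlgebra Q₁) :
    reverse (CliffordAlgebra.map f x) = CliffordAlgebra.map f (reverse x) := by
  induction x using CliffordAlgebra.left_induction with
  | algebraMap r => rw [AlgHom.commutes, reverse.commutes, reverse.commutes, AlgHom.commutes]
  | add x y hx hy => rw [map_add, map_add, map_add, map_add, hx, hy]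
  | ι_mul x m hx =>
    rw [map_mul, reverse.map_mul, reverse.map_mul, map_mul, hx, map_apply_ι, reverse_ι, reverse_ι,
      map_apply_ι]

/-- the inclusion isometry of the orthogonal complement. -/
def incl {N : Type v} [AddCommGroup N] [Module R N] (q : QuadraticForm R N) {k : ℕ}
    (e : Fin k → N) : (q.comp (perp q e).subtype) →qᵢ q :=
  { (perp q e).subtype with map_app' := fun _ => rfl }

theorem incl_comm {N : Type v} [AddCommGroup N] [Module R N] (q : QuadraticForm R N) {k : ℕ}
    (e : Fin k → N) (i : Fin k) (z' : CliffordAlgebra (q.comp (perp q e).subtype)) :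
    ι q (e i) * CliffordAlgebra.map (incl q e) z'
      = involute (CliffordAlgebra.map (incl q e) z') * ι q (e i) := by
  apply ι_mul_map_of_orth (incl q e) (e i)
  intro y
  change QuadraticMap.polar q (e i) (y : N) = 0
  rw [QuadraticMap.polar_comm]
  exact (mem_perp_iff q e _).mp y.2 i

theorem peel_spec {N : Type v} [AddCommGroup N] [Module R N] (q : QuadraticForm R N) {k : ℕ}
    (e : Fin k → N)
    (hG : IsUnit (Matrix.det (Matrix.of fun i j : Fin k => QuadraticMap.polar q (e i) (e j))))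
    (w : CliffordAlgebra q)
    (hw1 : ∀ i, ι q (e i) * w = -(involute w * ι q (e i)))
    (hw2 : ∀ y ∈ perp q e, ι q y * w = involute w * ι q y)
    (z' : CliffordAlgebra (q.comp (perp q e).subtype)) (hSA : SA _ z') :
    SA q (w * CliffordAlgebra.map (incl q e) z') := by
  set Z' := CliffordAlgebra.map (incl q e) z' with hZ'
  have hZe := fun i => incl_comm q e i z'
  have hZy : ∀ y ∈ perp q e, ι q y * Z' = -(involute Z' * ι q y) := by
    intro y hy
    have h1 := hSA ⟨y, hy⟩
    have h2 := congrArg (CliffordAlgebra.map (incl q e)) h1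
    rw [map_mul, map_neg, map_mul, map_apply_ι, ← involute_map] at h2
    exact h2
  intro v
  obtain ⟨a, y, hy, rfl⟩ := exists_decomp q e hG v
  have hP : ∀ i, ι q (e i) * (w * Z') = -(involute (w * Z') * ι q (e i)) := by
    intro i
    rw [← mul_assoc, hw1 i, neg_mul, mul_assoc, hZe i, map_mul, mul_assoc]
  have hY : ι q y * (w * Z') = -(involute (w * Z') * ι q y) := by
    rw [← mul_assoc, hw2 y hy, mul_assoc, hZy y hy, map_mul, mul_neg, mul_assoc]
  rw [map_add, map_sum, add_mul, mul_add, Finset.sum_mul, Finset.mul_sum, hY, neg_add]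
  congr 1
  rw [← Finset.sum_neg_distrib]
  refine Finset.sum_congr rfl fun i _ => ?_
  rw [map_smul, smul_mul_assoc, hP i, mul_smul_comm, smul_neg]


theorem reverse_wP {N : Type v} [AddCommGroup N] [Module R N] (q : QuadraticForm R N) (e f : N) :
    reverse (wP q e f) = -wP q e f := by
  unfold wP
  rw [map_sub, map_add, reverse.map_mul, reverse_ι, reverse_ι, reverse.commutes]
  have := ι_mul_ι_add_swap (Q := q) e f
  rw [← this]
  abel

/-- the package carried through the induction. -/
def Pk {N : Type v} [AddCommGroup N] [Module R N] (q : QuadraticForm R N) (n : ℕ)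
    (z : CliffordAlgebra q) : Prop :=
  z ∈ evenOdd q (n : ZMod 2) ∧ SA q z ∧ (∃ r : Rˣ, z * z = algebraMap R _ r) ∧
    reverse z = sgn R n • z

theorem neg_one_pow_mul_self (n : ℕ) : ((-1 : R) ^ n) * ((-1 : R) ^ n) = 1 := by
  rw [← mul_pow]; simp

theorem line' {N : Type v} [AddCommGroup N] [Module R N] (q : QuadraticForm R N)
    (e₀ : N) (h2 : IsUnit (2 : R)) (he : IsUnit (q e₀)) (n' : ℕ)
    (z' : CliffordAlgebra (q.comp (perp q ![e₀]).subtype)) (hz' : Pk _ n' z') :
    ∃ z, Pk q (n' + 1) z := by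
  obtain ⟨hpar, hSA, ⟨r', hr'⟩, hrev⟩ := hz'
  have hG : IsUnit (Matrix.det (Matrix.of fun i j : Fin 1 =>
      QuadraticMap.polar q ((![e₀] : Fin 1 → N) i) ((![e₀] : Fin 1 → N) j))) := by
    rw [Matrix.det_fin_one]
    simp only [Matrix.of_apply, Matrix.cons_val_zero]
    rw [QuadraticMap.polar_self, nsmul_eq_mul]
    exact h2.mul he
  set Z' := CliffordAlgebra.map (incl q ![e₀]) z' with hZ'
  have hZpar : Z' ∈ evenOdd q (n' : ZMod 2) := map_mem_evenOdd _ _ _ hpar
  have hZinv : involute Z' = (-1 : R) ^ n' • Z' := involute_of_mem n' hZpar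
  have hZZ : Z' * Z' = algebraMap R _ (r' : R) := by
    rw [hZ', ← map_mul, hr', AlgHom.commutes]
  have hZrev : reverse Z' = sgn R n' • Z' := by
    rw [hZ', reverse_map, hrev, map_smul]
  have hcomm : ι q e₀ * Z' = (-1 : R) ^ n' • (Z' * ι q e₀) := by
    have := incl_comm q ![e₀] 0 z'
    simp only [Matrix.cons_val_zero] at this
    rw [this, ← hZ', hZinv, smul_mul_assoc]
  have hcomm' : Z' * ι q e₀ = (-1 : R) ^ n' • (ι q e₀ * Z') := by
    rw [hcomm, smul_smul, neg_one_pow_mul_self, one_smul]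
  refine ⟨ι q e₀ * Z', ?_, ?_, ?_, ?_⟩
  · have := SetLike.mul_mem_graded (ι_mem_evenOdd_one q e₀) hZpar
    rw [Nat.cast_add, Nat.cast_one, add_comm]
    exact this
  · refine peel_spec q ![e₀] hG (ι q e₀) ?_ ?_ z' hSA
    · intro i
      fin_cases i
      simp only [Fin.zero_eta, Fin.isValue, Matrix.cons_val_zero, involute_ι, neg_mul, neg_neg]
    · intro y hy
      have h0 : QuadraticMap.polar q y e₀ = 0 := (mem_perp_iff q ![e₀] y).mp hy 0
      rw [involute_ι, neg_mul]
      exact ι_mul_ι_of_orth q h0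
  · refine ⟨(-1 : Rˣ) ^ n' * (r' * he.unit), ?_⟩
    have h1 : ι q e₀ * Z' * (ι q e₀ * Z') = (-1 : R) ^ n' • (ι q e₀ * (Z' * Z') * ι q e₀) := by
      have : ι q e₀ * Z' * (ι q e₀ * Z') = ι q e₀ * Z' * ((-1 : R) ^ n' • (Z' * ι q e₀)) :=
        congrArg _ hcomm
      rw [this, mul_smul_comm]
      congr 1
      simp only [mul_assoc]
    rw [h1, hZZ, ← Algebra.commutes, mul_assoc, ι_sq_scalar, ← map_mul, Algebra.smul_def,
      ← map_mul]
    congr 1
  · rw [reverse.map_mul, reverse_ι, hZrev, smul_mul_assoc, hcomm', smul_smul, sgn_succ]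

theorem plane' [IsLocalRing R] {N : Type v} [AddCommGroup N] [Module R N] (q : QuadraticForm R N)
    (e₀ f₀ : N) (h2 : ¬ IsUnit (2 : R)) (hef : QuadraticMap.polar q e₀ f₀ = 1)
    (hGG : IsUnit (Matrix.det (Matrix.of fun i j : Fin 2 =>
      QuadraticMap.polar q ((![e₀, f₀] : Fin 2 → N) i) ((![e₀, f₀] : Fin 2 → N) j)))) (n' : ℕ)
    (z' : CliffordAlgebra (q.comp (perp q ![e₀, f₀]).subtype)) (hz' : Pk _ n' z') :
    ∃ z, Pk q (n' + 2) z := by
  obtain ⟨hpar, hSA, ⟨r', hr'⟩, hrev⟩ := hz'
  have hinv : involute (wP q e₀ f₀) = wP q e₀ f₀ := involute_eq_of_mem_even (wP_mem_even q e₀ f₀)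
  set Z' := CliffordAlgebra.map (incl q ![e₀, f₀]) z' with hZ'
  have hZpar : Z' ∈ evenOdd q (n' : ZMod 2) := map_mem_evenOdd _ _ _ hpar
  have hZZ : Z' * Z' = algebraMap R _ (r' : R) := by
    rw [hZ', ← map_mul, hr', AlgHom.commutes]
  have hZrev : reverse Z' = sgn R n' • Z' := by
    rw [hZ', reverse_map, hrev, map_smul]
  have hcomm : wP q e₀ f₀ * Z' = Z' * wP q e₀ f₀ := by
    have he := incl_comm q ![e₀, f₀] 0 z'
    have hf := incl_comm q ![e₀, f₀] 1 z'
    simp only [Fin.isValue, Matrix.cons_val_zero, Matrix.cons_val_one] at he hf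
    rw [← hZ'] at he hf
    have he' : ι q e₀ * involute Z' = Z' * ι q e₀ := by
      have := congrArg involute he
      rw [map_mul, map_mul, involute_ι, involute_involute, neg_mul, mul_neg, neg_inj] at this
      exact this
    have h : ι q e₀ * ι q f₀ * Z' = Z' * (ι q e₀ * ι q f₀) := by
      rw [mul_assoc, hf, ← mul_assoc, he', mul_assoc]
    unfold wP
    rw [sub_mul, mul_sub, add_mul, mul_add, h, Algebra.commutes]
  have hu : IsUnit (QuadraticMap.polar q e₀ f₀ ^ 2 - 4 * q e₀ * q f₀) := by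
    rw [hef, one_pow]
    apply IsLocalRing.isUnit_one_sub_self_of_mem_nonunits
    have h2' : (2 : R) ∈ IsLocalRing.maximalIdeal R := (IsLocalRing.mem_maximalIdeal _).mpr h2
    have : (4 : R) * q e₀ * q f₀ ∈ IsLocalRing.maximalIdeal R := by
      have h4 : (4 : R) = 2 * 2 := by norm_num
      rw [h4, mul_assoc, mul_assoc]
      exact Ideal.mul_mem_right _ _ h2'
    exact (IsLocalRing.mem_maximalIdeal _).mp this
  refine ⟨wP q e₀ f₀ * Z', ?_, ?_, ?_, ?_⟩
  · have := SetLike.mul_mem_graded (wP_mem_even q e₀ f₀) hZpar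
    rw [zero_add] at this
    have hc : ((n' + 2 : ℕ) : ZMod 2) = (n' : ZMod 2) := by
      rw [Nat.cast_add]
      have : ((2 : ℕ) : ZMod 2) = 0 := by decide
      rw [this, add_zero]
    rw [hc]
    exact this
  · refine peel_spec q ![e₀, f₀] hGG (wP q e₀ f₀) ?_ ?_ z' hSA
    · intro i
      rw [hinv]
      fin_cases i
      · exact ι_e_mul_wP q e₀ f₀
      · exact ι_f_mul_wP q e₀ f₀
    · intro y hy
      rw [hinv]
      have h0 : QuadraticMap.polar q y e₀ = 0 := (mem_perp_iff q ![e₀, f₀] y).mp hy 0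
      have h1 : QuadraticMap.polar q y f₀ = 0 := (mem_perp_iff q ![e₀, f₀] y).mp hy 1
      exact ι_mul_wP_of_orth q e₀ f₀ y h0 h1
  · refine ⟨hu.unit * r', ?_⟩
    rw [mul_assoc, ← mul_assoc Z', ← hcomm, mul_assoc, ← mul_assoc, wP_sq, hZZ, ← map_mul]
    rfl
  · rw [reverse.map_mul, reverse_wP, hZrev, smul_mul_assoc, mul_neg, ← hcomm, sgn_add_two,
      neg_smul, smul_neg]

theorem exists_SA' [IsLocalRing R] : ∀ (n : ℕ) (N : Type v) [AddCommGroup N] [Module R N]
    [Module.Free R N] [Module.Finite R N] (q : QuadraticForm R N), Module.finrank R N = n →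
    Function.Bijective (QuadraticMap.polarBilin q) → ∃ z, Pk q n z := by
  intro n
  induction n using Nat.strong_induction_on with
  | _ n ih =>
    intro N _ _ _ _ q hn hq
    rcases Nat.eq_zero_or_pos n with h0 | hpos
    · subst h0
      have hsub : Subsingleton N := (Module.finrank_eq_zero_iff_of_free R N).mp hn
      refine ⟨1, ?_, ?_, ⟨1, by simp⟩, ?_⟩
      · rw [Nat.cast_zero]; exact SetLike.one_mem_graded _
      · intro v
        rw [Subsingleton.elim v 0, map_zero, zero_mul, mul_zero, neg_zero]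
      · rw [reverse.map_one]; simp [sgn]
    · have hnt : Nontrivial N := (Module.finrank_pos_iff_of_free R N).mp (hn ▸ hpos)
      let b := Module.Free.chooseBasis R N
      obtain ⟨i₀⟩ : Nonempty (Module.Free.ChooseBasisIndex R N) := b.index_nonempty
      obtain ⟨x, hx⟩ := hq.2 (b.coord i₀)
      have hx1 : QuadraticMap.polar q x (b i₀) = 1 := by
        have := LinearMap.congr_fun hx (b i₀)
        simpa using this
      by_cases h2 : IsUnit (2 : R)
      · have hex : ∃ e₀, IsUnit (q e₀) := by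
          by_contra hcon
          push Not at hcon
          have hm : ∀ v, q v ∈ IsLocalRing.maximalIdeal R :=
            fun v => (IsLocalRing.mem_maximalIdeal _).mpr (hcon v)
          have : QuadraticMap.polar q x (b i₀) ∈ IsLocalRing.maximalIdeal R := by
            unfold QuadraticMap.polar
            exact Ideal.sub_mem _ (Ideal.sub_mem _ (hm _) (hm _)) (hm _)
          rw [hx1] at this
          exact (Ideal.ne_top_iff_one _).mp (IsLocalRing.maximalIdeal.isMaximal R).ne_top this
        obtain ⟨e₀, he₀⟩ := hex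
        have hG : IsUnit (Matrix.det (Matrix.of fun i j : Fin 1 =>
            QuadraticMap.polar q ((![e₀] : Fin 1 → N) i) ((![e₀] : Fin 1 → N) j))) := by
          rw [Matrix.det_fin_one]
          simp only [Matrix.of_apply, Matrix.cons_val_zero]
          rw [QuadraticMap.polar_self, nsmul_eq_mul]
          exact h2.mul he₀
        obtain ⟨hfree, hfin, hrank⟩ := free_finite_perp q ![e₀] hG
        have hlt : Module.finrank R ↥(perp q ![e₀]) < n := by omega
        obtain ⟨z', hz'⟩ := ih _ hlt ↥(perp q ![e₀]) (q.comp (perp q ![e₀]).subtype) rfl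
          (polarBilin_perp_bijective q ![e₀] hG hq)
        have hn' : n = Module.finrank R ↥(perp q ![e₀]) + 1 := by omega
        rw [hn']
        exact line' q e₀ h2 he₀ _ z' hz'
      · have h2' : (2 : R) ∈ IsLocalRing.maximalIdeal R := (IsLocalRing.mem_maximalIdeal _).mpr h2
        have hG : IsUnit (Matrix.det (Matrix.of fun i j : Fin 2 =>
            QuadraticMap.polar q ((![x, b i₀] : Fin 2 → N) i) ((![x, b i₀] : Fin 2 → N) j))) := by
          rw [Matrix.det_fin_two]
          simp only [Matrix.of_apply, Matrix.cons_val_zero, Matrix.cons_val_one]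
          rw [QuadraticMap.polar_self, QuadraticMap.polar_self, QuadraticMap.polar_comm q (b i₀) x, hx1]
          have : (2 • q x) * (2 • q (b i₀)) - 1 * 1 = -(1 - 2 * (2 * q x * q (b i₀))) := by
            simp only [nsmul_eq_mul]; push_cast; ring
          rw [this]
          apply IsUnit.neg
          apply IsLocalRing.isUnit_one_sub_self_of_mem_nonunits
          exact (IsLocalRing.mem_maximalIdeal _).mp (Ideal.mul_mem_right _ _ h2')
        obtain ⟨hfree, hfin, hrank⟩ := free_finite_perp q ![x, b i₀] hG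
        have hlt : Module.finrank R ↥(perp q ![x, b i₀]) < n := by omega
        obtain ⟨z', hz'⟩ := ih _ hlt ↥(perp q ![x, b i₀])
          (q.comp (perp q ![x, b i₀]).subtype) rfl (polarBilin_perp_bijective q ![x, b i₀] hG hq)
        have hn' : n = Module.finrank R ↥(perp q ![x, b i₀]) + 2 := by omega
        rw [hn']
        exact plane' q x (b i₀) h2 hx1 hG _ z' hz'

end Groth.Agent.Lib.Helper83.Cl6
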