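import Groth.Agent.Lib.Helper83.Cl6A
import Groth.Agent.Lib.Helper83.Cl5C
set_option autoImplicit false

namespace Groth.Agent.Lib.Helper83.Cl6

open CliffordAlgebra Groth.Agent.Lib.Helper83.Cl2 Groth.Agent.Lib.Helper83.Cl5
  Groth.Agent.Lib.Helper75.OrthSplit Matrix

universe u v
variable {R : Type u} [CommRing R]

theorem local_generator [IsLocalRing R] {M : Type v} [AddCommGroup M] [Module R M] (m : ℕ)
    (b : Module.Basis (Fin (2 * m + 1)) R M) (Q : QuadraticForm R M)
    (hQ : QuadGrp.IsSemiregular b (LinearEquiv.refl R R) Q) :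
    ∃ z ∈ evenOdd Q 1, (∀ v, ι Q v * z = z * ι Q v) ∧ (∃ r : Rˣ, z * z = algebraMap R _ r) ∧
      reverse z = ((-1 : R) ^ m) • z := by
  classical
  have : Module.Free R M := Module.Free.of_basis b
  have : Module.Finite R M := Module.Finite.of_basis b
  by_cases h2 : IsUnit (2 : R)
  · let _ : Invertible (2 : R) := h2.invertible
    have hsurj := polarBilin_surjective_of_semiregular (n := 2 * m + 1) ⟨m, rfl⟩ b Q hQ
    have hinj : Function.Injective (QuadraticMap.polarBilin Q) := by
      have h1 : Function.Surjective (b.toDualEquiv.symm.toLinearMap ∘ₗ QuadraticMap.polarBilin Q) := by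
        rw [LinearMap.coe_comp]
        exact b.toDualEquiv.symm.surjective.comp hsurj
      have h3 := OrzechProperty.injective_of_surjective_endomorphism _ h1
      rw [LinearMap.coe_comp] at h3
      exact Function.Injective.of_comp h3
    obtain ⟨z, hpar, hSA, ⟨r, hr⟩, hrev⟩ := exists_SA' (2 * m + 1) M Q
      (by rw [Module.finrank_eq_card_basis b, Fintype.card_fin]) ⟨hinj, hsurj⟩
    have hz : z ∈ evenOdd Q 1 := by
      rwa [(ZMod.natCast_eq_one_iff_odd).mpr ⟨m, rfl⟩] at hpar
    refine ⟨z, hz, ?_, ⟨r, hr⟩, ?_⟩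
    · intro v; rw [hSA v, involute_eq_of_mem_odd hz, neg_mul, neg_neg]
    · rw [hrev, sgn_two_mul_add_one]
  · have h2' : (2 : R) ∈ IsLocalRing.maximalIdeal R := (IsLocalRing.mem_maximalIdeal _).mpr h2
    obtain ⟨b', i₀, horth, hQw, hminor⟩ :=
      Groth.Agent.Lib.Helper20.AdaptedBasis.exists_adapted_basis h2' m b Q hQ
    let φ : (Fin (2 * m) → R) →ₗ[R] M :=
      Fintype.linearCombination R (fun p => b' (i₀.succAbove p))
    have hφ : ∀ p, φ (Pi.single p 1) = b' (i₀.succAbove p) := by
      intro p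
      change Fintype.linearCombination R (fun p => b' (i₀.succAbove p)) (Pi.single p 1) = _
      rw [Fintype.linearCombination_apply_single, one_smul]
    let bN := Pi.basisFun R (Fin (2 * m))
    have hbN : ∀ p, bN p = Pi.single p 1 := fun p => Pi.basisFun_apply R (Fin (2 * m)) p
    have hGq : IsUnit (Matrix.det (Matrix.of fun i j : Fin (2 * m) =>
        QuadraticMap.polar (Q.comp φ) (bN i) (bN j))) := by
      have : (Matrix.of fun i j : Fin (2 * m) => QuadraticMap.polar (Q.comp φ) (bN i) (bN j))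
          = Matrix.of fun p q : Fin (2 * m) =>
            QuadraticMap.polar Q (b' (i₀.succAbove p)) (b' (i₀.succAbove q)) := by
        ext p p'
        simp only [Matrix.of_apply]
        rw [polar_comp_lin, hbN, hbN, hφ, hφ]
      rw [this]; exact hminor
    have hbij := polarBilin_bijective_of_gram (Q.comp φ) bN hGq
    obtain ⟨z', hpar', hSA, ⟨r', hr'⟩, hrev'⟩ :=
      exists_SA' (2 * m) (Fin (2 * m) → R) (Q.comp φ) (by simp) hbij
    have hz'e : z' ∈ evenOdd (Q.comp φ) 0 := by
      rwa [(ZMod.natCast_eq_zero_iff_even).mpr ⟨m, by ring⟩] at hpar'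
    have hanti : ∀ y, ι (Q.comp φ) y * z' = -(z' * ι (Q.comp φ) y) := by
      intro y; rw [hSA y, involute_eq_of_mem_even hz'e]
    let j : (Q.comp φ) →qᵢ Q := { φ with map_app' := fun _ => rfl }
    have hjφ : ∀ y, j y = φ y := fun _ => rfl
    have hZe : CliffordAlgebra.map j z' ∈ evenOdd Q 0 := map_mem_evenOdd j 0 z' hz'e
    have horth' : ∀ y, QuadraticMap.polar Q (b' i₀) (j y) = 0 := by
      intro y
      rw [hjφ]
      change QuadraticMap.polar Q (b' i₀)
        (Fintype.linearCombination R (fun p => b' (i₀.succAbove p)) y) = 0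
      rw [Fintype.linearCombination_apply, ← QuadraticMap.polarBilin_apply_apply, map_sum]
      refine Finset.sum_eq_zero fun p _ => ?_
      rw [map_smul, QuadraticMap.polarBilin_apply_apply, horth _ (Fin.succAbove_ne i₀ p), smul_zero]
    have hwZ : ι Q (b' i₀) * CliffordAlgebra.map j z' = CliffordAlgebra.map j z' * ι Q (b' i₀) := by
      rw [ι_mul_map_of_orth j (b' i₀) horth' z', involute_eq_of_mem_even hZe]
    have hyZ : ∀ y, ι Q (φ y) * CliffordAlgebra.map j z' = -(CliffordAlgebra.map j z' * ι Q (φ y)) := by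
      intro y
      have := congrArg (CliffordAlgebra.map j) (hanti y)
      rw [map_mul, map_neg, map_mul, map_apply_ι] at this
      exact this
    have hyw : ∀ y, ι Q (φ y) * ι Q (b' i₀) = -(ι Q (b' i₀) * ι Q (φ y)) := fun y =>
      ι_mul_ι_of_orth Q (by rw [QuadraticMap.polar_comm]; exact horth' y)
    refine ⟨CliffordAlgebra.map j z' * ι Q (b' i₀), ?_, ?_, ?_, ?_⟩
    · have := SetLike.mul_mem_graded hZe (ι_mem_evenOdd_one Q (b' i₀))
      rwa [zero_add] at this
    · apply commute_of_basis b'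
      intro j'
      by_cases hj : j' = i₀
      · rw [hj, ← mul_assoc, hwZ, mul_assoc]
      · obtain ⟨p, rfl⟩ := Fin.exists_succAbove_eq hj
        rw [← hφ p, ← mul_assoc, hyZ, neg_mul, mul_assoc, hyw, mul_neg, neg_neg, mul_assoc]
    · refine ⟨r' * hQw.unit, ?_⟩
      rw [mul_assoc, ← mul_assoc (ι Q (b' i₀)), hwZ, mul_assoc, ← mul_assoc, ι_sq_scalar,
        ← map_mul, hr', AlgHom.commutes, Units.val_mul, map_mul]
      rfl
    · rw [reverse.map_mul, reverse_ι, reverse_map, hrev', map_smul, mul_smul_comm, hwZ,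
        sgn_two_mul]

/-- over a local ring: odd elements commuting with all vectors are `star`-eigenvectors. -/
theorem local_star [IsLocalRing R] {M : Type v} [AddCommGroup M] [Module R M] (m : ℕ)
    (b : Module.Basis (Fin (2 * m + 1)) R M) (Q : QuadraticForm R M)
    (hQ : QuadGrp.IsSemiregular b (LinearEquiv.refl R R) Q)
    (x : CliffordAlgebra Q) (hx : x ∈ evenOdd Q 1) (hc : ∀ v, ι Q v * x = x * ι Q v) :
    star x = ((-1 : R) ^ (m + 1)) • x := by
  obtain ⟨z, hz, hzc, ⟨r, hr⟩, hrev⟩ := local_generator m b Q hQ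
  have h11 : (1 : ZMod 2) + 1 = 0 := by decide
  have hxz : x * z ∈ evenOdd Q 0 := by
    have := SetLike.mul_mem_graded hx hz
    rwa [h11] at this
  have hxzc : ∀ v, ι Q v * (x * z) = x * z * ι Q v := by
    intro v
    rw [← mul_assoc, hc v, mul_assoc, hzc v, mul_assoc]
  obtain ⟨a, ha⟩ := (local_structure m b Q hQ).2 (x * z) hxz hxzc
  have hx' : x = (a * ((r⁻¹ : Rˣ) : R)) • z := by
    calc x = x * (algebraMap R _ (r : R) * algebraMap R _ ((r⁻¹ : Rˣ) : R)) := by
          rw [← map_mul, Units.mul_inv, map_one, mul_one]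
      _ = x * z * z * algebraMap R _ ((r⁻¹ : Rˣ) : R) := by
          rw [← hr]; simp only [mul_assoc]
      _ = algebraMap R _ a * z * algebraMap R _ ((r⁻¹ : Rˣ) : R) := by rw [ha]
      _ = (a * ((r⁻¹ : Rˣ) : R)) • z := by
          rw [mul_assoc, (Algebra.commutes ((r⁻¹ : Rˣ) : R) z).symm, ← mul_assoc, ← map_mul,
            Algebra.smul_def]
  have hsz : star z = ((-1 : R) ^ (m + 1)) • z := by
    rw [star_def, involute_eq_of_mem_odd hz, map_neg, hrev, pow_succ, mul_neg_one, neg_smul]
  rw [hx', CliffordAlgebra.star_smul, hsz, smul_smul, smul_smul, mul_comm]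

end Groth.Agent.Lib.Helper83.Cl6
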