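import Groth.Agent.Lib.Helper83.Cl6B
import Groth.Agent.Lib.Helper83.Cl5D
import Groth.Agent.Lib.Helper31.CliffBC1
import Groth.Agent.Lib.Helper32.CliffBC2
import Groth.Agent.Lib.Helper31.QH4
set_option autoImplicit false

namespace Groth.Agent.Lib.Helper83.Cl6

open CliffordAlgebra TensorProduct Groth.Agent.Lib.Helper31.CliffBC1
  Groth.Agent.Lib.Helper32.CliffBC2

universe u v w

section
variable {R : Type u} [CommRing R] {M : Type v} [AddCommGroup M] [Module R M] [Module.Free R M]
  (A : Type w) [CommRing A] [Algebra R A] (Q : QuadraticForm R M)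

theorem rho_lam (x : CliffordAlgebra Q) : rho A Q (lam A Q x) = (1 : A) ⊗ₜ[R] x := by
  have : ((rho A Q).restrictScalars R).comp (lam A Q) = Algebra.TensorProduct.includeRight := by
    apply CliffordAlgebra.hom_ext
    ext m
    simp [lam_ι, rho_ι_tmul]
  exact congrArg (fun g : CliffordAlgebra Q →ₐ[R] A ⊗[R] CliffordAlgebra Q => g x) this

end

theorem main_S16992 {R : Type u} [CommRing R] {M : Type v} [AddCommGroup M] [Module R M]
    (m : ℕ) (b : Module.Basis (Fin (2 * m + 1)) R M) (Q : QuadraticForm R M)
    (hQ : QuadGrp.IsSemiregular b (LinearEquiv.refl R R) Q)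
    (z : CliffordAlgebra Q) (hz : z ∈ Subalgebra.center R (CliffordAlgebra Q))
    (hz1 : z ∈ CliffordAlgebra.evenOdd Q 1) :
    star z = ((-1 : R) ^ (m + 1)) • z := by
  have : Module.Free R M := Module.Free.of_basis b
  rw [← sub_eq_zero]
  apply Module.eq_zero_of_localization_maximal
    (fun P _ => Localization.AtPrime P ⊗[R] CliffordAlgebra Q)
    (fun P _ => TensorProduct.mk R (Localization.AtPrime P) (CliffordAlgebra Q) 1)
  intro P hP
  have hQA : QuadGrp.IsSemiregular (b.baseChange (Localization.AtPrime P))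
      (LinearEquiv.refl (Localization.AtPrime P) (Localization.AtPrime P))
      (QuadGrp.baseChangeForm (Localization.AtPrime P) Q) := by
    unfold QuadGrp.IsSemiregular
    rw [Groth.Agent.Lib.Helper31.QH.halfDisc_baseChange]
    exact IsUnit.map (algebraMap R (Localization.AtPrime P)) hQ
  have hzc : ∀ v, ι Q v * z = z * ι Q v := fun v => Cl5.comm_of_mem_center hz (ι Q v)
  have hstar := local_star m (b.baseChange (Localization.AtPrime P))
    (QuadGrp.baseChangeForm (Localization.AtPrime P) Q) hQA (lam (Localization.AtPrime P) Q z)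
    (lam_mem_evenOdd (Localization.AtPrime P) Q 1 z hz1)
    (lam_comm_of_comm (Localization.AtPrime P) Q z hzc)
  change (1 : Localization.AtPrime P) ⊗ₜ[R] (star z - (-1 : R) ^ (m + 1) • z) = 0
  rw [← rho_lam, map_sub, lam_star, hstar, map_smul, ← algebraMap_smul (Localization.AtPrime P)
    ((-1 : R) ^ (m + 1)), map_pow, map_neg, map_one, sub_self, map_zero]

end Groth.Agent.Lib.Helper83.Cl6
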