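import Groth.Agent.Lib.Helper83.ComodOps

/-!
# Comodules over a direct sum of subcoalgebras (helper83)

If a coalgebra `C` is the internal direct sum of subcoalgebras `D i`, every right `C`-comodule `V`
is the internal direct sum of the subcomodules `Vc D i = ρ⁻¹(V ⊗ D i)`.
-/

set_option autoImplicit false
universe u v w w'
open TensorProduct
open scoped Classical

namespace Groth.Agent.Lib.Helper83.CoalgDecomp

open Groth.Agent.Lib.Helper83.ComodOps

section Proj

variable {R : Type u} [CommRing R] {C : Type v} [AddCommGroup C] [Module R C]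
  {ι : Type w} (D : ι → Submodule R C) (hind : iSupIndep D) (htop : iSup D = ⊤)

include hind htop in
theorem isInternal : DirectSum.IsInternal D :=
  DirectSum.isInternal_submodule_of_iSupIndep_of_iSup_eq_top hind htop

/-- the decomposition isomorphism -/
noncomputable def dec : C ≃ₗ[R] (DirectSum ι fun i => D i) :=
  (LinearEquiv.ofBijective (DirectSum.coeLinearMap D) (isInternal D hind htop)).symm

/-- the projection of `C` onto `D i`, as a map into `D i` -/
noncomputable def π' (i : ι) : C →ₗ[R] D i :=
  DirectSum.component R ι (fun i => D i) i ∘ₗ (dec D hind htop).toLinearMap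

/-- the projection of `C` onto `D i`, as an endomorphism -/
noncomputable def π (i : ι) : C →ₗ[R] C := (D i).subtype ∘ₗ π' D hind htop i

theorem π_eq (i : ι) : π D hind htop i = (D i).subtype ∘ₗ π' D hind htop i := rfl

theorem dec_of_mem {j : ι} {c : C} (hc : c ∈ D j) :
    dec D hind htop c = DirectSum.of (fun i => D i) j ⟨c, hc⟩ := by
  rw [dec, LinearEquiv.symm_apply_eq]
  simp [DirectSum.coeLinearMap_of]

theorem π_of_mem_same {j : ι} {c : C} (hc : c ∈ D j) : π D hind htop j c = c := by
  simp only [π, π', LinearMap.comp_apply, LinearEquiv.coe_coe, dec_of_mem D hind htop hc,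
    ← DirectSum.apply_eq_component, DirectSum.of_eq_same, Submodule.subtype_apply]

theorem π_of_mem_ne {i j : ι} (hij : i ≠ j) {c : C} (hc : c ∈ D j) : π D hind htop i c = 0 := by
  simp only [π, π', LinearMap.comp_apply, LinearEquiv.coe_coe, dec_of_mem D hind htop hc,
    ← DirectSum.apply_eq_component, DirectSum.of_eq_of_ne _ _ _ hij, map_zero]

theorem π_comp_subtype_same (j : ι) : π D hind htop j ∘ₗ (D j).subtype = (D j).subtype := by
  ext c; exact π_of_mem_same D hind htop c.2

theorem π_comp_subtype_ne {i j : ι} (hij : i ≠ j) : π D hind htop i ∘ₗ (D j).subtype = 0 := by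
  ext c; exact π_of_mem_ne D hind htop hij c.2

theorem π_π_same (i : ι) (c : C) : π D hind htop i (π D hind htop i c) = π D hind htop i c :=
  π_of_mem_same D hind htop (π' D hind htop i c).2

theorem π_π_ne {i j : ι} (hij : i ≠ j) (c : C) : π D hind htop i (π D hind htop j c) = 0 :=
  π_of_mem_ne D hind htop hij (π' D hind htop j c).2

/-- every element is the finite sum of its components -/
theorem sum_π (c : C) : ∃ S : Finset ι, (∀ i ∉ S, π D hind htop i c = 0) ∧
    ∑ i ∈ S, π D hind htop i c = c := by
  refine ⟨DFinsupp.support (dec D hind htop c), ?_, ?_⟩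
  · intro i hi
    rw [DFinsupp.notMem_support_iff] at hi
    simp only [π, π', LinearMap.comp_apply, LinearEquiv.coe_coe, ← DirectSum.apply_eq_component]
    rw [hi]; rfl
  · have h := DirectSum.sum_support_of (dec D hind htop c)
    have h2 := congrArg (dec D hind htop).symm h
    rw [LinearEquiv.symm_apply_apply, map_sum] at h2
    refine Eq.trans (Finset.sum_congr rfl fun i _ => ?_) h2
    rw [dec, LinearEquiv.symm_symm, LinearEquiv.ofBijective_apply, DirectSum.coeLinearMap_of]
    rfl

include htop in
/-- two linear maps agreeing on every `D j` are equal -/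
theorem ext_of_forall_mem {M : Type*} [AddCommGroup M] [Module R M] {f g : C →ₗ[R] M}
    (h : ∀ j, ∀ c ∈ D j, f c = g c) : f = g := by
  ext c
  have hc : c ∈ ⨆ i, D i := htop ▸ Submodule.mem_top
  refine Submodule.iSup_induction D (motive := fun c => f c = g c) hc h ?_ ?_
  · simp
  · intro x y hx hy; simp [hx, hy]

end Proj

section Coalg

variable {R : Type u} [CommRing R] {C : Type v} [AddCommGroup C] [Module R C] [Coalgebra R C]
  {ι : Type w} (D : ι → Submodule R C) (hind : iSupIndep D) (htop : iSup D = ⊤)

/-- the functional `ε ∘ π i` -/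
noncomputable def fn (i : ι) : C →ₗ[R] R := Coalgebra.counit ∘ₗ π D hind htop i

theorem fn_lTensor_same {M : Type*} [AddCommGroup M] [Module R M] (i : ι) (y : M ⊗[R] D i) :
    (fn D hind htop i).lTensor M ((D i).subtype.lTensor M y) =
      (Coalgebra.counit (R := R) (A := C)).lTensor M ((D i).subtype.lTensor M y) := by
  induction y using TensorProduct.induction_on with
  | zero => simp
  | add x y hx hy => simp only [map_add, hx, hy]
  | tmul a b => simp [fn, π_of_mem_same D hind htop b.2]

theorem fn_lTensor_ne {M : Type*} [AddCommGroup M] [Module R M] {i j : ι} (hij : i ≠ j)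
    (y : M ⊗[R] D j) :
    (fn D hind htop i).lTensor M ((D j).subtype.lTensor M y) = 0 := by
  induction y using TensorProduct.induction_on with
  | zero => simp
  | add x y hx hy => simp only [map_add, hx, hy, add_zero]
  | tmul a b => simp [fn, π_of_mem_ne D hind htop hij b.2]

theorem fn_rTensor_same {M : Type*} [AddCommGroup M] [Module R M] (i : ι) (y : D i ⊗[R] M) :
    (fn D hind htop i).rTensor M ((D i).subtype.rTensor M y) =
      (Coalgebra.counit (R := R) (A := C)).rTensor M ((D i).subtype.rTensor M y) := by
  induction y using TensorProduct.induction_on with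
  | zero => simp
  | add x y hx hy => simp only [map_add, hx, hy]
  | tmul a b => simp [fn, π_of_mem_same D hind htop a.2]

theorem fn_rTensor_ne {M : Type*} [AddCommGroup M] [Module R M] {i j : ι} (hij : i ≠ j)
    (y : D j ⊗[R] M) :
    (fn D hind htop i).rTensor M ((D j).subtype.rTensor M y) = 0 := by
  induction y using TensorProduct.induction_on with
  | zero => simp
  | add x y hx hy => simp only [map_add, hx, hy, add_zero]
  | tmul a b => simp [fn, π_of_mem_ne D hind htop hij a.2]

theorem map_subtype_eq_lTensor (j : ι) (y : D j ⊗[R] D j) :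
    TensorProduct.map (D j).subtype (D j).subtype y =
      (D j).subtype.lTensor C ((D j).subtype.rTensor (D j) y) := by
  induction y using TensorProduct.induction_on with
  | zero => simp
  | add x y hx hy => simp only [map_add, hx, hy]
  | tmul a b => simp

theorem map_subtype_eq_rTensor (j : ι) (y : D j ⊗[R] D j) :
    TensorProduct.map (D j).subtype (D j).subtype y =
      (D j).subtype.rTensor C ((D j).subtype.lTensor (D j) y) := by
  induction y using TensorProduct.induction_on with
  | zero => simp
  | add x y hx hy => simp only [map_add, hx, hy]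
  | tmul a b => simp

variable (hD : ∀ i, ∀ d ∈ D i, Coalgebra.comul (R := R) d ∈
  LinearMap.range (TensorProduct.map (D i).subtype (D i).subtype))

include hD in
theorem Rt_fn (i : ι) : Rt (fn D hind htop i) = π D hind htop i := by
  apply ext_of_forall_mem D htop
  intro j c hc
  obtain ⟨y, hy⟩ := hD j c hc
  show TensorProduct.rid R C ((fn D hind htop i).lTensor C (Coalgebra.comul c)) = π D hind htop i c
  by_cases hij : i = j
  · subst hij
    rw [π_of_mem_same D hind htop hc, ← hy, map_subtype_eq_lTensor, fn_lTensor_same,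
      ← map_subtype_eq_lTensor, hy, Coalgebra.lTensor_counit_comul]
    simp
  · rw [π_of_mem_ne D hind htop hij hc, ← hy, map_subtype_eq_lTensor, fn_lTensor_ne D hind htop hij]
    simp

include hD in
theorem Lt_fn (i : ι) : Lt (fn D hind htop i) = π D hind htop i := by
  apply ext_of_forall_mem D htop
  intro j c hc
  obtain ⟨y, hy⟩ := hD j c hc
  show TensorProduct.lid R C ((fn D hind htop i).rTensor C (Coalgebra.comul c)) = π D hind htop i c
  by_cases hij : i = j
  · subst hij
    rw [π_of_mem_same D hind htop hc, ← hy, map_subtype_eq_rTensor, fn_rTensor_same,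
      ← map_subtype_eq_rTensor, hy, Coalgebra.rTensor_counit_comul]
    simp
  · rw [π_of_mem_ne D hind htop hij hc, ← hy, map_subtype_eq_rTensor, fn_rTensor_ne D hind htop hij]
    simp

end Coalg

section Comod

variable {R : Type u} [CommRing R] {C : Type v} [AddCommGroup C] [Module R C] [Coalgebra R C]
  {ι : Type w} (D : ι → Submodule R C) (hind : iSupIndep D) (htop : iSup D = ⊤)
  (hD : ∀ i, ∀ d ∈ D i, Coalgebra.comul (R := R) d ∈
    LinearMap.range (TensorProduct.map (D i).subtype (D i).subtype))
  {V : Type w'} [AddCommGroup V] [Module R V] [HopfRep.Comod R C V]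

/-- the projections `p i = T (ε ∘ π i)` of the comodule -/
noncomputable def p (i : ι) : V →ₗ[R] V := T (fn D hind htop i)

variable (V) in
/-- the components of the comodule -/
noncomputable def Vc (i : ι) : Submodule R V :=
  (LinearMap.range (LinearMap.lTensor V (D i).subtype)).comap (coact R C V)

include hD in
theorem coact_p (i : ι) (v : V) :
    coact R C V (p D hind htop i v) = (π D hind htop i).lTensor V (coact R C V v) := by
  rw [p, coact_T, Rt_fn D hind htop hD]

include hD in
theorem rTensor_p_coact (i : ι) (v : V) :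
    (p D hind htop i).rTensor C (coact R C V v) = (π D hind htop i).lTensor V (coact R C V v) := by
  rw [p, rTensor_T_coact, Lt_fn D hind htop hD]

include hD in
theorem p_p_same (i : ι) (v : V) : p D hind htop i (p D hind htop i v) = p D hind htop i v := by
  rw [p, T_T, Rt_fn D hind htop hD]
  have : fn D hind htop i ∘ₗ π D hind htop i = fn D hind htop i := by
    ext c
    simp [fn, π_π_same]
  rw [this]

include hD in
theorem p_p_ne {i j : ι} (hij : i ≠ j) (v : V) : p D hind htop i (p D hind htop j v) = 0 := by
  rw [p, p, T_T, Rt_fn D hind htop hD]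
  have : fn D hind htop i ∘ₗ π D hind htop j = 0 := by
    ext c
    simp [fn, π_π_ne D hind htop hij]
  rw [this]
  simp [T]

include hD in
theorem p_mem_Vc (i : ι) (v : V) : p D hind htop i v ∈ Vc D V i := by
  show coact R C V (p D hind htop i v) ∈ LinearMap.range (LinearMap.lTensor V (D i).subtype)
  rw [coact_p D hind htop hD, π_eq, LinearMap.lTensor_comp_apply]
  exact ⟨_, rfl⟩

theorem p_of_mem_Vc (i : ι) {v : V} (hv : v ∈ Vc D V i) : p D hind htop i v = v := by
  obtain ⟨y, hy⟩ := hv
  rw [p, T_apply, ← hy, fn_lTensor_same, hy]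
  exact T_counit v

include hD in
theorem mem_Vc_iff (i : ι) (v : V) : v ∈ Vc D V i ↔ p D hind htop i v = v :=
  ⟨fun h => p_of_mem_Vc D hind htop i h, fun h => h ▸ p_mem_Vc D hind htop hD i v⟩

theorem sum_lTensor_π (x : V ⊗[R] C) : ∃ S : Finset ι,
    (∀ i ∉ S, (π D hind htop i).lTensor V x = 0) ∧
      ∑ i ∈ S, (π D hind htop i).lTensor V x = x := by
  induction x using TensorProduct.induction_on with
  | zero => exact ⟨∅, by simp, by simp⟩
  | tmul v c =>
    obtain ⟨S, h1, h2⟩ := sum_π D hind htop c
    refine ⟨S, fun i hi => by simp [h1 i hi], ?_⟩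
    simp only [LinearMap.lTensor_tmul]
    rw [← TensorProduct.tmul_sum, h2]
  | add x y hx hy =>
    obtain ⟨S₁, h1, h2⟩ := hx
    obtain ⟨S₂, h3, h4⟩ := hy
    refine ⟨S₁ ∪ S₂, fun i hi => ?_, ?_⟩
    · rw [Finset.notMem_union] at hi
      rw [map_add, h1 i hi.1, h3 i hi.2, add_zero]
    · simp only [map_add]
      rw [Finset.sum_add_distrib]
      congr 1
      · rw [← Finset.sum_subset Finset.subset_union_left (fun i _ hi => h1 i hi), h2]
      · rw [← Finset.sum_subset Finset.subset_union_right (fun i _ hi => h3 i hi), h4]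

theorem sum_p (v : V) : ∃ S : Finset ι, ∑ i ∈ S, p D hind htop i v = v := by
  obtain ⟨S, -, h2⟩ := sum_lTensor_π D hind htop (coact R C V v)
  refine ⟨S, ?_⟩
  have h3 := T_counit (k := R) (A := C) v
  rw [T_apply] at h3
  conv_rhs => rw [← h3, ← h2]
  simp only [map_sum]
  refine Finset.sum_congr rfl fun i _ => ?_
  rw [p, T_apply, ← LinearMap.lTensor_comp_apply]
  rfl

include hind htop hD in
theorem isSubcomod_Vc (i : ι) : HopfRep.IsSubcomod (k := R) (A := C) (Vc D V i) := by
  intro w hw
  let p' : V →ₗ[R] Vc D V i :=
    LinearMap.codRestrict (Vc D V i) (p D hind htop i) (p_mem_Vc D hind htop hD i)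
  have hp' : p D hind htop i = (Vc D V i).subtype ∘ₗ p' := by
    ext v; rfl
  have h1 : coact R C V w = (p D hind htop i).rTensor C (coact R C V w) := by
    rw [rTensor_p_coact D hind htop hD, ← coact_p D hind htop hD, p_of_mem_Vc D hind htop i hw]
  show coact R C V w ∈ _
  rw [h1, hp', LinearMap.rTensor_comp_apply]
  exact ⟨_, rfl⟩

include hind htop hD in
theorem coact_mem_of_mem_Vc (i : ι) {v : V} (hv : v ∈ Vc D V i) :
    coact R C V v ∈ LinearMap.range (TensorProduct.map (Vc D V i).subtype (D i).subtype) := by
  let p' : V →ₗ[R] Vc D V i :=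
    LinearMap.codRestrict (Vc D V i) (p D hind htop i) (p_mem_Vc D hind htop hD i)
  have hp' : p D hind htop i = (Vc D V i).subtype ∘ₗ p' := by
    ext v; rfl
  have h1 : coact R C V v = (π D hind htop i).lTensor V (coact R C V v) := by
    rw [← coact_p D hind htop hD, p_of_mem_Vc D hind htop i hv]
  have h2 : coact R C V v = (p D hind htop i).rTensor C (coact R C V v) := by
    rw [rTensor_p_coact D hind htop hD, ← h1]
  have h3 : coact R C V v =
      TensorProduct.map (p D hind htop i) (π D hind htop i) (coact R C V v) := by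
    conv_lhs => rw [h2, h1]
    rw [← LinearMap.comp_apply, LinearMap.rTensor_comp_lTensor]
  rw [h3, hp', π_eq, TensorProduct.map_comp]
  exact ⟨_, rfl⟩

include hind htop hD in
theorem iSupIndep_Vc : iSupIndep (Vc D V) := by
  intro i
  rw [Submodule.disjoint_def]
  intro x hx hx'
  have hle : (⨆ (j : ι) (_ : j ≠ i), Vc D V j) ≤ LinearMap.ker (p D hind htop i) := by
    refine iSup₂_le fun j hj v hv => ?_
    rw [LinearMap.mem_ker, ← p_of_mem_Vc D hind htop j hv]
    exact p_p_ne D hind htop hD (Ne.symm hj) v
  rw [← p_of_mem_Vc D hind htop i hx]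
  exact LinearMap.mem_ker.mp (hle hx')

include hind htop hD in
theorem iSup_Vc : (⨆ i, Vc D V i) = ⊤ := by
  rw [eq_top_iff]
  intro v _
  obtain ⟨S, hS⟩ := sum_p D hind htop v
  rw [← hS]
  exact Submodule.sum_mem _ fun i _ =>
    Submodule.mem_iSup_of_mem i (p_mem_Vc D hind htop hD i v)

end Comod

end Groth.Agent.Lib.Helper83.CoalgDecomp
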