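import Groth.Prelude.Def_HopfRep
import Mathlib

/-!
Comodules over a coalgebra with a basis of group-like elements (e.g. a monoid algebra) are graded:
weight components, their orthogonality, and the subcomodule criterion (helper83).
-/

set_option autoImplicit false
universe u v w
open TensorProduct
open scoped Classical

namespace Groth.Agent.Lib.Helper83.DiagComod

variable {k : Type u} [CommRing k] {A : Type v} [AddCommGroup A] [Module k A] [Coalgebra k A]
  {ι : Type*} (b : Module.Basis ι k A)
  {V : Type w} [AddCommGroup V] [Module k V]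

/-- the identification `V ⊗ A ≃ (ι →₀ V)` given by a basis of `A` -/
noncomputable def Φ : V ⊗[k] A ≃ₗ[k] (ι →₀ V) :=
  (LinearEquiv.lTensor V b.repr) ≪≫ₗ TensorProduct.finsuppScalarRight k k V ι

theorem Φ_tmul (v : V) (a : A) (i : ι) : Φ b (v ⊗ₜ[k] a) i = b.repr a i • v := by
  simp [Φ]

theorem Φ_symm_single (i : ι) (v : V) : (Φ b).symm (Finsupp.single i v) = v ⊗ₜ[k] b i := by
  simp [Φ, LinearEquiv.trans_symm]

theorem Φ_tmul_basis (v : V) (i : ι) : Φ b (v ⊗ₜ[k] b i) = Finsupp.single i v := by
  rw [← Φ_symm_single, LinearEquiv.apply_symm_apply]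

/-- the coordinate functional -/
noncomputable def coord (i : ι) : A →ₗ[k] k := (Finsupp.lapply i) ∘ₗ b.repr.toLinearMap

theorem Φ_apply (t : V ⊗[k] A) (i : ι) :
    Φ b t i = TensorProduct.rid k V ((coord b i).lTensor V t) := by
  induction t using TensorProduct.induction_on with
  | zero => simp
  | tmul v a => simp [Φ_tmul, coord]
  | add x y hx hy => simp only [map_add, Finsupp.add_apply, hx, hy]

section Comod

variable [HopfRep.Comod k A V]
  (hcomul : ∀ i, Coalgebra.comul (R := k) (b i) = b i ⊗ₜ[k] b i)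
  (hcounit : ∀ i, Coalgebra.counit (R := k) (b i) = (1 : k))

/-- the weight decomposition of a vector -/
noncomputable def D : V →ₗ[k] (ι →₀ V) :=
  (Φ b).toLinearMap ∘ₗ HopfRep.Comod.coact (k := k) (A := A)

theorem D_apply (v : V) : D b v = Φ b (HopfRep.Comod.coact (k := k) (A := A) v) := rfl

theorem coact_eq (v : V) :
    HopfRep.Comod.coact (k := k) (A := A) v = (Φ b).symm (D b v) := by
  rw [D_apply, LinearEquiv.symm_apply_apply]

theorem coord_basis (n i : ι) : coord b n (b i) = if i = n then 1 else 0 := by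
  simp [coord, Finsupp.single_apply]

include hcounit in
theorem rid_counit_eq_sum (t : V ⊗[k] A) :
    TensorProduct.rid k V ((Coalgebra.counit (R := k) (A := A)).lTensor V t) =
      (Φ b t).sum fun _ x => x := by
  have h : (TensorProduct.rid k V).toLinearMap ∘ₗ (Coalgebra.counit (R := k) (A := A)).lTensor V =
      (Finsupp.lsum k (fun _ : ι => (LinearMap.id : V →ₗ[k] V))) ∘ₗ (Φ b).toLinearMap := by
    apply TensorProduct.ext
    apply LinearMap.ext
    intro v
    apply b.ext
    intro i
    simp only [LinearMap.compr₂ₛₗ_apply, TensorProduct.mk_apply, LinearMap.comp_apply,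
      LinearEquiv.coe_coe, LinearMap.lTensor_tmul, hcounit, TensorProduct.rid_tmul, one_smul,
      Φ_tmul_basis, Finsupp.lsum_apply]
    rw [Finsupp.sum_single_index]
    · rfl
    · rfl
  have := LinearMap.congr_fun h t
  simp only [LinearMap.comp_apply, LinearEquiv.coe_coe, Finsupp.lsum_apply] at this
  exact this

include hcounit in
theorem sum_D (v : V) : (D b v).sum (fun _ x => x) = v := by
  rw [D_apply, ← rid_counit_eq_sum b hcounit]
  have h := LinearMap.congr_fun (HopfRep.Comod.counit_comp (k := k) (A := A) (V := V)) v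
  simp only [LinearMap.comp_apply, LinearMap.flip_apply, TensorProduct.mk_apply] at h
  rw [h, TensorProduct.rid_tmul, one_smul]

/-- auxiliary contraction of the last tensor factor -/
noncomputable def Ψ (n : ι) : V ⊗[k] (A ⊗[k] A) →ₗ[k] V ⊗[k] A :=
  LinearMap.lTensor V ((TensorProduct.rid k A).toLinearMap ∘ₗ (coord b n).lTensor A)

theorem Ψ_assoc (n : ι) (y : (V ⊗[k] A) ⊗[k] A) :
    Ψ b n (TensorProduct.assoc k V A A y) =
      TensorProduct.rid k (V ⊗[k] A) ((coord b n).lTensor (V ⊗[k] A) y) := by
  induction y using TensorProduct.induction_on with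
  | zero => simp
  | tmul x a' =>
    induction x using TensorProduct.induction_on with
    | zero => simp
    | tmul v a =>
      simp only [Ψ, TensorProduct.assoc_tmul, LinearMap.lTensor_tmul, LinearMap.comp_apply,
        LinearEquiv.coe_coe, TensorProduct.rid_tmul, TensorProduct.tmul_smul]
    | add x y hx hy =>
      rw [TensorProduct.add_tmul, map_add, map_add, hx, hy, map_add, map_add]
  | add x y hx hy => rw [map_add, map_add, hx, hy, map_add, map_add]

theorem rid_lTensor_rTensor (n : ι) (t : V ⊗[k] A) :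
    TensorProduct.rid k (V ⊗[k] A) ((coord b n).lTensor (V ⊗[k] A)
      ((HopfRep.Comod.coact (k := k) (A := A) (V := V)).rTensor A t)) =
      HopfRep.Comod.coact (k := k) (A := A)
        (TensorProduct.rid k V ((coord b n).lTensor V t)) := by
  induction t using TensorProduct.induction_on with
  | zero => simp
  | tmul v a =>
    simp only [LinearMap.rTensor_tmul, LinearMap.lTensor_tmul, TensorProduct.rid_tmul, map_smul]
  | add x y hx hy => simp only [map_add, hx, hy]

include hcomul in
theorem Ψ_comul (n : ι) (t : V ⊗[k] A) :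
    Ψ b n ((Coalgebra.comul (R := k) (A := A)).lTensor V t) =
      (Φ b).symm (Finsupp.single n (Φ b t n)) := by
  have h : Ψ b n ∘ₗ (Coalgebra.comul (R := k) (A := A)).lTensor V =
      (Φ b).symm.toLinearMap ∘ₗ Finsupp.lsingle n ∘ₗ Finsupp.lapply n ∘ₗ (Φ b).toLinearMap := by
    apply TensorProduct.ext
    apply LinearMap.ext
    intro v
    apply b.ext
    intro i
    simp only [LinearMap.compr₂ₛₗ_apply, TensorProduct.mk_apply, LinearMap.comp_apply,
      LinearEquiv.coe_coe, LinearMap.lTensor_tmul, hcomul, Ψ, TensorProduct.rid_tmul,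
      Φ_tmul_basis, Finsupp.lapply_apply, Finsupp.lsingle_apply, coord_basis]
    by_cases hin : i = n
    · subst hin
      simp [Φ_symm_single]
    · simp [hin]
  exact LinearMap.congr_fun h t

include hcomul in
theorem D_D (v : V) (n : ι) : D b (D b v n) = Finsupp.single n (D b v n) := by
  have h1 : HopfRep.Comod.coact (k := k) (A := A) (D b v n) =
      (Φ b).symm (Finsupp.single n (D b v n)) := by
    conv_lhs => rw [D_apply, Φ_apply, ← rid_lTensor_rTensor, ← Ψ_assoc]
    have hc := LinearMap.congr_fun (HopfRep.Comod.coassoc (k := k) (A := A) (V := V)) v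
    simp only [LinearMap.comp_apply, LinearEquiv.coe_coe] at hc
    rw [hc, Ψ_comul b hcomul, ← D_apply]
  rw [D_apply, h1, LinearEquiv.apply_symm_apply]

end Comod

section Sub

variable [HopfRep.Comod k A V]

theorem D_mem_of_isSubcomod (W : Submodule k V)
    (hW : HopfRep.IsSubcomod (k := k) (A := A) W) (w : V) (hw : w ∈ W) (n : ι) :
    D b w n ∈ W := by
  obtain ⟨t, ht⟩ := hW w hw
  rw [D_apply, ← ht, Φ_apply]
  clear ht
  induction t using TensorProduct.induction_on with
  | zero => simp
  | tmul x a =>
    simp only [LinearMap.rTensor_tmul, Submodule.subtype_apply, LinearMap.lTensor_tmul,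
      TensorProduct.rid_tmul]
    exact W.smul_mem _ x.2
  | add x y hx hy =>
    simp only [map_add]
    exact W.add_mem hx hy

theorem isSubcomod_of_D_mem (W : Submodule k V) (h : ∀ w ∈ W, ∀ n, D b w n ∈ W) :
    HopfRep.IsSubcomod (k := k) (A := A) W := by
  intro w hw
  rw [coact_eq b w]
  have hsum : D b w = (D b w).sum Finsupp.single := (Finsupp.sum_single _).symm
  rw [hsum, Finsupp.sum, map_sum]
  refine Submodule.sum_mem _ fun n _ => ?_
  rw [Φ_symm_single]
  exact ⟨(⟨D b w n, h w hw n⟩ : W) ⊗ₜ[k] b n, rfl⟩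

end Sub

section Compl

variable [HopfRep.Comod k A V]
  (hcomul : ∀ i, Coalgebra.comul (R := k) (b i) = b i ⊗ₜ[k] b i)
  (hcounit : ∀ i, Coalgebra.counit (R := k) (b i) = (1 : k))

/-- the weightwise average of a linear endomorphism -/
noncomputable def avg (π : V →ₗ[k] V) : V →ₗ[k] V :=
  (Finsupp.lsum k (fun n : ι => (Finsupp.lapply n ∘ₗ D (A := A) b) ∘ₗ π)) ∘ₗ D (A := A) b

theorem avg_apply (π : V →ₗ[k] V) (v : V) :
    avg (A := A) b π v = (D (A := A) b v).sum (fun n x => D (A := A) b (π x) n) := by
  simp only [avg, LinearMap.comp_apply, Finsupp.lsum_apply]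
  rfl

include hcomul hcounit in
theorem avg_of_mem (π : V →ₗ[k] V) (W : Submodule k V)
    (hW : HopfRep.IsSubcomod (k := k) (A := A) W) (hπ : ∀ w ∈ W, π w = w) (w : V) (hw : w ∈ W) :
    avg (A := A) b π w = w := by
  rw [avg_apply]
  have h1 : (D (A := A) b w).sum (fun n x => D (A := A) b (π x) n) =
      (D (A := A) b w).sum (fun _ x => x) := by
    apply Finsupp.sum_congr
    intro n _
    rw [hπ _ (D_mem_of_isSubcomod b W hW w hw n), D_D b hcomul, Finsupp.single_eq_same]
  rw [h1, sum_D b hcounit]

theorem avg_mem (π : V →ₗ[k] V) (W : Submodule k V)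
    (hW : HopfRep.IsSubcomod (k := k) (A := A) W) (hπ : ∀ v, π v ∈ W) (v : V) :
    avg (A := A) b π v ∈ W := by
  rw [avg_apply, Finsupp.sum]
  exact Submodule.sum_mem _ fun n _ => D_mem_of_isSubcomod b W hW _ (hπ _) n

include hcomul in
theorem D_avg (π : V →ₗ[k] V) (v : V) (n : ι) :
    D (A := A) b (avg (A := A) b π v) n = D (A := A) b (π (D (A := A) b v n)) n := by
  rw [avg_apply, Finsupp.sum, map_sum, Finsupp.finsetSum_apply]
  simp_rw [D_D b hcomul, Finsupp.single_apply]
  rw [Finset.sum_ite_eq']
  split_ifs with h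
  · rfl
  · rw [Finsupp.notMem_support_iff] at h
    rw [h]
    simp

include hcomul in
theorem avg_D (π : V →ₗ[k] V) (v : V) (n : ι) :
    avg (A := A) b π (D (A := A) b v n) = D (A := A) b (π (D (A := A) b v n)) n := by
  rw [avg_apply, D_D b hcomul, Finsupp.sum_single_index]
  simp

include hcomul hcounit in
/-- a subcomodule which is a direct summand as a module is a direct summand as a comodule -/
theorem exists_isCompl (W : Submodule k V) (hW : HopfRep.IsSubcomod (k := k) (A := A) W)
    (W' : Submodule k V) (hc : IsCompl W W') :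
    ∃ W'' : Submodule k V, HopfRep.IsSubcomod (k := k) (A := A) W'' ∧ IsCompl W W'' := by
  let π : V →ₗ[k] V := W.subtype ∘ₗ Submodule.projectionOnto W W' hc
  have hπ1 : ∀ w ∈ W, π w = w := by
    intro w hw
    change (W.subtype (Submodule.projectionOnto W W' hc w)) = w
    have := Submodule.projectionOnto_apply_left hc ⟨w, hw⟩
    change (W.projectionOnto W' hc) w = ⟨w, hw⟩ at this
    rw [this]
    rfl
  have hπ2 : ∀ v, π v ∈ W := fun v => (Submodule.projectionOnto W W' hc v).2
  refine ⟨LinearMap.ker (avg (A := A) b π), ?_, ?_⟩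
  · apply isSubcomod_of_D_mem b
    intro v hv n
    rw [LinearMap.mem_ker] at hv ⊢
    rw [avg_D b hcomul, ← D_avg b hcomul, hv]
    simp
  · constructor
    · rw [Submodule.disjoint_def]
      intro x hx hx'
      rw [LinearMap.mem_ker, avg_of_mem b hcomul hcounit π W hW hπ1 x hx] at hx'
      exact hx'
    · rw [Submodule.codisjoint_iff_exists_add_eq]
      intro v
      refine ⟨avg (A := A) b π v, v - avg (A := A) b π v, avg_mem b π W hW hπ2 v, ?_, by abel⟩
      rw [LinearMap.mem_ker, map_sub,
        avg_of_mem b hcomul hcounit π W hW hπ1 _ (avg_mem b π W hW hπ2 v), sub_self]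

end Compl

end Groth.Agent.Lib.Helper83.DiagComod
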