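import Groth.Agent.Lib.Helper83.ComodOps
import Groth.Agent.Lib.Helper83.DiagComod

/-!
# Subcomodules as submodules over an algebra of operators (helper83)

Over a field, a subspace of a comodule `V` is a subcomodule iff it is stable under all operators
`T f = (id ⊗ f) ∘ ρ`.  Hence the subcomodules are the submodules of `V` over the subalgebra `Rad` of
`End V` generated by the `T f`, and semisimplicity questions reduce to Mathlib's lattice theory.
-/

set_option autoImplicit false
universe u v w
open TensorProduct

namespace Groth.Agent.Lib.Helper83.ComodSemisimple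

open Groth.Agent.Lib.Helper83.ComodOps

variable {K : Type u} [Field K] {A : Type v} [AddCommGroup A] [Module K A] [Coalgebra K A]
  {V : Type w} [AddCommGroup V] [Module K V] [HopfRep.Comod K A V]

theorem isSubcomod_of_T_mem (W : Submodule K V)
    (h : ∀ f : A →ₗ[K] K, ∀ w ∈ W, T f w ∈ W) : HopfRep.IsSubcomod (k := K) (A := A) W := by
  classical
  let b := Module.Basis.ofVectorSpace K A
  intro w hw
  have h1 : ∀ i, DiagComod.Φ b (coact K A V w) i = T (DiagComod.coord b i) w :=
    fun i => DiagComod.Φ_apply b _ i
  have h2 : coact K A V w = (DiagComod.Φ b).symm (DiagComod.Φ b (coact K A V w)) :=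
    (LinearEquiv.symm_apply_apply _ _).symm
  show coact K A V w ∈ _
  rw [h2, ← Finsupp.sum_single (DiagComod.Φ b (coact K A V w)), Finsupp.sum, map_sum]
  refine Submodule.sum_mem _ fun i _ => ?_
  rw [DiagComod.Φ_symm_single, h1]
  exact ⟨⟨T (DiagComod.coord b i) w, h _ w hw⟩ ⊗ₜ b i, by simp⟩

theorem isSubcomod_iff (W : Submodule K V) : HopfRep.IsSubcomod (k := K) (A := A) W ↔
    ∀ f : A →ₗ[K] K, ∀ w ∈ W, T f w ∈ W :=
  ⟨fun hW f _ hw => T_mem_of_isSubcomod W hW f hw, isSubcomod_of_T_mem W⟩

variable (K A V) in
/-- The subalgebra of `End_K V` generated by the operators `T f`. -/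
noncomputable def Rad : Subalgebra K (Module.End K V) :=
  Algebra.adjoin K (Set.range (fun f : A →ₗ[K] K => (T f : Module.End K V)))

theorem T_mem_Rad (f : A →ₗ[K] K) : (T f : Module.End K V) ∈ Rad K A V :=
  Algebra.subset_adjoin ⟨f, rfl⟩

/-- A `Rad`-submodule is a subcomodule. -/
theorem isSubcomod_restrictScalars (N : Submodule (Rad K A V) V) :
    HopfRep.IsSubcomod (k := K) (A := A) (N.restrictScalars K) := by
  apply isSubcomod_of_T_mem
  intro f w hw
  exact N.smul_mem ⟨T f, T_mem_Rad f⟩ hw

/-- A subcomodule as a `Rad`-submodule. -/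
noncomputable def toRad (W : Submodule K V) (hW : HopfRep.IsSubcomod (k := K) (A := A) W) :
    Submodule (Rad K A V) V :=
  { W.toAddSubmonoid with
    smul_mem' := by
      rintro ⟨r, hr⟩ w hw
      show r w ∈ W
      have key : ∀ w ∈ W, r w ∈ W := by
        induction hr using Algebra.adjoin_induction with
        | mem x hx =>
          obtain ⟨f, rfl⟩ := hx
          exact fun w hw => T_mem_of_isSubcomod W hW f hw
        | algebraMap c =>
          intro w hw
          rw [Module.algebraMap_end_apply]
          exact W.smul_mem c hw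
        | add x y _ _ hx hy => exact fun w hw => W.add_mem (hx w hw) (hy w hw)
        | mul x y _ _ hx hy => exact fun w hw => hx _ (hy w hw)
      exact key w hw }

theorem restrictScalars_toRad (W : Submodule K V) (hW : HopfRep.IsSubcomod (k := K) (A := A) W) :
    (toRad W hW).restrictScalars K = W := rfl

theorem mem_toRad {W : Submodule K V} {hW : HopfRep.IsSubcomod (k := K) (A := A) W} {v : V} :
    v ∈ toRad W hW ↔ v ∈ W := Iff.rfl

theorem isCompl_restrictScalars_iff (N N' : Submodule (Rad K A V) V) :
    IsCompl (N.restrictScalars K) (N'.restrictScalars K) ↔ IsCompl N N' := by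
  simp only [isCompl_iff, disjoint_iff, codisjoint_iff]
  have h1 : N.restrictScalars K ⊓ N'.restrictScalars K = (N ⊓ N').restrictScalars K := rfl
  have h2 : N.restrictScalars K ⊔ N'.restrictScalars K = (N ⊔ N').restrictScalars K :=
    (Submodule.restrictScalars_sup K N N').symm
  rw [h1, h2, Submodule.restrictScalars_eq_bot_iff, Submodule.restrictScalars_eq_top_iff]

/-- Semisimplicity of the comodule is semisimplicity over `Rad`. -/
theorem isSemisimpleComod_iff :
    HopfRep.IsSemisimpleComod K A V ↔ ComplementedLattice (Submodule (Rad K A V) V) := by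
  constructor
  · intro h
    refine ⟨fun N => ?_⟩
    obtain ⟨W', hW', hc⟩ := h (N.restrictScalars K) (isSubcomod_restrictScalars N)
    refine ⟨toRad W' hW', ?_⟩
    rw [← isCompl_restrictScalars_iff]
    exact hc
  · intro h W hW
    obtain ⟨N', hN'⟩ := h.exists_isCompl (toRad W hW)
    refine ⟨N'.restrictScalars K, isSubcomod_restrictScalars N', ?_⟩
    rw [← isCompl_restrictScalars_iff] at hN'
    exact hN'

theorem isAtom_toRad_iff (W : Submodule K V) (hW : HopfRep.IsSubcomod (k := K) (A := A) W) :
    IsAtom (toRad W hW) ↔ W ≠ ⊥ ∧ ∀ W' : Submodule K V,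
      HopfRep.IsSubcomod (k := K) (A := A) W' → W' ≤ W → W' = ⊥ ∨ W' = W := by
  constructor
  · intro h
    refine ⟨fun hb => h.1 ?_, fun W' hW' hle => ?_⟩
    · apply (Submodule.restrictScalars_eq_bot_iff K _ _).mp
      rw [restrictScalars_toRad]
      exact hb
    · have hle' : toRad W' hW' ≤ toRad W hW := hle
      rcases eq_or_lt_of_le hle' with heq | hlt
      · right
        have := congrArg (Submodule.restrictScalars K) heq
        simpa [restrictScalars_toRad] using this
      · left
        have := h.2 _ hlt
        have := congrArg (Submodule.restrictScalars K) this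
        simpa [restrictScalars_toRad] using this
  · rintro ⟨h1, h2⟩
    refine ⟨fun hb => h1 ?_, fun N hN => ?_⟩
    · have := congrArg (Submodule.restrictScalars K) hb
      simpa [restrictScalars_toRad] using this
    · rcases h2 (N.restrictScalars K) (isSubcomod_restrictScalars N) hN.le with h | h
      · rwa [Submodule.restrictScalars_eq_bot_iff] at h
      · exfalso
        apply hN.ne
        apply Submodule.restrictScalars_injective K
        rw [h, restrictScalars_toRad]

theorem toRad_restrictScalars (N : Submodule (Rad K A V) V) :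
    toRad (N.restrictScalars K) (isSubcomod_restrictScalars N) = N := by
  ext v; rfl

/-- A comodule over a field is semisimple iff it is a direct sum of simple subcomodules. -/
theorem exists_simple_decomposition_iff :
    (∃ (ι : Type w) (W : ι → Submodule K V), iSupIndep W ∧ iSup W = ⊤ ∧ ∀ i,
        HopfRep.IsSubcomod (k := K) (A := A) (W i) ∧ W i ≠ ⊥ ∧
          ∀ W' : Submodule K V, HopfRep.IsSubcomod (k := K) (A := A) W' → W' ≤ W i →
            W' = ⊥ ∨ W' = W i) ↔
      HopfRep.IsSemisimpleComod K A V := by
  rw [isSemisimpleComod_iff]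
  constructor
  · rintro ⟨ι, W, -, htop, hW⟩
    apply complementedLattice_of_sSup_atoms_eq_top
    rw [eq_top_iff]
    have h1 : (⨆ i, toRad (W i) (hW i).1) = ⊤ := by
      apply (Submodule.restrictScalars_eq_top_iff K _ _).mp
      rw [Submodule.restrictScalars_iSup]
      exact htop
    rw [← h1]
    refine iSup_le fun i => le_sSup ?_
    exact (isAtom_toRad_iff (W i) (hW i).1).mpr (hW i).2
  · intro h
    have hat : IsAtomistic (Submodule (Rad K A V) V) := isAtomistic_of_complementedLattice
    obtain ⟨s, hs1, hs2, hs3⟩ := exists_sSupIndep_of_sSup_atoms_eq_top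
      (sSup_atoms_eq_top (α := Submodule (Rad K A V) V))
    refine ⟨s, fun i => i.1.restrictScalars K, ?_, ?_, fun i => ?_⟩
    · have hind := (sSupIndep_iff s).mp hs1
      intro i
      have hi := hind i
      rw [disjoint_iff] at hi ⊢
      have h2 : (⨆ (j : s) (_ : j ≠ i), (j.1.restrictScalars K : Submodule K V)) =
          (⨆ (j : s) (_ : j ≠ i), (j.1 : Submodule (Rad K A V) V)).restrictScalars K := by
        rw [Submodule.restrictScalars_iSup]
        refine iSup_congr fun j => ?_
        rw [Submodule.restrictScalars_iSup]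
      rw [h2]
      show ((i.1 ⊓ ⨆ (j : s) (_ : j ≠ i), (j.1 : Submodule (Rad K A V) V)).restrictScalars K) = ⊥
      rw [hi]
      rfl
    · rw [← Submodule.restrictScalars_iSup, ← sSup_eq_iSup', hs2]
      rfl
    · refine ⟨isSubcomod_restrictScalars i.1, ?_⟩
      have := (isAtom_toRad_iff (i.1.restrictScalars K) (isSubcomod_restrictScalars i.1)).mp
        (by rw [toRad_restrictScalars]; exact hs3 i.2)
      exact this

end Groth.Agent.Lib.Helper83.ComodSemisimple
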