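import Mathlib

/-!
# Conic Caratheodory over the reals; finitely generated cones are closed (helper83)
-/

set_option autoImplicit false

namespace Groth.Agent.Lib.Helper83.ConeCara

open Finset

variable {ι V : Type*} [AddCommGroup V] [Module ℝ V]

/-- explicit linear independence of a finite subfamily. -/
def Indep (e : ι → V) (J : Finset ι) : Prop :=
  ∀ lam : ι → ℝ, ∑ g ∈ J, lam g • e g = 0 → ∀ g ∈ J, lam g = 0

theorem caratheodory_pos [DecidableEq ι] (e : ι → V) :
    ∀ (n : ℕ) (G : Finset ι) (c : ι → ℝ), G.card = n → (∀ g ∈ G, 0 < c g) →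
      ∃ J ⊆ G, ∃ c' : ι → ℝ, (∀ g ∈ J, 0 < c' g) ∧
        ∑ g ∈ J, c' g • e g = ∑ g ∈ G, c g • e g ∧ Indep e J := by
  intro n
  induction n using Nat.strong_induction_on with
  | _ n ih =>
    intro G c hn hc
    by_cases hI : Indep e G
    · exact ⟨G, Finset.Subset.refl G, c, hc, rfl, hI⟩
    · unfold Indep at hI
      push Not at hI
      obtain ⟨lam₀, hlam₀, g₀, hg₀G, hg₀⟩ := hI
      obtain ⟨lam, hlam, g₂, hg₂G, hg₂⟩ : ∃ lam : ι → ℝ, ∑ g ∈ G, lam g • e g = 0 ∧
          ∃ g ∈ G, 0 < lam g := by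
        rcases lt_or_gt_of_ne hg₀ with h | h
        · refine ⟨fun g => - lam₀ g, ?_, g₀, hg₀G, by simpa using h⟩
          simp only [neg_smul, Finset.sum_neg_distrib, hlam₀, neg_zero]
        · exact ⟨lam₀, hlam₀, g₀, hg₀G, h⟩
      have hPne : (G.filter fun g => 0 < lam g).Nonempty := ⟨g₂, by simp [hg₂G, hg₂]⟩
      obtain ⟨g₁, hg₁P, hmin⟩ := Finset.exists_min_image _ (fun g => c g / lam g) hPne
      have hg₁G : g₁ ∈ G := (Finset.mem_filter.1 hg₁P).1
      have hlam₁ : 0 < lam g₁ := (Finset.mem_filter.1 hg₁P).2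
      set θ : ℝ := c g₁ / lam g₁ with hθ
      have hθpos : 0 < θ := div_pos (hc g₁ hg₁G) hlam₁
      let c2 : ι → ℝ := fun g => c g - θ * lam g
      have hc2nn : ∀ g ∈ G, 0 ≤ c2 g := by
        intro g hg
        by_cases hl : 0 < lam g
        · have h3 : θ ≤ c g / lam g := hmin g (by simp [hg, hl])
          have h4 : θ * lam g ≤ c g := (le_div_iff₀ hl).1 h3
          simp only [c2]; linarith
        · have h5 : θ * lam g ≤ 0 := mul_nonpos_of_nonneg_of_nonpos hθpos.le (not_lt.1 hl)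
          have := hc g hg
          simp only [c2]; linarith
      have hc2g₁ : c2 g₁ = 0 := by
        simp only [c2, hθ]
        field_simp
        ring
      have hsum2 : ∑ g ∈ G, c2 g • e g = ∑ g ∈ G, c g • e g := by
        have : ∑ g ∈ G, c2 g • e g = ∑ g ∈ G, c g • e g - θ • ∑ g ∈ G, lam g • e g := by
          rw [Finset.smul_sum, ← Finset.sum_sub_distrib]
          refine Finset.sum_congr rfl fun g _ => ?_
          simp only [c2, sub_smul, mul_smul]
        rw [this, hlam, smul_zero, sub_zero]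
      let G2 := G.filter fun g => 0 < c2 g
      have hG2sub : G2 ⊆ G := Finset.filter_subset _ _
      have hG2ss : G2 ⊂ G := by
        refine ⟨hG2sub, fun h => ?_⟩
        have := (Finset.mem_filter.1 (h hg₁G)).2
        rw [hc2g₁] at this
        exact lt_irrefl _ this
      have hsum3 : ∑ g ∈ G2, c2 g • e g = ∑ g ∈ G, c2 g • e g := by
        apply Finset.sum_subset hG2sub
        intro g hg hg2
        have h1 : ¬ 0 < c2 g := fun h => hg2 (Finset.mem_filter.2 ⟨hg, h⟩)
        have h2 : c2 g = 0 := le_antisymm (not_lt.1 h1) (hc2nn g hg)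
        rw [h2, zero_smul]
      have hcard : G2.card < n := by rw [← hn]; exact Finset.card_lt_card hG2ss
      obtain ⟨J, hJ, c', hc', hsum, hind⟩ := ih _ hcard G2 c2 rfl
        (fun g hg => (Finset.mem_filter.1 hg).2)
      exact ⟨J, hJ.trans hG2sub, c', hc', by rw [hsum, hsum3, hsum2], hind⟩

theorem caratheodory [DecidableEq ι] (e : ι → V) (G : Finset ι) (c : ι → ℝ) (hc : ∀ g, 0 ≤ c g) :
    ∃ J ⊆ G, ∃ c' : ι → ℝ, (∀ g ∈ J, 0 < c' g) ∧
      ∑ g ∈ J, c' g • e g = ∑ g ∈ G, c g • e g ∧ Indep e J := by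
  let G1 := G.filter fun g => 0 < c g
  have h1 : ∑ g ∈ G1, c g • e g = ∑ g ∈ G, c g • e g := by
    apply Finset.sum_subset (Finset.filter_subset _ _)
    intro g hg hg1
    have h2 : ¬ 0 < c g := fun h => hg1 (Finset.mem_filter.2 ⟨hg, h⟩)
    have h3 : c g = 0 := le_antisymm (not_lt.1 h2) (hc g)
    rw [h3, zero_smul]
  obtain ⟨J, hJ, c', hc', hsum, hind⟩ := caratheodory_pos e _ G1 c rfl
    (fun g hg => (Finset.mem_filter.1 hg).2)
  exact ⟨J, hJ.trans (Finset.filter_subset _ _), c', hc', by rw [hsum, h1], hind⟩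

/-- the cone generated by a finite subfamily. -/
def cone (e : ι → V) (G : Finset ι) : Set V :=
  {x | ∃ c : ι → ℝ, (∀ g, 0 ≤ c g) ∧ x = ∑ g ∈ G, c g • e g}

theorem cone_mono [DecidableEq ι] (e : ι → V) {J G : Finset ι} (h : J ⊆ G) : cone e J ⊆ cone e G := by
  rintro x ⟨c, hc, rfl⟩
  refine ⟨fun g => if g ∈ J then c g else 0, fun g => ?_, ?_⟩
  · by_cases hg : g ∈ J
    · simp [hg, hc g]
    · simp [hg]
  · symm
    rw [← Finset.sum_subset h]
    · exact Finset.sum_congr rfl fun g hg => by simp [hg]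
    · intro g _ hg
      simp [hg]

theorem cone_eq_biUnion [DecidableEq ι] (e : ι → V) (G : Finset ι) :
    cone e G = ⋃ J ∈ {J : Finset ι | J ⊆ G ∧ Indep e J}, cone e J := by
  classical
  ext x
  simp only [Set.mem_iUnion, Set.mem_ofPred_eq, exists_prop]
  constructor
  · rintro ⟨c, hc, rfl⟩
    obtain ⟨J, hJ, c', hc', hsum, hind⟩ := caratheodory e G c hc
    refine ⟨J, ⟨hJ, hind⟩, fun g => if g ∈ J then c' g else 0, fun g => ?_, ?_⟩
    · by_cases hg : g ∈ J
      · simp [hg, (hc' g hg).le]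
      · simp [hg]
    · rw [← hsum]
      exact Finset.sum_congr rfl fun g hg => by simp [hg]
  · rintro ⟨J, ⟨hJ, _⟩, hx⟩
    exact cone_mono e hJ hx

theorem smul_mem_cone (e : ι → V) (G : Finset ι) {x : V} (hx : x ∈ cone e G) {a : ℝ} (ha : 0 ≤ a) :
    a • x ∈ cone e G := by
  obtain ⟨c, hc, rfl⟩ := hx
  refine ⟨fun g => a * c g, fun g => mul_nonneg ha (hc g), ?_⟩
  rw [Finset.smul_sum]
  exact Finset.sum_congr rfl fun g _ => by rw [mul_smul]

theorem finite_indep_subsets [DecidableEq ι] (e : ι → V) (G : Finset ι) :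
    {J : Finset ι | J ⊆ G ∧ Indep e J}.Finite :=
  (G.powerset.finite_toSet).subset fun J hJ => Finset.mem_coe.2 (Finset.mem_powerset.2 hJ.1)

section closed

variable {W : Type*} [NormedAddCommGroup W] [NormedSpace ℝ W] [FiniteDimensional ℝ W]

theorem isClosed_cone_of_indep (e : ι → W) (J : Finset ι) (hJ : Indep e J) : IsClosed (cone e J) := by
  classical
  let L : (J → ℝ) →ₗ[ℝ] W := Fintype.linearCombination ℝ (fun g : J => e g)
  have hLapp : ∀ c : J → ℝ, L c = ∑ g : J, c g • e g := fun c => rfl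
  have hLinj : Function.Injective L := by
    rw [← LinearMap.ker_eq_bot, LinearMap.ker_eq_bot']
    intro c hc
    rw [hLapp] at hc
    have h1 : ∑ g ∈ J, (fun g => if h : g ∈ J then c ⟨g, h⟩ else 0) g • e g = 0 := by
      rw [← Finset.sum_coe_sort J]
      rw [← hc]
      exact Finset.sum_congr rfl fun g _ => by simp
    have h2 := hJ _ h1
    funext g
    have := h2 g.1 g.2
    simpa using this
  have hemb : Topology.IsClosedEmbedding L :=
    LinearMap.isClosedEmbedding_of_injective (LinearMap.ker_eq_bot.2 hLinj)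
  have hnn : IsClosed {c : J → ℝ | ∀ g, 0 ≤ c g} := by
    simp only [Set.ofPred_forall]
    exact isClosed_iInter fun g => isClosed_le continuous_const (continuous_apply g)
  have h : cone e J = L '' {c : J → ℝ | ∀ g, 0 ≤ c g} := by
    ext x
    constructor
    · rintro ⟨c, hc, rfl⟩
      refine ⟨fun g => c g, fun g => hc g, ?_⟩
      rw [hLapp, Finset.sum_coe_sort J (fun g => c g • e g)]
    · rintro ⟨c, hc, rfl⟩
      refine ⟨fun g => if h : g ∈ J then c ⟨g, h⟩ else 0, fun g => ?_, ?_⟩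
      · by_cases hg : g ∈ J
        · simp [hg, hc ⟨g, hg⟩]
        · simp [hg]
      · rw [hLapp, ← Finset.sum_coe_sort J]
        exact Finset.sum_congr rfl fun g _ => by simp
  rw [h]
  exact hemb.isClosedMap _ hnn

theorem isClosed_cone [DecidableEq ι] (e : ι → W) (G : Finset ι) : IsClosed (cone e G) := by
  rw [cone_eq_biUnion]
  exact (finite_indep_subsets e G).isClosed_biUnion fun J hJ => isClosed_cone_of_indep e J hJ.2

end closed

end Groth.Agent.Lib.Helper83.ConeCara
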