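import Mathlib

set_option autoImplicit false
universe u

namespace Groth.Agent.Lib.Helper83.ConstellSum

open Finset

theorem hasSum_compl {ι : Type*} [DecidableEq ι] {f : ι → ℝ} (hf : Summable f) (D : Finset ι) :
    HasSum (fun i => if i ∈ D then (0 : ℝ) else f i) ((∑' i, f i) - ∑ i ∈ D, f i) := by
  have hg : HasSum (fun i => if i ∈ D then f i else 0) (∑ i ∈ D, if i ∈ D then f i else 0) :=
    hasSum_sum_of_ne_finset_zero (fun i hi => by simp [hi])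
  have hg' : (∑ i ∈ D, if i ∈ D then f i else 0) = ∑ i ∈ D, f i :=
    Finset.sum_congr rfl (fun i hi => by simp [hi])
  rw [hg'] at hg
  have := hf.hasSum.sub hg
  have hfun : (fun i => if i ∈ D then (0 : ℝ) else f i) =
      fun b => f b - if b ∈ D then f b else 0 := by
    funext i
    by_cases hi : i ∈ D <;> simp [hi]
  rw [hfun]
  exact this

theorem tsum_compl {ι : Type*} [DecidableEq ι] {f : ι → ℝ} (hf : Summable f) (D : Finset ι) :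
    (∑' i, if i ∈ D then (0 : ℝ) else f i) = (∑' i, f i) - ∑ i ∈ D, f i :=
  (hasSum_compl hf D).tsum_eq

theorem main {ι : Type*} [DecidableEq ι] (a b r : ι → ℝ) (hab : ∀ i, a i * r i = b i)
    (ha : Summable a) (hb : Summable b) (Dm D D' : Finset ι) (hDm : Dm ⊆ D) (hDD' : D ⊆ D') :
    (((∑ i ∈ D', b i) + ((∑' i, if i ∈ D' then (0 : ℝ) else a i) / ((D' \ Dm).card : ℝ)) *
        (∑ σ ∈ D' \ Dm, r σ)) -
      ((∑ i ∈ D, b i) + ((∑' i, if i ∈ D then (0 : ℝ) else a i) / ((D \ Dm).card : ℝ)) *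
        (∑ σ ∈ D \ Dm, r σ)) =
      ∑ τ ∈ D' \ D, (a τ + (∑' i, if i ∈ D' then (0 : ℝ) else a i) / ((D' \ Dm).card : ℝ)) *
        (r τ - (1 / ((D \ Dm).card : ℝ)) * (∑ σ ∈ D \ Dm, r σ))) ∧
    ((∑' i, b i) - ((∑ i ∈ D, b i) + ((∑' i, if i ∈ D then (0 : ℝ) else a i) /
        ((D \ Dm).card : ℝ)) * (∑ σ ∈ D \ Dm, r σ)) =
      ∑' τ, if τ ∈ D then (0 : ℝ) else a τ *
        (r τ - (1 / ((D \ Dm).card : ℝ)) * (∑ σ ∈ D \ Dm, r σ))) := by
  -- abbreviations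
  have hS : (∑' i, if i ∈ D then (0 : ℝ) else a i) =
      (∑' i, if i ∈ D' then (0 : ℝ) else a i) + ∑ i ∈ D' \ D, a i := by
    rw [tsum_compl ha, tsum_compl ha, ← Finset.sum_sdiff hDD']
    ring
  have hsub : D \ Dm ⊆ D' \ Dm := Finset.sdiff_subset_sdiff hDD' (le_refl _)
  have hsd : (D' \ Dm) \ (D \ Dm) = D' \ D := by
    ext i
    simp only [Finset.mem_sdiff]
    constructor
    · rintro ⟨⟨h1, h2⟩, h3⟩
      exact ⟨h1, fun h => h3 ⟨h, h2⟩⟩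
    · rintro ⟨h1, h2⟩
      exact ⟨⟨h1, fun h => h2 (hDm h)⟩, fun h => h2 h.1⟩
  have hR : (∑ σ ∈ D' \ Dm, r σ) = (∑ σ ∈ D \ Dm, r σ) + ∑ σ ∈ D' \ D, r σ := by
    rw [← Finset.sum_sdiff hsub, hsd]
    ring
  have hcard : ((D' \ Dm).card : ℝ) = ((D \ Dm).card : ℝ) + ((D' \ D).card : ℝ) := by
    rw [← Nat.cast_add, ← hsd, add_comm, Finset.card_sdiff_add_card_eq_card hsub]
  have hB : (∑ i ∈ D', b i) = (∑ i ∈ D, b i) + ∑ i ∈ D' \ D, a i * r i := by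
    rw [← Finset.sum_sdiff hDD']
    simp only [hab]
    ring
  have hR0 : ((D \ Dm).card : ℝ) = 0 → (∑ σ ∈ D \ Dm, r σ) = 0 := by
    intro h0
    have : D \ Dm = ∅ := Finset.card_eq_zero.mp (by exact_mod_cast h0)
    rw [this, Finset.sum_empty]
  constructor
  · -- expand the right-hand side
    have hrhs : ∀ (c1 c2 : ℝ), (∑ τ ∈ D' \ D, (a τ + c1) * (r τ - c2)) =
        (∑ τ ∈ D' \ D, a τ * r τ) - c2 * (∑ τ ∈ D' \ D, a τ) + c1 * (∑ τ ∈ D' \ D, r τ)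
          - ((D' \ D).card : ℝ) * (c1 * c2) := by
      intro c1 c2
      have : ∀ τ ∈ D' \ D, (a τ + c1) * (r τ - c2) = a τ * r τ - c2 * a τ + c1 * r τ - c1 * c2 :=
        fun τ _ => by ring
      rw [Finset.sum_congr rfl this]
      simp only [Finset.sum_sub_distrib, Finset.sum_add_distrib, ← Finset.mul_sum,
        Finset.sum_const, nsmul_eq_mul]
      ring
    rw [hrhs, hS, hR, hB, hcard]
    generalize (∑' i, if i ∈ D' then (0 : ℝ) else a i) = S' at *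
    generalize (∑ σ ∈ D \ Dm, r σ) = R at *
    have hdn : (0 : ℝ) ≤ ((D \ Dm).card : ℝ) := Nat.cast_nonneg _
    generalize ((D \ Dm).card : ℝ) = d at *
    have hn : (0 : ℝ) ≤ ((D' \ D).card : ℝ) := Nat.cast_nonneg _
    generalize ((D' \ D).card : ℝ) = n at *
    by_cases hd : d = 0
    · rw [hR0 hd]
      ring
    · have hd' : d + n ≠ 0 := by
        have : 0 < d := lt_of_le_of_ne hdn (Ne.symm hd)
        positivity
      field_simp
      ring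
  · have hb' := hasSum_compl hb D
    have ha' := hasSum_compl ha D
    set c : ℝ := (1 / ((D \ Dm).card : ℝ)) * (∑ σ ∈ D \ Dm, r σ) with hc
    have hfun : (fun τ => if τ ∈ D then (0 : ℝ) else a τ * (r τ - c)) =
        fun τ => (if τ ∈ D then (0 : ℝ) else b τ) - c * (if τ ∈ D then (0 : ℝ) else a τ) := by
      funext τ
      by_cases hτ : τ ∈ D
      · simp [hτ]
      · simp only [hτ, if_false, ← hab]
        ring
    rw [hfun, (hb'.sub (ha'.mul_left c)).tsum_eq, ← tsum_compl ha, hc]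
    ring

theorem main' {ι : Type u} [DecidableEq ι]
    (θ : ι → ℚ) (h h' : ι → ℕ) (hle : ∀ i, h' i ≤ h i) (hfin : {i | θ i < 0}.Finite)
    (hsum : Summable (fun i => (θ i : ℝ) * (h i : ℝ))) (D D' : Finset ι)
    (hDm : hfin.toFinset ⊆ D) (hDD' : D ⊆ D') (_hsupp : ∀ i ∈ D', θ i ≠ 0) :
    (((∑ i ∈ D', (θ i : ℝ) * (h' i : ℝ)) + ((∑' i, if i ∈ D' then (0 : ℝ) else (θ i : ℝ) * (h i : ℝ)) / ((D' \ hfin.toFinset).card : ℝ)) * (∑ σ ∈ D' \ hfin.toFinset, ((h' σ : ℝ) / (h σ : ℝ)))) - ((∑ i ∈ D, (θ i : ℝ) * (h' i : ℝ)) + ((∑' i, if i ∈ D then (0 : ℝ) else (θ i : ℝ) * (h i : ℝ)) / ((D \ hfin.toFinset).card : ℝ)) * (∑ σ ∈ D \ hfin.toFinset, ((h' σ : ℝ) / (h σ : ℝ)))) =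
      ∑ τ ∈ D' \ D, ((θ τ : ℝ) * (h τ : ℝ) + (∑' i, if i ∈ D' then (0 : ℝ) else (θ i : ℝ) * (h i : ℝ)) / ((D' \ hfin.toFinset).card : ℝ)) *
        (((h' τ : ℝ) / (h τ : ℝ)) - (1 / ((D \ hfin.toFinset).card : ℝ)) * (∑ σ ∈ D \ hfin.toFinset, ((h' σ : ℝ) / (h σ : ℝ))))) ∧
    ((∑' i, (θ i : ℝ) * (h' i : ℝ)) - ((∑ i ∈ D, (θ i : ℝ) * (h' i : ℝ)) + ((∑' i, if i ∈ D then (0 : ℝ) else (θ i : ℝ) * (h i : ℝ)) / ((D \ hfin.toFinset).card : ℝ)) * (∑ σ ∈ D \ hfin.toFinset, ((h' σ : ℝ) / (h σ : ℝ)))) =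
      ∑' τ, if τ ∈ D then (0 : ℝ) else (θ τ : ℝ) * (h τ : ℝ) *
        (((h' τ : ℝ) / (h τ : ℝ)) - (1 / ((D \ hfin.toFinset).card : ℝ)) * (∑ σ ∈ D \ hfin.toFinset, ((h' σ : ℝ) / (h σ : ℝ))))) := by
  have hab : ∀ i, ((θ i : ℝ) * (h i : ℝ)) * ((h' i : ℝ) / (h i : ℝ)) = (θ i : ℝ) * (h' i : ℝ) := by
    intro i
    by_cases hi : (h i : ℝ) = 0
    · have h0 : h i = 0 := by exact_mod_cast hi
      have h1 : h' i = 0 := Nat.le_zero.mp (h0 ▸ hle i)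
      simp [h0, h1]
    · field_simp
  have hb : Summable (fun i => (θ i : ℝ) * (h' i : ℝ)) := by
    refine Summable.of_norm_bounded (g := fun i => ‖(θ i : ℝ) * (h i : ℝ)‖) hsum.norm (fun i => ?_)
    rw [norm_mul, norm_mul]
    apply mul_le_mul_of_nonneg_left _ (norm_nonneg _)
    rw [Real.norm_natCast, Real.norm_natCast]
    exact_mod_cast hle i
  exact main (fun i => (θ i : ℝ) * (h i : ℝ)) (fun i => (θ i : ℝ) * (h' i : ℝ))
    (fun i => (h' i : ℝ) / (h i : ℝ)) hab hsum hb hfin.toFinset D D' hDm hDD'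

end Groth.Agent.Lib.Helper83.ConstellSum
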