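import Mathlib

/-!
# F-nilpotent part of a V-reduced Cartier/Dieudonné module (helper83)

`main`: for a module `M` over `W(k)` with semilinear `F`, `V`, `FV = VF = p`, `V` injective,
`⋂ V^n M = 0`, `M/VM` finite: the `F`-nilpotent part is killed by one power of `F` and `F` is
injective on `M₁ = {x | ∀ n, ∃ m, V^m x ∈ F^n M}`.
-/

set_option autoImplicit false
universe u v

namespace Groth.Agent.Lib.Helper83.DieudNil

section
variable {p : ℕ} [Fact p.Prime] {k : Type u} [CommRing k] [CharP k p]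
  {M : Type v} [AddCommGroup M] [Module (WittVector p k) M]
  (F V : M →+ M)

theorem iter_F_smul
    (hF : ∀ (a : WittVector p k) (m : M), F (a • m) = WittVector.frobenius a • F m)
    (n : ℕ) (a : WittVector p k) (m : M) :
    (⇑F)^[n] (a • m) = (⇑(WittVector.frobenius (p := p) (R := k)))^[n] a • (⇑F)^[n] m := by
  induction n generalizing a m with
  | zero => rfl
  | succ n ih =>
    rw [Function.iterate_succ_apply, Function.iterate_succ_apply, Function.iterate_succ_apply,
      hF, ih]

theorem iter_add (G : M →+ M) (n : ℕ) (x y : M) :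
    (⇑G)^[n] (x + y) = (⇑G)^[n] x + (⇑G)^[n] y := by
  induction n generalizing x y with
  | zero => rfl
  | succ n ih =>
    rw [Function.iterate_succ_apply, Function.iterate_succ_apply, Function.iterate_succ_apply,
      map_add, ih]

theorem iter_zero (G : M →+ M) (n : ℕ) : (⇑G)^[n] (0 : M) = 0 := by
  induction n with
  | zero => rfl
  | succ n ih => rw [Function.iterate_succ_apply, map_zero, ih]

theorem iter_sub (G : M →+ M) (n : ℕ) (x y : M) :
    (⇑G)^[n] (x - y) = (⇑G)^[n] x - (⇑G)^[n] y := by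
  have := iter_add G n (x - y) y
  rw [sub_add_cancel] at this
  rw [this, add_sub_cancel_right]

theorem iter_comm (hc : ∀ m, F (V m) = V (F m)) (n : ℕ) (x : M) :
    (⇑F)^[n] (V x) = V ((⇑F)^[n] x) := by
  induction n generalizing x with
  | zero => rfl
  | succ n ih =>
    rw [Function.iterate_succ_apply, Function.iterate_succ_apply, hc, ih]

theorem iter_comm' (hc : ∀ m, F (V m) = V (F m)) (n : ℕ) (x : M) :
    F ((⇑V)^[n] x) = (⇑V)^[n] (F x) := by
  induction n generalizing x with
  | zero => rfl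
  | succ n ih =>
    rw [Function.iterate_succ_apply, Function.iterate_succ_apply, ih, hc]

/-- kernel of `F^c` as a submodule. -/
def kerPow (hF : ∀ (a : WittVector p k) (m : M), F (a • m) = WittVector.frobenius a • F m)
    (c : ℕ) : Submodule (WittVector p k) M where
  carrier := {x | (⇑F)^[c] x = 0}
  add_mem' := by
    intro x y hx hy
    simp only [Set.mem_setOf_eq] at hx hy ⊢
    rw [iter_add, hx, hy, add_zero]
  zero_mem' := iter_zero F c
  smul_mem' := by
    intro a x hx
    simp only [Set.mem_setOf_eq] at hx ⊢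
    rw [iter_F_smul F hF, hx, smul_zero]

theorem iter_mono_zero (G : M →+ M) {a b : ℕ} (hab : a ≤ b) {x : M} (h : (⇑G)^[a] x = 0) :
    (⇑G)^[b] x = 0 := by
  obtain ⟨d, rfl⟩ := Nat.exists_eq_add_of_le hab
  rw [add_comm, Function.iterate_add_apply, h, iter_zero]

/-- the `F`-nilpotent elements as a submodule. -/
def nilp (hF : ∀ (a : WittVector p k) (m : M), F (a • m) = WittVector.frobenius a • F m) :
    Submodule (WittVector p k) M where
  carrier := {x | ∃ n, (⇑F)^[n] x = 0}
  add_mem' := by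
    rintro x y ⟨a, hx⟩ ⟨b, hy⟩
    refine ⟨max a b, ?_⟩
    rw [iter_add, iter_mono_zero F (le_max_left a b) hx, iter_mono_zero F (le_max_right a b) hy,
      add_zero]
  zero_mem' := ⟨0, rfl⟩
  smul_mem' := by
    rintro a x ⟨n, hx⟩
    exact ⟨n, by rw [iter_F_smul F hF, hx, smul_zero]⟩

theorem span_range_V
    (hV : ∀ (a : WittVector p k) (m : M), V (WittVector.frobenius a • m) = a • V m)
    {x : M} (hx : x ∈ Submodule.span (WittVector p k) (Set.range V)) : ∃ y, V y = x := by
  induction hx using Submodule.span_induction with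
  | mem x hx => exact hx
  | zero => exact ⟨0, map_zero V⟩
  | add x y _ _ hx hy =>
    obtain ⟨a, rfl⟩ := hx
    obtain ⟨b, rfl⟩ := hy
    exact ⟨a + b, map_add V a b⟩
  | smul a x _ hx =>
    obtain ⟨b, rfl⟩ := hx
    exact ⟨WittVector.frobenius a • b, hV a b⟩

end

theorem main
    (p : ℕ) [Fact p.Prime] (k : Type u) [Field k] [CharP k p] [PerfectRing k p]
    (M : Type v) [AddCommGroup M] [Module (WittVector p k) M]
    (F V : M →+ M)
    (hF : ∀ (a : WittVector p k) (m : M), F (a • m) = WittVector.frobenius a • F m)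
    (hV : ∀ (a : WittVector p k) (m : M), V (WittVector.frobenius a • m) = a • V m)
    (hFV : ∀ m : M, F (V m) = (p : WittVector p k) • m)
    (hVF : ∀ m : M, V (F m) = (p : WittVector p k) • m)
    (hVinj : Function.Injective V)
    (hsep : ∀ x : M, (∀ n : ℕ, ∃ y : M, x = (⇑V)^[n] y) → x = 0)
    (hfin : Module.Finite (WittVector p k) (M ⧸ Submodule.span (WittVector p k) (Set.range V))) :
    (∃ c : ℕ, ∀ x : M, (∃ n : ℕ, (⇑F)^[n] x = 0) → (⇑F)^[c] x = 0) ∧
    (∀ x : M, (∀ n : ℕ, ∃ (m : ℕ) (y : M), (⇑V)^[m] x = (⇑F)^[n] y) → F x = 0 → x = 0) := by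
  classical
  have hc : ∀ m, F (V m) = V (F m) := fun m => by rw [hFV, hVF]
  set N := Submodule.span (WittVector p k) (Set.range V) with hN
  set π := N.mkQ with hπ
  -- the image of the nilpotent part in M/VM is finitely generated
  have hfg : ((nilp F hF).map π).FG := by
    haveI : IsNoetherian (WittVector p k) (M ⧸ N) := isNoetherian_of_isNoetherianRing_of_finite _ _
    exact IsNoetherian.noetherian _
  obtain ⟨S, hS⟩ := hfg
  -- choose lifts
  have hlift : ∀ s ∈ S, ∃ x : M, (∃ n, (⇑F)^[n] x = 0) ∧ π x = s := by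
    intro s hs
    have : s ∈ (nilp F hF).map π := by
      rw [← hS]; exact Submodule.subset_span hs
    obtain ⟨x, hx, hxs⟩ := this
    exact ⟨x, hx, hxs⟩
  choose! g hg1 hg2 using hlift
  choose! e he using hg1
  set c := S.sup e with hcdef
  have hkill : ∀ s ∈ S, g s ∈ kerPow F hF c := fun s hs =>
    iter_mono_zero F (Finset.le_sup hs) (he s hs)
  -- key step
  have hstep : ∀ x ∈ nilp F hF, ∃ y ∈ nilp F hF, (⇑F)^[c] x = V ((⇑F)^[c] y) := by
    intro x hx
    have h1 : π x ∈ Submodule.span (WittVector p k) (S : Set (M ⧸ N)) := by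
      rw [hS]; exact Submodule.mem_map_of_mem hx
    have h2 : Submodule.span (WittVector p k) (S : Set (M ⧸ N)) ≤
        (kerPow F hF c ⊓ nilp F hF).map π := by
      rw [Submodule.span_le]
      intro s hs
      exact ⟨g s, ⟨hkill s hs, ⟨e s, he s hs⟩⟩, hg2 s hs⟩
    obtain ⟨z, ⟨hz1, hz2⟩, hz⟩ := h2 h1
    have h3 : x - z ∈ N := by
      rw [← Submodule.Quotient.eq]; exact hz.symm
    obtain ⟨y, hy⟩ := span_range_V V hV h3
    have hy2 : y ∈ nilp F hF := by
      have : x - z ∈ nilp F hF := Submodule.sub_mem _ hx hz2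
      obtain ⟨n, hn⟩ := this
      refine ⟨n, hVinj ?_⟩
      rw [← iter_comm F V hc, hy, hn, map_zero]
    refine ⟨y, hy2, ?_⟩
    rw [← iter_comm F V hc, hy, iter_sub]
    have : (⇑F)^[c] z = 0 := hz1
    rw [this, sub_zero]
  have hiter : ∀ n : ℕ, ∀ x ∈ nilp F hF, ∃ y ∈ nilp F hF, (⇑F)^[c] x = (⇑V)^[n] ((⇑F)^[c] y) := by
    intro n
    induction n with
    | zero => intro x hx; exact ⟨x, hx, rfl⟩
    | succ n ih =>
      intro x hx
      obtain ⟨y, hy, hxy⟩ := ih x hx
      obtain ⟨w, hw, hyw⟩ := hstep y hy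
      refine ⟨w, hw, ?_⟩
      rw [hxy, hyw, Function.iterate_succ_apply]
  have hA : ∀ x : M, (∃ n : ℕ, (⇑F)^[n] x = 0) → (⇑F)^[c] x = 0 := by
    intro x hx
    apply hsep
    intro n
    obtain ⟨y, _, hy⟩ := hiter n x hx
    exact ⟨_, hy⟩
  refine ⟨⟨c, hA⟩, ?_⟩
  intro x hx hFx
  obtain ⟨m, y, hmy⟩ := hx c
  have hy : (⇑F)^[c] y = 0 := by
    apply hA
    refine ⟨c + 1, ?_⟩
    rw [Function.iterate_succ_apply', ← hmy, iter_comm' F V hc, hFx, iter_zero]
  rw [hy] at hmy
  have : Function.Injective (⇑V)^[m] := hVinj.iterate m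
  apply this
  rw [hmy, iter_zero]

end Groth.Agent.Lib.Helper83.DieudNil
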