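import Groth.Statements.S14859
import Mathlib.LinearAlgebra.Dimension.OrzechProperty

set_option autoImplicit false
universe u v w
open W4c1extbt610

namespace Groth.Agent.Lib.Helper83.DispBasis

variable {p : ℕ} [Fact p.Prime] {R : Type u} [CommRing R]

lemma mem_IV_iff (a : WittVector p R) :
    a ∈ IV p R ↔ ∃ w : WittVector p R, WittVector.verschiebung w = a := by
  constructor
  · intro h
    unfold IV at h
    induction h using Submodule.span_induction with
    | mem x hx => exact hx
    | zero => exact ⟨0, map_zero _⟩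
    | add x y _ _ hx hy =>
      obtain ⟨a, rfl⟩ := hx
      obtain ⟨b, rfl⟩ := hy
      exact ⟨a + b, map_add _ _ _⟩
    | smul c x _ hx =>
      obtain ⟨a, rfl⟩ := hx
      exact ⟨a * WittVector.frobenius c, by
        rw [WittVector.verschiebung_mul_frobenius, smul_eq_mul, mul_comm]⟩
  · rintro ⟨w, rfl⟩
    exact verschiebung_mem_IV p R w

theorem main (p : ℕ) [Fact p.Prime] (R : Type u) [CommRing R]
    (P : Type v) [AddCommGroup P] [Module (WittVector p R) P] (D : W4c1extbt610.Display3n p R P)
    (L T : Submodule (WittVector p R) P) (hLT : IsCompl L T)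
    (hQ : D.Q = L ⊔ W4c1extbt610.IV p R • T) (hLQ : L ≤ D.Q)
    (ιL ιT : Type w) (bL : Module.Basis ιL (WittVector p R) L) (bT : Module.Basis ιT (WittVector p R) T) :
    LinearIndependent (WittVector p R)
        (Sum.elim (fun i : ιL => D.Vinv ⟨(bL i : P), hLQ (bL i).2⟩) (fun j : ιT => D.F (bT j : P))) ∧
      Submodule.span (WittVector p R)
        (Set.range (Sum.elim (fun i : ιL => D.Vinv ⟨(bL i : P), hLQ (bL i).2⟩) (fun j : ιT => D.F (bT j : P)))) = ⊤ := by
  classical
  set fam : ιL ⊕ ιT → P :=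
    Sum.elim (fun i : ιL => D.Vinv ⟨(bL i : P), hLQ (bL i).2⟩) (fun j : ιT => D.F (bT j : P)) with hfam
  set S : Submodule (WittVector p R) P := Submodule.span (WittVector p R) (Set.range fam) with hS
  have hIVT : IV p R • T ≤ D.Q := by
    rw [hQ]; exact le_sup_right
  -- claim 1
  have h1 : ∀ (l : P) (hl : l ∈ L), D.Vinv ⟨l, hLQ hl⟩ ∈ S := by
    intro l hl
    have hmem : (⟨l, hl⟩ : L) ∈ Submodule.span (WittVector p R) (Set.range bL) := bL.mem_span _
    have key : ∀ x : L, x ∈ Submodule.span (WittVector p R) (Set.range bL) →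
        D.Vinv ⟨(x : P), hLQ x.2⟩ ∈ S := by
      intro x hx
      induction hx using Submodule.span_induction with
      | mem x hx =>
        obtain ⟨i, rfl⟩ := hx
        exact Submodule.subset_span ⟨Sum.inl i, rfl⟩
      | zero =>
        have : (⟨((0 : L) : P), hLQ (0 : L).2⟩ : D.Q) = 0 := rfl
        rw [this, map_zero]; exact S.zero_mem
      | add x y _ _ hx hy =>
        have : (⟨((x + y : L) : P), hLQ (x + y).2⟩ : D.Q) =
            ⟨(x : P), hLQ x.2⟩ + ⟨(y : P), hLQ y.2⟩ := rfl
        rw [this, map_add]; exact S.add_mem hx hy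
      | smul c x _ hx =>
        have : (⟨((c • x : L) : P), hLQ (c • x).2⟩ : D.Q) = c • ⟨(x : P), hLQ x.2⟩ := rfl
        rw [this, LinearMap.map_smulₛₗ]; exact S.smul_mem _ hx
    exact key ⟨l, hl⟩ hmem
  have h2 : ∀ (t : P) (ht : t ∈ T), D.F t ∈ S := by
    intro t ht
    have hmem : (⟨t, ht⟩ : T) ∈ Submodule.span (WittVector p R) (Set.range bT) := bT.mem_span _
    have key : ∀ x : T, x ∈ Submodule.span (WittVector p R) (Set.range bT) →
        D.F (x : P) ∈ S := by
      intro x hx
      induction hx using Submodule.span_induction with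
      | mem x hx =>
        obtain ⟨j, rfl⟩ := hx
        exact Submodule.subset_span ⟨Sum.inr j, rfl⟩
      | zero => simp
      | add x y _ _ hx hy =>
        rw [Submodule.coe_add, map_add]; exact S.add_mem hx hy
      | smul c x _ hx =>
        rw [Submodule.coe_smul, LinearMap.map_smulₛₗ]; exact S.smul_mem _ hx
    exact key ⟨t, ht⟩ hmem
  have h3 : ∀ (y : P) (hy : y ∈ IV p R • T), D.Vinv ⟨y, hIVT hy⟩ ∈ S := by
    intro y hy
    induction hy using Submodule.smul_induction_on' with
    | smul a ha t ht =>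
      obtain ⟨w, rfl⟩ := (mem_IV_iff a).1 ha
      have := D.Vinv_verschiebung_smul w t
      have e : (⟨WittVector.verschiebung w • t, hIVT (Submodule.smul_mem_smul ha ht)⟩ : D.Q) =
          ⟨WittVector.verschiebung w • t,
            D.IV_smul_le (Submodule.smul_mem_smul (verschiebung_mem_IV p R w) Submodule.mem_top)⟩ := rfl
      rw [e, this]
      exact S.smul_mem _ (h2 t ht)
    | add x hx y hy ihx ihy =>
      have : (⟨x + y, hIVT (add_mem hx hy)⟩ : D.Q) = ⟨x, hIVT hx⟩ + ⟨y, hIVT hy⟩ := rfl
      rw [this, map_add]; exact S.add_mem ihx ihy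
  have hspan : S = ⊤ := by
    rw [eq_top_iff, ← D.span_range_Vinv, Submodule.span_le]
    rintro _ ⟨q, rfl⟩
    have hq : (q : P) ∈ L ⊔ IV p R • T := hQ ▸ q.2
    obtain ⟨l, hl, y, hy, hly⟩ := Submodule.mem_sup.1 hq
    have : q = ⟨l, hLQ hl⟩ + ⟨y, hIVT hy⟩ := Subtype.ext hly.symm
    rw [this, map_add]
    exact S.add_mem (h1 l hl) (h3 y hy)
  refine ⟨?_, hspan⟩
  rcases subsingleton_or_nontrivial (WittVector p R) with hsub | hnt
  · exact linearIndependent_of_subsingleton
  · have := D.finite
    let b : Module.Basis (ιL ⊕ ιT) (WittVector p R) P :=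
      (bL.prod bT).map (Submodule.prodEquivOfIsCompl L T hLT)
    have : Finite (ιL ⊕ ιT) := Module.Finite.finite_basis b
    have : Fintype (ιL ⊕ ιT) := Fintype.ofFinite _
    exact linearIndependent_of_top_le_span_of_card_eq_finrank hspan.ge
      (Module.finrank_eq_card_basis b).symm

end Groth.Agent.Lib.Helper83.DispBasis
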