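import Groth.Agent.Lib.Helper83.Cl6B
set_option autoImplicit false

namespace Groth.Agent.Lib.Helper83.Dk

open CliffordAlgebra Groth.Agent.Lib.Helper83.Cl2 Groth.Agent.Lib.Helper83.Cl5
  Groth.Agent.Lib.Helper83.Cl6 Groth.Agent.Lib.Helper75.OrthSplit

universe u v
variable {R : Type u} [CommRing R]

/-- Dickson generator package: `ζ` even, `v ζ = (1-ζ) v`, `ζ² = ζ - c` with `1 - 4c` a unit. -/
def Zeta {N : Type v} [AddCommGroup N] [Module R N] (q : QuadraticForm R N)
    (ζ : CliffordAlgebra q) : Prop :=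
  ζ ∈ evenOdd q 0 ∧ (∀ v, ι q v * ζ = (1 - ζ) * ι q v) ∧
    ∃ c : R, ζ * ζ = ζ - algebraMap R _ c ∧ IsUnit (1 - 4 * c)

variable {M : Type v} [AddCommGroup M] [Module R M] [Module.Free R M] [Module.Finite R M]
  (Q : QuadraticForm R M)

omit [Module.Finite R M] in
/-- the scalars embed. -/
theorem algebraMap_inj : Function.Injective (algebraMap R (CliffordAlgebra Q)) := by
  obtain ⟨B₀, hB₀⟩ := LinearMap.BilinMap.toQuadraticMap_surjective Q
  have h : LinearMap.BilinMap.toQuadraticMap (-B₀) = (0 : QuadraticForm R M) - Q := by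
    rw [zero_sub, ← hB₀]; ext v; simp
  exact Cl3.algebraMap_injective_of_changeForm h

/-- even elements commuting with all vectors are scalars (polar form surjective). -/
theorem even_comm_scalar (hQ : Function.Surjective (QuadraticMap.polarBilin Q))
    (x : CliffordAlgebra Q) (hx : x ∈ evenOdd Q 0) (hc : ∀ v, ι Q v * x = x * ι Q v) :
    ∃ a : R, x = algebraMap R _ a := by
  obtain ⟨B₀, hB₀⟩ := LinearMap.BilinMap.toQuadraticMap_surjective Q
  have h : LinearMap.BilinMap.toQuadraticMap (-B₀) = (0 : QuadraticForm R M) - Q := by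
    rw [zero_sub, ← hB₀]; ext v; simp
  exact Cl4.even_central_eq_algebraMap
    ((Module.Free.chooseBasis R M).reindex (Fintype.equivFin _)) h hQ x hx hc

/-- even elements anticommuting with all vectors are multiples of a fixed such `z` with unit
square. -/
theorem eq_smul_of_even_anticomm (hQ : Function.Surjective (QuadraticMap.polarBilin Q))
    (z : CliffordAlgebra Q) (hz : z ∈ evenOdd Q 0) (hza : ∀ v, ι Q v * z = -(z * ι Q v))
    (r : Rˣ) (hr : z * z = algebraMap R _ (r : R))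
    (d : CliffordAlgebra Q) (hd : d ∈ evenOdd Q 0) (hda : ∀ v, ι Q v * d = -(d * ι Q v)) :
    ∃ κ : R, d = κ • z := by
  have hdz : d * z ∈ evenOdd Q 0 := by
    have := SetLike.mul_mem_graded hd hz
    rwa [add_zero] at this
  have hdzc : ∀ v, ι Q v * (d * z) = d * z * ι Q v := by
    intro v
    rw [← mul_assoc, hda v, neg_mul, mul_assoc, hza v, mul_neg, neg_neg, mul_assoc]
  obtain ⟨a, ha⟩ := even_comm_scalar Q hQ (d * z) hdz hdzc
  refine ⟨a * ((r⁻¹ : Rˣ) : R), ?_⟩
  calc d = d * (algebraMap R _ (r : R) * algebraMap R _ ((r⁻¹ : Rˣ) : R)) := by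
        rw [← map_mul, Units.mul_inv, map_one, mul_one]
    _ = d * z * z * algebraMap R _ ((r⁻¹ : Rˣ) : R) := by
        rw [← hr]; simp only [mul_assoc]
    _ = algebraMap R _ a * z * algebraMap R _ ((r⁻¹ : Rˣ) : R) := by rw [ha]
    _ = (a * ((r⁻¹ : Rˣ) : R)) • z := by
        rw [mul_assoc, (Algebra.commutes ((r⁻¹ : Rˣ) : R) z).symm, ← mul_assoc, ← map_mul,
          Algebra.smul_def]

omit [Module.Free R M] [Module.Finite R M] in
/-- `z = 1 - 2ζ` : even, anticommutes with vectors, unit square `1 - 4c`. -/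
theorem zeta_z {ζ : CliffordAlgebra Q} (hζ : Zeta Q ζ) :
    (1 - (ζ + ζ)) ∈ evenOdd Q 0 ∧ (∀ v, ι Q v * (1 - (ζ + ζ)) = -((1 - (ζ + ζ)) * ι Q v)) ∧
    ∃ r : Rˣ, (1 - (ζ + ζ)) * (1 - (ζ + ζ)) = algebraMap R _ (r : R) := by
  obtain ⟨he, hv, c, hc, hu⟩ := hζ
  refine ⟨Submodule.sub_mem _ (SetLike.one_mem_graded _) (Submodule.add_mem _ he he), ?_, hu.unit, ?_⟩
  · intro v
    rw [mul_sub, mul_add, hv v, mul_one, sub_mul, sub_mul, add_mul, one_mul]
    abel
  · have : (1 - (ζ + ζ)) * (1 - (ζ + ζ)) = 1 - (4 : R) • (ζ - ζ * ζ) := by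
      rw [show (4 : R) = 1 + 1 + 1 + 1 by norm_num]
      simp only [add_smul, one_smul, mul_sub, sub_mul, mul_add, add_mul, mul_one, one_mul]
      abel
    rw [this, hc, sub_sub_cancel, Algebra.smul_def, ← map_mul,
      ← map_one (algebraMap R (CliffordAlgebra Q)), ← map_sub]
    rfl

end Groth.Agent.Lib.Helper83.Dk
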