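import Groth.Agent.Lib.Helper83.Dk0
import Groth.Agent.Lib.Helper13.Dickson1
import Groth.Agent.Lib.Helper95.Dickson2
import Groth.Agent.Lib.Helper51.Dickson5
import Groth.Agent.Lib.Helper71.Dickson6
import Groth.Agent.Lib.Helper16.Dickson7
import Groth.Agent.Lib.Helper13.Dickson8
set_option autoImplicit false

namespace Groth.Agent.Lib.Helper83.Dk

open CliffordAlgebra Groth.Agent.Lib.Helper83.Cl2 Groth.Agent.Lib.Helper83.Cl5
  Groth.Agent.Lib.Helper83.Cl6 Groth.Agent.Lib.Helper75.OrthSplit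
open Groth.Agent.Lib.Helper13.Dickson1 Groth.Agent.Lib.Helper95.Dickson2 Groth.Agent.Lib.Helper51.Dickson5
  Groth.Agent.Lib.Helper71.Dickson6 Groth.Agent.Lib.Helper16.Dickson7 Groth.Agent.Lib.Helper13.Dickson8

universe u v
variable {R : Type u} [CommRing R]

theorem exists_unit_value [IsLocalRing R] {N : Type v} [AddCommGroup N] [Module R N]
    [Module.Free R N] [Module.Finite R N] [Nontrivial N] (q : QuadraticForm R N)
    (hq : Function.Surjective (QuadraticMap.polarBilin q)) : ∃ e₀, IsUnit (q e₀) := by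
  let b := Module.Free.chooseBasis R N
  obtain ⟨i₀⟩ : Nonempty (Module.Free.ChooseBasisIndex R N) := b.index_nonempty
  obtain ⟨x, hx⟩ := hq (b.coord i₀)
  have hx1 : QuadraticMap.polar q x (b i₀) = 1 := by
    have := LinearMap.congr_fun hx (b i₀)
    simpa using this
  by_contra hcon
  push Not at hcon
  have hm : ∀ v, q v ∈ IsLocalRing.maximalIdeal R :=
    fun v => (IsLocalRing.mem_maximalIdeal _).mpr (hcon v)
  have : QuadraticMap.polar q x (b i₀) ∈ IsLocalRing.maximalIdeal R := by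
    unfold QuadraticMap.polar
    exact Ideal.sub_mem _ (Ideal.sub_mem _ (hm _) (hm _)) (hm _)
  rw [hx1] at this
  exact (Ideal.ne_top_iff_one _).mp (IsLocalRing.maximalIdeal.isMaximal R).ne_top this

theorem exists_zeta_of_two_nonunit [IsLocalRing R] (h2 : ¬ IsUnit (2 : R)) :
    ∀ (n : ℕ) (N : Type v) [AddCommGroup N] [Module R N]
    [Module.Free R N] [Module.Finite R N] (q : QuadraticForm R N), Module.finrank R N = n →
    Function.Bijective (QuadraticMap.polarBilin q) → ∃ ζ, Zeta q ζ := by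
  intro n
  induction n using Nat.strong_induction_on with
  | _ n ih =>
    intro N _ _ _ _ q hn hq
    rcases Nat.eq_zero_or_pos n with h0 | hpos
    · subst h0
      have hsub : Subsingleton N := (Module.finrank_eq_zero_iff_of_free R N).mp hn
      refine ⟨0, Submodule.zero_mem _, ?_, 0, by simp, by simp⟩
      intro v
      rw [Subsingleton.elim v 0, map_zero, zero_mul, mul_zero]
    · have hnt : Nontrivial N := (Module.finrank_pos_iff_of_free R N).mp (hn ▸ hpos)
      let b := Module.Free.chooseBasis R N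
      obtain ⟨i₀⟩ : Nonempty (Module.Free.ChooseBasisIndex R N) := b.index_nonempty
      obtain ⟨x, hx⟩ := hq.2 (b.coord i₀)
      have hx1 : QuadraticMap.polar q x (b i₀) = 1 := by
        have := LinearMap.congr_fun hx (b i₀)
        simpa using this
      have h2' : (2 : R) ∈ IsLocalRing.maximalIdeal R := (IsLocalRing.mem_maximalIdeal _).mpr h2
      have hG : IsUnit (Matrix.det (Matrix.of fun i j : Fin 2 =>
          QuadraticMap.polar q ((![x, b i₀] : Fin 2 → N) i) ((![x, b i₀] : Fin 2 → N) j))) := by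
        rw [Matrix.det_fin_two]
        simp only [Matrix.of_apply, Matrix.cons_val_zero, Matrix.cons_val_one]
        rw [QuadraticMap.polar_self, QuadraticMap.polar_self, QuadraticMap.polar_comm q (b i₀) x, hx1]
        have : (2 • q x) * (2 • q (b i₀)) - 1 * 1 = -(1 - 2 * (2 * q x * q (b i₀))) := by
          simp only [nsmul_eq_mul]; push_cast; ring
        rw [this]
        apply IsUnit.neg
        apply IsLocalRing.isUnit_one_sub_self_of_mem_nonunits
        exact (IsLocalRing.mem_maximalIdeal _).mp (Ideal.mul_mem_right _ _ h2')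
      obtain ⟨hfree, hfin, hrank⟩ := free_finite_perp q ![x, b i₀] hG
      have hlt : Module.finrank R ↥(perp q ![x, b i₀]) < n := by omega
      obtain ⟨ζ', hζ'⟩ := ih _ hlt ↥(perp q ![x, b i₀])
        (q.comp (perp q ![x, b i₀]).subtype) rfl (polarBilin_perp_bijective q ![x, b i₀] hG hq)
      exact zeta_plane q x (b i₀) hx1 hG ζ' hζ'

theorem exists_zeta [IsLocalRing R] {M : Type v} [AddCommGroup M] [Module R M]
    [Module.Free R M] [Module.Finite R M] (m : ℕ) (Q : QuadraticForm R M)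
    (hM : Module.finrank R M = 2 * m) (hQ : Function.Bijective (QuadraticMap.polarBilin Q)) :
    ∃ ζ, Zeta Q ζ := by
  by_cases h2 : IsUnit (2 : R)
  · obtain ⟨z, hpar, hSA, ⟨r, hr⟩, _⟩ := exists_SA' (2 * m) M Q hM hQ
    have hz : z ∈ evenOdd Q 0 := by
      rwa [(ZMod.natCast_eq_zero_iff_even).mpr ⟨m, by ring⟩] at hpar
    exact zeta_of_two_unit Q h2 z hz (fun v => by rw [hSA v, involute_eq_of_mem_even hz]) r hr
  · exact exists_zeta_of_two_nonunit h2 (2 * m) M Q hM hQ

theorem main_S17007 [IsLocalRing R] {M : Type v} [AddCommGroup M] [Module R M]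
    [Module.Free R M] [Module.Finite R M]
    (m : ℕ) (hm : 1 ≤ m) (hM : Module.finrank R M = 2 * m) (Q : QuadraticForm R M)
    (hQ : QuadGrp.IsRegular Q) :
    ((QuadGrp.SOeven Q).subgroupOf (QuadGrp.O Q)).index = 2 := by
  have hnt : Nontrivial M := (Module.finrank_pos_iff_of_free R M).mp (by omega)
  obtain ⟨ζ, hζ⟩ := exists_zeta m Q hM hQ
  obtain ⟨v₀, hv₀⟩ := exists_unit_value Q hQ.2
  have hstruct := fun x hx hc => center_even_structure Q hQ.2 ζ hζ v₀ hv₀ x hx hc
  have hD : ∀ g (hg : g ∈ QuadGrp.O Q), g ∈ QuadGrp.SOeven Q ↔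
      CliffordAlgebra.map (QuadGrp.isometryOfMem Q g hg) ζ = ζ := by
    intro g hg
    constructor
    · rintro ⟨hg', hd⟩
      exact (dickson_iff Q ζ hζ hstruct g hg').mp hd
    · intro h
      exact ⟨hg, (dickson_iff Q ζ hζ hstruct g hg).mpr h⟩
  obtain ⟨g₀, hg₀, hrefl⟩ := exists_reflection Q v₀ hv₀
  obtain ⟨hζe, hζv, c, hζc, hu⟩ := hζ
  have hss : ι Q v₀ * ι Q v₀ = algebraMap R _ (Q v₀) := ι_sq_scalar Q v₀
  have hg₀ζ : CliffordAlgebra.map (QuadGrp.isometryOfMem Q g₀ hg₀) ζ = 1 - ζ := by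
    have h1 := hrefl ζ hζe
    rw [hζv v₀] at h1
    have h2 := congrArg (fun t => t * (ι Q v₀ * algebraMap R _ ((hv₀.unit⁻¹ : Rˣ) : R))) h1
    simp only [mul_assoc] at h2
    rw [← mul_assoc (ι Q v₀), hss, ← map_mul] at h2
    have : Q v₀ * ((hv₀.unit⁻¹ : Rˣ) : R) = 1 := hv₀.mul_val_inv
    rw [this, map_one, mul_one, mul_one] at h2
    exact h2
  obtain ⟨hze, hza, rr, hrr⟩ := zeta_z Q ⟨hζe, hζv, c, hζc, hu⟩
  have hne : (1 : CliffordAlgebra Q) - ζ ≠ ζ := by
    intro h
    have hz0 : (1 : CliffordAlgebra Q) - (ζ + ζ) = 0 := by rw [← sub_sub, h, sub_self]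
    rw [hz0, zero_mul] at hrr
    have : (rr : R) = 0 := algebraMap_inj Q (by rw [map_zero]; exact hrr.symm)
    exact rr.ne_zero this
  change (QuadGrp.SOeven Q).relIndex (QuadGrp.O Q) = 2
  rw [Subgroup.relIndex_eq_two_iff]
  refine ⟨g₀, hg₀, fun g hg => ?_⟩
  have hmul : CliffordAlgebra.map (QuadGrp.isometryOfMem Q (g * g₀) (mul_mem hg hg₀)) ζ
      = CliffordAlgebra.map (QuadGrp.isometryOfMem Q g hg)
        (CliffordAlgebra.map (QuadGrp.isometryOfMem Q g₀ hg₀) ζ) := by
    have : CliffordAlgebra.map (QuadGrp.isometryOfMem Q (g * g₀) (mul_mem hg hg₀)) =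
        (CliffordAlgebra.map (QuadGrp.isometryOfMem Q g hg)).comp
          (CliffordAlgebra.map (QuadGrp.isometryOfMem Q g₀ hg₀)) := by
      apply CliffordAlgebra.hom_ext; ext m; simp [QuadGrp.isometryOfMem]
    rw [this, AlgHom.comp_apply]
  rw [hD (g * g₀) (mul_mem hg hg₀), hD g hg, hmul, hg₀ζ, map_sub, map_one]
  rcases map_zeta_cases Q hQ.2 ζ ⟨hζe, hζv, c, hζc, hu⟩ g hg with h | h
  · rw [h]
    exact Or.inr ⟨rfl, hne⟩
  · rw [h]
    exact Or.inl ⟨by abel, hne⟩

end Groth.Agent.Lib.Helper83.Dk
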