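import Mathlib
import Groth.Agent.S19092

set_option autoImplicit false
set_option linter.unusedSectionVars false
universe u

namespace Groth.Agent.Lib.Helper83.FFinite

/-- Frobenius-span of a finite family. -/
def FrobSpan (p : ℕ) {B : Type*} [CommRing B] {ι : Type*} [Fintype ι] (v : ι → B) : Set B :=
  {b | ∃ c : ι → B, b = ∑ i, c i ^ p * v i}

section
variable (p : ℕ) [Fact p.Prime] {B : Type*} [CommRing B] [CharP B p] {ι : Type*} [Fintype ι]
  (v : ι → B)

theorem FrobSpan.zero_mem : (0 : B) ∈ FrobSpan p v :=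
  ⟨fun _ => 0, by simp [(Fact.out : p.Prime).ne_zero]⟩

theorem FrobSpan.add_mem {a b : B} (ha : a ∈ FrobSpan p v) (hb : b ∈ FrobSpan p v) :
    a + b ∈ FrobSpan p v := by
  obtain ⟨c, rfl⟩ := ha
  obtain ⟨d, rfl⟩ := hb
  refine ⟨fun i => c i + d i, ?_⟩
  rw [← Finset.sum_add_distrib]
  refine Finset.sum_congr rfl fun i _ => ?_
  rw [add_pow_char (c i) (d i)]
  ring

theorem FrobSpan.pow_mul_mem (a : B) {b : B} (hb : b ∈ FrobSpan p v) :
    a ^ p * b ∈ FrobSpan p v := by
  obtain ⟨d, rfl⟩ := hb
  refine ⟨fun i => a * d i, ?_⟩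
  rw [Finset.mul_sum]
  refine Finset.sum_congr rfl fun i _ => ?_
  ring

theorem FrobSpan.gen_mem (i : ι) : v i ∈ FrobSpan p v := by
  classical
  refine ⟨fun j => if j = i then 1 else 0, ?_⟩
  rw [Finset.sum_eq_single i]
  · simp
  · intro j _ hj
    simp [hj, (Fact.out : p.Prime).ne_zero]
  · simp

theorem FrobSpan.sum_mem {κ : Type*} (s : Finset κ) (f : κ → B)
    (h : ∀ k ∈ s, f k ∈ FrobSpan p v) : ∑ k ∈ s, f k ∈ FrobSpan p v := by
  classical
  induction s using Finset.induction_on with
  | empty => rw [Finset.sum_empty]; exact FrobSpan.zero_mem p v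
  | insert a s ha ih =>
    rw [Finset.sum_insert ha]
    exact FrobSpan.add_mem p v (h a (Finset.mem_insert_self _ _))
      (ih fun k hk => h k (Finset.mem_insert_of_mem hk))

theorem finite_of_frobSpan (h : ∀ b : B, b ∈ FrobSpan p v) : (frobenius B p).Finite := by
  classical
  let alg : Algebra B B := (frobenius B p).toAlgebra
  change @Module.Finite B B _ _ alg.toModule
  refine @Module.Finite.of_fg_top B B _ _ alg.toModule ⟨Finset.univ.image v, ?_⟩
  rw [eq_top_iff]
  intro b _
  obtain ⟨c, rfl⟩ := h b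
  refine Submodule.sum_mem _ fun i _ => ?_
  have h1 : c i ^ p * v i = @HSMul.hSMul B B B (@instHSMul B B alg.toSMul) (c i) (v i) := rfl
  rw [h1]
  exact Submodule.smul_mem _ (c i)
    (@Submodule.subset_span B B _ _ alg.toModule _ (v i) (by simp))

end

section MvPoly

open MvPolynomial

variable (p : ℕ) [Fact p.Prime] {S : Type*} [CommRing S] [CharP S p] {σ : Type*} [Fintype σ]
  [DecidableEq σ] {ι : Type*} [Fintype ι] (v : ι → S)

/-- generators of the polynomial ring -/
noncomputable def mvGen (x : ι × (σ → Fin p)) : MvPolynomial σ S :=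
  C (v x.1) * ∏ j, X j ^ ((x.2 j : Fin p) : ℕ)

theorem mvGen_mul_X_mem (x : ι × (σ → Fin p)) (j : σ) :
    mvGen p v x * X j ∈ FrobSpan p (mvGen (σ := σ) p v) := by
  obtain ⟨i, d⟩ := x
  have hp : p.Prime := Fact.out
  set P : MvPolynomial σ S := ∏ l ∈ Finset.univ.erase j, X l ^ ((d l : Fin p) : ℕ) with hP
  have hprod : ∀ d' : σ → Fin p, (∀ l, l ≠ j → d' l = d l) →
      (∏ l, (X l : MvPolynomial σ S) ^ ((d' l : Fin p) : ℕ)) = X j ^ ((d' j : Fin p) : ℕ) * P := by
    intro d' hd'
    rw [← Finset.mul_prod_erase _ _ (Finset.mem_univ j), hP]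
    congr 1
    refine Finset.prod_congr rfl fun l hl => ?_
    rw [hd' l (Finset.ne_of_mem_erase hl)]
  by_cases hlt : ((d j : Fin p) : ℕ) + 1 < p
  · let d' : σ → Fin p := Function.update d j ⟨(d j : ℕ) + 1, hlt⟩
    have h1 : mvGen p v (i, d) * X j = mvGen p v (i, d') := by
      unfold mvGen
      simp only
      rw [hprod d (fun _ _ => rfl), hprod d' (fun l hl => Function.update_of_ne hl _ _)]
      simp only [d', Function.update_self]
      rw [pow_succ]
      ring
    rw [h1]
    exact FrobSpan.gen_mem p _ _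
  · have hp0 : 0 < p := hp.pos
    let d' : σ → Fin p := Function.update d j ⟨0, hp0⟩
    have hdj : ((d j : Fin p) : ℕ) + 1 = p := by
      have := (d j).2
      omega
    have h1 : mvGen p v (i, d) * X j = (X j) ^ p * mvGen p v (i, d') := by
      unfold mvGen
      simp only
      rw [hprod d (fun _ _ => rfl), hprod d' (fun l hl => Function.update_of_ne hl _ _)]
      simp only [d', Function.update_self]
      rw [pow_zero, one_mul]
      conv_rhs => rw [← hdj, pow_succ]
      ring
    rw [h1]
    exact FrobSpan.pow_mul_mem p _ _ (FrobSpan.gen_mem p _ _)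

theorem mvPolynomial_frobSpan (hv : ∀ b : S, b ∈ FrobSpan p v) (f : MvPolynomial σ S) :
    f ∈ FrobSpan p (mvGen (σ := σ) p v) := by
  have hp : p.Prime := Fact.out
  induction f using MvPolynomial.induction_on with
  | C a =>
    obtain ⟨c, rfl⟩ := hv a
    rw [map_sum]
    refine FrobSpan.sum_mem p _ _ _ fun i _ => ?_
    rw [map_mul, map_pow]
    refine FrobSpan.pow_mul_mem p _ _ ?_
    have : (C (v i) : MvPolynomial σ S) = mvGen p v (i, fun _ => ⟨0, hp.pos⟩) := by
      unfold mvGen
      simp
    rw [this]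
    exact FrobSpan.gen_mem p _ _
  | add f g hf hg => exact FrobSpan.add_mem p _ hf hg
  | mul_X f j hf =>
    obtain ⟨c, rfl⟩ := hf
    rw [Finset.sum_mul]
    refine FrobSpan.sum_mem p _ _ _ fun x _ => ?_
    rw [mul_assoc]
    exact FrobSpan.pow_mul_mem p _ _ (mvGen_mul_X_mem p v x j)

end MvPoly

section PS

open PowerSeries

variable (p : ℕ) [Fact p.Prime] (k : Type*) [Field k] [CharP k p] [PerfectRing k p]

theorem coeff_pow_char (g : PowerSeries k) (N : ℕ) :
    coeff N (g ^ p) = if p ∣ N then (coeff (N / p) g) ^ p else 0 := by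
  have hp : p.Prime := Fact.out
  have h1 : g ^ p = (g.expand p hp.ne_zero).map (frobenius k p) :=
    (MvPowerSeries.map_frobenius_expand p hp.ne_zero (f := g)).symm
  rw [h1, PowerSeries.coeff_map, PowerSeries.coeff_expand]
  split_ifs
  · rw [frobenius_def]
  · rw [map_zero]

theorem powerSeries_frobSpan (f : PowerSeries k) :
    f ∈ FrobSpan p (fun j : Fin p => (X : PowerSeries k) ^ (j : ℕ)) := by
  have hp : p.Prime := Fact.out
  let g : Fin p → PowerSeries k := fun j =>
    PowerSeries.mk fun m => (frobeniusEquiv k p).symm (coeff (m * p + j) f)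
  refine ⟨g, ?_⟩
  ext n
  rw [map_sum]
  have hn : n % p < p := Nat.mod_lt _ hp.pos
  rw [Finset.sum_eq_single (⟨n % p, hn⟩ : Fin p)]
  · rw [PowerSeries.coeff_mul_X_pow', if_pos (Nat.mod_le n p), coeff_pow_char]
    have hdvd : p ∣ n - n % p := Nat.dvd_sub_mod n
    rw [if_pos hdvd]
    simp only [g, PowerSeries.coeff_mk]
    have h2 : (n - n % p) / p * p + n % p = n := by
      rw [Nat.div_mul_cancel hdvd]
      exact Nat.sub_add_cancel (Nat.mod_le n p)
    rw [h2, ← frobenius_def, frobenius_apply_frobeniusEquiv_symm]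
  · intro j _ hj
    rw [PowerSeries.coeff_mul_X_pow']
    split_ifs with hjn
    · rw [coeff_pow_char, if_neg]
      intro hdvd
      apply hj
      apply Fin.ext
      have h3 : n % p = (j : ℕ) % p := by
        have := (Nat.modEq_iff_dvd' hjn).mpr hdvd
        exact this.symm
      rw [Nat.mod_eq_of_lt j.2] at h3
      exact h3.symm
    · rfl
  · intro h
    exact absurd (Finset.mem_univ _) h

end PS

theorem finite_of_surjective (p : ℕ) [Fact p.Prime] {B A : Type*} [CommRing B] [CommRing A]
    [CharP B p] [CharP A p] (φ : B →+* A) (hφ : Function.Surjective φ)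
    (hB : (frobenius B p).Finite) : (frobenius A p).Finite := by
  have hcomm : (frobenius A p).comp φ = φ.comp (frobenius B p) := by
    ext x
    simp [frobenius_def]
  have h1 : (φ.comp (frobenius B p)).Finite :=
    RingHom.Finite.comp (RingHom.Finite.of_surjective _ hφ) hB
  rw [← hcomm] at h1
  exact RingHom.Finite.of_comp_finite h1

theorem main (p : ℕ) [Fact p.Prime]
    (k : Type u) [Field k] [Finite k] [CharP k p]
    (A : Type u) [CommRing A] [Algebra (PowerSeries k) A] [Algebra.FiniteType (PowerSeries k) A]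
    (P : Ideal A) [P.IsPrime] [CharP (Localization.AtPrime P) p] :
    (frobenius (Localization.AtPrime P) p).Finite := by
  classical
  have hnt : Nontrivial A := ⟨⟨0, 1, fun h => (‹P.IsPrime›.ne_top)
    ((Ideal.eq_top_iff_one P).mpr (h ▸ P.zero_mem))⟩⟩
  have hPS : CharP (PowerSeries k) p :=
    charP_of_injective_ringHom (f := (PowerSeries.C : k →+* PowerSeries k))
      PowerSeries.C_injective p
  have hA : CharP A p :=
    charP_of_injective_ringHom
      (f := (algebraMap (PowerSeries k) A).comp (PowerSeries.C : k →+* PowerSeries k))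
      (RingHom.injective _) p
  obtain ⟨n, φ, hφ⟩ := Algebra.FiniteType.iff_quotient_mvPolynomial''.mp
    (inferInstance : Algebra.FiniteType (PowerSeries k) A)
  have hMv : (frobenius (MvPolynomial (Fin n) (PowerSeries k)) p).Finite :=
    finite_of_frobSpan p _ (mvPolynomial_frobSpan p _ (powerSeries_frobSpan p k))
  have hAfin : (frobenius A p).Finite :=
    finite_of_surjective p (φ : MvPolynomial (Fin n) (PowerSeries k) →+* A) hφ hMv
  exact (Groth.Agent.S19092.result p A hAfin).2 P.primeCompl (Localization.AtPrime P)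

end Groth.Agent.Lib.Helper83.FFinite
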