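import Mathlib

/-!
# Subgroup separability in f.g. abelian groups via the profinite completion (helper83)

`exists_finite_hom`: f.g. commutative groups are residually finite (explicit finite quotient).
`map_etaFn`: naturality of `ProfiniteCompletion.etaFn`. `map_component_eq_one`. `main`.
-/
set_option autoImplicit false
universe u

namespace Groth.Agent.Lib.Helper83.FGSep

open CategoryTheory ProfiniteGrp ProfiniteCompletion

/-- a nontrivial element of `Multiplicative ℤ` survives in a finite cyclic quotient. -/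
theorem exists_hom_int (z : Multiplicative ℤ) (hz : z ≠ 1) :
    ∃ (N : ℕ) (_ : NeZero N) (f : Multiplicative ℤ →* Multiplicative (ZMod N)), f z ≠ 1 := by
  set n : ℤ := Multiplicative.toAdd z with hn
  have hn0 : n ≠ 0 := fun h => hz (by rw [← ofAdd_toAdd z, ← hn, h]; rfl)
  refine ⟨n.natAbs + 1, ⟨Nat.succ_ne_zero _⟩,
    AddMonoidHom.toMultiplicative (Int.castAddHom (ZMod (n.natAbs + 1))), ?_⟩
  intro h
  have h1 : ((n : ℤ) : ZMod (n.natAbs + 1)) = 0 := by
    have := congrArg Multiplicative.toAdd h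
    simpa using this
  rw [ZMod.intCast_zmod_eq_zero_iff_dvd] at h1
  have h2 : ((n.natAbs + 1 : ℕ) : ℤ) ∣ (n.natAbs : ℤ) := (Int.dvd_natAbs).2 h1
  have h3 := Int.le_of_dvd (by exact_mod_cast Int.natAbs_pos.2 hn0) h2
  push_cast at h3
  omega

theorem exists_finite_hom (G : Type u) [CommGroup G] [Group.FG G] (g : G) (hg : g ≠ 1) :
    ∃ (H : Type) (_ : Group H) (_ : Finite H) (f : G →* H), f g ≠ 1 := by
  obtain ⟨ι, j, _, _, p, hp, e, ⟨φ⟩⟩ := CommGroup.equiv_free_prod_prod_multiplicative_zmod G
  haveI : ∀ i, NeZero (p i ^ e i) := fun i => ⟨pow_ne_zero _ (hp i).ne_zero⟩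
  have hφg : φ g ≠ 1 := fun h => hg (by simpa using h)
  by_cases h1 : (φ g).1 = 1
  · refine ⟨(i : ι) → Multiplicative (ZMod (p i ^ e i)), inferInstance, inferInstance,
      (MonoidHom.snd _ _).comp φ.toMonoidHom, ?_⟩
    intro h2
    exact hφg (Prod.ext h1 h2)
  · obtain ⟨a, ha⟩ : ∃ a, (φ g).1 a ≠ 1 := by
      by_contra hcon
      push Not at hcon
      exact h1 (funext hcon)
    obtain ⟨N, hN, f, hf⟩ := exists_hom_int _ ha
    exact ⟨Multiplicative (ZMod N), inferInstance, inferInstance,
      f.comp ((Pi.evalMonoidHom _ a).comp ((MonoidHom.fst _ _).comp φ.toMonoidHom)), hf⟩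


/-- naturality of `etaFn`. -/
theorem map_etaFn {G G' : GrpCat.{u}} (f : G ⟶ G') (a : G) :
    (profiniteCompletion.map f).hom (etaFn G a) = etaFn G' (f.hom a) := by
  have h := lift_eta (f ≫ eta G')
  have h2 := ConcreteCategory.congr_hom h a
  exact h2

/-- if `f` maps `G` into `B`, then the `B`-component of the image of the completion is trivial. -/
theorem map_component_eq_one {G G' : GrpCat.{u}} (f : G ⟶ G') (B : FiniteIndexNormalSubgroup G')
    (hB : ∀ a : G, f.hom a ∈ B) (y : completion G) :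
    ((profiniteCompletion.map f).hom y).1 B = 1 := by
  let F : completion G ⟶ (diagram G').obj B :=
    profiniteCompletion.map f ≫ (limitCone (diagram G')).π.app B
  have hF : ∀ y, F.hom y = ((profiniteCompletion.map f).hom y).1 B := fun y => rfl
  have h1 : (fun y => F.hom y) = fun _ => 1 := by
    refine (denseRange G).equalizer F.hom.continuous_toFun continuous_const ?_
    funext a
    simp only [Function.comp_apply]
    rw [hF, map_etaFn]
    exact (QuotientGroup.eq_one_iff _).2 (hB a)
  rw [← hF]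
  exact congrFun h1 y

theorem main (A' : Type u) [CommGroup A'] [Group.FG A']
    (A : Subgroup A') (x : A')
    (hx : ProfiniteGrp.ProfiniteCompletion.etaFn (GrpCat.of A') x ∈
      Set.range ⇑(ProfiniteGrp.profiniteCompletion.map (GrpCat.ofHom A.subtype)).hom) :
    x ∈ A := by
  by_contra hxA
  have hq : (QuotientGroup.mk x : A' ⧸ A) ≠ 1 := fun h => hxA ((QuotientGroup.eq_one_iff x).1 h)
  haveI : Group.FG (A' ⧸ A) := QuotientGroup.fg A
  obtain ⟨H, _, _, f, hf⟩ := exists_finite_hom (A' ⧸ A) _ hq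
  let ψ : A' →* H := f.comp (QuotientGroup.mk' A)
  haveI : ψ.ker.FiniteIndex := Subgroup.finiteIndex_ker ψ
  let B : FiniteIndexNormalSubgroup (GrpCat.of A') := FiniteIndexNormalSubgroup.ofSubgroup ψ.ker
  obtain ⟨y, hy⟩ := hx
  have h1 := map_component_eq_one (GrpCat.ofHom A.subtype) B (fun a => by
    change ψ (a : A') = 1
    simp only [ψ, MonoidHom.coe_comp, Function.comp_apply, QuotientGroup.mk'_apply]
    rw [(QuotientGroup.eq_one_iff (a : A')).2 a.2, map_one]) y
  rw [hy] at h1
  have h2 : x ∈ ψ.ker := (QuotientGroup.eq_one_iff x).1 h1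
  exact hf h2

end Groth.Agent.Lib.Helper83.FGSep
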