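import Groth.Prelude.Def_W4c6instabfans3Fan
import Groth.Agent.Lib.Helper83.FanMap
import Mathlib

/-!
# Realizable subsets of the projective realization of a fan (helper83)
-/

set_option autoImplicit false
universe u
open CategoryTheory Opposite Instab Limits
open Instab Instab.Fan

namespace Groth.Agent.Lib.Helper83.FanReal

open Groth.Agent.Lib.Helper83.FanSub Groth.Agent.Lib.Helper83.FanMap

variable {F : Fan.{u}}

theorem mem_range_ι (S : Subfunctor F) (x : Fan.P F) :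
    x ∈ Set.range (Fan.P.map S.ι) ↔
      ∃ (n : ICone) (ξ : F.obj (op n)) (v : Fan.Orth n), ξ ∈ S.obj (op n) ∧ x = Fan.P.mk ξ v := by
  constructor
  · rintro ⟨y, rfl⟩
    obtain ⟨n, ξ, v, rfl⟩ := exists_mk y
    exact ⟨n, ξ.1, v, ξ.2, rfl⟩
  · rintro ⟨n, ξ, v, hξ, rfl⟩
    exact ⟨Fan.P.mk (F := S.toFunctor) (⟨ξ, hξ⟩ : S.obj (op n)) v, rfl⟩

theorem main (F : Fan.{u}) :
    (∀ U V : Set (Fan.P F), Fan.IsRealizable U → Fan.IsRealizable V → Fan.IsRealizable (U ∩ V)) ∧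
    ∀ (ι : Type u) (U : ι → Set (Fan.P F)), (∀ i, Fan.IsRealizable (U i)) →
      Fan.IsRealizable (Set.iUnion U) := by
  constructor
  · rintro U V ⟨S, rfl⟩ ⟨T, rfl⟩
    refine ⟨S ⊓ T, ?_⟩
    ext x
    simp only [Set.mem_inter_iff, mem_range_ι]
    constructor
    · rintro ⟨⟨n, ξ, v, hξ, rfl⟩, ⟨n', ξ', v', hξ', h⟩⟩
      obtain ⟨k, φ₁, φ₂, y, c₁, c₂, hG, hc₁, hc₂, h1, h2⟩ := FanSub.main F _ _ _ _ h
      refine ⟨k, F.map φ₁.op ξ, y, ⟨S.map φ₁.op hξ, ?_⟩, (mk_glue φ₁ ξ y v c₁ hc₁ h1).symm⟩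
      rw [hG]
      exact T.map φ₂.op hξ'
    · rintro ⟨n, ξ, v, hξ, rfl⟩
      exact ⟨⟨n, ξ, v, hξ.1, rfl⟩, ⟨n, ξ, v, hξ.2, rfl⟩⟩
  · intro ι U hU
    choose S hS using hU
    refine ⟨⨆ i, S i, ?_⟩
    ext x
    simp only [Set.mem_iUnion, hS, mem_range_ι, Subfunctor.iSup_obj]
    constructor
    · rintro ⟨i, n, ξ, v, hξ, rfl⟩
      exact ⟨n, ξ, v, ⟨i, hξ⟩, rfl⟩
    · rintro ⟨n, ξ, v, ⟨i, hξ⟩, rfl⟩
      exact ⟨i, n, ξ, v, hξ, rfl⟩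

end Groth.Agent.Lib.Helper83.FanReal
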