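import Groth.Prelude.Def_FibCat2

set_option autoImplicit false
universe u v u₂ v₂ u₃ v₃

open CategoryTheory CategoryTheory.Limits FibCat

namespace Groth.Agent.Lib.Helper83.FibProd

variable {C : Type u} [Category.{v} C] {𝒳 : BasedCategory.{v₂, u₂} C} {𝒴 : BasedCategory.{v₃, u₃} C}

theorem isCartesian_of_isHomLift {𝒵 : Type u₂} [Category.{v₂} 𝒵] (p : 𝒵 ⥤ C) {R S R' S' : C}
    (f : R ⟶ S) (f' : R' ⟶ S') {a b : 𝒵} (φ : a ⟶ b) [p.IsCartesian f φ] [p.IsHomLift f' φ] :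
    p.IsCartesian f' φ := by
  have hR : R = R' := (IsHomLift.domain_eq p f φ).symm.trans (IsHomLift.domain_eq p f' φ)
  have hS : S = S' := (IsHomLift.codomain_eq p f φ).symm.trans (IsHomLift.codomain_eq p f' φ)
  subst hR hS
  have hf : f = f' := by
    rw [IsHomLift.fac p f φ, IsHomLift.fac p f' φ]
  subst hf
  infer_instance

theorem isHomLift_fst_iff {z y : (fp (toSelf 𝒳) (toSelf 𝒴)).obj} (ψ : z ⟶ y) {R S : C}
    (f : R ⟶ S) :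
    (fp (toSelf 𝒳) (toSelf 𝒴)).p.IsHomLift f ψ ↔ 𝒳.p.IsHomLift f ψ.hom.fst := by
  constructor
  · intro h
    exact IsHomLift.of_fac 𝒳.p f ψ.hom.fst
      (IsHomLift.domain_eq (fp (toSelf 𝒳) (toSelf 𝒴)).p f ψ)
      (IsHomLift.codomain_eq (fp (toSelf 𝒳) (toSelf 𝒴)).p f ψ)
      (IsHomLift.fac (fp (toSelf 𝒳) (toSelf 𝒴)).p f ψ)
  · intro h
    exact IsHomLift.of_fac (fp (toSelf 𝒳) (toSelf 𝒴)).p f ψ
      (@IsHomLift.domain_eq _ _ _ _ 𝒳.p _ _ _ _ f ψ.hom.fst h)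
      (@IsHomLift.codomain_eq _ _ _ _ 𝒳.p _ _ _ _ f ψ.hom.fst h)
      (@IsHomLift.fac _ _ _ _ 𝒳.p _ _ _ _ f ψ.hom.fst h)

theorem isHomLift_snd {z y : (fp (toSelf 𝒳) (toSelf 𝒴)).obj} (ψ : z ⟶ y) {R S : C}
    (f : R ⟶ S) [h : (fp (toSelf 𝒳) (toSelf 𝒴)).p.IsHomLift f ψ] :
    𝒴.p.IsHomLift f ψ.hom.snd := by
  rw [IsHomLift.fac (fp (toSelf 𝒳) (toSelf 𝒴)).p f ψ]
  infer_instance

theorem iso_hom_eq (x : (fp (toSelf 𝒳) (toSelf 𝒴)).obj) :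
    ∃ h : 𝒳.p.obj x.obj.fst = 𝒴.p.obj x.obj.snd, x.obj.iso.hom = eqToHom h := by
  have hx : (selfOver C).p.IsHomLift (𝟙 (𝒳.p.obj x.obj.fst)) x.obj.iso.hom := x.property
  have h1 := IsHomLift.codomain_eq (selfOver C).p (𝟙 (𝒳.p.obj x.obj.fst)) x.obj.iso.hom
  refine ⟨h1.symm, ?_⟩
  have h2 := IsHomLift.fac' (selfOver C).p (𝟙 (𝒳.p.obj x.obj.fst)) x.obj.iso.hom
  have h3 : (selfOver C).p.map x.obj.iso.hom = x.obj.iso.hom := rfl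
  rw [h3] at h2
  rw [h2]
  simp
  rfl

theorem w_of_isHomLift {z y : (fp (toSelf 𝒳) (toSelf 𝒴)).obj} {R S : C} (f : R ⟶ S)
    (g₁ : z.obj.fst ⟶ y.obj.fst) (g₂ : z.obj.snd ⟶ y.obj.snd)
    [𝒳.p.IsHomLift f g₁] [𝒴.p.IsHomLift f g₂] :
    (toSelf 𝒳).toFunctor.map g₁ ≫ y.obj.iso.hom = z.obj.iso.hom ≫ (toSelf 𝒴).toFunctor.map g₂ := by
  obtain ⟨hy, ey⟩ := iso_hom_eq y
  obtain ⟨hz, ez⟩ := iso_hom_eq z
  rw [ey, ez]
  change 𝒳.p.map g₁ ≫ _ = _ ≫ 𝒴.p.map g₂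
  rw [IsHomLift.fac' 𝒳.p f g₁, IsHomLift.fac' 𝒴.p f g₂]
  simp

/-- object of the fibre product from an equality of base objects -/
def mkObj (a : 𝒳.obj) (c : 𝒴.obj) (h : 𝒳.p.obj a = 𝒴.p.obj c) :
    (fp (toSelf 𝒳) (toSelf 𝒴)).obj :=
  ⟨{ fst := a, snd := c, iso := eqToIso h }, by
    change (selfOver C).p.IsHomLift (𝟙 (𝒳.p.obj a)) (eqToHom h)
    exact IsHomLift.of_fac _ _ _ rfl h.symm (by
      change 𝟙 (𝒳.p.obj a) = eqToHom _ ≫ eqToHom h ≫ eqToHom _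
      simp)⟩

/-- morphism of the fibre product from two lifts of the same morphism -/
def mkHom {z y : (fp (toSelf 𝒳) (toSelf 𝒴)).obj} {R S : C} (f : R ⟶ S)
    (g₁ : z.obj.fst ⟶ y.obj.fst) (g₂ : z.obj.snd ⟶ y.obj.snd)
    [𝒳.p.IsHomLift f g₁] [𝒴.p.IsHomLift f g₂] : z ⟶ y :=
  ObjectProperty.homMk { fst := g₁, snd := g₂, w := w_of_isHomLift f g₁ g₂ }

theorem hom_ext' {z y : (fp (toSelf 𝒳) (toSelf 𝒴)).obj} {α β : z ⟶ y}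
    (h1 : α.hom.fst = β.hom.fst) (h2 : α.hom.snd = β.hom.snd) : α = β := by
  apply ObjectProperty.hom_ext
  exact CategoricalPullback.hom_ext h1 h2

end Groth.Agent.Lib.Helper83.FibProd
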