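import Mathlib

namespace Groth.Agent.Lib.Helper83.FiltSplit

open DirectSum

section LemmaX

variable {Γ : Type*} [LinearOrder Γ] {R : Type*} [CommRing R] {N : Type*} [AddCommGroup N] [Module R N]

/-- the strict upper part of a filtration -/
def up (Φ : Γ → Submodule R N) (γ : Γ) : Submodule R N := ⨆ (η : Γ) (_ : γ < η), Φ η

variable (Φ : Γ → Submodule R N) (hΦ : Antitone Φ) (S : Finset Γ)
  (f1 : ∀ γ, Φ γ ≤ ⨆ s ∈ S.filter (fun s => γ ≤ s), Φ s)
  (f2 : (⊤ : Submodule R N) ≤ ⨆ s ∈ S, Φ s)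
  (C : Γ → Submodule R N) (c1 : ∀ γ, C γ ≤ Φ γ) (c2 : ∀ γ, Disjoint (C γ) (up Φ γ))
  (c3 : ∀ γ, Φ γ ≤ C γ ⊔ up Φ γ)

include f1 c3 in
lemma le_iSup_Ici (γ : Γ) : Φ γ ≤ ⨆ η ∈ Set.Ici γ, C η := by
  -- first for elements of S by induction
  have key : ∀ n : ℕ, ∀ s : Γ, (S.filter (fun t => s < t)).card = n → Φ s ≤ ⨆ η ∈ Set.Ici s, C η := by
    intro n
    induction n using Nat.strong_induction_on with
    | _ n ih =>
      intro s hs
      refine (c3 s).trans (sup_le ?_ ?_)
      · exact le_iSup₂_of_le s (Set.mem_Ici.mpr le_rfl) le_rfl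
      · unfold up
        apply iSup₂_le
        intro η hη
        refine (f1 η).trans ?_
        apply iSup₂_le
        intro s' hs'
        rw [Finset.mem_filter] at hs'
        have hss' : s < s' := lt_of_lt_of_le hη hs'.2
        have hlt : (S.filter (fun t => s' < t)).card < n := by
          rw [← hs]
          apply Finset.card_lt_card
          rw [Finset.ssubset_iff_of_subset]
          · refine ⟨s', Finset.mem_filter.mpr ⟨hs'.1, hss'⟩, ?_⟩
            simp
          · intro t ht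
            rw [Finset.mem_filter] at ht ⊢
            exact ⟨ht.1, hss'.trans ht.2⟩
        refine (ih _ hlt s' rfl).trans ?_
        apply iSup₂_le
        intro η' hη'
        exact le_iSup₂_of_le η' (Set.mem_Ici.mpr (hss'.le.trans hη')) le_rfl
  refine (f1 γ).trans ?_
  apply iSup₂_le
  intro s hs
  rw [Finset.mem_filter] at hs
  refine (key _ s rfl).trans ?_
  apply iSup₂_le
  intro η' hη'
  exact le_iSup₂_of_le η' (Set.mem_Ici.mpr (hs.2.trans hη')) le_rfl

include hΦ f1 c1 c3 in
theorem eq_iSup_Ici (γ : Γ) : Φ γ = ⨆ η ∈ Set.Ici γ, C η := by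
  apply le_antisymm (le_iSup_Ici Φ S f1 C c3 γ)
  apply iSup₂_le
  intro η hη
  exact (c1 η).trans (hΦ hη)

include c1 c2 in
lemma iSupIndep_C : iSupIndep C := by
  classical
  apply iSupIndep_of_dfinsupp_lsum_injective
  rw [← LinearMap.ker_eq_bot, LinearMap.ker_eq_bot']
  intro v hv
  by_contra hne
  have hsupp : v.support.Nonempty := by
    rw [Finset.nonempty_iff_ne_empty, Ne, DFinsupp.support_eq_empty]
    exact hne
  set η₀ := v.support.min' hsupp with hη₀
  have hmem : η₀ ∈ v.support := Finset.min'_mem _ hsupp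
  rw [DFinsupp.lsum_apply_apply, DFinsupp.sumAddHom_apply, DFinsupp.sum,
    ← Finset.add_sum_erase _ _ hmem] at hv
  have h1 : ((v η₀ : C η₀) : N) ∈ up Φ η₀ := by
    have : ((v η₀ : C η₀) : N) = - ∑ x ∈ v.support.erase η₀, ((v x : C x) : N) := by
      simp only [Submodule.coe_subtype, LinearMap.toAddMonoidHom_coe] at hv
      exact eq_neg_of_add_eq_zero_left hv
    rw [this]
    apply Submodule.neg_mem
    apply Submodule.sum_mem
    intro η hη
    rw [Finset.mem_erase] at hη
    have hlt : η₀ < η := lt_of_le_of_ne (Finset.min'_le _ _ hη.2) (Ne.symm hη.1)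
    exact Submodule.mem_iSup_of_mem η (Submodule.mem_iSup_of_mem hlt (c1 η (v η).2))
  have h2 : ((v η₀ : C η₀) : N) = 0 :=
    Submodule.disjoint_def.mp (c2 η₀) _ (v η₀).2 h1
  rw [DFinsupp.mem_support_iff] at hmem
  exact hmem (Subtype.ext h2)

include hΦ f1 f2 c1 c2 c3 in
theorem isInternal_C : DirectSum.IsInternal C := by
  classical
  rw [DirectSum.isInternal_submodule_iff_iSupIndep_and_iSup_eq_top]
  refine ⟨iSupIndep_C Φ C c1 c2, ?_⟩
  rw [eq_top_iff]
  refine f2.trans ?_
  apply iSup₂_le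
  intro s _
  rw [eq_iSup_Ici Φ hΦ S f1 C c1 c3 s]
  apply iSup₂_le
  intro η _
  exact le_iSup C η

end LemmaX

section LemmaY

variable {R : Type*} [CommRing R] {N M : Type*} [AddCommGroup N] [Module R N]
  [AddCommGroup M] [Module R M]

lemma exists_compl (i : N →ₗ[R] M) (p : M →ₗ[R] N) (hpi : ∀ x, p (i x) = x)
    (W W' : Submodule R M) (hW : IsCompl W W') (Φγ U : Submodule R N) (hU : U ≤ Φγ)
    (hpW : W.map p ≤ U) (hiU : U.map i ≤ W) :
    ∃ C : Submodule R N, C ≤ Φγ ∧ Disjoint C U ∧ Φγ ≤ C ⊔ U := by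
  let P : M →ₗ[R] M := W.subtype ∘ₗ W.projectionOnto W' hW
  let E : N →ₗ[R] N := p ∘ₗ P ∘ₗ i
  have hE1 : ∀ x, E x ∈ U := by
    intro x
    apply hpW
    exact Submodule.mem_map_of_mem (Submodule.coe_mem _)
  have hE2 : ∀ x ∈ U, E x = x := by
    intro x hx
    have h1 : i x ∈ W := hiU (Submodule.mem_map_of_mem hx)
    have h2 : P (i x) = i x := by
      simp only [P, LinearMap.comp_apply, Submodule.subtype_apply]
      rw [Submodule.projectionOnto_apply_of_mem_left hW h1]
    simp only [E, LinearMap.comp_apply]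
    rw [h2, hpi]
  refine ⟨Φγ.map (LinearMap.id - E : N →ₗ[R] N), ?_, ?_, ?_⟩
  · rintro _ ⟨x, hx, rfl⟩
    simp only [LinearMap.sub_apply, LinearMap.id_apply]
    exact Φγ.sub_mem hx (hU (hE1 x))
  · rw [Submodule.disjoint_def]
    rintro _ ⟨x, hx, rfl⟩ hy
    have h1 := hE2 _ hy
    simp only [LinearMap.sub_apply, LinearMap.id_apply, map_sub] at h1 ⊢
    rw [hE2 _ (hE1 x), sub_self] at h1
    exact h1.symm
  · intro x hx
    have : x = (LinearMap.id - E : N →ₗ[R] N) x + E x := by simp
    rw [this]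
    exact Submodule.add_mem_sup (Submodule.mem_map_of_mem hx) (hE1 x)

end LemmaY

section Forward

variable {Γ : Type*} [LinearOrder Γ] {R : Type*} [CommRing R] {A : Type*} [Fintype A] [DecidableEq A]
  (M : A → Type*) [∀ a, AddCommGroup (M a)] [∀ a, Module R (M a)]

lemma exists_finset_support [∀ a, Module.Finite R (M a)] (G : Γ → Submodule R (∀ a, M a))
    (hG : DirectSum.IsInternal G) : ∃ S : Finset Γ, ∀ η ∉ S, G η = ⊥ := by
  classical
  have hfg : (⊤ : Submodule R (∀ a, M a)).FG := Module.finite_def.mp inferInstance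
  have hcpt := (Submodule.fg_iff_compact _).mp hfg
  have htop : (⊤ : Submodule R (∀ a, M a)) ≤ ⨆ η, G η := by
    rw [hG.submodule_iSup_eq_top]
  obtain ⟨S, hS⟩ := CompleteLattice.IsCompactElement.exists_finset_of_le_iSup _ hcpt G htop
  refine ⟨S, fun η hη => ?_⟩
  have hind := hG.submodule_iSupIndep η
  rw [eq_bot_iff]
  have h1 : G η ≤ ⨆ j, ⨆ (_ : j ≠ η), G j := by
    refine le_top.trans (hS.trans ?_)
    apply iSup₂_le
    intro s hs
    exact le_iSup₂_of_le s (fun h => hη (h ▸ hs)) le_rfl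
  exact hind le_rfl h1

variable (F : ∀ a, Γ → Submodule R (M a)) (hF : ∀ a, Antitone (F a))

/-- the product filtration -/
def V (γ : Γ) : Submodule R (∀ a, M a) := Submodule.pi Set.univ (fun a => F a γ)

lemma map_proj_V (a : A) (γ : Γ) : (V M F γ).map (LinearMap.proj a) = F a γ := by
  apply le_antisymm
  · rintro _ ⟨x, hx, rfl⟩
    exact hx a (Set.mem_univ a)
  · intro y hy
    refine ⟨Pi.single a y, ?_, by simp⟩
    intro b _
    by_cases hb : b = a
    · subst hb; simpa using hy
    · simp [Pi.single_eq_of_ne hb]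

lemma map_single_le_V (a : A) (γ : Γ) : (F a γ).map (LinearMap.single R M a) ≤ V M F γ := by
  rintro _ ⟨y, hy, rfl⟩
  intro b _
  by_cases hb : b = a
  · subst hb; simpa using hy
  · simp [Pi.single_eq_of_ne hb]

include hF in
theorem forward [∀ a, Module.Finite R (M a)] (G : Γ → Submodule R (∀ a, M a))
    (hG : DirectSum.IsInternal G)
    (hFG : ∀ γ, Submodule.pi Set.univ (fun a => F a γ) = ⨆ η ∈ Set.Ici γ, G η) (a : A) :
    ∃ Ga : Γ → Submodule R (M a), DirectSum.IsInternal Ga ∧ ∀ γ, F a γ = ⨆ η ∈ Set.Ici γ, Ga η := by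
  classical
  obtain ⟨S, hS⟩ := exists_finset_support M G hG
  have hV : ∀ γ, V M F γ = ⨆ η ∈ Set.Ici γ, G η := hFG
  have hGV : ∀ η, G η ≤ V M F η := by
    intro η
    rw [hV]
    exact le_iSup₂_of_le η (Set.mem_Ici.mpr le_rfl) le_rfl
  have hVanti : Antitone (V M F) := by
    intro γ γ' h x hx b hb
    exact hF b h (hx b hb)
  -- f1
  have f1 : ∀ γ, F a γ ≤ ⨆ s ∈ S.filter (fun s => γ ≤ s), F a s := by
    intro γ
    have h1 : V M F γ ≤ ⨆ s ∈ S.filter (fun s => γ ≤ s), V M F s := by
      rw [hV]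
      apply iSup₂_le
      intro η hη
      by_cases hηS : η ∈ S
      · exact le_iSup₂_of_le η (Finset.mem_filter.mpr ⟨hηS, hη⟩) (hGV η)
      · rw [hS η hηS]; exact bot_le
    rw [← map_proj_V M F a γ]
    refine (Submodule.map_mono h1).trans ?_
    simp only [Submodule.map_iSup, map_proj_V]
    exact le_rfl
  -- f2
  have f2 : (⊤ : Submodule R (M a)) ≤ ⨆ s ∈ S, F a s := by
    have h1 : (⊤ : Submodule R (∀ a, M a)) ≤ ⨆ s ∈ S, V M F s := by
      rw [← hG.submodule_iSup_eq_top]
      apply iSup_le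
      intro η
      by_cases hηS : η ∈ S
      · exact le_iSup₂_of_le η hηS (hGV η)
      · rw [hS η hηS]; exact bot_le
    have h2 : (⊤ : Submodule R (M a)) = (⊤ : Submodule R (∀ a, M a)).map (LinearMap.proj a) := by
      rw [Submodule.map_top, LinearMap.range_eq_top.mpr (LinearMap.proj_surjective a)]
    rw [h2]
    refine (Submodule.map_mono h1).trans ?_
    simp only [Submodule.map_iSup, map_proj_V]
    exact le_rfl
  -- complements
  have hcompl : ∀ γ, ∃ C : Submodule R (M a), C ≤ F a γ ∧ Disjoint C (up (F a) γ) ∧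
      F a γ ≤ C ⊔ up (F a) γ := by
    intro γ
    have hW : IsCompl (⨆ η ∈ Set.Ioi γ, G η) (⨆ η ∈ Set.Iic γ, G η) := by
      constructor
      · apply hG.submodule_iSupIndep.disjoint_biSup_biSup
        rw [Set.disjoint_left]
        intro x hx hx'
        exact absurd (Set.mem_Iic.mp hx') (not_le.mpr (Set.mem_Ioi.mp hx))
      · rw [codisjoint_iff, eq_top_iff, ← hG.submodule_iSup_eq_top]
        apply iSup_le
        intro η
        rcases le_or_gt η γ with h | h
        · exact le_sup_of_le_right (le_iSup₂_of_le η (Set.mem_Iic.mpr h) le_rfl)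
        · exact le_sup_of_le_left (le_iSup₂_of_le η (Set.mem_Ioi.mpr h) le_rfl)
    apply exists_compl (LinearMap.single R M a) (LinearMap.proj a) (by intro x; simp) _ _ hW
    · -- up ≤ F a γ
      unfold up
      apply iSup₂_le
      intro η hη
      exact hF a hη.le
    · -- map p W ≤ U
      have h1 : (⨆ η ∈ Set.Ioi γ, G η) ≤ ⨆ η ∈ Set.Ioi γ, V M F η :=
        iSup₂_mono (fun η _ => hGV η)
      refine (Submodule.map_mono h1).trans ?_
      simp only [Submodule.map_iSup, map_proj_V]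
      exact le_rfl
    · -- map i U ≤ W
      unfold up
      simp only [Submodule.map_iSup]
      apply iSup₂_le
      intro η hη
      refine (map_single_le_V M F a η).trans ?_
      rw [hV]
      apply iSup₂_le
      intro η' hη'
      exact le_iSup₂_of_le η' (Set.mem_Ioi.mpr (lt_of_lt_of_le hη hη')) le_rfl
  choose C c1 c2 c3 using hcompl
  exact ⟨C, isInternal_C (F a) (hF a) S f1 f2 C c1 c2 c3,
    eq_iSup_Ici (F a) (hF a) S f1 C c1 c3⟩

end Forward

section Backward

variable {Γ : Type*} [LinearOrder Γ] {R : Type*} [CommRing R] {A : Type*} [Fintype A] [DecidableEq A]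
  (M : A → Type*) [∀ a, AddCommGroup (M a)] [∀ a, Module R (M a)]

lemma single_mem_pi (H : ∀ a, Submodule R (M a)) (a : A) (y : M a) (hy : y ∈ H a) :
    (Pi.single a y : ∀ a, M a) ∈ Submodule.pi Set.univ H := by
  intro b _
  by_cases hb : b = a
  · subst hb; simpa using hy
  · simp [Pi.single_eq_of_ne hb]

/-- a product of sups is below the sup of the products -/
lemma pi_iSup_le {ι : Type*} (p : ι → Prop) (H : ∀ a, ι → Submodule R (M a)) :
    Submodule.pi Set.univ (fun a => ⨆ (i : ι) (_ : p i), H a i) ≤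
      ⨆ (i : ι) (_ : p i), Submodule.pi Set.univ (fun a => H a i) := by
  intro x hx
  rw [← Finset.univ_sum_single x]
  apply Submodule.sum_mem
  intro a _
  have hxa : x a ∈ ⨆ (i : ι) (_ : p i), H a i := hx a (Set.mem_univ a)
  have h1 : (LinearMap.single R M a) (x a) ∈
      (⨆ (i : ι) (_ : p i), H a i).map (LinearMap.single R M a) := Submodule.mem_map_of_mem hxa
  simp only [Submodule.map_iSup] at h1
  have h2 : (⨆ (i : ι) (_ : p i), (H a i).map (LinearMap.single R M a)) ≤
      ⨆ (i : ι) (_ : p i), Submodule.pi Set.univ (fun a => H a i) := by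
    apply iSup₂_mono
    rintro i _ _ ⟨y, hy, rfl⟩
    exact single_mem_pi M (fun a => H a i) a y hy
  exact h2 h1

theorem backward (F : ∀ a, Γ → Submodule R (M a))
    (h : ∀ a, ∃ G : Γ → Submodule R (M a), DirectSum.IsInternal G ∧
      ∀ γ, F a γ = ⨆ η ∈ Set.Ici γ, G η) :
    ∃ G : Γ → Submodule R (∀ a, M a), DirectSum.IsInternal G ∧
        ∀ γ, Submodule.pi Set.univ (fun a => F a γ) = ⨆ η ∈ Set.Ici γ, G η := by
  classical
  choose Ga hGa hFa using h
  refine ⟨fun γ => Submodule.pi Set.univ (fun a => Ga a γ), ?_, ?_⟩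
  · rw [DirectSum.isInternal_submodule_iff_iSupIndep_and_iSup_eq_top]
    constructor
    · intro γ
      rw [Submodule.disjoint_def]
      intro x hx hx'
      funext a
      have h1 : x a ∈ Ga a γ := hx a (Set.mem_univ a)
      have h2 : x a ∈ ⨆ (j : Γ) (_ : j ≠ γ), Ga a j := by
        have h3 : (LinearMap.proj a) x ∈
            (⨆ (j : Γ) (_ : j ≠ γ), Submodule.pi Set.univ (fun a => Ga a j)).map
              (LinearMap.proj (R := R) (φ := M) a) := Submodule.mem_map_of_mem hx'
        simp only [Submodule.map_iSup] at h3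
        refine (iSup₂_mono ?_ : _ ≤ ⨆ (j : Γ) (_ : j ≠ γ), Ga a j) h3
        rintro j _ _ ⟨y, hy, rfl⟩
        exact hy a (Set.mem_univ a)
      exact Submodule.disjoint_def.mp ((hGa a).submodule_iSupIndep γ) _ h1 h2
    · rw [eq_top_iff]
      have h1 := pi_iSup_le M (fun _ : Γ => True) Ga
      simp only [iSup_pos] at h1
      refine le_trans ?_ h1
      intro x _ a _
      change x a ∈ ⨆ i, Ga a i
      rw [(hGa a).submodule_iSup_eq_top]
      exact Submodule.mem_top
  · intro γ
    apply le_antisymm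
    · have h1 := pi_iSup_le M (fun η : Γ => η ∈ Set.Ici γ) Ga
      refine le_trans ?_ h1
      intro x hx a ha
      change x a ∈ ⨆ i ∈ Set.Ici γ, Ga a i
      rw [← hFa a γ]
      exact hx a ha
    · apply iSup₂_le
      intro η hη x hx a ha
      change x a ∈ F a γ
      rw [hFa a γ]
      exact (le_iSup₂_of_le (f := fun η (_ : η ∈ Set.Ici γ) => Ga a η) η hη le_rfl) (hx a ha)

end Backward

section Main

theorem main {Γ : Type*} [LinearOrder Γ] {R : Type*} [CommRing R] {A : Type*} [Fintype A]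
    (M : A → Type*) [∀ a, AddCommGroup (M a)] [∀ a, Module R (M a)] [∀ a, Module.Finite R (M a)]
    (F : ∀ a, Γ → Submodule R (M a)) (hF : ∀ a, Antitone (F a)) :
    (∃ G : Γ → Submodule R (∀ a, M a), DirectSum.IsInternal G ∧
        ∀ γ, Submodule.pi Set.univ (fun a => F a γ) = ⨆ η ∈ Set.Ici γ, G η) ↔
    ∀ a, ∃ G : Γ → Submodule R (M a), DirectSum.IsInternal G ∧ ∀ γ, F a γ = ⨆ η ∈ Set.Ici γ, G η := by
  classical
  constructor
  · rintro ⟨G, hG, hFG⟩ a
    exact forward M F hF G hG hFG a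
  · intro h
    exact backward M F h

end Main

end Groth.Agent.Lib.Helper83.FiltSplit
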