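import Groth.Statements.S6381
import Mathlib

set_option autoImplicit false
universe u

namespace Groth.Agent.Lib.Helper83.FinFreeRes

open Polynomial

/-- fraction representation in the residue field at a prime -/
lemma exists_frac {R : Type u} [CommRing R] (p : Ideal R) [p.IsPrime] (k : p.ResidueField) :
    ∃ a b : R, b ∉ p ∧ k * algebraMap R p.ResidueField b = algebraMap R p.ResidueField a := by
  obtain ⟨⟨x, y⟩, hxy⟩ := IsLocalization.surj (nonZeroDivisors (R ⧸ p)) k
  obtain ⟨a, rfl⟩ := Ideal.Quotient.mk_surjective x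
  obtain ⟨b, hb⟩ := Ideal.Quotient.mk_surjective (y : R ⧸ p)
  refine ⟨a, b, ?_, ?_⟩
  · intro hbp
    have : (y : R ⧸ p) = 0 := by rw [← hb]; exact Ideal.Quotient.eq_zero_iff_mem.2 hbp
    exact nonZeroDivisors.coe_ne_zero y this
  · simp only at hxy
    rw [← hb] at hxy
    simpa [Ideal.algebraMap_quotient_residueField_mk] using hxy

/-- one step: adjoin a suitable multiple of an element. -/
lemma step {R : Type u} [CommRing R] (p : Ideal R) [p.IsPrime]
    (L : Type u) [Field L] [Algebra p.ResidueField L] [FiniteDimensional p.ResidueField L]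
    [Algebra R L] [IsScalarTower R p.ResidueField L] (a : L) :
    ∃ (G : R[X]) (_ : G.Monic) (ψ : AdjoinRoot G →+* L),
      (∀ r : R, ψ (algebraMap R (AdjoinRoot G) r) = algebraMap R L r) ∧
      RingHom.ker ψ = p.map (algebraMap R (AdjoinRoot G)) ∧
      ∃ s : R, s ∉ p ∧ ψ (AdjoinRoot.root G) = algebraMap R L s * a := by
  classical
  set K := p.ResidueField with hK
  have : Nontrivial R := RingHom.domain_nontrivial (algebraMap R K)
  have hint : IsIntegral K a := IsIntegral.of_finite K a
  set f := minpoly K a with hf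
  -- common denominator
  obtain ⟨b, hb⟩ := IsLocalization.exist_integer_multiples_of_finset (nonZeroDivisors (R ⧸ p))
    (Finset.image f.coeff (Finset.range (f.natDegree + 1)))
  obtain ⟨s, hs⟩ := Ideal.Quotient.mk_surjective (b : R ⧸ p)
  have hsp : s ∉ p := by
    intro hsp
    have : (b : R ⧸ p) = 0 := by rw [← hs]; exact Ideal.Quotient.eq_zero_iff_mem.2 hsp
    exact nonZeroDivisors.coe_ne_zero b this
  set sb : K := algebraMap R K s with hsb
  have hsb0 : sb ≠ 0 := by
    rw [hsb, Ne, Ideal.algebraMap_residueField_eq_zero]; exact hsp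
  have hcoef : ∀ i, sb * f.coeff i ∈ Set.range (algebraMap R K) := by
    intro i
    by_cases hi : i < f.natDegree + 1
    · obtain ⟨x, hx⟩ := hb (f.coeff i) (Finset.mem_image.2 ⟨i, Finset.mem_range.2 hi, rfl⟩)
      obtain ⟨r, rfl⟩ := Ideal.Quotient.mk_surjective x
      refine ⟨r, ?_⟩
      rw [Ideal.algebraMap_quotient_residueField_mk] at hx
      rw [hx, Algebra.smul_def, ← hs, Ideal.algebraMap_quotient_residueField_mk]
    · rw [coeff_eq_zero_of_natDegree_lt (by omega), mul_zero]
      exact ⟨0, map_zero _⟩
  set g := f.scaleRoots sb with hg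
  have hfmonic : f.Monic := minpoly.monic hint
  have hgmonic : g.Monic := by
    rw [hg, monic_scaleRoots_iff]; exact hfmonic
  have hglifts : g ∈ lifts (algebraMap R K) := by
    rw [lifts_iff_coeff_lifts]
    intro i
    rw [hg, coeff_scaleRoots]
    rcases lt_trichotomy i f.natDegree with hi | hi | hi
    · obtain ⟨r, hr⟩ := hcoef i
      obtain ⟨m, hm⟩ : ∃ m, f.natDegree - i = m + 1 := ⟨f.natDegree - i - 1, by omega⟩
      rw [hm]
      refine ⟨r * s ^ m, ?_⟩
      rw [map_mul, hr, map_pow, ← hsb, pow_succ]; ring
    · subst hi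
      refine ⟨1, ?_⟩
      rw [map_one, tsub_self, pow_zero, mul_one]
      exact hfmonic.coeff_natDegree.symm
    · rw [coeff_eq_zero_of_natDegree_lt hi, zero_mul]
      exact ⟨0, map_zero _⟩
  obtain ⟨G, hGmap, hGdeg, hGmonic⟩ := lifts_and_natDegree_eq_and_monic hglifts hgmonic
  -- the element
  set a' : L := sb • a with ha'
  have hmin : minpoly K a' = g := IsIntegrallyClosed.minpoly_smul hsb0 hint
  have ha'eq : a' = algebraMap R L s * a := by
    rw [ha', Algebra.smul_def, hsb, ← IsScalarTower.algebraMap_apply]
  have hroot : eval₂ (algebraMap R L) a' G = 0 := by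
    have h1 : eval₂ (algebraMap R L) a' G = eval₂ (algebraMap K L) a' (G.map (algebraMap R K)) := by
      rw [eval₂_map, ← IsScalarTower.algebraMap_eq]
    rw [h1, hGmap, ← hmin]
    exact minpoly.aeval K a'
  refine ⟨G, hGmonic, AdjoinRoot.lift (algebraMap R L) a' hroot, ?_, ?_, s, hsp, ?_⟩
  · intro r
    rw [AdjoinRoot.algebraMap_eq, AdjoinRoot.lift_of]
  · apply le_antisymm
    · intro z hz
      obtain ⟨h, rfl⟩ := AdjoinRoot.mk_surjective z
      rw [RingHom.mem_ker, AdjoinRoot.lift_mk] at hz
      set h' := h %ₘ G with hh'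
      have hmk : AdjoinRoot.mk G h = AdjoinRoot.mk G h' := by
        rw [AdjoinRoot.mk_eq_mk, hh']
        exact ⟨h /ₘ G, by linear_combination (-1 : R[X]) * modByMonic_add_div h G⟩
      have hz' : eval₂ (algebraMap R L) a' h' = 0 := by
        have := modByMonic_add_div h G
        rw [← this, eval₂_add, eval₂_mul, hroot, zero_mul, add_zero] at hz
        exact hz
      have h1 : eval₂ (algebraMap K L) a' (h'.map (algebraMap R K)) = 0 := by
        rw [eval₂_map, ← IsScalarTower.algebraMap_eq]; exact hz'
      have hdvd : g ∣ h'.map (algebraMap R K) := by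
        rw [← hmin]; exact minpoly.dvd K a' h1
      have hzero : h'.map (algebraMap R K) = 0 := by
        by_contra hne
        have hle := natDegree_le_of_dvd hdvd hne
        have hlt : h'.natDegree < G.natDegree := by
          rcases eq_or_ne h' 0 with h0 | h0
          · exfalso; apply hne; rw [h0, Polynomial.map_zero]
          · exact natDegree_lt_natDegree h0 (degree_modByMonic_lt h hGmonic)
        have : (h'.map (algebraMap R K)).natDegree ≤ h'.natDegree := natDegree_map_le
        have hG' : g.natDegree = G.natDegree := hGdeg.symm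
        omega
      have hcoefp : ∀ i, h'.coeff i ∈ p := by
        intro i
        have := congrArg (fun q => q.coeff i) hzero
        simp only [coeff_map, coeff_zero] at this
        exact Ideal.algebraMap_residueField_eq_zero.1 this
      rw [hmk, as_sum_range_C_mul_X_pow h', map_sum]
      refine Ideal.sum_mem _ fun i _ => ?_
      rw [map_mul]
      refine Ideal.mul_mem_right _ _ ?_
      rw [AdjoinRoot.mk_C]
      exact Ideal.mem_map_of_mem _ (hcoefp i)
    · rw [Ideal.map_le_iff_le_comap]
      intro r hr
      rw [Ideal.mem_comap, RingHom.mem_ker, AdjoinRoot.algebraMap_eq, AdjoinRoot.lift_of,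
        IsScalarTower.algebraMap_apply R K L,
        Ideal.algebraMap_residueField_eq_zero.2 hr, map_zero]
  · rw [AdjoinRoot.lift_root, ha'eq]

/-- transport lemma: a ring hom to a field with kernel `q` and fraction-surjective gives an iso
from the residue field. -/
lemma exists_equiv {S : Type u} [CommRing S] (q : Ideal S) [q.IsPrime] {L : Type u} [Field L]
    (ψ : S →+* L) (hker : RingHom.ker ψ = q)
    (hsurj : ∀ l : L, ∃ a b : S, ψ b ≠ 0 ∧ l * ψ b = ψ a) :
    ∃ e : q.ResidueField ≃+* L, ∀ s : S, e (algebraMap S q.ResidueField s) = ψ s := by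
  have h1 : q ≤ RingHom.ker ψ := hker.ge
  have h2 : q.primeCompl ≤ (IsUnit.submonoid L).comap ψ := by
    intro s hs
    change IsUnit (ψ s)
    rw [isUnit_iff_ne_zero]
    intro h0
    exact hs (hker ▸ (RingHom.mem_ker).2 h0)
  let g := Ideal.ResidueField.lift q ψ h1 h2
  have hg : ∀ s, g (algebraMap S q.ResidueField s) = ψ s :=
    Ideal.ResidueField.lift_algebraMap q ψ h1 h2
  have hbij : Function.Bijective g := by
    refine ⟨g.injective, fun l => ?_⟩
    obtain ⟨a, b, hb, hab⟩ := hsurj l
    refine ⟨algebraMap S q.ResidueField a / algebraMap S q.ResidueField b, ?_⟩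
    rw [map_div₀, hg, hg, ← hab, mul_div_assoc, div_self hb, mul_one]
  exact ⟨RingEquiv.ofBijective g hbij, hg⟩

theorem claim : ∀ (n : ℕ) (R : Type u) [CommRing R] (p : Ideal R) [p.IsPrime]
    (L : Type u) [Field L] [Algebra p.ResidueField L] [FiniteDimensional p.ResidueField L]
    [Algebra R L] [IsScalarTower R p.ResidueField L], Module.finrank p.ResidueField L = n →
    ∃ (S : Type u) (_ : CommRing S) (_ : Algebra R S) (_ : Module.Finite R S) (_ : Module.Free R S)
      (ψ : S →+* L), (∀ r : R, ψ (algebraMap R S r) = algebraMap R L r) ∧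
        RingHom.ker ψ = p.map (algebraMap R S) ∧
        ∀ l : L, ∃ a b : S, ψ b ≠ 0 ∧ l * ψ b = ψ a := by
  intro n
  induction n using Nat.strong_induction_on with
  | _ n ih =>
  intro R _ p _ L _ _ _ _ _ hn
  have hkerL : ∀ r : R, algebraMap R L r = 0 ↔ r ∈ p := by
    intro r
    rw [IsScalarTower.algebraMap_apply R p.ResidueField L, map_eq_zero,
      Ideal.algebraMap_residueField_eq_zero]
  by_cases hsurj : Function.Surjective (algebraMap p.ResidueField L)
  · refine ⟨R, inferInstance, inferInstance, inferInstance, inferInstance, algebraMap R L,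
      fun r => rfl, ?_, ?_⟩
    · rw [Algebra.algebraMap_self, Ideal.map_id]
      ext r
      rw [RingHom.mem_ker, hkerL]
    · intro l
      obtain ⟨k, rfl⟩ := hsurj l
      obtain ⟨a, b, hb, hab⟩ := exists_frac p k
      refine ⟨a, b, ?_, ?_⟩
      · rw [Ne, hkerL]; exact hb
      · rw [IsScalarTower.algebraMap_apply R p.ResidueField L, ← map_mul, hab,
          ← IsScalarTower.algebraMap_apply]
  · obtain ⟨a, ha⟩ : ∃ a : L, a ∉ Set.range (algebraMap p.ResidueField L) := by
      by_contra hcon
      push Not at hcon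
      exact hsurj hcon
    obtain ⟨G, hGmonic, ψ₁, hψ₁, hker₁, s, hsp, hroot⟩ := step p L a
    have hqprime : (p.map (algebraMap R (AdjoinRoot G))).IsPrime := by
      rw [← hker₁]; exact RingHom.ker_isPrime ψ₁
    let algS₁L : Algebra (AdjoinRoot G) L := ψ₁.toAlgebra
    have h1 : p.map (algebraMap R (AdjoinRoot G)) ≤ RingHom.ker ψ₁ := hker₁.ge
    have h2 : (p.map (algebraMap R (AdjoinRoot G))).primeCompl ≤ (IsUnit.submonoid L).comap ψ₁ := by
      intro x hx
      change IsUnit (ψ₁ x)
      rw [isUnit_iff_ne_zero]
      intro h0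
      exact hx (hker₁ ▸ (RingHom.mem_ker).2 h0)
    let θ := Ideal.ResidueField.lift (p.map (algebraMap R (AdjoinRoot G))) ψ₁ h1 h2
    have hθ : ∀ x, θ (algebraMap (AdjoinRoot G) _ x) = ψ₁ x :=
      Ideal.ResidueField.lift_algebraMap _ ψ₁ h1 h2
    let algκL : Algebra (p.map (algebraMap R (AdjoinRoot G))).ResidueField L := θ.toAlgebra
    have : IsScalarTower (AdjoinRoot G) (p.map (algebraMap R (AdjoinRoot G))).ResidueField L :=
      IsScalarTower.of_algebraMap_eq (fun x => (hθ x).symm)
    have h3 : p ≤ RingHom.ker ((algebraMap (AdjoinRoot G)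
        (p.map (algebraMap R (AdjoinRoot G))).ResidueField).comp (algebraMap R (AdjoinRoot G))) := by
      intro r hr
      rw [RingHom.mem_ker, RingHom.comp_apply, Ideal.algebraMap_residueField_eq_zero]
      exact Ideal.mem_map_of_mem _ hr
    have h4 : p.primeCompl ≤ (IsUnit.submonoid
        (p.map (algebraMap R (AdjoinRoot G))).ResidueField).comap
        ((algebraMap (AdjoinRoot G)
        (p.map (algebraMap R (AdjoinRoot G))).ResidueField).comp (algebraMap R (AdjoinRoot G))) := by
      intro r hr
      change IsUnit (algebraMap (AdjoinRoot G) _ (algebraMap R (AdjoinRoot G) r))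
      rw [isUnit_iff_ne_zero, Ne, Ideal.algebraMap_residueField_eq_zero, ← hker₁, RingHom.mem_ker,
        hψ₁, hkerL]
      exact hr
    let ι := Ideal.ResidueField.lift p _ h3 h4
    have hι : ∀ r : R, ι (algebraMap R _ r) = algebraMap (AdjoinRoot G) _ (algebraMap R _ r) :=
      Ideal.ResidueField.lift_algebraMap p _ h3 h4
    let algKκ : Algebra p.ResidueField (p.map (algebraMap R (AdjoinRoot G))).ResidueField :=
      ι.toAlgebra
    have : IsScalarTower p.ResidueField (p.map (algebraMap R (AdjoinRoot G))).ResidueField L := by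
      apply IsScalarTower.of_algebraMap_eq'
      apply Ideal.ResidueField.ringHom_ext
      ext r
      change algebraMap p.ResidueField L (algebraMap R _ r) = θ (ι (algebraMap R _ r))
      rw [hι, hθ, hψ₁, ← IsScalarTower.algebraMap_apply]
    have : FiniteDimensional (p.map (algebraMap R (AdjoinRoot G))).ResidueField L :=
      FiniteDimensional.right p.ResidueField _ L
    have : FiniteDimensional p.ResidueField (p.map (algebraMap R (AdjoinRoot G))).ResidueField :=
      FiniteDimensional.left p.ResidueField _ L
    have hmul := Module.finrank_mul_finrank p.ResidueField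
      (p.map (algebraMap R (AdjoinRoot G))).ResidueField L
    have hpos1 : 0 < Module.finrank p.ResidueField
      (p.map (algebraMap R (AdjoinRoot G))).ResidueField := Module.finrank_pos
    have hpos2 : 0 < Module.finrank (p.map (algebraMap R (AdjoinRoot G))).ResidueField L :=
      Module.finrank_pos
    have hne1 : Module.finrank p.ResidueField
        (p.map (algebraMap R (AdjoinRoot G))).ResidueField ≠ 1 := by
      intro h1'
      have hbt := Subalgebra.bot_eq_top_of_finrank_eq_one h1'
      have hmem : algebraMap (AdjoinRoot G) (p.map (algebraMap R (AdjoinRoot G))).ResidueField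
          (AdjoinRoot.root G) ∈ (⊥ : Subalgebra p.ResidueField _) := by
        rw [hbt]; exact Algebra.mem_top
      obtain ⟨k, hk⟩ := Algebra.mem_bot.1 hmem
      apply ha
      have hs0 : algebraMap R L s ≠ 0 := by rw [Ne, hkerL]; exact hsp
      refine ⟨k / algebraMap R p.ResidueField s, ?_⟩
      have hk' := congrArg θ hk
      rw [hθ, hroot] at hk'
      have hk'' : algebraMap p.ResidueField L k = algebraMap R L s * a := by
        rw [← hk']
        exact IsScalarTower.algebraMap_apply p.ResidueField
          (p.map (algebraMap R (AdjoinRoot G))).ResidueField L k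
      rw [map_div₀, hk'', ← IsScalarTower.algebraMap_apply, mul_div_assoc, mul_comm,
        div_mul_cancel₀ _ hs0]
    have hlt : Module.finrank (p.map (algebraMap R (AdjoinRoot G))).ResidueField L < n := by
      rw [← hn, ← hmul]
      have h2' : 2 ≤ Module.finrank p.ResidueField
        (p.map (algebraMap R (AdjoinRoot G))).ResidueField := by omega
      nlinarith
    obtain ⟨S', iCR, iAlg, iFin, iFree, ψ', hψ', hker', hsurj'⟩ :=
      ih _ hlt (AdjoinRoot G) (p.map (algebraMap R (AdjoinRoot G))) L rfl
    let algRS' : Algebra R S' := ((algebraMap (AdjoinRoot G) S').comp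
      (algebraMap R (AdjoinRoot G))).toAlgebra
    have : IsScalarTower R (AdjoinRoot G) S' := IsScalarTower.of_algebraMap_eq (fun _ => rfl)
    have : Module.Finite R (AdjoinRoot G) := hGmonic.finite_adjoinRoot
    have : Module.Free R (AdjoinRoot G) := hGmonic.free_adjoinRoot
    refine ⟨S', iCR, algRS', Module.Finite.trans (AdjoinRoot G) S',
      Module.Free.trans (R := R) (S := AdjoinRoot G) (M := S'), ψ', ?_, ?_, hsurj'⟩
    · intro r
      change ψ' (algebraMap (AdjoinRoot G) S' (algebraMap R (AdjoinRoot G) r)) = _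
      rw [hψ']
      exact hψ₁ r
    · rw [hker', Ideal.map_map]
      rfl

theorem main (R : Type u) [CommRing R] (p : Ideal R) [p.IsPrime]
    (L : Type u) [Field L] [Algebra p.ResidueField L] [FiniteDimensional p.ResidueField L]
    [Algebra R L] [IsScalarTower R p.ResidueField L] :
    ∃ (S : Type u) (_ : CommRing S) (_ : Algebra R S) (_ : Module.Finite R S) (_ : Module.Free R S)
      (_ : (p.map (algebraMap R S)).IsPrime)
      (e : (p.map (algebraMap R S)).ResidueField ≃+* L),
      ∀ r : R, e (algebraMap R (p.map (algebraMap R S)).ResidueField r) = algebraMap R L r := by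
  obtain ⟨S, iCR, iAlg, iFin, iFree, ψ, hψ, hker, hsurj⟩ := claim _ R p L rfl
  have hprime : (p.map (algebraMap R S)).IsPrime := by
    rw [← hker]; exact RingHom.ker_isPrime ψ
  obtain ⟨e, he⟩ := exists_equiv (p.map (algebraMap R S)) ψ hker hsurj
  refine ⟨S, iCR, iAlg, iFin, iFree, hprime, e, fun r => ?_⟩
  rw [IsScalarTower.algebraMap_apply R S (p.map (algebraMap R S)).ResidueField, he, hψ]

end Groth.Agent.Lib.Helper83.FinFreeRes
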