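import Mathlib
import Groth.Prelude.Def_SGA3b

set_option autoImplicit false
universe u
open TensorProduct SGA3b

namespace Groth.Agent.Lib.Helper83.FormalHomInj

theorem eq_zero_of_tmul_eq_zero (A : Type u) [CommRing A] [IsNoetherianRing A] (I : Ideal A)
    (hI : I ≤ Ideal.jacobson ⊥)
    (R' : Type u) [CommRing R'] [Algebra A R'] [Module.Finite A R'] [Module.FaithfullyFlat A R']
    (B : Type u) [AddCommGroup B] [Module A B] (M : Type u)
    (e : (R' ⊗[A] B) →ₗ[A] (M →₀ R')) (he : Function.Injective e) (b : B)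
    (h : ∀ n : ℕ, (1 : A ⧸ I ^ (n + 1)) ⊗ₜ[A] b = 0) : b = 0 := by
  let ι : B →ₗ[A] (M →₀ R') := e ∘ₗ (TensorProduct.mk A R' B 1)
  have hι : Function.Injective ι :=
    he.comp (Module.FaithfullyFlat.tensorProduct_mk_injective (A := A) (B := R') B)
  apply hι
  rw [map_zero]
  ext m
  let g : B →ₗ[A] R' := ((Finsupp.lapply m : (M →₀ R') →ₗ[R'] R').restrictScalars A) ∘ₗ ι
  change g b = 0
  have hmem : g b ∈ (⨅ i : ℕ, I ^ i • ⊤ : Submodule A R') := by
    rw [Submodule.mem_iInf]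
    intro i
    cases i with
    | zero =>
      rw [pow_zero, Ideal.one_eq_top, Submodule.top_smul]
      exact Submodule.mem_top
    | succ n =>
      have h1 := congrArg (LinearMap.lTensor (A ⧸ I ^ (n + 1)) g) (h n)
      rw [LinearMap.lTensor_tmul, map_zero] at h1
      have h2 := congrArg (TensorProduct.quotTensorEquivQuotSMul R' (I ^ (n + 1))) h1
      rw [TensorProduct.quotTensorEquivQuotSMul_mk_one_tmul, map_zero,
        Submodule.Quotient.mk_eq_zero] at h2
      exact h2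
  rw [Ideal.iInf_pow_smul_eq_bot_of_le_jacobson I hI] at hmem
  exact (Submodule.mem_bot A).mp hmem

theorem main (A : Type u) [CommRing A] [IsNoetherianRing A] (I : Ideal A) [IsAdicComplete I A]
    (B : Type u) [CommRing B] [HopfAlgebra A B] (hH : IsIsotrivial A B)
    (C : Type u) [CommRing C] [HopfAlgebra A C] (φ ψ : C →ₐc[A] B)
    (h : ∀ (n : ℕ) (c : C), (1 : A ⧸ I ^ (n + 1)) ⊗ₜ[A] (φ c) = (1 : A ⧸ I ^ (n + 1)) ⊗ₜ[A] (ψ c)) :
    φ = ψ := by
  obtain ⟨R', _, _, -, hfin, hff, M, _, ⟨e₀⟩⟩ := hH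
  have hI : I ≤ Ideal.jacobson ⊥ := IsAdicComplete.le_jacobson_bot I
  let e : (R' ⊗[A] B) →ₗ[A] (M →₀ R') :=
    (MonoidAlgebra.coeffLinearEquiv A).toLinearMap ∘ₗ
      (e₀.toAlgEquiv.toLinearEquiv.toLinearMap.restrictScalars A)
  have he : Function.Injective e := by
    intro x y hxy
    have := (MonoidAlgebra.coeffLinearEquiv A (S := R') (M := M)).injective hxy
    exact e₀.injective this
  apply DFunLike.ext
  intro c
  rw [← sub_eq_zero]
  refine eq_zero_of_tmul_eq_zero A I hI R' B M e he _ (fun n => ?_)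
  rw [TensorProduct.tmul_sub, h n c, sub_self]

end Groth.Agent.Lib.Helper83.FormalHomInj
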