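import Mathlib
import Groth.Prelude.Def_FrobAlg

set_option autoImplicit false
set_option linter.unusedSectionVars false
universe u v
open TensorProduct

namespace Groth.Agent.Lib.Helper83.FrobFree

open IsLocalRing

/-- minimal generating finset over a local ring: relations have coefficients in the maximal ideal. -/
theorem exists_min_gen (R : Type u) [CommRing R] [IsLocalRing R]
    (M : Type v) [AddCommGroup M] [Module R M] [Module.Finite R M] :
    ∃ s : Finset M, Function.Surjective (Fintype.linearCombination R (fun i : s => (i : M))) ∧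
      ∀ v ∈ LinearMap.ker (Fintype.linearCombination R (fun i : s => (i : M))),
        ∀ i : s, v i ∈ maximalIdeal R := by
  classical
  have hex : ∃ n : ℕ, ∃ s : Finset M, s.card = n ∧ Submodule.span R (s : Set M) = ⊤ := by
    obtain ⟨s, hs⟩ := (Module.Finite.fg_top : (⊤ : Submodule R M).FG)
    exact ⟨_, s, rfl, hs⟩
  obtain ⟨s, hscard, hs⟩ := Nat.find_spec hex
  have hmin : ∀ t : Finset M, Submodule.span R (t : Set M) = ⊤ → s.card ≤ t.card := by
    intro t ht
    rw [hscard]
    exact Nat.find_min' hex ⟨t, rfl, ht⟩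
  refine ⟨s, ?_, ?_⟩
  · rw [← LinearMap.range_eq_top, Fintype.range_linearCombination, Subtype.range_coe_subtype]
    simpa using hs
  set l : (s → R) →ₗ[R] M := Fintype.linearCombination R (fun i : s => (i : M)) with hl
  have hlv : ∀ v : s → R, l v = ∑ i : s, v i • (i : M) := fun v =>
    Fintype.linearCombination_apply R _ v
  intro v hv i
  by_contra hu
  rw [mem_maximalIdeal, mem_nonunits_iff, not_not] at hu
  have hrel : ∑ j : s, v j • (j : M) = 0 := by rw [← hlv]; exact hv
  have hi : (i : M) ∈ Submodule.span R ((s.erase i : Finset M) : Set M) := by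
    have h1 : v i • (i : M) = - ∑ j ∈ Finset.univ.erase i, v j • (j : M) := by
      rw [← Finset.add_sum_erase _ _ (Finset.mem_univ i)] at hrel
      exact eq_neg_of_add_eq_zero_left hrel
    have h2 : v i • (i : M) ∈ Submodule.span R ((s.erase i : Finset M) : Set M) := by
      rw [h1]
      refine Submodule.neg_mem _ (Submodule.sum_mem _ fun j hj => Submodule.smul_mem _ _
        (Submodule.subset_span ?_))
      simp only [Finset.coe_erase, Set.mem_sdiff, Finset.mem_coe, Set.mem_singleton_iff]
      refine ⟨j.2, fun h => ?_⟩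
      exact (Finset.mem_erase.mp hj).1 (Subtype.ext h)
    have := Submodule.smul_mem _ (hu.unit⁻¹ : Rˣ).val h2
    rwa [smul_smul, IsUnit.val_inv_mul, one_smul] at this
  have hspan : Submodule.span R ((s.erase i : Finset M) : Set M) = ⊤ := by
    rw [eq_top_iff, ← hs, Submodule.span_le]
    intro z hz
    by_cases hzi : z = i
    · rw [hzi]; exact hi
    · exact Submodule.subset_span (by simpa using ⟨hz, hzi⟩)
  have := hmin _ hspan
  rw [Finset.card_erase_of_mem i.2] at this
  have hpos : 0 < s.card := Finset.card_pos.mpr ⟨i, i.2⟩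
  omega


section Twist

variable (p : ℕ) [Fact p.Prime] (R : Type u) [CommRing R] [CharP R p]
  (M : Type v) [AddCommGroup M] [Module R M] {ι : Type*} [Fintype ι] [DecidableEq ι] (g : ι → M)

local notation "S" => FrobAlg.Twist p R
local notation "τ" => FrobAlg.toTwist p R

/-- the element `∑ cᵢ ⊗ gᵢ`. -/
noncomputable def Θ (c : ι → S) : S ⊗[R] M := ∑ i, c i ⊗ₜ[R] g i

theorem exists_Θ (hg : Function.Surjective (Fintype.linearCombination R g)) (t : S ⊗[R] M) :
    ∃ c : ι → S, Θ p R M g c = t := by
  induction t using TensorProduct.induction_on with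
  | zero => exact ⟨0, by simp [Θ]⟩
  | tmul s m =>
    obtain ⟨w, rfl⟩ := hg m
    refine ⟨fun i => w i • s, ?_⟩
    rw [Fintype.linearCombination_apply, TensorProduct.tmul_sum]
    unfold Θ
    refine Finset.sum_congr rfl fun i _ => ?_
    rw [TensorProduct.tmul_smul, TensorProduct.smul_tmul']
  | add t₁ t₂ h₁ h₂ =>
    obtain ⟨c₁, rfl⟩ := h₁
    obtain ⟨c₂, rfl⟩ := h₂
    refine ⟨c₁ + c₂, ?_⟩
    unfold Θ
    rw [← Finset.sum_add_distrib]
    refine Finset.sum_congr rfl fun i _ => ?_
    rw [Pi.add_apply, TensorProduct.add_tmul]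

theorem smul_twist (r : R) (s : S) : r • s = τ (r ^ p) * s := by
  rw [Algebra.smul_def, FrobAlg.algebraMap_twist]

theorem coord_of_Θ_eq_zero (I : Ideal R)
    (hI : ∀ v ∈ LinearMap.ker (Fintype.linearCombination R g), ∀ i, v i ∈ I)
    (hg : Function.Surjective (Fintype.linearCombination R g)) (c : ι → S)
    (h : Θ p R M g c = 0) (j : ι) : (τ).symm (c j) ∈ I ^ p := by
  set l : (ι → R) →ₗ[R] M := Fintype.linearCombination R g with hl
  let u : S ⊗[R] (ι → R) := ∑ i, c i ⊗ₜ[R] (Pi.single i (1 : R) : ι → R)
  have hu : (LinearMap.lTensor S l) u = 0 := by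
    rw [← h]
    simp only [u, map_sum, LinearMap.lTensor_tmul]
    unfold Θ
    refine Finset.sum_congr rfl fun i _ => ?_
    rw [hl, Fintype.linearCombination_apply_single, one_smul]
  have hexact := lTensor_exact S (LinearMap.exact_subtype_ker_map l) hg
  obtain ⟨z, hz⟩ := (hexact u).mp hu
  let P := TensorProduct.piScalarRightHom R S S ι
  have hPu : P u = c := by
    funext j
    simp only [u, map_sum, P, TensorProduct.piScalarRightHom_tmul, Finset.sum_apply]
    rw [Finset.sum_eq_single j]
    · rw [Pi.single_eq_same, one_smul]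
    · intro i _ hij
      rw [Pi.single_eq_of_ne (Ne.symm hij), zero_smul]
    · intro hj
      exact absurd (Finset.mem_univ j) hj
  have hclaim : ∀ z : S ⊗[R] (LinearMap.ker l), ∀ j,
      (τ).symm (P ((LinearMap.lTensor S (LinearMap.ker l).subtype) z) j) ∈ I ^ p := by
    intro z
    induction z using TensorProduct.induction_on with
    | zero =>
      intro j
      simp
    | tmul s v =>
      intro j
      rw [LinearMap.lTensor_tmul]
      simp only [P, TensorProduct.piScalarRightHom_tmul, Submodule.subtype_apply]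
      rw [smul_twist, map_mul, RingEquiv.symm_apply_apply]
      exact Ideal.mul_mem_right _ _ (Ideal.pow_mem_pow (hI v.1 v.2 j) p)
    | add z₁ z₂ h₁ h₂ =>
      intro j
      rw [map_add, map_add, Pi.add_apply, map_add]
      exact Ideal.add_mem _ (h₁ j) (h₂ j)
  have := hclaim z j
  rw [hz, hPu] at this
  exact this

end Twist

theorem main
    (p : ℕ) [Fact p.Prime] (R : Type u) [CommRing R] [IsLocalRing R] [CharP R p]
    (M : Type v) [AddCommGroup M] [Module R M] [Module.FinitePresentation R M]
    (e : (FrobAlg.Twist p R ⊗[R] M) →ₛₗ[((FrobAlg.toTwist p R).symm : FrobAlg.Twist p R →+* R)] M)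
    (he : Function.Bijective e) :
    Module.Free R M := by
  classical
  have hp : p.Prime := Fact.out
  obtain ⟨s, hl, hcoef⟩ := exists_min_gen R M
  set g : s → M := fun i => (i : M) with hg
  set l : (s → R) →ₗ[R] M := Fintype.linearCombination R g with hldef
  -- the kernel is finitely generated
  obtain ⟨t, ht⟩ := Module.FinitePresentation.fg_ker l hl
  -- the ideal of coefficients
  let I : Ideal R := Ideal.span (((t ×ˢ (Finset.univ : Finset s)).image
    (fun x => x.1 x.2) : Finset R) : Set R)
  have hIfg : I.FG := ⟨_, rfl⟩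
  have hImem : ∀ v ∈ LinearMap.ker l, ∀ i : s, v i ∈ I := by
    intro v hv i
    rw [← ht] at hv
    induction hv using Submodule.span_induction with
    | mem v hv =>
      refine Ideal.subset_span ?_
      simp only [Finset.coe_image, Set.mem_image, Finset.mem_coe, Finset.mem_product,
        Finset.mem_univ, and_true, Prod.exists]
      exact ⟨v, i, hv, rfl⟩
    | zero => exact I.zero_mem
    | add x y _ _ hx hy => exact I.add_mem hx hy
    | smul a x _ hx => exact I.mul_mem_left a hx
  have hIm : I ≤ maximalIdeal R := by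
    refine Ideal.span_le.mpr ?_
    intro a ha
    simp only [Finset.coe_image, Set.mem_image, Finset.mem_coe, Finset.mem_product,
      Finset.mem_univ, and_true, Prod.exists] at ha
    obtain ⟨v, i, hv, rfl⟩ := ha
    exact hcoef v (by rw [← ht]; exact Submodule.subset_span hv) i
  -- second presentation
  let ψ : (s → R) →ₗ[R] M :=
    Fintype.linearCombination R (fun i => e ((1 : FrobAlg.Twist p R) ⊗ₜ[R] g i))
  have hψ : ∀ w : s → R, ψ w = e (Θ p R M g (fun i => FrobAlg.toTwist p R (w i))) := by
    intro w
    rw [Fintype.linearCombination_apply]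
    unfold Θ
    rw [map_sum]
    refine Finset.sum_congr rfl fun i _ => ?_
    have h1 : (FrobAlg.toTwist p R (w i)) ⊗ₜ[R] g i =
        (FrobAlg.toTwist p R (w i)) • ((1 : FrobAlg.Twist p R) ⊗ₜ[R] g i) := by
      rw [TensorProduct.smul_tmul', smul_eq_mul, mul_one]
    rw [h1, map_smulₛₗ]
    simp
  have hψsurj : Function.Surjective ψ := by
    intro m
    obtain ⟨x, rfl⟩ := he.2 m
    obtain ⟨c, rfl⟩ := exists_Θ p R M g hl x
    refine ⟨fun i => (FrobAlg.toTwist p R).symm (c i), ?_⟩
    rw [hψ]
    simp
  have hψker : ∀ w : s → R, ψ w = 0 → ∀ i, w i ∈ I ^ p := by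
    intro w hw i
    rw [hψ, ← map_zero e] at hw
    have h0 := he.1 hw
    have := coord_of_Θ_eq_zero p R M g I hImem hl _ h0 i
    simpa using this
  -- compare
  obtain ⟨U, hU⟩ := Module.projective_lifting_property l ψ hl
  have hUapp : ∀ y, l (U y) = ψ y := fun y => by rw [← hU]; rfl
  have hKle : LinearMap.ker l ≤ maximalIdeal R • (⊤ : Submodule R (s → R)) := by
    intro v hv
    rw [pi_eq_sum_univ v]
    refine Submodule.sum_mem _ fun i _ => ?_
    exact Submodule.smul_mem_smul (hcoef v hv i) Submodule.mem_top
  have hUsurj : Function.Surjective U := by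
    rw [← LinearMap.range_eq_top, eq_top_iff]
    refine Submodule.le_of_le_smul_of_le_jacobson_bot (I := maximalIdeal R)
      Module.Finite.fg_top (maximalIdeal_le_jacobson _) ?_
    intro x _
    obtain ⟨y, hy⟩ := hψsurj (l x)
    have hxy : x - U y ∈ LinearMap.ker l := by
      rw [LinearMap.mem_ker, map_sub, hUapp, hy, sub_self]
    have : x = U y + (x - U y) := by abel
    rw [this]
    exact Submodule.add_mem_sup (LinearMap.mem_range_self U y) (hKle hxy)
  -- every relation has coefficients in I^p
  have hIp : ∀ v ∈ LinearMap.ker l, ∀ i : s, v i ∈ I ^ p := by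
    intro v hv i
    obtain ⟨y, rfl⟩ := hUsurj v
    have hy : ψ y = 0 := by rw [← hUapp]; exact hv
    have hyI := hψker y hy
    rw [pi_eq_sum_univ y, map_sum, Finset.sum_apply]
    refine Ideal.sum_mem _ fun j _ => ?_
    rw [map_smul, Pi.smul_apply, smul_eq_mul]
    exact Ideal.mul_mem_right _ _ (hyI j)
  have hle : I ≤ maximalIdeal R • I := by
    refine Ideal.span_le.mpr ?_
    intro a ha
    simp only [Finset.coe_image, Set.mem_image, Finset.mem_coe, Finset.mem_product,
      Finset.mem_univ, and_true, Prod.exists] at ha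
    obtain ⟨v, i, hv, rfl⟩ := ha
    have h1 := hIp v (by rw [← ht]; exact Submodule.subset_span hv) i
    have h2 : I ^ p ≤ maximalIdeal R • I := by
      have hp1 : p = (p - 1) + 1 := by have := hp.two_le; omega
      rw [hp1, pow_succ, smul_eq_mul]
      exact Ideal.mul_mono_left ((Ideal.pow_le_self (by have := hp.two_le; omega)).trans hIm)
    exact h2 h1
  have hI0 : I = ⊥ :=
    Submodule.eq_bot_of_le_smul_of_le_jacobson_bot (maximalIdeal R) I hIfg hle
      (maximalIdeal_le_jacobson _)
  have hlinj : Function.Injective l := by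
    rw [← LinearMap.ker_eq_bot, eq_bot_iff]
    intro v hv
    rw [Submodule.mem_bot]
    funext i
    have := hImem v hv i
    rw [hI0] at this
    exact this
  exact Module.Free.of_equiv (LinearEquiv.ofBijective l ⟨hlinj, hl⟩)

end Groth.Agent.Lib.Helper83.FrobFree
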