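import Mathlib
import Groth.Prelude.Def_PolLaw

set_option autoImplicit false
set_option linter.unusedSectionVars false
universe u
open scoped TensorProduct

namespace Groth.Agent.Lib.Helper83.FrobKer

open MvPolynomial

theorem frob_add {T : Type*} [CommSemiring T] (p : ℕ) (hp : p.Prime) (hT : (p : T) = 0) (x y : T) :
    (x + y) ^ p = x ^ p + y ^ p := by
  obtain ⟨r, hr⟩ := exists_add_pow_prime_eq hp x y
  rw [hr, hT]
  simp

section

variable {k : Type u} [Field k] (p : ℕ) [Fact p.Prime] [CharP k p]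

local notation "II" => Ideal.span (Set.range fun i : ℕ => (MvPolynomial.X i : MvPolynomial ℕ k) ^ p)
local notation "QQ" => MvPolynomial ℕ k ⧸ Ideal.span (Set.range fun i : ℕ => (MvPolynomial.X i : MvPolynomial ℕ k) ^ p)
local notation "MM" => Ideal.map
        (Ideal.Quotient.mk (Ideal.span (Set.range fun i : ℕ => (MvPolynomial.X i : MvPolynomial ℕ k) ^ p)))
        (Ideal.span (Set.range fun i : ℕ => (MvPolynomial.X i : MvPolynomial ℕ k)))

theorem mem_vars_iff (f : MvPolynomial ℕ k) :
    f ∈ Ideal.span (Set.range fun i : ℕ => (MvPolynomial.X i : MvPolynomial ℕ k)) ↔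
      constantCoeff f = 0 := by
  have h := MvPolynomial.mem_pow_idealOfVars_iff' (σ := ℕ) (R := k) 1 f
  rw [pow_one] at h
  change f ∈ MvPolynomial.idealOfVars ℕ k ↔ _
  rw [h]
  constructor
  · intro h0
    exact h0 0 (by simp)
  · intro h0 x hx
    have : x = 0 := by
      have : x.degree = 0 := by omega
      exact (Finsupp.degree_eq_zero_iff x).mp this
    rw [this]
    exact h0

/-- augmentation -/
noncomputable def aug : QQ →+* k :=
  Ideal.Quotient.lift II (constantCoeff (R := k) (σ := ℕ)) (by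
    intro a ha
    induction ha using Submodule.span_induction with
    | mem x hx =>
      obtain ⟨i, rfl⟩ := hx
      simp [(Fact.out : p.Prime).ne_zero]
    | zero => simp
    | add x y _ _ hx hy => rw [map_add, hx, hy, add_zero]
    | smul a x _ hx => rw [smul_eq_mul, map_mul, hx, mul_zero])

theorem aug_mk (f : MvPolynomial ℕ k) : aug p (Ideal.Quotient.mk II f) = constantCoeff f := rfl

theorem aug_eq_zero_iff (b : QQ) : aug p b = 0 ↔ b ∈ MM := by
  constructor
  · intro h
    obtain ⟨f, rfl⟩ := Ideal.Quotient.mk_surjective b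
    rw [aug_mk] at h
    exact Ideal.mem_map_of_mem _ ((mem_vars_iff f).mpr h)
  · intro h
    obtain ⟨f, hf, rfl⟩ := (Ideal.mem_map_iff_of_surjective _ Ideal.Quotient.mk_surjective).mp h
    rw [aug_mk]
    exact (mem_vars_iff f).mp hf

theorem natCast_eq_zero : ((p : ℕ) : QQ) = 0 := by
  have : ((p : ℕ) : QQ) = algebraMap k QQ (p : k) := (map_natCast _ p).symm
  rw [this, CharP.cast_eq_zero, map_zero]

theorem pow_eq_zero_of_mem (b : QQ) (hb : b ∈ MM) : b ^ p = 0 := by
  have hp : p.Prime := Fact.out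
  rw [Ideal.map_span] at hb
  induction hb using Submodule.span_induction with
  | mem x hx =>
    obtain ⟨_, ⟨i, rfl⟩, rfl⟩ := hx
    rw [← map_pow]
    exact Ideal.Quotient.eq_zero_iff_mem.mpr (Ideal.subset_span ⟨i, rfl⟩)
  | zero => exact zero_pow hp.ne_zero
  | add x y _ _ hx hy => rw [frob_add p hp (natCast_eq_zero p) x y, hx, hy, add_zero]
  | smul a x _ hx => rw [smul_eq_mul, mul_pow, hx, mul_zero]


theorem ker_eq : PolLaw.ker (PolLaw.MulLaw.pow QQ QQ p).law = MM := by
  have hp : p.Prime := Fact.out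
  ext b
  constructor
  · intro hb
    have h1 := hb QQ 0 1
    change (0 + 1 * ((1 : QQ) ⊗ₜ[QQ] b)) ^ p = (0 : QQ ⊗[QQ] QQ) ^ p at h1
    have h2 := congrArg (Algebra.TensorProduct.lid QQ QQ) h1
    simp only [map_pow, map_mul, map_zero, map_one, Algebra.TensorProduct.lid_tmul,
      one_smul, zero_add, one_mul] at h2
    rw [zero_pow hp.ne_zero] at h2
    rw [← aug_eq_zero_iff]
    have h3 := congrArg (aug p) h2
    rw [map_pow, map_zero] at h3
    exact pow_eq_zero_iff hp.ne_zero |>.mp h3
  · intro hb S _ _ x w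
    have hb' := pow_eq_zero_of_mem p b hb
    change (x + w * ((1 : S) ⊗ₜ[QQ] b)) ^ p = x ^ p
    have hT : ((p : ℕ) : S ⊗[QQ] QQ) = 0 := by
      rw [Algebra.TensorProduct.natCast_def', natCast_eq_zero, TensorProduct.tmul_zero]
    rw [frob_add p hp hT, mul_pow, Algebra.TensorProduct.tmul_pow, hb', TensorProduct.tmul_zero,
      mul_zero, add_zero]


theorem not_fg : ¬ (MM).FG := by
  classical
  have hp : p.Prime := Fact.out
  intro hfg
  rw [Ideal.map_span] at hfg
  obtain ⟨F, hFsub, hFspan⟩ := (Submodule.fg_span_iff_fg_span_finset_subset _).mp hfg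
  -- choose an index bound
  have hidx : ∀ y ∈ F, ∃ i : ℕ, Ideal.Quotient.mk II (X i) = y := by
    intro y hy
    obtain ⟨_, ⟨i, rfl⟩, rfl⟩ := hFsub hy
    exact ⟨i, rfl⟩
  choose! idx hidx' using hidx
  let N : ℕ := (F.sup idx) + 1
  have hN : ∀ y ∈ F, idx y < N := fun y hy => Nat.lt_succ_of_le (Finset.le_sup hy)
  -- the evaluation homomorphism
  let ψ : MvPolynomial ℕ k →ₐ[k] Polynomial k :=
    MvPolynomial.aeval (fun i => if i = N then Polynomial.X else 0)
  have hψX : ∀ i, ψ (X i) = if i = N then Polynomial.X else 0 := fun i => by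
    simp [ψ]
  have hψI : ∀ f ∈ II, ψ f ∈ Ideal.span {(Polynomial.X : Polynomial k) ^ p} := by
    intro f hf
    induction hf using Submodule.span_induction with
    | mem x hx =>
      obtain ⟨i, rfl⟩ := hx
      rw [map_pow, hψX]
      by_cases hi : i = N
      · rw [if_pos hi]
        exact Ideal.subset_span rfl
      · rw [if_neg hi, zero_pow hp.ne_zero]
        exact Submodule.zero_mem _
    | zero => rw [map_zero]; exact Submodule.zero_mem _
    | add x y _ _ hx hy => rw [map_add]; exact Submodule.add_mem _ hx hy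
    | smul a x _ hx => rw [smul_eq_mul, map_mul]; exact Ideal.mul_mem_left _ _ hx
  -- X N is in the span of F
  have hXN : Ideal.Quotient.mk II (X N) ∈ Submodule.span QQ (F : Set QQ) := by
    rw [← hFspan]
    exact Submodule.subset_span ⟨X N, ⟨N, rfl⟩, rfl⟩
  -- every element of span F lifts to g with ψ g ∈ (X^p)
  have key : ∀ y ∈ Submodule.span QQ (F : Set QQ), ∃ g : MvPolynomial ℕ k,
      Ideal.Quotient.mk II g = y ∧ ψ g ∈ Ideal.span {(Polynomial.X : Polynomial k) ^ p} := by
    intro y hy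
    induction hy using Submodule.span_induction with
    | mem y hy =>
      refine ⟨X (idx y), hidx' y hy, ?_⟩
      rw [hψX, if_neg (hN y hy).ne]
      exact Submodule.zero_mem _
    | zero => exact ⟨0, map_zero _, by rw [map_zero]; exact Submodule.zero_mem _⟩
    | add x y _ _ hx hy =>
      obtain ⟨g, hg, hg'⟩ := hx
      obtain ⟨g2, hg2, hg2'⟩ := hy
      exact ⟨g + g2, by rw [map_add, hg, hg2], by rw [map_add]; exact Submodule.add_mem _ hg' hg2'⟩
    | smul a x _ hx =>
      obtain ⟨g, hg, hg'⟩ := hx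
      obtain ⟨a', rfl⟩ := Ideal.Quotient.mk_surjective a
      exact ⟨a' * g, by rw [map_mul, hg, smul_eq_mul],
        by rw [map_mul]; exact Ideal.mul_mem_left _ _ hg'⟩
  obtain ⟨g, hg, hg'⟩ := key _ hXN
  have hdiff : X N - g ∈ II := by
    rw [← Ideal.Quotient.eq_zero_iff_mem, map_sub, hg, sub_self]
  have h1 := hψI _ hdiff
  rw [map_sub] at h1
  have h2 : ψ (X N) ∈ Ideal.span {(Polynomial.X : Polynomial k) ^ p} := by
    have := Submodule.add_mem _ h1 hg'
    rwa [sub_add_cancel] at this
  rw [hψX, if_pos rfl, Ideal.mem_span_singleton, Polynomial.X_pow_dvd_iff] at h2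
  have := h2 1 hp.one_lt
  simp at this


theorem main : PolLaw.ker (PolLaw.MulLaw.pow QQ QQ p).law = MM ∧
    ¬ (PolLaw.ker (PolLaw.MulLaw.pow QQ QQ p).law).FG := by
  refine ⟨ker_eq p, ?_⟩
  rw [ker_eq p]
  exact not_fg p

end

end Groth.Agent.Lib.Helper83.FrobKer
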