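import Groth.Agent.Lib.Helper83.KrullGrp

namespace Groth.Agent.Lib.Helper83.FrobKerOld

open Groth.Agent.Lib.Helper83.KrullGrp

section

variable (k : Type*) [Field k] [IsAlgClosed k] (A : Type*) [CommRing A] [HopfAlgebra k A]
  [Module.Finite k A]

/-- reducedness from idempotence of the augmentation ideal, by homogeneity -/
theorem isReduced_of_sq (h : RingHom.ker (Bialgebra.counitAlgHom k A) ≤
    RingHom.ker (Bialgebra.counitAlgHom k A) * RingHom.ker (Bialgebra.counitAlgHom k A)) :
    IsReduced A := by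
  have : Algebra.FiniteType k A := Module.Finite.finiteType A
  have : IsNoetherianRing A := Algebra.FiniteType.isNoetherianRing k A
  set I := RingHom.ker (Bialgebra.counitAlgHom k A) with hI
  have hidem : IsIdempotentElem I := le_antisymm Ideal.mul_le_left h
  obtain ⟨e₀, he₀, hIe⟩ := (Ideal.isIdempotentElem_iff_of_fg I (IsNoetherian.noetherian I)).mp hidem
  have he₀I : e₀ ∈ I := by rw [hIe]; exact Ideal.mem_span_singleton_self e₀
  have hεe : Coalgebra.counit (R := k) e₀ = 0 := he₀I
  constructor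
  intro x hx
  -- annihilator of x
  by_contra hx0
  have hne : Ideal.span {x} ≠ ⊥ := by simpa using hx0
  let Ann : Ideal A := Submodule.annihilator (Ideal.span {x})
  have hAnn : ∀ a, a ∈ Ann ↔ a * x = 0 := by
    intro a
    simp only [Ann, Submodule.mem_annihilator_span_singleton, smul_eq_mul]
  have hAnntop : Ann ≠ ⊤ := by
    intro htop
    have : (1 : A) ∈ Ann := htop ▸ Submodule.mem_top
    rw [hAnn, one_mul] at this
    exact hx0 this
  obtain ⟨n, hn, hle⟩ := Ideal.exists_le_maximal _ hAnntop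
  obtain ⟨g, hg⟩ := exists_point (k := k) n
  have hτx : τEquiv g x ∈ I := by
    have hnil : IsNilpotent (τEquiv g x) := hx.map (τEquiv g)
    have : IsNilpotent (Coalgebra.counit (R := k) (τEquiv g x)) := hnil.map (Bialgebra.counitAlgHom k A)
    exact this.eq_zero
  rw [hIe, Ideal.mem_span_singleton'] at hτx
  obtain ⟨y, hy⟩ := hτx
  have h1 : (1 - e₀) * τEquiv g x = 0 := by
    rw [← hy]
    have : e₀ * e₀ = e₀ := he₀
    linear_combination (-y) * this
  have h2 : (τEquiv g).symm (1 - e₀) ∈ Ann := by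
    rw [hAnn]
    apply (τEquiv g).injective
    rw [map_mul, AlgEquiv.apply_symm_apply, map_zero, h1]
  have h3 := hle h2
  rw [← hg, RingHom.mem_ker] at h3
  have h4 : g ((τEquiv g).symm (1 - e₀)) = 1 := by
    rw [← counit_τEquiv, AlgEquiv.apply_symm_apply, map_sub, hεe]
    simp
  change g _ = 0 at h3
  rw [h4] at h3
  exact one_ne_zero h3

/-- in an Artinian reduced ring every element is a multiple of each of its powers -/
lemma exists_mul_pow_eq {B : Type*} [CommRing B] [IsArtinianRing B] [IsReduced B] (a : B) (j : ℕ) :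
    ∃ b : B, a = a ^ (j + 1) * b := by
  obtain ⟨N, y, hy⟩ := IsArtinian.exists_pow_succ_smul_dvd a (1 : B)
  simp only [smul_eq_mul, mul_one, Nat.succ_eq_add_one] at hy
  -- a^(N+1) y = a^N ; hence a (1 - a y) nilpotent
  have h1 : (a * (1 - a * y)) ^ (N + 1) = 0 := by
    rw [mul_pow]
    have : a ^ (N + 1) * (1 - a * y) ^ (N + 1) =
        (a ^ N - a ^ (N + 1) * y) * (a * (1 - a * y) ^ N) := by ring
    rw [this, hy, sub_self, zero_mul]
  have h2 : a * (1 - a * y) = 0 := IsReduced.eq_zero _ ⟨_, h1⟩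
  have h3 : a = a * a * y := by linear_combination h2
  induction j with
  | zero => exact ⟨1, by simp⟩
  | succ j ih =>
    obtain ⟨b, hb⟩ := ih
    refine ⟨y * b, ?_⟩
    calc a = a ^ (j + 1) * b := hb
      _ = a ^ j * (a * a * y) * b := by rw [← h3]; ring
      _ = a ^ (j + 1 + 1) * (y * b) := by ring

theorem main (p : ℕ) [Fact p.Prime] [CharP k p] (n : ℕ) (hn : 1 ≤ n) :
    Ideal.span ((fun f : A => f ^ p ^ n) '' (RingHom.ker (Bialgebra.counitAlgHom k A) : Set A)) =
      RingHom.ker (Bialgebra.counitAlgHom k A) ↔ IsReduced A := by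
  have hp : p.Prime := Fact.out
  have hpn : 2 ≤ p ^ n := by
    calc 2 ≤ p := hp.two_le
      _ = p ^ 1 := (pow_one p).symm
      _ ≤ p ^ n := Nat.pow_le_pow_right hp.pos hn
  constructor
  · intro h
    apply isReduced_of_sq k A
    conv_lhs => rw [← h]
    rw [Ideal.span_le]
    rintro _ ⟨f, hf, rfl⟩
    have : f ^ p ^ n = f * f ^ (p ^ n - 1) := by
      rw [← pow_succ']
      congr 1
      omega
    change f ^ p ^ n ∈ _
    rw [this]
    exact Ideal.mul_mem_mul hf (Ideal.pow_mem_of_mem _ hf _ (by omega))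
  · intro hred
    have : IsArtinianRing A := IsArtinianRing.of_finite k A
    apply le_antisymm
    · rw [Ideal.span_le]
      rintro _ ⟨f, hf, rfl⟩
      exact Ideal.pow_mem_of_mem _ hf _ (by omega)
    · intro f hf
      obtain ⟨b, hb⟩ := exists_mul_pow_eq f (p ^ n - 1)
      have h1 : p ^ n - 1 + 1 = p ^ n := by omega
      rw [h1] at hb
      rw [hb]
      exact Ideal.mul_mem_right _ _ (Ideal.subset_span ⟨f, hf, rfl⟩)

end

end Groth.Agent.Lib.Helper83.FrobKerOld
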