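import Mathlib.RingTheory.FiniteType
import Mathlib.RingTheory.Ideal.Over
import Mathlib.RingTheory.Ideal.MinimalPrime.Basic
import Mathlib.RingTheory.Ideal.MinimalPrime.Localization
import Mathlib.RingTheory.Localization.Away.Basic
import Mathlib.RingTheory.Localization.Integral
import Mathlib.RingTheory.RingHom.Finite
import Mathlib.RingTheory.RingHom.FiniteType
import Mathlib.RingTheory.QuasiFinite.Basic
import Mathlib.RingTheory.Spectrum.Prime.Topology

set_option autoImplicit false
universe u
namespace Groth.Agent.Lib.Helper83.GenFinite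

open Polynomial

variable {R S : Type u} [CommRing R] [CommRing S] [Algebra R S]

/-- over the localisation at a minimal prime with finite fibre, everything is integral -/
theorem isIntegral_localization [Algebra.FiniteType R S] (p : Ideal R) [hpp : p.IsPrime]
    (hp : p ∈ minimalPrimes R) (hfin : (p.primesOver S).Finite)
    (b : Localization (Algebra.algebraMapSubmonoid S p.primeCompl)) :
    IsIntegral (Localization.AtPrime p) b := by
  let Rp := Localization.AtPrime p
  let B := Localization (Algebra.algebraMapSubmonoid S p.primeCompl)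
  let m : Ideal Rp := IsLocalRing.maximalIdeal Rp
  let mB : Ideal B := m.map (algebraMap Rp B)
  -- finite type
  have hft : Algebra.FiniteType Rp B := by
    rw [← RingHom.finiteType_algebraMap]
    have h0 : (algebraMap R S).FiniteType := RingHom.finiteType_algebraMap.mpr inferInstance
    haveI : IsLocalization (Submonoid.map (algebraMap R S) p.primeCompl) B :=
      inferInstanceAs (IsLocalization (Algebra.algebraMapSubmonoid S p.primeCompl) B)
    exact RingHom.finiteType_localizationPreserves (algebraMap R S) p.primeCompl Rp B h0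
  -- `mB` consists of nilpotents
  have hnil : mB ≤ nilradical B := by
    rw [Ideal.map_le_iff_le_comap]
    intro a ha
    have h1 := IsLocalization.AtPrime.radical_map_of_mem_minimalPrimes (A := Rp) p ⊥ hp
    rw [Ideal.map_bot, IsLocalization.AtPrime.map_eq_maximalIdeal p Rp] at h1
    have h2 : a ∈ (⊥ : Ideal Rp).radical := by rw [h1]; exact ha
    obtain ⟨n, hn⟩ := h2
    rw [Ideal.mem_bot] at hn
    exact ⟨n, by rw [← map_pow, hn, map_zero]; exact Ideal.zero_mem _⟩
  let κ := Rp ⧸ m
  let _ : Field κ := Ideal.Quotient.field m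
  let Bb := B ⧸ mB
  -- finitely many primes
  have hfinspec : Finite (PrimeSpectrum Bb) := by
    have hfin' : Finite ↥(p.primesOver S) := hfin
    let g : PrimeSpectrum Bb → ↥(p.primesOver S) := fun Q =>
      ⟨(Q.asIdeal.comap (Ideal.Quotient.mk mB)).comap (algebraMap S B), by
        refine ⟨Ideal.comap_isPrime _ _, ⟨?_⟩⟩
        ext r
        simp only [Ideal.mem_comap]
        constructor
        · intro hr
          have h1 : algebraMap S B (algebraMap R S r) = algebraMap Rp B (algebraMap R Rp r) := by
            rw [← IsScalarTower.algebraMap_apply, ← IsScalarTower.algebraMap_apply]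
          have h2 : algebraMap Rp B (algebraMap R Rp r) ∈ mB := by
            refine Ideal.mem_map_of_mem _ ?_
            exact (IsLocalization.AtPrime.to_map_mem_maximal_iff Rp p r).mpr hr
          rw [h1, Ideal.Quotient.eq_zero_iff_mem.mpr h2]
          exact Q.asIdeal.zero_mem
        · intro hr
          by_contra hrp
          have hu : IsUnit (algebraMap R Rp r) := IsLocalization.map_units Rp (⟨r, hrp⟩ : p.primeCompl)
          have h1 : algebraMap S B (algebraMap R S r) = algebraMap Rp B (algebraMap R Rp r) := by
            rw [← IsScalarTower.algebraMap_apply, ← IsScalarTower.algebraMap_apply]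
          rw [h1] at hr
          have hu' : IsUnit (Ideal.Quotient.mk mB (algebraMap Rp B (algebraMap R Rp r))) :=
            (hu.map (algebraMap Rp B)).map (Ideal.Quotient.mk mB)
          exact Q.isPrime.ne_top (Ideal.eq_top_of_isUnit_mem _ hr hu')⟩
    have hg : Function.Injective g := by
      intro Q Q' h
      have h1 : (Q.asIdeal.comap (Ideal.Quotient.mk mB)).comap (algebraMap S B) =
          (Q'.asIdeal.comap (Ideal.Quotient.mk mB)).comap (algebraMap S B) := congrArg Subtype.val h
      have h2 : PrimeSpectrum.comap (algebraMap S B)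
          (PrimeSpectrum.comap (Ideal.Quotient.mk mB) Q) =
          PrimeSpectrum.comap (algebraMap S B) (PrimeSpectrum.comap (Ideal.Quotient.mk mB) Q') :=
        PrimeSpectrum.ext h1
      have h3 := PrimeSpectrum.localization_comap_injective B
        (Algebra.algebraMapSubmonoid S p.primeCompl) h2
      exact PrimeSpectrum.comap_injective_of_surjective _ Ideal.Quotient.mk_surjective h3
    exact Finite.of_injective g hg
  have hftκ : Algebra.FiniteType κ Bb := by
    have : Algebra.FiniteType Rp Bb :=
      Algebra.FiniteType.of_surjective (Ideal.Quotient.mkₐ Rp mB) Ideal.Quotient.mk_surjective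
    exact Algebra.FiniteType.of_restrictScalars_finiteType Rp κ Bb
  have hqf : Algebra.QuasiFinite κ Bb := by
    rw [Algebra.QuasiFinite.iff_finite_primesOver]
    intro I hI
    have : (Set.range (fun Q : PrimeSpectrum Bb => Q.asIdeal)).Finite := Set.finite_range _
    refine this.subset ?_
    rintro Q ⟨hQ, -⟩
    exact ⟨⟨Q, hQ⟩, rfl⟩
  have hfinite : Module.Finite κ Bb := Module.Finite.of_quasiFinite
  have hint : IsIntegral κ (Ideal.Quotient.mk mB b) := Algebra.IsIntegral.isIntegral _
  obtain ⟨fb, hfbmonic, hfb⟩ := hint
  -- lift the polynomial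
  obtain ⟨f₀, hf₀⟩ := Polynomial.map_surjective (Ideal.Quotient.mk m) Ideal.Quotient.mk_surjective fb
  obtain ⟨f, hf, -, hfmonic⟩ := Polynomial.lifts_and_degree_eq_and_monic
    (p := fb) ((Polynomial.mem_lifts _).mpr ⟨f₀, hf₀⟩) hfbmonic
  have hcomm : (algebraMap κ Bb).comp (Ideal.Quotient.mk m) =
      (Ideal.Quotient.mk mB).comp (algebraMap Rp B) := by
    ext x
    exact Ideal.Quotient.algebraMap_quotient_map_quotient x
  have hy : f.eval₂ (algebraMap Rp B) b ∈ mB := by
    rw [← Ideal.Quotient.eq_zero_iff_mem, Polynomial.hom_eval₂, ← hcomm, ← eval₂_map, hf]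
    exact hfb
  obtain ⟨N, hN⟩ := hnil hy
  refine ⟨f ^ N, hfmonic.pow N, ?_⟩
  rw [eval₂_pow, hN]


theorem main [Algebra.FiniteType R S] (p : Ideal R) (hp : p ∈ minimalPrimes R)
    (hfin : (p.primesOver S).Finite) :
    ∃ g : R, g ∉ p ∧ (Localization.awayMap (algebraMap R S) g).Finite := by
  classical
  haveI hpp : p.IsPrime := hp.1.1
  let f := algebraMap R S
  let B := Localization (Algebra.algebraMapSubmonoid S p.primeCompl)
  -- common facts about the localized map
  have hφψ : ∀ (g r : R), Localization.awayMap f g (algebraMap R (Localization.Away g) r) =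
      algebraMap S (Localization.Away (f g)) (f r) := fun g r => IsLocalization.map_eq _ r
  have step : ∀ t : S, ∃ gt : R, gt ∉ p ∧ ∀ g : R, gt ∣ g →
      (Localization.awayMap f g).IsIntegralElem (algebraMap S (Localization.Away (f g)) t) := by
    intro t
    have hint := isIntegral_localization p hp hfin (algebraMap S B t)
    obtain ⟨m, hm⟩ := IsIntegral.exists_multiple_integral_of_isLocalization p.primeCompl
      (algebraMap S B t) hint
    obtain ⟨F, hFmonic, hF⟩ := hm
    have hz : algebraMap S B (F.eval₂ f ((m : R) • t)) = 0 := by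
      have h1 : m • algebraMap S B t = algebraMap S B ((m : R) • t) := by
        rw [Submonoid.smul_def, Algebra.smul_def, Algebra.smul_def, map_mul,
          ← IsScalarTower.algebraMap_apply]
      rw [h1, IsScalarTower.algebraMap_eq R S B, ← Polynomial.hom_eval₂] at hF
      exact hF
    obtain ⟨c, hc⟩ := (IsLocalization.map_eq_zero_iff
      (Algebra.algebraMapSubmonoid S p.primeCompl) B _).mp hz
    obtain ⟨s, hs, hsc⟩ := c.2
    refine ⟨m * s, fun h => (hpp.mem_or_mem h).elim m.2 hs, fun g hg => ?_⟩
    set φ := Localization.awayMap f g with hφ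
    set ψ := algebraMap S (Localization.Away (f g)) with hψ
    have hgu : IsUnit (algebraMap R (Localization.Away g) g) :=
      IsLocalization.Away.algebraMap_isUnit g
    have hmu : IsUnit (algebraMap R (Localization.Away g) m) :=
      isUnit_of_dvd_unit (map_dvd _ ((Dvd.intro _ rfl).trans hg)) hgu
    have hsu : IsUnit (algebraMap R (Localization.Away g) s) :=
      isUnit_of_dvd_unit (map_dvd _ ((Dvd.intro_left _ rfl).trans hg)) hgu
    have hψs : IsUnit (ψ (f s)) := by
      rw [← hφψ g s]; exact hsu.map φ
    have hψz : ψ (F.eval₂ f ((m : R) • t)) = 0 := by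
      have h2 := congrArg ψ hc
      rw [map_mul, map_zero, ← hsc] at h2
      exact (hψs.mul_right_eq_zero).mp h2
    have hcomp : ψ.comp f = φ.comp (algebraMap R (Localization.Away g)) := by
      ext r
      exact (hφψ g r).symm
    have hint1 : φ.IsIntegralElem (ψ ((m : R) • t)) := by
      refine ⟨F.map (algebraMap R (Localization.Away g)), hFmonic.map _, ?_⟩
      rw [eval₂_map, ← hcomp, ← Polynomial.hom_eval₂]
      exact hψz
    obtain ⟨u, hu⟩ := hmu
    have h3 : ψ ((m : R) • t) = ψ t * φ (algebraMap R (Localization.Away g) m) := by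
      rw [Algebra.smul_def, map_mul, hφψ g m, mul_comm]
    rw [h3] at hint1
    refine RingHom.IsIntegralElem.of_mul_unit φ (ψ t) _ (↑u⁻¹ : Localization.Away g) ?_ hint1
    rw [← hu, ← map_mul, Units.inv_mul, map_one]
  choose gt hgt hgt' using step
  obtain ⟨T, hT⟩ := (Algebra.FiniteType.out : (⊤ : Subalgebra R S).FG)
  refine ⟨∏ t ∈ T, gt t, ?_, ?_⟩
  · intro h
    obtain ⟨t, -, ht⟩ := (hpp.prod_mem_iff).mp h
    exact hgt t ht
  set g := ∏ t ∈ T, gt t with hg
  set φ := Localization.awayMap f g with hφ
  set ψ := algebraMap S (Localization.Away (f g)) with hψ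
  have hgen : ∀ x : S, φ.IsIntegralElem (ψ x) := by
    intro x
    have hx : x ∈ Algebra.adjoin R (T : Set S) := by rw [hT]; exact Algebra.mem_top
    induction hx using Algebra.adjoin_induction with
    | mem t ht => exact hgt' t g (Finset.dvd_prod_of_mem gt ht)
    | algebraMap r =>
      rw [← hφψ g r]
      exact φ.isIntegralElem_map
    | add x y _ _ hx hy =>
      rw [map_add]
      exact RingHom.IsIntegralElem.add φ hx hy
    | mul x y _ _ hx hy =>
      rw [map_mul]
      exact RingHom.IsIntegralElem.mul φ hx hy
  have hint : φ.IsIntegral := by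
    intro x
    obtain ⟨⟨a, d⟩, hx⟩ := IsLocalization.mk'_surjective (Submonoid.powers (f g)) x
    obtain ⟨n, hn⟩ := d.2
    have hn' : f g ^ n = (d : S) := hn
    have hx' : x * ψ (f g ^ n) = ψ a := by
      rw [← hx, hn']
      exact IsLocalization.mk'_spec _ a d
    have hgu : IsUnit (algebraMap R (Localization.Away g) (g ^ n)) := by
      rw [map_pow]
      exact (IsLocalization.Away.algebraMap_isUnit g).pow n
    obtain ⟨u, hu⟩ := hgu
    have h4 : ψ (f g ^ n) = φ (algebraMap R (Localization.Away g) (g ^ n)) := by
      rw [hφψ g, map_pow f]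
    refine RingHom.IsIntegralElem.of_mul_unit φ x (ψ (f g ^ n)) (↑u⁻¹ : Localization.Away g) ?_ ?_
    · rw [h4, ← hu, ← map_mul, Units.inv_mul, map_one]
    · rw [hx']
      exact hgen a
  have hft : φ.FiniteType :=
    RingHom.localization_away_map_finiteType R S (Localization.Away g) (Localization.Away (f g)) f g
      (RingHom.finiteType_algebraMap.mpr inferInstance)
  exact RingHom.finite_iff_isIntegral_and_finiteType.mpr ⟨hint, hft⟩

end Groth.Agent.Lib.Helper83.GenFinite
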