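import Groth.Prelude.Def_W4c6equivkfinstabCyc
import Mathlib

set_option autoImplicit false
open Polynomial

namespace Groth.Agent.Lib.Helper83.GrpAlgBasic

open W4c6equivkfinstab

variable (Λ : Type*) [CommRing Λ]

section basic
variable {C : Type*} [AddCommGroup C]

/-- the group element `[c]` of the group ring -/
noncomputable abbrev δ (c : C) : AddMonoidAlgebra Λ C := AddMonoidAlgebra.single c (1 : Λ)

theorem δ_add (a b : C) : δ Λ (a + b) = δ Λ a * δ Λ b := by
  rw [δ, δ, δ, AddMonoidAlgebra.single_mul_single, mul_one]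

theorem δ_zero : δ Λ (0 : C) = 1 := rfl

theorem δ_nsmul (l : ℕ) (c : C) : δ Λ (l • c) = δ Λ c ^ l := by
  rw [δ, δ, AddMonoidAlgebra.single_pow, one_pow]

theorem δ_neg_mul (c : C) : δ Λ (-c) * δ Λ c = 1 := by
  rw [← δ_add, neg_add_cancel, δ_zero]

theorem aeval_δ_X_pow (g : C) (l : ℕ) :
    aeval (δ Λ g) ((X : Λ[X]) ^ l) = δ Λ (l • g) := by
  rw [map_pow, aeval_X, δ_nsmul]

/-- The elements `a` with `[a] - 1 ∈ I` form a subgroup. -/
def subgroupOfIdeal (I : Ideal (AddMonoidAlgebra Λ C)) : AddSubgroup C where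
  carrier := {a | δ Λ a - 1 ∈ I}
  zero_mem' := by
    change δ Λ (0 : C) - 1 ∈ I
    rw [δ_zero, sub_self]
    exact I.zero_mem
  add_mem' := by
    intro a b ha hb
    change δ Λ (a + b) - 1 ∈ I
    have : δ Λ (a + b) - 1 = (δ Λ a - 1) * δ Λ b + (δ Λ b - 1) := by
      rw [δ_add]; ring
    rw [this]
    exact I.add_mem (I.mul_mem_right _ ha) hb
  neg_mem' := by
    intro a ha
    change δ Λ (-a) - 1 ∈ I
    have : δ Λ (-a) - 1 = -(δ Λ (-a) * (δ Λ a - 1)) := by
      rw [mul_sub, δ_neg_mul]; ring
    rw [this]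
    exact I.neg_mem (I.mul_mem_left _ ha)

theorem mem_subgroupOfIdeal (I : Ideal (AddMonoidAlgebra Λ C)) (a : C) :
    a ∈ subgroupOfIdeal Λ I ↔ δ Λ a - 1 ∈ I := Iff.rfl

end basic

section quot
variable (M : Type*) [AddCommGroup M] (B : AddSubgroup M)

theorem quotMap_δ (m : M) : quotMap Λ M B (δ Λ m) = δ Λ (QuotientAddGroup.mk' B m) := by
  simp [quotMap, δ]

theorem quotMap_surjective : Function.Surjective (quotMap Λ M B) := by
  intro y
  induction y using AddMonoidAlgebra.induction_linear with
  | zero => exact ⟨0, map_zero _⟩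
  | add x y hx hy =>
    obtain ⟨a, rfl⟩ := hx
    obtain ⟨b, rfl⟩ := hy
    exact ⟨a + b, map_add _ _ _⟩
  | single q r =>
    obtain ⟨m, rfl⟩ := QuotientAddGroup.mk'_surjective B q
    exact ⟨AddMonoidAlgebra.single m r, by simp [quotMap]⟩

theorem cycQuotMap_surjective : Function.Surjective (cycQuotMap Λ M B) :=
  Ideal.Quotient.mk_surjective.comp (quotMap_surjective Λ M B)

/-- The kernel of `Λ[M] → Λ[M ⧸ B]` is generated by the `[b] - 1`, `b ∈ B`. -/
theorem ker_quotMap :
    RingHom.ker (quotMap Λ M B) = Ideal.span {x | ∃ b ∈ B, x = δ Λ b - 1} := by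
  apply le_antisymm
  · intro x hx
    rw [RingHom.mem_ker] at hx
    set I : Ideal (AddMonoidAlgebra Λ M) := Ideal.span {x | ∃ b ∈ B, x = δ Λ b - 1} with hI
    set s : M → M := fun m => Quotient.out (QuotientAddGroup.mk' B m) with hs
    have key : ∀ x : AddMonoidAlgebra Λ M, x - AddMonoidAlgebra.mapDomain s x ∈ I := by
      intro x
      induction x using AddMonoidAlgebra.induction_linear with
      | zero => simp
      | add x y hx hy =>
        rw [AddMonoidAlgebra.mapDomain_add]
        have : x + y - (AddMonoidAlgebra.mapDomain s x + AddMonoidAlgebra.mapDomain s y) =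
          (x - AddMonoidAlgebra.mapDomain s x) + (y - AddMonoidAlgebra.mapDomain s y) := by ring
        rw [this]
        exact I.add_mem hx hy
      | single m r =>
        rw [AddMonoidAlgebra.mapDomain_single]
        have hmem : m - s m ∈ B := by
          have : (QuotientAddGroup.mk' B (s m)) = QuotientAddGroup.mk' B m :=
            Quotient.out_eq _
          rw [← QuotientAddGroup.ker_mk' B, AddMonoidHom.mem_ker, map_sub, this, sub_self]
        have h1 : δ Λ (m - s m) - 1 ∈ I := Ideal.subset_span ⟨_, hmem, rfl⟩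
        have : AddMonoidAlgebra.single m r - AddMonoidAlgebra.single (s m) r =
            AddMonoidAlgebra.single (s m) r * (δ Λ (m - s m) - 1) := by
          rw [mul_sub, mul_one, δ, AddMonoidAlgebra.single_mul_single, mul_one,
            add_sub_cancel]
        rw [this]
        exact I.mul_mem_left _ h1
    have h2 : AddMonoidAlgebra.mapDomain s x = 0 := by
      have : AddMonoidAlgebra.mapDomain s x =
          AddMonoidAlgebra.mapDomain (Quotient.out : M ⧸ B → M)
            (AddMonoidAlgebra.mapDomain (QuotientAddGroup.mk' B) x) := by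
        ext a
        simp only [hs, AddMonoidAlgebra.mapDomain, AddMonoidAlgebra.coeff_ofCoeff]
        rw [← Finsupp.mapDomain_comp]
        rfl
      rw [this]
      have : AddMonoidAlgebra.mapDomain (QuotientAddGroup.mk' B) x = 0 := hx
      rw [this, AddMonoidAlgebra.mapDomain_zero]
    have := key x
    rwa [h2, sub_zero] at this
  · rw [Ideal.span_le]
    rintro x ⟨b, hb, rfl⟩
    rw [SetLike.mem_coe, RingHom.mem_ker, map_sub, map_one, quotMap_δ]
    have : QuotientAddGroup.mk' B b = 0 := by
      rw [← AddMonoidHom.mem_ker, QuotientAddGroup.ker_mk']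
      exact hb
    rw [this, δ_zero, sub_self]

end quot

end Groth.Agent.Lib.Helper83.GrpAlgBasic
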