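import Groth.Agent.Lib.Helper83.GrpAlgInj
import Mathlib

set_option autoImplicit false

namespace Groth.Agent.Lib.Helper83.GrpAlgCRT

open W4c6equivkfinstab Groth.Agent.Lib.Helper83.GrpAlgBasic
  Groth.Agent.Lib.Helper83.GrpAlgUnit Groth.Agent.Lib.Helper83.GrpAlgCore
  Groth.Agent.Lib.Helper83.GrpAlgLoc Groth.Agent.Lib.Helper83.GrpAlgInj

variable (Λ : Type*) [CommRing Λ] (M : Type*) [AddCommGroup M]

/-- Chinese remainder theorem for the cyclotomic quotient maps. -/
theorem exists_crt {ι : Type*} [Finite ι] (B : ι → AddSubgroup M) (hinj : Function.Injective B)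
    (hfi : ∀ i, (B i).FiniteIndex) (hcyc : ∀ i, IsAddCyclic (M ⧸ B i))
    (hu : ∀ i, IsUnit (((B i).index : ℕ) : Λ)) (x : ι → AddMonoidAlgebra Λ M) :
    ∃ r, ∀ i, cycQuotMap Λ M (B i) r = cycQuotMap Λ M (B i) (x i) := by
  have hcop : Pairwise (Function.onFun IsCoprime fun i => RingHom.ker (cycQuotMap Λ M (B i))) := by
    intro i j hij
    have := hfi i
    have := hfi j
    have := hcyc i
    have := hcyc j
    obtain ⟨s, hs1, hs0⟩ := exists_sep Λ M (B i) (B j) (fun h => hij (hinj h)) (hu i) (hu j)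
    rw [Function.onFun, Ideal.isCoprime_iff_exists]
    refine ⟨s, hs0, 1 - s, ?_, by ring⟩
    rw [RingHom.mem_ker, map_sub, map_one, hs1, sub_self]
  obtain ⟨r, hr⟩ := Ideal.exists_forall_sub_mem_ideal hcop x
  refine ⟨r, fun i => ?_⟩
  have := hr i
  rw [RingHom.mem_ker, map_sub, sub_eq_zero] at this
  exact this

/-- S19276 -/
theorem bijective_pi_cycQuotMap (A : Type*) [AddCommGroup A] [Finite A]
    (hA : IsUnit ((Nat.card A : ℕ) : Λ)) :
    Function.Bijective (RingHom.pi fun B : {B : AddSubgroup A // IsAddCyclic (A ⧸ B)} =>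
      cycQuotMap Λ A B.1) := by
  have hunit : ∀ B : AddSubgroup A, IsUnit ((B.index : ℕ) : Λ) := by
    intro B
    obtain ⟨e, he⟩ := AddSubgroup.index_dvd_of_le (bot_le : (⊥ : AddSubgroup A) ≤ B)
    rw [AddSubgroup.index_bot] at he
    rw [he, Nat.cast_mul] at hA
    exact isUnit_of_mul_isUnit_left hA
  constructor
  · rw [injective_iff_map_eq_zero]
    intro x hx
    have h0 : quotMap Λ A ⊥ x = 0 := by
      refine quotMap_eq_zero Λ A ⊥ (hunit ⊥) x fun B _ hcyc => ?_
      exact congrFun hx ⟨B, hcyc⟩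
    have hinj : Function.Injective (QuotientAddGroup.mk' (⊥ : AddSubgroup A)) := by
      rw [← AddMonoidHom.ker_eq_bot_iff, QuotientAddGroup.ker_mk']
    exact AddMonoidAlgebra.mapDomain_injective hinj (by rw [AddMonoidAlgebra.mapDomain_zero]; exact h0)
  · intro z
    choose x hx using fun B : {B : AddSubgroup A // IsAddCyclic (A ⧸ B)} =>
      cycQuotMap_surjective Λ A B.1 (z B)
    obtain ⟨r, hr⟩ := exists_crt Λ A (fun B : {B : AddSubgroup A // IsAddCyclic (A ⧸ B)} => B.1)
      Subtype.val_injective (fun _ => inferInstance) (fun B => B.2) (fun B => hunit B.1) x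
    refine ⟨r, funext fun B => ?_⟩
    rw [RingHom.pi_apply, hr B, hx B]

end Groth.Agent.Lib.Helper83.GrpAlgCRT
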