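import Mathlib

set_option autoImplicit false

namespace Groth.Agent.Lib.Helper83.GrpAlgNonCyc

variable {A : Type*} [AddCommGroup A]

open Classical in
/-- If every prime torsion `A[p]` has at most `p` elements, then every `A[d]` has at most `d`. -/
theorem card_torsion_le [Fintype A]
    (h : ∀ p : ℕ, p.Prime → (Finset.univ.filter fun a : A => p • a = 0).card ≤ p) :
    ∀ d : ℕ, 0 < d → (Finset.univ.filter fun a : A => d • a = 0).card ≤ d := by
  intro d
  induction d using Nat.strong_induction_on with | _ d ih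
  intro hd
  rcases Nat.lt_or_ge 1 d with h1 | h1
  swap
  · have : d = 1 := le_antisymm h1 hd
    subst this
    have : (Finset.univ.filter fun a : A => 1 • a = 0) = {0} := by
      ext a; simp
    rw [this]; simp
  set p := d.minFac with hp
  have hpp : p.Prime := Nat.minFac_prime (by omega)
  obtain ⟨d', hd'⟩ : p ∣ d := Nat.minFac_dvd d
  have hd'pos : 0 < d' := by
    rcases Nat.eq_zero_or_pos d' with h0 | h0
    · rw [h0, mul_zero] at hd'; omega
    · exact h0
  have hd'lt : d' < d := by
    rw [hd']
    have := hpp.two_le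
    nlinarith
  set s := Finset.univ.filter fun a : A => d • a = 0 with hs
  have himg : s.image (fun a => p • a) ⊆ Finset.univ.filter fun a : A => d' • a = 0 := by
    intro c hc
    rw [Finset.mem_image] at hc
    obtain ⟨a, ha, rfl⟩ := hc
    rw [hs, Finset.mem_filter] at ha
    rw [Finset.mem_filter]
    refine ⟨Finset.mem_univ _, ?_⟩
    rw [← mul_smul, mul_comm, ← hd']
    exact ha.2
  have hfib : ∀ c ∈ s.image (fun a => p • a),
      (s.filter fun x => p • x = c).card ≤ p := by
    intro c hc
    rw [Finset.mem_image] at hc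
    obtain ⟨a₀, _, rfl⟩ := hc
    refine le_trans ?_ (h p hpp)
    have hsub : (s.filter fun x => p • x = p • a₀) ⊆
        (Finset.univ.filter fun a : A => p • a = 0).image (fun a => a + a₀) := by
      intro x hx
      rw [Finset.mem_filter] at hx
      rw [Finset.mem_image]
      refine ⟨x - a₀, ?_, sub_add_cancel _ _⟩
      rw [Finset.mem_filter]
      refine ⟨Finset.mem_univ _, ?_⟩
      rw [smul_sub, hx.2, sub_self]
    exact (Finset.card_le_card hsub).trans Finset.card_image_le
  calc s.card ≤ p * (s.image (fun a => p • a)).card := Finset.card_le_mul_card_image s p hfib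
    _ ≤ p * d' := Nat.mul_le_mul_left _ ((Finset.card_le_card himg).trans (ih d' hd'lt hd'pos))
    _ = d := hd'.symm

/-- A finite non-cyclic abelian group contains a copy of `(ℤ/p)²`, in the following form. -/
theorem exists_prime_of_not_isAddCyclic [Finite A] (hA : ¬ IsAddCyclic A) :
    ∃ p : ℕ, p.Prime ∧ p ∣ Nat.card A ∧ ∃ a b : A, p • a = 0 ∧ p • b = 0 ∧
      (∀ j, j < p → a + j • b ≠ 0) ∧ (∀ l, 0 < l → l < p → l • b ≠ 0) := by
  classical
  have : Fintype A := Fintype.ofFinite A
  have h1 : ∃ p : ℕ, p.Prime ∧ p < (Finset.univ.filter fun a : A => p • a = 0).card := by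
    by_contra hcon
    push Not at hcon
    exact hA (isAddCyclic_of_card_nsmul_eq_zero_le (card_torsion_le hcon))
  obtain ⟨p, hp, hlt⟩ := h1
  set T := Finset.univ.filter fun a : A => p • a = 0 with hT
  have hTmem : ∀ a, a ∈ T ↔ p • a = 0 := by
    intro a; rw [hT, Finset.mem_filter]; simp
  have h0T : (0 : A) ∈ T := by rw [hTmem]; simp
  obtain ⟨b, hbT, hb0⟩ := Finset.exists_mem_ne (lt_of_le_of_lt hp.one_lt.le hlt) (0 : A)
  have hcard : ((Finset.range p).image fun j => -(j • b)).card < T.card :=
    lt_of_le_of_lt (Finset.card_image_le.trans (by simp)) hlt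
  obtain ⟨a, haT, ha⟩ := Finset.exists_mem_notMem_of_card_lt_card hcard
  have hpb : p • b = 0 := (hTmem b).1 hbT
  have hord : addOrderOf b = p := by
    have hdvd : addOrderOf b ∣ p := addOrderOf_dvd_of_nsmul_eq_zero hpb
    rcases (Nat.dvd_prime hp).1 hdvd with h | h
    · exact absurd (AddMonoid.addOrderOf_eq_one_iff.1 h) hb0
    · exact h
  refine ⟨p, hp, ?_, a, b, (hTmem a).1 haT, hpb, ?_, ?_⟩
  · rw [← hord]; exact addOrderOf_dvd_natCard b
  · intro j hj h
    apply ha
    rw [Finset.mem_image]
    exact ⟨j, Finset.mem_range.2 hj, (eq_neg_of_add_eq_zero_left h).symm⟩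
  · intro l hl hlp h
    have : p ∣ l := by rw [← hord]; exact addOrderOf_dvd_of_nsmul_eq_zero h
    exact absurd (Nat.le_of_dvd hl this) (not_le.2 hlp)

end Groth.Agent.Lib.Helper83.GrpAlgNonCyc
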