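import Groth.Agent.Lib.Helper83.GrpAlgUnit
import Groth.Agent.Lib.Helper83.GrpAlgNonCyc
import Mathlib

set_option autoImplicit false
open Polynomial

namespace Groth.Agent.Lib.Helper83.GrpAlgCore

open W4c6equivkfinstab Groth.Agent.Lib.Helper83.GrpAlgBasic Groth.Agent.Lib.Helper83.GrpAlgPoly
  Groth.Agent.Lib.Helper83.GrpAlgUnit Groth.Agent.Lib.Helper83.GrpAlgNonCyc

section ring
variable {R : Type*} [CommRing R]

theorem exists_geom_sum_eq (x : R) (h : ℕ) :
    ∃ q : R, ∑ l ∈ Finset.range h, x ^ l = (h : R) + (x - 1) * q := by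
  have h1 : ∀ l : ℕ, ∃ q : R, x ^ l - 1 = (x - 1) * q := by
    intro l
    have := sub_dvd_pow_sub_pow x 1 l
    rw [one_pow] at this
    exact this
  choose q hq using h1
  refine ⟨∑ l ∈ Finset.range h, q l, ?_⟩
  rw [Finset.mul_sum]
  simp_rw [← hq]
  rw [Finset.sum_sub_distrib]
  simp

/-- D3' -/
theorem exists_prod_mul_eq {ι : Type*} (y : R) (s : Finset ι) (d : ι → R)
    (h : ∀ i ∈ s, ∃ r, y = d i * r * y) : ∃ r, y = (∏ i ∈ s, d i) * r * y := by
  classical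
  induction s using Finset.induction_on with
  | empty => exact ⟨1, by simp⟩
  | insert a s ha ih =>
    obtain ⟨r, hr⟩ := ih fun i hi => h i (Finset.mem_insert_of_mem hi)
    obtain ⟨r', hr'⟩ := h a (Finset.mem_insert_self a s)
    refine ⟨r * r', ?_⟩
    rw [Finset.prod_insert ha]
    calc y = (∏ i ∈ s, d i) * r * y := hr
      _ = (∏ i ∈ s, d i) * r * (d a * r' * y) := by rw [← hr']
      _ = (d a * ∏ i ∈ s, d i) * (r * r') * y := by ring

end ring

variable (Λ : Type*) [CommRing Λ] {A : Type*} [AddCommGroup A]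

/-- D1 -/
theorem geom_sum_mul_eq_zero {a : A} {h : ℕ} (ha : h • a = 0) {y : AddMonoidAlgebra Λ A}
    (hy : y ∈ Ideal.span {δ Λ a - 1}) : (∑ l ∈ Finset.range h, δ Λ a ^ l) * y = 0 := by
  obtain ⟨z, rfl⟩ := Ideal.mem_span_singleton'.1 hy
  rw [mul_comm z, ← mul_assoc, geom_sum_mul, ← δ_nsmul, ha, δ_zero, sub_self, zero_mul]

/-- D2 -/
theorem exists_eq_mul_of_mem_span [Finite A] (hu : IsUnit ((Nat.card A : ℕ) : Λ)) {a : A}
    {y : AddMonoidAlgebra Λ A} (hy : y ∈ Ideal.span {δ Λ a - 1}) :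
    ∃ r, y = (δ Λ a - 1) * r * y := by
  obtain ⟨q, hq⟩ := exists_geom_sum_eq (δ Λ a) (Nat.card A)
  have h0 := geom_sum_mul_eq_zero Λ (card_nsmul_eq_zero' (x := a)) hy
  rw [hq, add_mul] at h0
  obtain ⟨u, hu'⟩ := hu.exists_left_inv
  refine ⟨-(u • q), ?_⟩
  have h1 : (u * ((Nat.card A : ℕ) : Λ)) • y = y := by rw [hu', one_smul]
  have h2 : ((Nat.card A : ℕ) : AddMonoidAlgebra Λ A) * y = ((Nat.card A : ℕ) : Λ) • y := by
    rw [Nat.cast_smul_eq_nsmul, nsmul_eq_mul]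
  rw [h2] at h0
  have h3 : ((Nat.card A : ℕ) : Λ) • y = -((δ Λ a - 1) * q * y) := eq_neg_of_add_eq_zero_left h0
  conv_lhs => rw [← h1, mul_smul, h3]
  rw [smul_neg, mul_neg, neg_mul, mul_assoc, mul_assoc, smul_mul_assoc, mul_smul_comm]

/-- D4 -/
theorem prod_mul_aeval_cyclotomic_eq_zero [Finite A] (γ : A) :
    (∏ j ∈ Finset.Ioo 0 (Nat.card A), (δ Λ (j • γ) - 1)) *
      aeval (δ Λ γ) (cyclotomic (Nat.card A) Λ) = 0 := by
  have hdvd := X_pow_sub_one_dvd_cyclotomic_mul_prod Λ (m := Nat.card A) Nat.card_pos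
  have h2 := map_dvd (aeval (δ Λ γ)) hdvd
  rw [map_sub, map_one, aeval_δ_X_pow, card_nsmul_eq_zero', δ_zero, sub_self, zero_dvd_iff,
    map_mul, map_prod] at h2
  rw [mul_comm]
  convert h2 using 3
  rw [map_sub, map_one, aeval_δ_X_pow]

/-- D5: the cyclic case of the core lemma. -/
theorem eq_zero_of_cyclic [Finite A] (hu : IsUnit ((Nat.card A : ℕ) : Λ))
    {y : AddMonoidAlgebra Λ A} (hy : ∀ a : A, a ≠ 0 → y ∈ Ideal.span {δ Λ a - 1})
    (hc : y ∈ cycIdeal Λ A) : y = 0 := by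
  classical
  have : Fintype A := Fintype.ofFinite A
  set gens : Finset A := Finset.univ.filter fun γ : A => AddSubgroup.zmultiples γ = ⊤ with hgens
  set D : A → AddMonoidAlgebra Λ A :=
    fun γ => ∏ j ∈ Finset.Ioo 0 (Nat.card A), (δ Λ (j • γ) - 1) with hD
  have h1 : ∀ γ ∈ gens, ∃ r, y = D γ * r * y := by
    intro γ hγ
    rw [hgens, Finset.mem_filter] at hγ
    have hord : addOrderOf γ = Nat.card A :=
      addOrderOf_eq_card_of_forall_mem_zmultiples (fun x => by rw [hγ.2]; trivial)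
    refine exists_prod_mul_eq y _ _ fun j hj => ?_
    rw [Finset.mem_Ioo] at hj
    have hne : j • γ ≠ 0 := by
      intro h
      have : addOrderOf γ ∣ j := addOrderOf_dvd_of_nsmul_eq_zero h
      rw [hord] at this
      exact absurd (Nat.le_of_dvd hj.1 this) (not_le.2 hj.2)
    exact exists_eq_mul_of_mem_span Λ hu (hy _ hne)
  obtain ⟨r, hr⟩ := exists_prod_mul_eq y gens D h1
  have h2 : cycIdeal Λ A ≤ LinearMap.ker (LinearMap.mulLeft (AddMonoidAlgebra Λ A)
      (∏ γ ∈ gens, D γ)) := by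
    rw [cycIdeal, Ideal.span_le]
    rintro x ⟨γ, hγ, rfl⟩
    rw [SetLike.mem_coe, LinearMap.mem_ker, LinearMap.mulLeft_apply]
    have hmem : γ ∈ gens := by rw [hgens, Finset.mem_filter]; exact ⟨Finset.mem_univ _, hγ⟩
    rw [← Finset.mul_prod_erase _ _ hmem, mul_comm (D γ), mul_assoc, hD]
    simp only
    rw [prod_mul_aeval_cyclotomic_eq_zero, mul_zero]
  have h3 := h2 hc
  rw [LinearMap.mem_ker, LinearMap.mulLeft_apply] at h3
  rw [hr, mul_comm _ r, mul_assoc, h3, mul_zero]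

/-- D6: the non-cyclic case of the core lemma. -/
theorem eq_zero_of_not_cyclic [Finite A] (hu : IsUnit ((Nat.card A : ℕ) : Λ))
    (hA : ¬ IsAddCyclic A)
    {y : AddMonoidAlgebra Λ A} (hy : ∀ a : A, a ≠ 0 → y ∈ Ideal.span {δ Λ a - 1}) : y = 0 := by
  obtain ⟨p, hp, hpdvd, a, b, hpa, hpb, hab, hlb⟩ := exists_prime_of_not_isAddCyclic hA
  set N : A → AddMonoidAlgebra Λ A := fun c => ∑ l ∈ Finset.range p, δ Λ c ^ l with hN
  have hNy : ∀ c : A, c ≠ 0 → p • c = 0 → N c * y = 0 := fun c hc hpc =>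
    geom_sum_mul_eq_zero Λ hpc (hy c hc)
  have hid : ∑ j ∈ Finset.range p, N (a + j • b) =
      ∑ l ∈ Finset.range p, δ Λ (l • a) * N (l • b) := by
    simp only [hN]
    rw [Finset.sum_comm]
    refine Finset.sum_congr rfl fun l _ => ?_
    rw [Finset.mul_sum]
    refine Finset.sum_congr rfl fun j _ => ?_
    rw [← δ_nsmul, ← δ_nsmul, ← δ_add, smul_add, smul_comm l j b]
  have h1 : (∑ j ∈ Finset.range p, N (a + j • b)) * y = 0 := by
    rw [Finset.sum_mul]
    refine Finset.sum_eq_zero fun j hj => ?_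
    rw [Finset.mem_range] at hj
    refine hNy _ (hab j hj) ?_
    rw [smul_add, hpa, smul_comm, hpb, smul_zero, add_zero]
  rw [hid, Finset.sum_mul] at h1
  rw [Finset.sum_eq_single_of_mem 0 (Finset.mem_range.2 hp.pos)] at h1
  · have hN0 : N (0 • b) = (p : AddMonoidAlgebra Λ A) := by
      rw [hN]
      simp only [zero_smul, δ_zero, one_pow, Finset.sum_const, Finset.card_range, nsmul_eq_mul,
        mul_one]
    rw [zero_smul, δ_zero, one_mul, hN0] at h1
    have hup : IsUnit ((p : ℕ) : Λ) := by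
      obtain ⟨k, hk⟩ := hpdvd
      rw [hk, Nat.cast_mul] at hu
      exact isUnit_of_mul_isUnit_left hu
    obtain ⟨u, hu'⟩ := hup.exists_left_inv
    have h2 : ((p : ℕ) : AddMonoidAlgebra Λ A) * y = ((p : ℕ) : Λ) • y := by
      rw [Nat.cast_smul_eq_nsmul, nsmul_eq_mul]
    rw [h2] at h1
    calc y = (u * (p : Λ)) • y := by rw [hu', one_smul]
      _ = 0 := by rw [mul_smul, h1, smul_zero]
  · intro l hl hl0
    rw [Finset.mem_range] at hl
    have hlpos : 0 < l := Nat.pos_of_ne_zero hl0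
    rw [mul_assoc, hNy (l • b) (hlb l hlpos hl) (by rw [smul_comm, hpb, smul_zero]), mul_zero]

/-- The core lemma. -/
theorem eq_zero_of_forall_mem_span [Finite A] (hu : IsUnit ((Nat.card A : ℕ) : Λ))
    {y : AddMonoidAlgebra Λ A} (hy : ∀ a : A, a ≠ 0 → y ∈ Ideal.span {δ Λ a - 1})
    (hc : IsAddCyclic A → y ∈ cycIdeal Λ A) : y = 0 := by
  by_cases hA : IsAddCyclic A
  · exact eq_zero_of_cyclic Λ hu hy (hc hA)
  · exact eq_zero_of_not_cyclic Λ hu hA hy

end Groth.Agent.Lib.Helper83.GrpAlgCore
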