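import Groth.Agent.Lib.Helper83.GrpAlgUnit
import Mathlib

set_option autoImplicit false

namespace Groth.Agent.Lib.Helper83.GrpAlgLoc

open W4c6equivkfinstab Groth.Agent.Lib.Helper83.GrpAlgBasic Groth.Agent.Lib.Helper83.GrpAlgUnit

variable (Λ : Type*) [CommRing Λ] (M : Type*) [AddCommGroup M]

theorem quotMap_δ_sub_one {B : AddSubgroup M} {b : M} (hb : b ∈ B) :
    quotMap Λ M B (δ Λ b - 1) = 0 := by
  have : δ Λ b - 1 ∈ RingHom.ker (quotMap Λ M B) := by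
    rw [ker_quotMap]
    exact Ideal.subset_span ⟨b, hb, rfl⟩
  exact this

theorem cycQuotMap_mul_δ_sub_one {B : AddSubgroup M} {b : M} (hb : b ∈ B)
    (r : AddMonoidAlgebra Λ M) : cycQuotMap Λ M B (r * (δ Λ b - 1)) = 0 := by
  rw [cycQuotMap, RingHom.comp_apply, map_mul, quotMap_δ_sub_one Λ M hb, mul_zero, map_zero]

theorem smul_quot_def (B₀ : AddSubgroup M) (r : AddMonoidAlgebra Λ M)
    (n : AddMonoidAlgebra Λ (M ⧸ B₀)) : r • n = quotMap Λ M B₀ r * n := by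
  rw [Algebra.smul_def]
  rfl

theorem smul_cycQuot_def (B : AddSubgroup M) (r : AddMonoidAlgebra Λ M)
    (z : CycQuot Λ (M ⧸ B)) : r • z = cycQuotMap Λ M B r * z := by
  obtain ⟨x, rfl⟩ := Ideal.Quotient.mk_surjective z
  change Ideal.Quotient.mk _ (r • x) = _
  rw [Algebra.smul_def, map_mul]
  rfl

/-- S19278 -/
theorem subsingleton_localizedModule_quot (B₀ B : AddSubgroup M) [B.FiniteIndex]
    [IsAddCyclic (M ⧸ B)] (hle : ¬ B₀ ≤ B) (hu : IsUnit ((B.index : ℕ) : Λ)) :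
    Subsingleton (LocalizedModule (locSubmonoid Λ M B) (AddMonoidAlgebra Λ (M ⧸ B₀))) := by
  obtain ⟨b, hb0, hb⟩ := SetLike.not_le_iff_exists.mp hle
  obtain ⟨r, hr⟩ := exists_cycQuotMap_mul_eq_one Λ M B hu hb
  rw [LocalizedModule.subsingleton_iff]
  intro n
  refine ⟨r * (δ Λ b - 1), hr, ?_⟩
  rw [smul_quot_def, map_mul, quotMap_δ_sub_one Λ M hb0, mul_zero, zero_mul]

/-- S19277 -/
theorem subsingleton_localizedModule_cycQuot (B B' : AddSubgroup M) [B.FiniteIndex]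
    [B'.FiniteIndex] [IsAddCyclic (M ⧸ B)] [IsAddCyclic (M ⧸ B')] (hne : B ≠ B')
    (hu : IsUnit ((B.index : ℕ) : Λ)) (hu' : IsUnit ((B'.index : ℕ) : Λ)) :
    Subsingleton (LocalizedModule (locSubmonoid Λ M B') (CycQuot Λ (M ⧸ B))) := by
  rw [LocalizedModule.subsingleton_iff]
  intro z
  by_cases hle : B ≤ B'
  · have hle' : ¬ B' ≤ B := fun h => hne (le_antisymm hle h)
    obtain ⟨b, hb', hb⟩ := SetLike.not_le_iff_exists.mp hle'
    obtain ⟨r, hr⟩ := exists_cycQuotMap_mul_eq_one Λ M B hu hb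
    refine ⟨1 - r * (δ Λ b - 1), ?_, ?_⟩
    · change cycQuotMap Λ M B' (1 - r * (δ Λ b - 1)) = 1
      rw [map_sub, map_one, cycQuotMap_mul_δ_sub_one Λ M hb', sub_zero]
    · rw [smul_cycQuot_def, map_sub, map_one, hr, sub_self, zero_mul]
  · obtain ⟨b, hb, hb'⟩ := SetLike.not_le_iff_exists.mp hle
    obtain ⟨r, hr⟩ := exists_cycQuotMap_mul_eq_one Λ M B' hu' hb'
    refine ⟨r * (δ Λ b - 1), hr, ?_⟩
    rw [smul_cycQuot_def, cycQuotMap_mul_δ_sub_one Λ M hb, zero_mul]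

end Groth.Agent.Lib.Helper83.GrpAlgLoc
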