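import Groth.Agent.Lib.Helper83.GrpAlgCore
import Groth.Agent.Lib.Helper83.GrpAlgLoc
import Mathlib

set_option autoImplicit false

namespace Groth.Agent.Lib.Helper83.GrpAlgInj

open W4c6equivkfinstab Groth.Agent.Lib.Helper83.GrpAlgBasic
  Groth.Agent.Lib.Helper83.GrpAlgUnit Groth.Agent.Lib.Helper83.GrpAlgCore
  Groth.Agent.Lib.Helper83.GrpAlgLoc

variable (Λ : Type*) [CommRing Λ] (M : Type*) [AddCommGroup M]

theorem quotMap_eq_zero_aux :
    ∀ (k : ℕ) (B₀ : AddSubgroup M) [B₀.FiniteIndex], B₀.index = k →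
      IsUnit ((B₀.index : ℕ) : Λ) → ∀ x : AddMonoidAlgebra Λ M,
      (∀ B : AddSubgroup M, B₀ ≤ B → IsAddCyclic (M ⧸ B) → cycQuotMap Λ M B x = 0) →
      quotMap Λ M B₀ x = 0 := by
  intro k
  induction k using Nat.strong_induction_on with | _ k ih
  intro B₀ _ hk hu x hx
  have hfin : Finite (M ⧸ B₀) := AddSubgroup.finite_quotient_of_finiteIndex
  have hcard : Nat.card (M ⧸ B₀) = B₀.index := rfl
  refine eq_zero_of_forall_mem_span Λ (A := M ⧸ B₀) (by rw [hcard]; exact hu) ?_ ?_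
  · intro abar habar
    obtain ⟨c, rfl⟩ := QuotientAddGroup.mk'_surjective B₀ abar
    have hc : c ∉ B₀ := by
      intro h
      apply habar
      rw [← AddMonoidHom.mem_ker, QuotientAddGroup.ker_mk']
      exact h
    set B₁ := B₀ ⊔ AddSubgroup.zmultiples c with hB₁
    have hle : B₀ ≤ B₁ := le_sup_left
    have hcB₁ : c ∈ B₁ := (le_sup_right : AddSubgroup.zmultiples c ≤ B₁)
      (AddSubgroup.mem_zmultiples c)
    have hlt : B₀ < B₁ := lt_of_le_of_ne hle (fun h => hc (h ▸ hcB₁))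
    have hfi : B₁.FiniteIndex := AddSubgroup.finiteIndex_of_le hle
    have hidx : B₁.index < k := hk ▸ AddSubgroup.index_strictAnti hlt
    have hu₁ : IsUnit ((B₁.index : ℕ) : Λ) := by
      obtain ⟨e, he⟩ := AddSubgroup.index_dvd_of_le hle
      rw [he, Nat.cast_mul] at hu
      exact isUnit_of_mul_isUnit_left hu
    have h0 : quotMap Λ M B₁ x = 0 :=
      ih B₁.index hidx B₁ rfl hu₁ x fun B hB hcyc => hx B (hle.trans hB) hcyc
    have hxker : x ∈ Ideal.span {x | ∃ b ∈ B₁, x = δ Λ b - 1} := by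
      rw [← ker_quotMap]; exact h0
    set J : Ideal (AddMonoidAlgebra Λ (M ⧸ B₀)) :=
      Ideal.span {δ Λ (QuotientAddGroup.mk' B₀ c) - 1} with hJ
    have hB₁J : B₁ ≤ (subgroupOfIdeal Λ J).comap (QuotientAddGroup.mk' B₀) := by
      rw [hB₁]
      refine sup_le ?_ ?_
      · intro b hb
        rw [AddSubgroup.mem_comap]
        have : QuotientAddGroup.mk' B₀ b = 0 := by
          rw [← AddMonoidHom.mem_ker, QuotientAddGroup.ker_mk']; exact hb
        rw [this]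
        exact (subgroupOfIdeal Λ J).zero_mem
      · rw [AddSubgroup.zmultiples_le, AddSubgroup.mem_comap, mem_subgroupOfIdeal]
        exact Ideal.subset_span rfl
    have hmap : Ideal.span {x | ∃ b ∈ B₁, x = δ Λ b - 1} ≤ J.comap (quotMap Λ M B₀) := by
      rw [Ideal.span_le]
      rintro _ ⟨b, hb, rfl⟩
      rw [SetLike.mem_coe, Ideal.mem_comap, map_sub, map_one, quotMap_δ]
      exact hB₁J hb
    exact hmap hxker
  · intro hcyc
    have := hx B₀ le_rfl hcyc
    rw [cycQuotMap, RingHom.comp_apply] at this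
    exact Ideal.Quotient.eq_zero_iff_mem.mp this

/-- (β): an element killed by all cyclotomic quotients above `B₀` dies in `Λ[M ⧸ B₀]`. -/
theorem quotMap_eq_zero (B₀ : AddSubgroup M) [B₀.FiniteIndex]
    (hu : IsUnit ((B₀.index : ℕ) : Λ)) (x : AddMonoidAlgebra Λ M)
    (hx : ∀ B : AddSubgroup M, B₀ ≤ B → IsAddCyclic (M ⧸ B) → cycQuotMap Λ M B x = 0) :
    quotMap Λ M B₀ x = 0 :=
  quotMap_eq_zero_aux Λ M B₀.index B₀ rfl hu x hx

/-- separation: for `B ≠ B'` there is `s` mapping to `1` in the cyclotomic quotient at `B'` and to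
`0` at `B`. -/
theorem exists_sep (B B' : AddSubgroup M) [B.FiniteIndex]
    [B'.FiniteIndex] [IsAddCyclic (M ⧸ B)] [IsAddCyclic (M ⧸ B')] (hne : B ≠ B')
    (hu : IsUnit ((B.index : ℕ) : Λ)) (hu' : IsUnit ((B'.index : ℕ) : Λ)) :
    ∃ s : AddMonoidAlgebra Λ M, cycQuotMap Λ M B' s = 1 ∧ cycQuotMap Λ M B s = 0 := by
  by_cases hle : B ≤ B'
  · have hle' : ¬ B' ≤ B := fun h => hne (le_antisymm hle h)
    obtain ⟨b, hb', hb⟩ := SetLike.not_le_iff_exists.mp hle'
    obtain ⟨r, hr⟩ := exists_cycQuotMap_mul_eq_one Λ M B hu hb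
    refine ⟨1 - r * (δ Λ b - 1), ?_, ?_⟩
    · rw [map_sub, map_one, cycQuotMap_mul_δ_sub_one Λ M hb', sub_zero]
    · rw [map_sub, map_one, hr, sub_self]
  · obtain ⟨b, hb, hb'⟩ := SetLike.not_le_iff_exists.mp hle
    obtain ⟨r, hr⟩ := exists_cycQuotMap_mul_eq_one Λ M B' hu' hb'
    exact ⟨r * (δ Λ b - 1), hr, cycQuotMap_mul_δ_sub_one Λ M hb r⟩

end Groth.Agent.Lib.Helper83.GrpAlgInj
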