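import Mathlib

set_option autoImplicit false
open Polynomial

namespace Groth.Agent.Lib.Helper83.GrpAlgPoly

variable (Λ : Type*) [CommRing Λ]

/-- P1 -/
theorem exists_geom_sum_eq_cyclotomic_mul {m j h : ℕ} (hm : m ∣ j * h) (hj : ¬ m ∣ j) :
    ∃ Q : Λ[X], ∑ l ∈ Finset.range h, (X : Λ[X]) ^ (j * l) = cyclotomic m Λ * Q := by
  rcases Nat.eq_zero_or_pos h with rfl | hh
  · exact ⟨0, by simp⟩
  have hj0 : j ≠ 0 := fun h0 => hj (h0 ▸ dvd_zero m)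
  have hjh : j * h ≠ 0 := Nat.mul_ne_zero hj0 hh.ne'
  have hmem : m ∈ (j * h).divisors \ j.divisors := by
    rw [Finset.mem_sdiff, Nat.mem_divisors, Nat.mem_divisors]
    exact ⟨⟨hm, hjh⟩, fun hh => hj hh.1⟩
  have h1 := X_pow_sub_one_mul_prod_cyclotomic_eq_X_pow_sub_one_of_dvd Λ (dvd_mul_right j h) hjh
  rw [← Finset.mul_prod_erase _ _ hmem] at h1
  refine ⟨∏ x ∈ ((j * h).divisors \ j.divisors).erase m, cyclotomic x Λ, ?_⟩
  have hmonic : (X ^ j - 1 : Λ[X]).Monic := by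
    have := monic_X_pow_sub_C (1 : Λ) hj0
    simpa using this
  apply hmonic.isRegular.left
  simp only
  rw [h1]
  have : ∑ l ∈ Finset.range h, (X : Λ[X]) ^ (j * l) = ∑ l ∈ Finset.range h, (X ^ j) ^ l := by
    refine Finset.sum_congr rfl fun l _ => ?_
    rw [pow_mul]
  rw [this, mul_geom_sum, ← pow_mul]

/-- P3 -/
theorem X_pow_sub_one_dvd_cyclotomic_mul_prod {m : ℕ} (hm : 0 < m) :
    (X ^ m - 1 : Λ[X]) ∣ cyclotomic m Λ * ∏ j ∈ Finset.Ioo 0 m, ((X : Λ[X]) ^ j - 1) := by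
  rw [← prod_cyclotomic_eq_X_pow_sub_one hm, ← Nat.cons_self_properDivisors hm.ne',
    Finset.prod_cons]
  apply mul_dvd_mul_left
  have h1 : ∏ d ∈ m.properDivisors, cyclotomic d Λ ∣ ∏ d ∈ m.properDivisors, ((X : Λ[X]) ^ d - 1) :=
    Finset.prod_dvd_prod_of_dvd _ _ fun d _ => cyclotomic.dvd_X_pow_sub_one d Λ
  refine h1.trans (Finset.prod_dvd_prod_of_subset _ _ _ ?_)
  intro d hd
  rw [Nat.mem_properDivisors] at hd
  rw [Finset.mem_Ioo]
  exact ⟨Nat.pos_of_dvd_of_pos hd.1 hm, hd.2⟩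

end Groth.Agent.Lib.Helper83.GrpAlgPoly
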