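import Groth.Agent.Lib.Helper83.GrpAlgCRT
import Mathlib

set_option autoImplicit false

namespace Groth.Agent.Lib.Helper83.GrpAlgProd

open W4c6equivkfinstab Groth.Agent.Lib.Helper83.GrpAlgBasic
  Groth.Agent.Lib.Helper83.GrpAlgUnit Groth.Agent.Lib.Helper83.GrpAlgCore
  Groth.Agent.Lib.Helper83.GrpAlgLoc Groth.Agent.Lib.Helper83.GrpAlgInj
  Groth.Agent.Lib.Helper83.GrpAlgCRT

variable (Λ : Type*) [CommRing Λ] (M : Type*) [AddCommGroup M]

theorem finite_subgroups_above (B₀ : AddSubgroup M) [B₀.FiniteIndex] :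
    Finite {B : AddSubgroup M // B₀ ≤ B ∧ IsAddCyclic (M ⧸ B)} := by
  have : Finite (M ⧸ B₀) := AddSubgroup.finite_quotient_of_finiteIndex
  have : Finite (AddSubgroup (M ⧸ B₀)) := inferInstance
  refine Finite.of_injective
    (fun B : {B : AddSubgroup M // B₀ ≤ B ∧ IsAddCyclic (M ⧸ B)} =>
      B.1.map (QuotientAddGroup.mk' B₀)) ?_
  intro B B' h
  apply Subtype.ext
  have h1 := congrArg (AddSubgroup.comap (QuotientAddGroup.mk' B₀)) h
  simp only [AddSubgroup.comap_map_eq, QuotientAddGroup.ker_mk'] at h1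
  rwa [sup_eq_left.2 B.2.1, sup_eq_left.2 B'.2.1] at h1

/-- S19279 -/
theorem bijective_pi_mkLinearMap (B₀ : AddSubgroup M) [B₀.FiniteIndex]
    (hu : IsUnit ((B₀.index : ℕ) : Λ)) :
    Function.Bijective (LinearMap.pi (R := AddMonoidAlgebra Λ M)
      fun B : {B : AddSubgroup M // B₀ ≤ B ∧ IsAddCyclic (M ⧸ B)} =>
        LocalizedModule.mkLinearMap (locSubmonoid Λ M B.1) (AddMonoidAlgebra Λ (M ⧸ B₀))) := by
  classical
  have hfin := finite_subgroups_above M B₀
  have : Fintype {B : AddSubgroup M // B₀ ≤ B ∧ IsAddCyclic (M ⧸ B)} := Fintype.ofFinite _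
  have key : ∀ z : AddMonoidAlgebra Λ M,
      (∀ B : {B : AddSubgroup M // B₀ ≤ B ∧ IsAddCyclic (M ⧸ B)}, cycQuotMap Λ M B.1 z = 0) →
      ∀ n : AddMonoidAlgebra Λ (M ⧸ B₀), z • n = 0 := by
    intro z hz n
    rw [smul_quot_def, quotMap_eq_zero Λ M B₀ hu z fun B hB hcyc => hz ⟨B, hB, hcyc⟩, zero_mul]
  constructor
  · rw [injective_iff_map_eq_zero]
    intro n hn
    have h1 : ∀ B : {B : AddSubgroup M // B₀ ≤ B ∧ IsAddCyclic (M ⧸ B)},
        ∃ s ∈ locSubmonoid Λ M B.1, s • n = 0 := by
      intro B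
      have := congrFun hn B
      rw [LinearMap.pi_apply] at this
      exact LocalizedModule.mem_ker_mkLinearMap_iff.1 this
    choose s hs hsn using h1
    have hP : (∏ B, (1 - s B)) • n = 0 := by
      refine key _ (fun B' => ?_) n
      rw [map_prod]
      refine Finset.prod_eq_zero (Finset.mem_univ B') ?_
      rw [map_sub, map_one, show cycQuotMap Λ M B'.1 (s B') = 1 from hs B', sub_self]
    have hP' : ∀ t : Finset {B : AddSubgroup M // B₀ ≤ B ∧ IsAddCyclic (M ⧸ B)},
        (∏ B ∈ t, (1 - s B)) • n = n := by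
      intro t
      induction t using Finset.induction_on with
      | empty => simp
      | insert a t ha ih =>
        rw [Finset.prod_insert ha, mul_comm, mul_smul, sub_smul, one_smul, hsn, sub_zero, ih]
    rw [← hP' Finset.univ, hP]
  · intro t
    have h1 : ∀ B : {B : AddSubgroup M // B₀ ≤ B ∧ IsAddCyclic (M ⧸ B)},
        ∃ (nn : AddMonoidAlgebra Λ (M ⧸ B₀)) (ss : locSubmonoid Λ M B.1),
          t B = LocalizedModule.mk nn ss := by
      intro B
      induction t B using LocalizedModule.induction_on with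
      | h m s => exact ⟨m, s, rfl⟩
    choose nn ss hns using h1
    have hunit : ∀ B : {B : AddSubgroup M // B₀ ≤ B ∧ IsAddCyclic (M ⧸ B)},
        IsUnit ((B.1.index : ℕ) : Λ) := by
      intro B
      obtain ⟨e, he⟩ := AddSubgroup.index_dvd_of_le B.2.1
      rw [he, Nat.cast_mul] at hu
      exact isUnit_of_mul_isUnit_left hu
    have h2 : ∀ B : {B : AddSubgroup M // B₀ ≤ B ∧ IsAddCyclic (M ⧸ B)},
        ∃ e : AddMonoidAlgebra Λ M, ∀ B', cycQuotMap Λ M B'.1 e = if B' = B then 1 else 0 := by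
      intro B
      obtain ⟨r, hr⟩ := exists_crt Λ M
        (fun B : {B : AddSubgroup M // B₀ ≤ B ∧ IsAddCyclic (M ⧸ B)} => B.1)
        Subtype.val_injective (fun B => AddSubgroup.finiteIndex_of_le B.2.1) (fun B => B.2.2)
        hunit (fun B' => if B' = B then 1 else 0)
      refine ⟨r, fun B' => ?_⟩
      rw [hr B']
      split_ifs <;> simp
    choose e he using h2
    have hee : ∀ B, cycQuotMap Λ M B.1 (e B) = 1 := fun B => by rw [he B B, if_pos rfl]
    have hee' : ∀ B B', B' ≠ B → cycQuotMap Λ M B'.1 (e B) = 0 := fun B B' h => by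
      rw [he B B', if_neg h]
    refine ⟨∑ B, e B • nn B, funext fun B => ?_⟩
    rw [LinearMap.pi_apply, LocalizedModule.mkLinearMap_apply, hns B, LocalizedModule.mk_eq]
    refine ⟨⟨e B, hee B⟩, ?_⟩
    rw [Submonoid.smul_def, Submonoid.smul_def, Submonoid.smul_def, one_smul]
    rw [Finset.smul_sum, Finset.smul_sum]
    simp_rw [smul_smul]
    rw [Finset.sum_eq_single B]
    · have h3 : (e B * ((ss B : AddMonoidAlgebra Λ M) * e B) - e B) • nn B = 0 := by
        refine key _ (fun B' => ?_) _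
        by_cases hB' : B' = B
        · subst hB'
          rw [map_sub, map_mul, map_mul, hee, show cycQuotMap Λ M B'.1 (ss B') = 1 from (ss B').2]
          simp
        · rw [map_sub, map_mul, hee' B B' hB']
          simp
      rw [sub_smul, sub_eq_zero] at h3
      exact h3
    · intro B' _ hB'
      refine key _ (fun B'' => ?_) _
      by_cases h : B'' = B
      · subst h
        rw [map_mul, map_mul, hee' B' B'' (Ne.symm hB')]
        simp
      · rw [map_mul, hee' B B'' h]
        simp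
    · intro h
      exact absurd (Finset.mem_univ B) h

end Groth.Agent.Lib.Helper83.GrpAlgProd
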