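import Groth.Agent.Lib.Helper83.GrpAlgPoly
import Groth.Agent.Lib.Helper83.GrpAlgBasic
import Mathlib

set_option autoImplicit false
open Polynomial

namespace Groth.Agent.Lib.Helper83.GrpAlgUnit

open W4c6equivkfinstab Groth.Agent.Lib.Helper83.GrpAlgBasic Groth.Agent.Lib.Helper83.GrpAlgPoly

variable (Λ : Type*) [CommRing Λ]

section cyc
variable {C : Type*} [AddCommGroup C]

theorem aeval_cyclotomic_mem_cycIdeal {g : C} (hg : AddSubgroup.zmultiples g = ⊤) :
    aeval (δ Λ g) (cyclotomic (Nat.card C) Λ) ∈ cycIdeal Λ C :=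
  Ideal.subset_span ⟨g, hg, rfl⟩

/-- sum over `l < h` of `[l • c]` -/
theorem sum_δ_nsmul_mem_cycIdeal [Finite C] [IsAddCyclic C] {c : C} (hc : c ≠ 0) :
    ∑ l ∈ Finset.range (Nat.card C), δ Λ c ^ l ∈ cycIdeal Λ C := by
  obtain ⟨g, hg⟩ := IsAddCyclic.exists_generator (α := C)
  have hgtop : AddSubgroup.zmultiples g = ⊤ := by
    rw [eq_top_iff]; intro x _; exact hg x
  have hcg : c ∈ AddSubmonoid.multiples g := mem_multiples_iff_mem_zmultiples.mpr (hg c)
  obtain ⟨j, hj⟩ := hcg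
  simp only at hj
  set m := Nat.card C with hm
  have hmj : ¬ m ∣ j := by
    rintro ⟨k, rfl⟩
    apply hc
    rw [← hj, mul_smul, hm, card_nsmul_eq_zero']
  obtain ⟨Q, hQ⟩ := exists_geom_sum_eq_cyclotomic_mul Λ (m := m) (j := j) (h := m)
    (dvd_mul_left m j) hmj
  have := congrArg (aeval (δ Λ g)) hQ
  rw [map_sum, map_mul] at this
  have h2 : ∑ l ∈ Finset.range m, δ Λ c ^ l =
      ∑ l ∈ Finset.range m, aeval (δ Λ g) ((X : Λ[X]) ^ (j * l)) := by
    refine Finset.sum_congr rfl fun l _ => ?_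
    rw [aeval_δ_X_pow, ← δ_nsmul, ← hj, mul_comm, mul_smul]
  rw [h2, this]
  exact Ideal.mul_mem_right _ _ (aeval_cyclotomic_mem_cycIdeal Λ hgtop)

/-- `[c] - 1` is a unit modulo the cyclotomic ideal, up to the order of the group. -/
theorem exists_mul_add_card_mem_cycIdeal [Finite C] [IsAddCyclic C] {c : C} (hc : c ≠ 0) :
    ∃ q : AddMonoidAlgebra Λ C,
      (δ Λ c - 1) * q + (Nat.card C : AddMonoidAlgebra Λ C) ∈ cycIdeal Λ C := by
  have h1 : ∀ l : ℕ, ∃ q : AddMonoidAlgebra Λ C, δ Λ c ^ l - 1 = (δ Λ c - 1) * q := by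
    intro l
    have := sub_dvd_pow_sub_pow (δ Λ c) 1 l
    rw [one_pow] at this
    exact this
  choose q hq using h1
  refine ⟨∑ l ∈ Finset.range (Nat.card C), q l, ?_⟩
  have : (δ Λ c - 1) * ∑ l ∈ Finset.range (Nat.card C), q l + (Nat.card C : AddMonoidAlgebra Λ C)
      = ∑ l ∈ Finset.range (Nat.card C), δ Λ c ^ l := by
    rw [Finset.mul_sum]
    simp_rw [← hq]
    rw [Finset.sum_sub_distrib]
    simp
  rw [this]
  exact sum_δ_nsmul_mem_cycIdeal Λ hc

end cyc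

section quot
variable (M : Type*) [AddCommGroup M] (B : AddSubgroup M)

theorem quotMap_singleZero (u : Λ) :
    quotMap Λ M B (AddMonoidAlgebra.single 0 u) = AddMonoidAlgebra.single 0 u := by
  simp [quotMap]

/-- If `b ∉ B` then `[b] - 1` becomes a unit in the cyclotomic quotient of `M ⧸ B`. -/
theorem exists_cycQuotMap_mul_eq_one [B.FiniteIndex] [IsAddCyclic (M ⧸ B)]
    (hu : IsUnit ((B.index : ℕ) : Λ)) {b : M} (hb : b ∉ B) :
    ∃ r : AddMonoidAlgebra Λ M, cycQuotMap Λ M B (r * (δ Λ b - 1)) = 1 := by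
  have : Finite (M ⧸ B) := AddSubgroup.finite_quotient_of_finiteIndex
  have hc : (QuotientAddGroup.mk' B b) ≠ 0 := by
    intro h
    apply hb
    rwa [← AddMonoidHom.mem_ker, QuotientAddGroup.ker_mk'] at h
  obtain ⟨q, hq⟩ := exists_mul_add_card_mem_cycIdeal Λ hc
  obtain ⟨r₀, hr₀⟩ := quotMap_surjective Λ M B q
  obtain ⟨u, hu'⟩ := hu.exists_left_inv
  refine ⟨AddMonoidAlgebra.single 0 (-u) * r₀, ?_⟩
  have hidx : Nat.card (M ⧸ B) = B.index := rfl
  rw [hidx] at hq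
  have h1 : Ideal.Quotient.mk (cycIdeal Λ (M ⧸ B)) ((δ Λ (QuotientAddGroup.mk' B b) - 1) * q) =
      Ideal.Quotient.mk (cycIdeal Λ (M ⧸ B)) (-((B.index : ℕ) : AddMonoidAlgebra Λ (M ⧸ B))) := by
    rw [map_neg, eq_neg_iff_add_eq_zero, ← map_add]
    exact Ideal.Quotient.eq_zero_iff_mem.mpr hq
  have h0 : quotMap Λ M B (AddMonoidAlgebra.single 0 (-u) * r₀ * (δ Λ b - 1)) =
      AddMonoidAlgebra.single 0 (-u) * ((δ Λ (QuotientAddGroup.mk' B b) - 1) * q) := by
    rw [map_mul, map_mul, map_sub, map_one, quotMap_δ, hr₀, quotMap_singleZero, mul_assoc,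
      mul_comm q]
  rw [cycQuotMap, RingHom.comp_apply, h0, map_mul, h1, ← map_mul]
  have : (AddMonoidAlgebra.single (0 : M ⧸ B) (-u) * -((B.index : ℕ) : AddMonoidAlgebra Λ (M ⧸ B)))
      = 1 := by
    rw [mul_neg, AddMonoidAlgebra.natCast_def, AddMonoidAlgebra.single_mul_single, neg_mul, hu',
      AddMonoidAlgebra.single_neg, neg_neg, add_zero]
    rfl
  rw [this, map_one]

end quot

end Groth.Agent.Lib.Helper83.GrpAlgUnit
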