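import Groth.Agent.Lib.Helper14.DimAlg
import Groth.Agent.Lib.Helper84.PlanePoints

/-!
# Lower bounds for Hilbert functions via algebraically independent generators
-/

set_option autoImplicit false

namespace Groth.Agent.Lib.Helper83.HilbLower

open MvPolynomial


lemma le_choose (n k : ℕ) (hk : 1 ≤ k) (hkn : k + 1 ≤ n) : n ≤ n.choose k := by
  induction n generalizing k with
  | zero => omega
  | succ n ih =>
    rcases Nat.lt_or_ge k 2 with h | h
    · have : k = 1 := by omega
      subst this; simp
    · rcases Nat.eq_or_lt_of_le (show k ≤ n by omega) with h' | h'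
      · subst h'; simp [Nat.choose_succ_self_right]
      · obtain ⟨k', rfl⟩ : ∃ k', k = k' + 1 := ⟨k - 1, by omega⟩
        rw [Nat.choose_succ_succ']
        have := ih (k' + 1) (by omega) (by omega)
        have := Nat.choose_pos (show k' ≤ n by omega)
        omega

/-- In a finitely generated domain of Krull dimension `r` over a field, generated by the family
`g`, some `r` members of the family are algebraically independent. -/
lemma exists_algebraicIndependent_subfamily {k A : Type} [Field k] [CommRing A] [IsDomain A]
    [Algebra k A] [Algebra.FiniteType k A] {ι : Type} [Finite ι] (g : ι → A)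
    (hg : Algebra.adjoin k (Set.range g) = ⊤) (r : ℕ) (hr : ringKrullDim A = (r : WithBot ℕ∞)) :
    ∃ τ : Fin r → ι, Function.Injective τ ∧ AlgebraicIndependent k (fun j => g (τ j)) := by
  classical
  obtain ⟨φ, hfin, hinj⟩ := (Groth.Agent.S10843.result k A r).mp hr
  have htr : Algebra.trdeg k A = r :=
    Groth.Agent.Lib.Helper14.trdeg_eq_of_finite_injective k A r φ hinj hfin
  have : Algebra.IsAlgebraic (Algebra.adjoin k (Set.range g)) A := by
    rw [hg]
    exact ⟨fun a => isAlgebraic_algebraMap (R := (⊤ : Subalgebra k A)) (A := A) ⟨a, Algebra.mem_top⟩⟩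
  obtain ⟨u, hut, hu⟩ := exists_isTranscendenceBasis_subset (R := k) (Set.range g)
  have hcard : Cardinal.mk u = r := by rw [hu.cardinalMk_eq_trdeg, htr]
  have hfinu : Finite u := by
    rw [← Cardinal.lt_aleph0_iff_finite, hcard]; exact Cardinal.natCast_lt_aleph0
  have := Fintype.ofFinite u
  have hcard' : Fintype.card u = r := by
    rw [Cardinal.mk_fintype] at hcard; exact_mod_cast hcard
  let e : Fin r ≃ u := (Fintype.equivFinOfCardEq hcard').symm
  choose σ hσ using fun y : u => hut y.2
  have hσinj : Function.Injective σ := by
    intro y y' h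
    apply Subtype.ext
    rw [← hσ y, ← hσ y', h]
  refine ⟨σ ∘ e, hσinj.comp e.injective, ?_⟩
  have : (fun j => g ((σ ∘ e) j)) = ((↑) : u → A) ∘ e := by
    funext j; simp [hσ]
  rw [this]
  exact hu.1.comp e e.injective

end Groth.Agent.Lib.Helper83.HilbLower
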