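import Mathlib

set_option autoImplicit false
universe u v

namespace Groth.Agent.Lib.Helper83.HomSupp

open IsLocalRing

/-- p minimal over I, r ∈ p ⇒ some u ∉ p, k with u r^k ∈ I. -/
theorem exists_mul_pow_mem {A : Type*} [CommRing A] {I p : Ideal A}
    (hp : p ∈ I.minimalPrimes) {r : A} (hr : r ∈ p) :
    ∃ u, u ∉ p ∧ ∃ k : ℕ, u * r ^ k ∈ I := by
  have := hp.1.1
  by_contra h
  push Not at h
  have hdis : Disjoint (I : Set A) ((p.primeCompl ⊔ Submonoid.powers r : Submonoid A) : Set A) := by
    rw [Set.disjoint_left]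
    intro z hzI hzS
    obtain ⟨u, hu, w, ⟨k, rfl⟩, rfl⟩ := Submonoid.mem_sup.mp hzS
    exact h u hu k hzI
  obtain ⟨q, hq, hIq, hqS⟩ := Ideal.exists_le_prime_disjoint I _ hdis
  have hqp : q ≤ p := by
    intro z hz
    by_contra hzp
    exact Set.disjoint_left.mp hqS hz
      ((le_sup_left : p.primeCompl ≤ p.primeCompl ⊔ Submonoid.powers r) hzp)
  have hpq : p ≤ q := hp.2 ⟨hq, hIq⟩ hqp
  exact Set.disjoint_left.mp hqS (hpq hr)
    ((le_sup_right : Submonoid.powers r ≤ p.primeCompl ⊔ Submonoid.powers r)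
      (Submonoid.mem_powers r))

/-- Local case. -/
theorem exists_ne_zero_local (R : Type*) [CommRing R] [IsLocalRing R]
    (M : Type*) [AddCommGroup M] [Module R M] [Module.FinitePresentation R M] [Nontrivial M]
    (N : Type*) [AddCommGroup N] [Module R N] (x : N) (hx : x ≠ 0)
    (hnil : ∀ a ∈ maximalIdeal R, ∃ k : ℕ, a ^ k • x = 0) :
    ∃ f : M →ₗ[R] N, f ≠ 0 := by
  classical
  -- minimal generating finset
  have hex : ∃ n : ℕ, ∃ s : Finset M, s.card = n ∧ Submodule.span R (s : Set M) = ⊤ := by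
    obtain ⟨s, hs⟩ := (Module.Finite.fg_top : (⊤ : Submodule R M).FG)
    exact ⟨_, s, rfl, hs⟩
  obtain ⟨s, hscard, hs⟩ := Nat.find_spec hex
  have hmin : ∀ t : Finset M, Submodule.span R (t : Set M) = ⊤ → s.card ≤ t.card := by
    intro t ht
    rw [hscard]
    exact Nat.find_min' hex ⟨t, rfl, ht⟩
  have hsne : s.Nonempty := by
    rw [Finset.nonempty_iff_ne_empty]
    rintro rfl
    simp at hs
  obtain ⟨i0, hi0⟩ := hsne
  let l : (s → R) →ₗ[R] M := Fintype.linearCombination R (fun i : s => (i : M))
  have hl : Function.Surjective l := by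
    rw [← LinearMap.range_eq_top, Fintype.range_linearCombination, Subtype.range_coe_subtype]
    simpa using hs
  have hlv : ∀ v : s → R, l v = ∑ i : s, v i • (i : M) := fun v =>
    Fintype.linearCombination_apply R _ v
  have hK : (LinearMap.ker l).FG := Module.FinitePresentation.fg_ker l hl
  obtain ⟨t, ht⟩ := hK
  -- coefficients of relations are in the maximal ideal
  have hcoef : ∀ v ∈ LinearMap.ker l, ∀ i : s, v i ∈ maximalIdeal R := by
    intro v hv i
    by_contra hu
    rw [mem_maximalIdeal, mem_nonunits_iff, not_not] at hu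
    have hrel : ∑ j : s, v j • (j : M) = 0 := by rw [← hlv]; exact hv
    have hi : (i : M) ∈ Submodule.span R ((s.erase i : Finset M) : Set M) := by
      have h1 : v i • (i : M) = - ∑ j ∈ Finset.univ.erase i, v j • (j : M) := by
        rw [← Finset.add_sum_erase _ _ (Finset.mem_univ i)] at hrel
        exact eq_neg_of_add_eq_zero_left hrel
      have h2 : v i • (i : M) ∈ Submodule.span R ((s.erase i : Finset M) : Set M) := by
        rw [h1]
        refine Submodule.neg_mem _ (Submodule.sum_mem _ fun j hj => Submodule.smul_mem _ _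
          (Submodule.subset_span ?_))
        simp only [Finset.coe_erase, Set.mem_sdiff, Finset.mem_coe, Set.mem_singleton_iff]
        refine ⟨j.2, fun h => ?_⟩
        exact (Finset.mem_erase.mp hj).1 (Subtype.ext h)
      have := Submodule.smul_mem _ (hu.unit⁻¹ : Rˣ).val h2
      rwa [smul_smul, IsUnit.val_inv_mul, one_smul] at this
    have hspan : Submodule.span R ((s.erase i : Finset M) : Set M) = ⊤ := by
      rw [eq_top_iff, ← hs, Submodule.span_le]
      intro z hz
      by_cases hzi : z = i
      · rw [hzi]; exact hi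
      · exact Submodule.subset_span (by simpa using ⟨hz, hzi⟩)
    have := hmin _ hspan
    rw [Finset.card_erase_of_mem i.2] at this
    have hpos : 0 < s.card := Finset.card_pos.mpr ⟨i0, hi0⟩
    omega
  -- the ideal of coefficients
  let J : Ideal R := Ideal.span (((t ×ˢ (Finset.univ : Finset s)).image
    (fun p => p.1 p.2) : Finset R) : Set R)
  have hJfg : J.FG := ⟨_, rfl⟩
  have hJmem : ∀ v ∈ t, ∀ i : s, v i ∈ J := by
    intro v hv i
    refine Ideal.subset_span ?_
    simp only [Finset.coe_image, Set.mem_image, Finset.mem_coe, Finset.mem_product,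
      Finset.mem_univ, and_true, Prod.exists]
    exact ⟨v, i, hv, rfl⟩
  let I : Ideal R := LinearMap.ker (LinearMap.toSpanSingleton R N x)
  have hI : ∀ a : R, a ∈ I ↔ a • x = 0 := fun a => by
    simp [I, LinearMap.mem_ker, LinearMap.toSpanSingleton_apply]
  have hJrad : J ≤ I.radical := by
    refine Ideal.span_le.mpr ?_
    intro a ha
    simp only [Finset.coe_image, Set.mem_image, Finset.mem_coe, Finset.mem_product,
      Finset.mem_univ, and_true, Prod.exists] at ha
    obtain ⟨v, i, hv, rfl⟩ := ha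
    have hvK : v ∈ LinearMap.ker l := by rw [← ht]; exact Submodule.subset_span hv
    obtain ⟨k, hk⟩ := hnil _ (hcoef v hvK i)
    exact ⟨k, (hI _).mpr hk⟩
  have hpow : ∃ k : ℕ, J ^ k ≤ I := Ideal.exists_pow_le_of_le_radical_of_fg hJrad hJfg
  have hk0 : Nat.find hpow ≠ 0 := by
    intro h0
    have := Nat.find_spec hpow
    rw [h0, pow_zero] at this
    have h1 : (1 : R) ∈ I := this (by rw [Ideal.one_eq_top]; exact Submodule.mem_top)
    rw [hI, one_smul] at h1
    exact hx h1
  have hnot : ¬ J ^ (Nat.find hpow - 1) ≤ I := Nat.find_min hpow (Nat.sub_one_lt hk0)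
  obtain ⟨b, hbJ, hbI⟩ := SetLike.not_le_iff_exists.mp hnot
  have hy : b • x ≠ 0 := fun h => hbI ((hI b).mpr h)
  have hJy : ∀ a ∈ J, a • (b • x) = 0 := by
    intro a ha
    have : a * b ∈ J ^ (Nat.find hpow) := by
      have h1 : Nat.find hpow = (Nat.find hpow - 1) + 1 := by omega
      rw [h1, pow_succ']
      exact Ideal.mul_mem_mul ha hbJ
    have := Nat.find_spec hpow this
    rwa [hI, mul_smul] at this
  let φ : (s → R) →ₗ[R] N :=
    (LinearMap.toSpanSingleton R N (b • x)) ∘ₗ (LinearMap.proj (⟨i0, hi0⟩ : s))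
  have hφ : ∀ v, φ v = v ⟨i0, hi0⟩ • (b • x) := fun v => by
    simp [φ, LinearMap.toSpanSingleton_apply]
  have hKφ : LinearMap.ker l ≤ LinearMap.ker φ := by
    rw [← ht, Submodule.span_le]
    intro v hv
    simp only [SetLike.mem_coe, LinearMap.mem_ker, hφ]
    exact hJy _ (hJmem v hv _)
  let e := l.quotKerEquivOfSurjective hl
  refine ⟨((LinearMap.ker l).liftQ φ hKφ) ∘ₗ e.symm.toLinearMap, fun h0 => ?_⟩
  have h1 := LinearMap.congr_fun h0 (l (Pi.single ⟨i0, hi0⟩ 1))
  have h2 : e.symm (l (Pi.single ⟨i0, hi0⟩ 1)) =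
      Submodule.Quotient.mk (Pi.single ⟨i0, hi0⟩ 1) := by
    rw [LinearEquiv.symm_apply_eq]
    exact (LinearMap.quotKerEquivOfSurjective_apply_mk l hl _).symm
  simp only [LinearMap.coe_comp, LinearEquiv.coe_coe, Function.comp_apply, h2,
    LinearMap.zero_apply] at h1
  rw [Submodule.liftQ_apply, hφ, Pi.single_eq_same, one_smul] at h1
  exact hy h1


theorem main (A : Type u) [CommRing A] (M : Type v) [AddCommGroup M] [Module A M]
    [Module.FinitePresentation A M] (N : Type v) [AddCommGroup N] [Module A N] [Nontrivial N]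
    (h : Module.support A N ⊆ Module.support A M) : Nontrivial (M →ₗ[A] N) := by
  classical
  obtain ⟨x, hx⟩ := exists_ne (0 : N)
  let I : Ideal A := LinearMap.ker (LinearMap.toSpanSingleton A N x)
  have hI : ∀ a : A, a ∈ I ↔ a • x = 0 := fun a => by
    simp [I, LinearMap.mem_ker, LinearMap.toSpanSingleton_apply]
  have hIne : I ≠ ⊤ := by
    intro htop
    have : (1 : A) ∈ I := htop ▸ Submodule.mem_top
    rw [hI, one_smul] at this
    exact hx this
  obtain ⟨m, hm, hIm⟩ := Ideal.exists_le_maximal I hIne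
  obtain ⟨p, hp, -⟩ := Ideal.exists_minimalPrimes_le hIm
  have hpp : p.IsPrime := hp.1.1
  have hIp : I ≤ p := hp.1.2
  have hpN : (⟨p, hpp⟩ : PrimeSpectrum A) ∈ Module.support A N := by
    rw [Module.mem_support_iff_exists_annihilator]
    refine ⟨x, fun a ha => hIp ((hI a).mpr ?_)⟩
    exact (Submodule.mem_annihilator_span_singleton _ _).mp ha
  have hpM := h hpN
  rw [Module.mem_support_iff] at hpM
  have : Nontrivial (LocalizedModule p.primeCompl M) := hpM
  let S := p.primeCompl
  let x' : LocalizedModule S N := LocalizedModule.mk x 1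
  have hx' : x' ≠ 0 := by
    intro h0
    rw [← LocalizedModule.zero_mk (1 : S), LocalizedModule.mk_eq] at h0
    obtain ⟨u, hu⟩ := h0
    simp only [one_smul, smul_zero] at hu
    exact u.2 (hIp ((hI _).mpr hu))
  have hnil : ∀ a ∈ IsLocalRing.maximalIdeal (Localization.AtPrime p),
      ∃ k : ℕ, a ^ k • x' = 0 := by
    intro a ha
    obtain ⟨⟨r, s⟩, rfl⟩ := IsLocalization.mk'_surjective S a
    rw [IsLocalization.AtPrime.mk'_mem_maximal_iff (Localization.AtPrime p) p] at ha
    obtain ⟨u, hu, k, huk⟩ := exists_mul_pow_mem hp ha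
    refine ⟨k, ?_⟩
    have hunit : IsUnit (algebraMap A (Localization.AtPrime p) (u * (s : A) ^ k)) :=
      IsLocalization.map_units _ (⟨u * (s : A) ^ k, S.mul_mem hu (S.pow_mem s.2 k)⟩ : S)
    rw [← hunit.smul_eq_zero, smul_smul]
    have : algebraMap A (Localization.AtPrime p) (u * (s : A) ^ k) *
        IsLocalization.mk' (Localization.AtPrime p) r s ^ k =
        algebraMap A (Localization.AtPrime p) (u * r ^ k) := by
      rw [map_mul, map_mul, map_pow, map_pow, mul_assoc, ← mul_pow, mul_comm (algebraMap _ _ _)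
        (IsLocalization.mk' _ _ _), IsLocalization.mk'_spec]
    rw [this, algebraMap_smul, LocalizedModule.smul'_mk, (hI _).mp huk, LocalizedModule.zero_mk]
  obtain ⟨g, hg⟩ := exists_ne_zero_local (Localization.AtPrime p) (LocalizedModule S M)
    (LocalizedModule S N) x' hx' hnil
  by_contra hnt
  rw [not_nontrivial_iff_subsingleton] at hnt
  obtain ⟨⟨f, s⟩, hfs⟩ := IsLocalizedModule.surj S (LocalizedModule.map S (M := M) (N := N)) g
  have hf0 : f = 0 := Subsingleton.elim _ _
  rw [hf0, map_zero] at hfs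
  apply hg
  have hunit : IsUnit (algebraMap A (Localization.AtPrime p) (s : A)) :=
    IsLocalization.map_units _ s
  ext z
  have := LinearMap.congr_fun hfs z
  simp only [LinearMap.zero_apply] at this
  rw [Submonoid.smul_def, LinearMap.smul_apply, ← algebraMap_smul (Localization.AtPrime p),
    hunit.smul_eq_zero] at this
  rw [this, LinearMap.zero_apply]

end Groth.Agent.Lib.Helper83.HomSupp
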