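import Mathlib

/-!
# A Lipschitz-type estimate for homogeneous functions on `ℚ^r` from integer-step directional bounds
-/

namespace Groth.Agent.Lib.Helper83.HomogEstimate

open Finset

/-- sup norm of a rational vector, computed in `ℝ^r`. -/
noncomputable abbrev nr {r : ℕ} (v : Fin r → ℚ) : ℝ := ‖(fun j => ((v j : ℚ) : ℝ))‖

/-- The sum `Σ_{q=1}^n m^(n-q) δ^q`. -/
noncomputable abbrev S (n : ℕ) (m δ : ℝ) : ℝ := (Finset.Icc 1 n).sum (fun q => m ^ (n - q) * δ ^ q)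

lemma nr_nonneg {r : ℕ} (v : Fin r → ℚ) : 0 ≤ nr v := norm_nonneg _

lemma abs_le_nr {r : ℕ} (v : Fin r → ℚ) (j : Fin r) : |((v j : ℚ) : ℝ)| ≤ nr v := by
  have := norm_le_pi_norm (fun j => ((v j : ℚ) : ℝ)) j
  rw [Real.norm_eq_abs] at this
  exact this

lemma nr_le {r : ℕ} (v : Fin r → ℚ) {M : ℝ} (hM : 0 ≤ M) (h : ∀ j, |((v j : ℚ) : ℝ)| ≤ M) :
    nr v ≤ M := by
  rw [nr, pi_norm_le_iff_of_nonneg hM]
  intro j
  rw [Real.norm_eq_abs]
  exact h j

lemma nr_smul {r : ℕ} (q : ℚ) (v : Fin r → ℚ) : nr (q • v) = |(q : ℝ)| * nr v := by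
  have : (fun j => (((q • v) j : ℚ) : ℝ)) = (q : ℝ) • (fun j => ((v j : ℚ) : ℝ)) := by
    funext j
    simp
  rw [nr, this, norm_smul, Real.norm_eq_abs]

lemma S_nonneg (n : ℕ) {m δ : ℝ} (hm : 0 ≤ m) (hδ : 0 ≤ δ) : 0 ≤ S n m δ :=
  Finset.sum_nonneg fun _ _ => mul_nonneg (pow_nonneg hm _) (pow_nonneg hδ _)

lemma S_mono (n : ℕ) {m m' δ δ' : ℝ} (hm : 0 ≤ m) (hmm : m ≤ m') (hδ : 0 ≤ δ) (hδδ : δ ≤ δ') :
    S n m δ ≤ S n m' δ' := by
  apply Finset.sum_le_sum
  intro q _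
  exact mul_le_mul (pow_le_pow_left₀ hm hmm _) (pow_le_pow_left₀ hδ hδδ _) (pow_nonneg hδ _)
    (pow_nonneg (hm.trans hmm) _)

lemma S_scale (n : ℕ) (c m δ : ℝ) : S n (c * m) (c * δ) = c ^ n * S n m δ := by
  rw [S, S, Finset.mul_sum]
  apply Finset.sum_congr rfl
  intro q hq
  have hq' : q ≤ n := (Finset.mem_Icc.mp hq).2
  have : c ^ n = c ^ (n - q) * c ^ q := by rw [← pow_add, Nat.sub_add_cancel hq']
  rw [mul_pow, mul_pow, this]
  ring

section step

variable {r n : ℕ} (f : (Fin r → ℚ) → ℝ) (C : Fin r → ℝ)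
  (hdir : ∀ (i : Fin r) (v : Fin r → ℚ) (b : ℕ), 1 ≤ b →
      |f (v - (b : ℚ) • Pi.single i 1) - f v| ≤ C i * S n (nr v) (b : ℝ))

/-- hybrid vector: `W` on the first `i` coordinates, `V` on the others -/
def Z (V W : Fin r → ℚ) (i : ℕ) : Fin r → ℚ := fun j => if (j : ℕ) < i then W j else V j

lemma Z_zero (V W : Fin r → ℚ) : Z V W 0 = V := by
  funext j; simp [Z]

lemma Z_top (V W : Fin r → ℚ) : Z V W r = W := by
  funext j; simp [Z]

lemma nr_Z_le (V W : Fin r → ℚ) (i : ℕ) : nr (Z V W i) ≤ max (nr V) (nr W) := by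
  apply nr_le _ (le_max_of_le_left (nr_nonneg V))
  intro j
  unfold Z
  split_ifs
  · exact (abs_le_nr W j).trans (le_max_right _ _)
  · exact (abs_le_nr V j).trans (le_max_left _ _)

include hdir in
lemma step_bound (V W : Fin r → ℚ) (hint : ∀ j, ∃ z : ℤ, V j - W j = z) (i : Fin r) :
    |f (Z V W i) - f (Z V W (i + 1))| ≤ |C i| * S n (max (nr V) (nr W)) (nr (V - W)) := by
  set m := max (nr V) (nr W) with hm
  set δ := nr (V - W) with hδ
  have hm0 : 0 ≤ m := le_max_of_le_left (nr_nonneg V)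
  have hδ0 : 0 ≤ δ := nr_nonneg _
  have hS0 : 0 ≤ S n m δ := S_nonneg n hm0 hδ0
  obtain ⟨z, hz⟩ := hint i
  have hzδ : |((z : ℤ) : ℝ)| ≤ δ := by
    have := abs_le_nr (V - W) i
    rw [Pi.sub_apply, hz] at this
    simpa using this
  -- Z (i+1) differs from Z i only at i
  have hZ : ∀ (b : ℚ), V i - W i = b → Z V W (i + 1) = Z V W i - b • Pi.single i 1 := by
    intro b hb
    funext j
    simp only [Z, Pi.sub_apply, Pi.smul_apply, smul_eq_mul]
    by_cases hji : j = i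
    · subst hji
      simp only [Nat.lt_succ_self, if_true, lt_irrefl, if_false, Pi.single_eq_same, mul_one]
      linarith
    · have hji' : (j : ℕ) ≠ (i : ℕ) := fun h => hji (Fin.ext h)
      rw [Pi.single_eq_of_ne hji, mul_zero, sub_zero]
      by_cases h1 : (j : ℕ) < i
      · rw [if_pos h1, if_pos (by omega)]
      · rw [if_neg h1, if_neg (by omega)]
  rcases lt_trichotomy z 0 with hneg | hzero | hpos
  · -- W i > V i
    obtain ⟨b, hb⟩ : ∃ b : ℕ, (b : ℤ) = -z := ⟨(-z).toNat, Int.toNat_of_nonneg (by omega)⟩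
    have hb1 : 1 ≤ b := by omega
    have hbq : ((b : ℕ) : ℚ) = -(z : ℚ) := by
      have : ((b : ℤ) : ℚ) = ((-z : ℤ) : ℚ) := by rw [hb]
      push_cast at this
      exact this
    have hZ' : Z V W i = Z V W (i + 1) - (b : ℚ) • Pi.single i 1 := by
      rw [hZ (z : ℚ) hz, hbq]
      funext j
      simp
    have h1 := hdir i (Z V W (i + 1)) b hb1
    rw [← hZ'] at h1
    have hbδ : (b : ℝ) ≤ δ := by
      have : ((b : ℕ) : ℝ) = -(z : ℝ) := by
        have : ((b : ℤ) : ℝ) = ((-z : ℤ) : ℝ) := by rw [hb]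
        push_cast at this
        exact this
      rw [this]
      exact (neg_le_abs _).trans hzδ
    calc |f (Z V W i) - f (Z V W (i + 1))| ≤ C i * S n (nr (Z V W (i + 1))) (b : ℝ) := h1
      _ ≤ |C i| * S n (nr (Z V W (i + 1))) (b : ℝ) :=
          mul_le_mul_of_nonneg_right (le_abs_self _)
            (S_nonneg n (nr_nonneg _) (Nat.cast_nonneg b))
      _ ≤ |C i| * S n m δ :=
          mul_le_mul_of_nonneg_left
            (S_mono n (nr_nonneg _) (nr_Z_le V W _) (Nat.cast_nonneg b) hbδ) (abs_nonneg _)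
  · -- equal
    have : Z V W (i + 1) = Z V W i := by
      rw [hZ 0 (by rw [hz, hzero]; simp)]
      simp
    rw [this, sub_self, abs_zero]
    exact mul_nonneg (abs_nonneg _) hS0
  · obtain ⟨b, hb⟩ : ∃ b : ℕ, (b : ℤ) = z := ⟨z.toNat, Int.toNat_of_nonneg (by omega)⟩
    have hb1 : 1 ≤ b := by omega
    have hbq : ((b : ℕ) : ℚ) = (z : ℚ) := by
      have : ((b : ℤ) : ℚ) = ((z : ℤ) : ℚ) := by rw [hb]
      push_cast at this
      exact this
    have hZ' : Z V W (i + 1) = Z V W i - (b : ℚ) • Pi.single i 1 := by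
      rw [hZ (z : ℚ) hz, hbq]
    have h1 := hdir i (Z V W i) b hb1
    rw [← hZ', abs_sub_comm] at h1
    have hbδ : (b : ℝ) ≤ δ := by
      have : ((b : ℕ) : ℝ) = (z : ℝ) := by
        have : ((b : ℤ) : ℝ) = ((z : ℤ) : ℝ) := by rw [hb]
        push_cast at this
        exact this
      rw [this]
      exact (le_abs_self _).trans hzδ
    calc |f (Z V W i) - f (Z V W (i + 1))| ≤ C i * S n (nr (Z V W i)) (b : ℝ) := h1
      _ ≤ |C i| * S n (nr (Z V W i)) (b : ℝ) :=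
          mul_le_mul_of_nonneg_right (le_abs_self _)
            (S_nonneg n (nr_nonneg _) (Nat.cast_nonneg b))
      _ ≤ |C i| * S n m δ :=
          mul_le_mul_of_nonneg_left
            (S_mono n (nr_nonneg _) (nr_Z_le V W _) (Nat.cast_nonneg b) hbδ) (abs_nonneg _)

/-- The constants, indexed by `ℕ`. -/
noncomputable def cN (i : ℕ) : ℝ := if h : i < r then |C ⟨i, h⟩| else 0

lemma cN_nonneg (i : ℕ) : 0 ≤ cN C i := by
  unfold cN
  split_ifs
  · exact abs_nonneg _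
  · exact le_refl _

include hdir in
lemma telescope (V W : Fin r → ℚ) (hint : ∀ j, ∃ z : ℤ, V j - W j = z) (k : ℕ) (hk : k ≤ r) :
    |f (Z V W 0) - f (Z V W k)| ≤
      (∑ i ∈ Finset.range k, cN C i) * S n (max (nr V) (nr W)) (nr (V - W)) := by
  induction k with
  | zero => simp
  | succ k ih =>
    have hk' : k < r := hk
    have h1 := ih hk'.le
    have h2 := step_bound f C hdir V W hint ⟨k, hk'⟩
    have h3 : cN C k = |C ⟨k, hk'⟩| := by simp [cN, hk']
    rw [Finset.sum_range_succ, add_mul, h3]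
    calc |f (Z V W 0) - f (Z V W (k + 1))|
        = |(f (Z V W 0) - f (Z V W k)) + (f (Z V W k) - f (Z V W (k + 1)))| := by ring_nf
      _ ≤ |f (Z V W 0) - f (Z V W k)| + |f (Z V W k) - f (Z V W (k + 1))| := abs_add_le _ _
      _ ≤ _ := add_le_add h1 h2

include hdir in
lemma integral_bound (V W : Fin r → ℚ) (hint : ∀ j, ∃ z : ℤ, V j - W j = z) :
    |f V - f W| ≤ (∑ i ∈ Finset.range r, cN C i) * S n (max (nr V) (nr W)) (nr (V - W)) := by
  have := telescope f C hdir V W hint r le_rfl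
  rwa [Z_zero, Z_top] at this

end step

theorem main (r n : ℕ) (f : (Fin r → ℚ) → ℝ)
    (hhom : ∀ (q : ℚ) (v : Fin r → ℚ), 0 < q → f (q • v) = (q : ℝ) ^ n * f v)
    (hdir : ∀ i : Fin r, ∃ Ci : ℝ, ∀ (v : Fin r → ℚ) (b : ℕ), 1 ≤ b →
      |f (v - (b : ℚ) • Pi.single i 1) - f v| ≤ Ci * S n (nr v) (b : ℝ)) :
    ∃ C : ℝ, 0 < C ∧ ∀ v w : Fin r → ℚ,
      |f v - f w| ≤ C * S n (max (nr v) (nr w)) (nr (v - w)) := by
  classical
  choose C hC using hdir
  have hsum0 : 0 ≤ ∑ i ∈ Finset.range r, cN C i := Finset.sum_nonneg fun i _ => cN_nonneg C i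
  refine ⟨(∑ i ∈ Finset.range r, cN C i) + 1, by linarith, ?_⟩
  intro v w
  -- common denominator of the differences
  set N : ℕ := ∏ j, (v j - w j).den with hN
  have hNpos : 0 < N := Finset.prod_pos fun j _ => Rat.den_pos _
  have hNq : (0 : ℚ) < (N : ℚ) := by exact_mod_cast hNpos
  have hNr : (0 : ℝ) < (N : ℝ) := by exact_mod_cast hNpos
  set V : Fin r → ℚ := (N : ℚ) • v with hV
  set W : Fin r → ℚ := (N : ℚ) • w with hW
  have hint : ∀ j, ∃ z : ℤ, V j - W j = z := by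
    intro j
    obtain ⟨N', hN'⟩ : (v j - w j).den ∣ N := Finset.dvd_prod_of_mem _ (Finset.mem_univ j)
    refine ⟨(N' : ℤ) * (v j - w j).num, ?_⟩
    simp only [hV, hW, Pi.smul_apply, smul_eq_mul]
    rw [← mul_sub, hN']
    push_cast
    have := Rat.mul_den_eq_num (v j - w j)
    rw [← this]
    ring
  have hb := integral_bound f C hC V W hint
  have hVW : V - W = (N : ℚ) • (v - w) := by rw [hV, hW, smul_sub]
  have habsN : |((N : ℚ) : ℝ)| = (N : ℝ) := by
    rw [abs_of_nonneg]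
    · simp
    · exact_mod_cast hNpos.le
  rw [hVW, hV, hW, nr_smul, nr_smul, nr_smul, habsN, ← mul_max_of_nonneg _ _ hNr.le, S_scale,
    hhom _ _ hNq, hhom _ _ hNq, ← mul_sub, abs_mul] at hb
  have hNn : (0 : ℝ) < (N : ℝ) ^ n := pow_pos hNr n
  have hcast : (((N : ℕ) : ℚ) : ℝ) = (N : ℝ) := by simp
  rw [hcast, abs_of_pos hNn] at hb
  have hS0 : 0 ≤ S n (max (nr v) (nr w)) (nr (v - w)) :=
    S_nonneg n (le_max_of_le_left (nr_nonneg v)) (nr_nonneg _)
  have h2 : (N : ℝ) ^ n * |f v - f w| ≤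
      (N : ℝ) ^ n * ((∑ i ∈ Finset.range r, cN C i) * S n (max (nr v) (nr w)) (nr (v - w))) := by
    calc (N : ℝ) ^ n * |f v - f w| ≤ _ := hb
      _ = _ := by ring
  have h3 := le_of_mul_le_mul_left h2 hNn
  calc |f v - f w| ≤ _ := h3
    _ ≤ _ := by
      rw [add_mul, one_mul]
      linarith

end Groth.Agent.Lib.Helper83.HomogEstimate
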