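import Mathlib

set_option autoImplicit false

namespace Groth.Agent.Lib.Helper83.IdemAway

open Polynomial

universe u

/-- Hensel step: from an approximate root of `X^2 - t^n X` to an exact one. -/
theorem exists_root (A : Type u) [CommRing A] (t : A) [HenselianRing A (Ideal.span {t})]
    (n : ℕ) (a' c : A) (hc : a' ^ 2 - t ^ n * a' = t ^ (3 * n + 1) * c) :
    ∃ a'' y : A, a'' ^ 2 = t ^ n * a'' ∧ a'' - a' = t ^ (n + 1) * y := by
  have hjac : Ideal.span {t} ≤ (⊥ : Ideal A).jacobson := HenselianRing.jac
  have htj : ∀ x : A, IsUnit (t * x + 1) := by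
    intro x
    have h1 : t ∈ (⊥ : Ideal A).jacobson := hjac (Ideal.mem_span_singleton_self t)
    exact (Ideal.mem_jacobson_bot.mp h1) x
  -- v = 1 + 4 t^(n+1) c
  have hv : IsUnit (1 + 4 * t ^ (n + 1) * c) := by
    have := htj (4 * t ^ n * c)
    convert this using 1
    ring
  obtain ⟨v, hv'⟩ := hv
  set w : A := ((v⁻¹ : Aˣ) : A) with hw
  have hvw : (1 + 4 * t ^ (n + 1) * c) * w = 1 := by
    rw [← hv', hw]; exact Units.mul_inv v
  set r : A := w * t ^ (n + 1) * c with hr
  let g : A[X] := X ^ 2 + (X + C r)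
  have hgm : g.Monic := by
    apply Polynomial.monic_X_pow_add
    calc (X + C r : A[X]).degree ≤ 1 := by
          refine (Polynomial.degree_add_le _ _).trans ?_
          rw [max_le_iff]
          exact ⟨Polynomial.degree_X_le, (Polynomial.degree_C_le).trans (by norm_num)⟩
      _ < ((2 : ℕ) : WithBot ℕ) := by norm_num
  have hg0 : g.eval 0 ∈ Ideal.span {t} := by
    simp only [g, eval_add, eval_pow, eval_X, eval_C]
    rw [Ideal.mem_span_singleton']
    refine ⟨w * t ^ n * c, ?_⟩
    rw [hr]; ring
  have hg1 : IsUnit (Ideal.Quotient.mk (Ideal.span {t}) (g.derivative.eval 0)) := by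
    have : g.derivative.eval 0 = 1 := by
      simp [g, derivative_add, derivative_pow]
    rw [this, map_one]; exact isUnit_one
  obtain ⟨z, hz, hz0⟩ := HenselianRing.is_henselian g hgm 0 hg0 hg1
  rw [sub_zero] at hz0
  have hzr : z ^ 2 + (z + r) = 0 := by
    have := hz
    simp only [g, IsRoot.def, eval_add, eval_pow, eval_X, eval_C] at this
    exact this
  obtain ⟨z1, hz1⟩ := Ideal.mem_span_singleton'.mp hz0
  have hu : IsUnit (z + 1) := by
    have := htj z1
    rw [← hz1]; convert this using 1; ring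
  obtain ⟨u, hu'⟩ := hu
  set ui : A := ((u⁻¹ : Aˣ) : A) with hui
  have huu : (z + 1) * ui = 1 := by rw [← hu', hui]; exact Units.mul_inv u
  have hzz : z = -(r * ui) := by
    have h1 : z * (z + 1) = -r := by linear_combination hzr
    calc z = z * ((z + 1) * ui) := by rw [huu, mul_one]
      _ = (z * (z + 1)) * ui := by ring
      _ = -(r * ui) := by rw [h1]; ring
  set d : A := 2 * a' - t ^ n with hd
  have hd2 : d ^ 2 = t ^ (2 * n) * (1 + 4 * t ^ (n + 1) * c) := by
    rw [hd]; linear_combination 4 * hc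
  refine ⟨a' + d * z, d * (-(w * c * ui)), ?_, ?_⟩
  · have key : (a' + d * z) ^ 2 - t ^ n * (a' + d * z)
        = (a' ^ 2 - t ^ n * a') + d ^ 2 * (z ^ 2 + z) := by rw [hd]; ring
    have hz2 : z ^ 2 + z = -r := by linear_combination hzr
    have : (a' + d * z) ^ 2 - t ^ n * (a' + d * z) = 0 := by
      rw [key, hc, hd2, hz2, hr]
      linear_combination (-(t ^ (3 * n + 1) * c)) * hvw
    exact sub_eq_zero.mp this
  · rw [hzz, hr]; ring

/-- difference of commuting idempotents is a "tripotent". -/
theorem idem_sub_cube {R : Type u} [CommRing R] {e e' : R} (he : IsIdempotentElem e)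
    (he' : IsIdempotentElem e') : (e - e') ^ 3 = e - e' := by
  have h1 : e * e = e := he
  have h2 : e' * e' = e' := he'
  linear_combination (e + 1 - 3 * e') * h1 + (3 * e - e' - 1) * h2

theorem idem_eq_of_isUnit {R : Type u} [CommRing R] {e e' : R} (he : IsIdempotentElem e)
    (he' : IsIdempotentElem e') (hu : IsUnit (1 - (e - e') ^ 2)) : e = e' := by
  have h := idem_sub_cube he he'
  have h0 : (e - e') * (1 - (e - e') ^ 2) = 0 := by linear_combination -h
  have := (hu.mul_left_eq_zero).mp h0
  exact sub_eq_zero.mp this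

end Groth.Agent.Lib.Helper83.IdemAway
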