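import Groth.Agent.Lib.Helper83.IdemAway1

set_option autoImplicit false

namespace Groth.Agent.Lib.Helper83.IdemAway

open Polynomial

universe u

theorem mem_ker_evalₐ (A : Type u) [CommRing A] (t : A) (N : ℕ)
    (x : AdicCompletion (Ideal.span {t}) A)
    (hx : AdicCompletion.evalₐ (Ideal.span {t}) N x = 0) :
    ∃ y : AdicCompletion (Ideal.span {t}) A,
      x = algebraMap A (AdicCompletion (Ideal.span {t}) A) t ^ N * y := by
  have hfg : (Ideal.span {t} : Ideal A).FG := ⟨{t}, by simp⟩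
  have h1 : AdicCompletion.eval (Ideal.span {t}) A N x = 0 := by
    rw [← AdicCompletion.factor_evalₐ_eq_eval (Ideal.span {t}) x (by simp), hx, map_zero]
  have h2 : x ∈ ((Ideal.span {t}) ^ N • ⊤ : Submodule A (AdicCompletion (Ideal.span {t}) A)) := by
    rw [AdicCompletion.pow_smul_top_eq_ker_eval hfg]
    exact h1
  rw [Ideal.span_singleton_pow, Submodule.ideal_span_singleton_smul,
    Submodule.mem_smul_pointwise_iff_exists] at h2
  obtain ⟨y, -, hy⟩ := h2
  refine ⟨y, ?_⟩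
  rw [← hy, Algebra.smul_def, map_pow]

theorem isUnit_one_sub (A : Type u) [CommRing A] (t : A)
    (y : AdicCompletion (Ideal.span {t}) A) :
    IsUnit (1 - algebraMap A (AdicCompletion (Ideal.span {t}) A) t * y) := by
  have hfg : (Ideal.span {t} : Ideal A).FG := ⟨{t}, by simp⟩
  have hc := AdicCompletion.isAdicComplete_self (Ideal.span {t}) hfg
  have hj := IsAdicComplete.le_jacobson_bot
    ((Ideal.span {t}).map (algebraMap A (AdicCompletion (Ideal.span {t}) A)))
  have hm : algebraMap A (AdicCompletion (Ideal.span {t}) A) t ∈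
      (⊥ : Ideal (AdicCompletion (Ideal.span {t}) A)).jacobson :=
    hj (Ideal.mem_map_of_mem _ (Ideal.mem_span_singleton_self t))
  have := (Ideal.mem_jacobson_bot.mp hm) (-y)
  convert this using 1
  ring

section abstract

variable {A Ah SA Sh : Type u} [CommRing A] [CommRing Ah] [Algebra A Ah] [CommRing SA]
  [CommRing Sh] [Algebra A SA] [Algebra Ah Sh] (t : A) [IsLocalization.Away t SA]
  [IsLocalization.Away (algebraMap A Ah t) Sh] (φ : SA →+* Sh)
  (hφ : ∀ x : A, φ (algebraMap A SA x) = algebraMap Ah Sh (algebraMap A Ah x))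

include hφ in
theorem exists_idem_abs [HenselianRing A (Ideal.span {t})]
    (hdense : ∀ (N : ℕ) (a : Ah), ∃ (a' : A) (y : Ah), a - algebraMap A Ah a' = algebraMap A Ah t ^ N * y)
    (hinj : ∀ (N : ℕ) (x : A) (y : Ah), algebraMap A Ah x = algebraMap A Ah t ^ N * y →
      ∃ c : A, x = t ^ N * c)
    (hunit : ∀ y : Ah, IsUnit (1 - algebraMap A Ah t * y))
    (e : Sh) (he : IsIdempotentElem e) :
    ∃ e₀ : SA, IsIdempotentElem e₀ ∧ φ e₀ = e := by
  obtain ⟨n0, a0, h0⟩ := IsLocalization.Away.surj (algebraMap A Ah t) e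
  have hee : e * e = e := he
  generalize hτ : algebraMap A Ah t = τ at *
  have h1 : algebraMap Ah Sh (a0 ^ 2) = algebraMap Ah Sh (τ ^ n0 * a0) := by
    rw [map_pow, map_mul, map_pow, ← h0]
    linear_combination (algebraMap Ah Sh τ ^ n0) ^ 2 * hee
  obtain ⟨m, hm⟩ := IsLocalization.Away.exists_of_eq τ h1
  obtain ⟨a1, ha1d⟩ : ∃ a1 : Ah, a1 = τ ^ m * a0 := ⟨_, rfl⟩
  obtain ⟨n, hn⟩ : ∃ n : ℕ, n = n0 + m := ⟨_, rfl⟩
  have ha1 : a1 ^ 2 = τ ^ n * a1 := by
    rw [ha1d, hn, pow_add]; linear_combination τ ^ m * hm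
  have he1 : e * algebraMap Ah Sh τ ^ n = algebraMap Ah Sh a1 := by
    rw [hn, pow_add, ← mul_assoc, h0, ha1d, map_mul, map_pow]; ring
  -- approximate
  obtain ⟨a', y1, hy1⟩ := hdense (3 * n + 1) a1
  have hf : ∃ c : A, a' ^ 2 - t ^ n * a' = t ^ (3 * n + 1) * c := by
    apply hinj (3 * n + 1) _ (y1 * (- 2 * a1 + τ ^ n + τ ^ (3 * n + 1) * y1))
    rw [map_sub, map_mul, map_pow, map_pow, hτ]
    have : algebraMap A Ah a' = a1 - τ ^ (3 * n + 1) * y1 := by rw [← hy1]; ring
    rw [this]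
    linear_combination ha1
  obtain ⟨c, hc⟩ := hf
  obtain ⟨a'', y, hroot, hy⟩ := exists_root A t n a' c hc
  -- the idempotent
  have htu : IsUnit (algebraMap A SA t) := IsLocalization.Away.algebraMap_isUnit t
  obtain ⟨u, hu⟩ := htu
  obtain ⟨ui, hui⟩ : ∃ ui : SA, ui = ((u⁻¹ : SAˣ) : SA) := ⟨_, rfl⟩
  have huu : algebraMap A SA t * ui = 1 := by
    rw [← hu, hui]; exact Units.mul_inv u
  have hroot' : algebraMap A SA a'' ^ 2 = algebraMap A SA t ^ n * algebraMap A SA a'' := by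
    rw [← map_pow, hroot, map_mul, map_pow]
  have huun : algebraMap A SA t ^ n * ui ^ n = 1 := by
    rw [← mul_pow, huu, one_pow]
  have hidem : IsIdempotentElem (algebraMap A SA a'' * ui ^ n) := by
    show (algebraMap A SA a'' * ui ^ n) * (algebraMap A SA a'' * ui ^ n) = _
    linear_combination (ui ^ n) ^ 2 * hroot' + (algebraMap A SA a'' * ui ^ n) * huun
  refine ⟨_, hidem, ?_⟩
  have hφi : IsIdempotentElem (φ (algebraMap A SA a'' * ui ^ n)) := hidem.map φ
  -- compare
  have hτu : IsUnit (algebraMap Ah Sh τ) := IsLocalization.Away.algebraMap_isUnit τ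
  have h3 : φ (algebraMap A SA a'' * ui ^ n) * algebraMap Ah Sh τ ^ n
      = algebraMap Ah Sh (algebraMap A Ah a'') := by
    rw [← hτ, ← hφ t, ← map_pow, ← map_mul, ← hφ a'']
    congr 1
    linear_combination (algebraMap A SA a'') * huun
  have h5 : algebraMap A Ah a'' - a1 = τ ^ (n + 1) * (algebraMap A Ah y - τ ^ (2 * n) * y1) := by
    have h6 : algebraMap A Ah a'' - algebraMap A Ah a' = τ ^ (n + 1) * algebraMap A Ah y := by
      rw [← map_sub, hy, map_mul, map_pow, hτ]
    have h7 : τ ^ (3 * n + 1) = τ ^ (n + 1) * τ ^ (2 * n) := by rw [← pow_add]; congr 1; ring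
    linear_combination h6 - hy1 + y1 * h7
  obtain ⟨y2, hy2⟩ : ∃ y2 : Ah, y2 = algebraMap A Ah y - τ ^ (2 * n) * y1 := ⟨_, rfl⟩
  rw [← hy2] at h5
  have h8 : (φ (algebraMap A SA a'' * ui ^ n) - e) * algebraMap Ah Sh τ ^ n
      = algebraMap Ah Sh τ ^ n * algebraMap Ah Sh (τ * y2) := by
    rw [sub_mul, h3, he1, ← map_sub, h5, map_mul, map_mul, map_pow, pow_succ]; ring
  have h9 : φ (algebraMap A SA a'' * ui ^ n) - e = algebraMap Ah Sh (τ * y2) := by
    have hu' := hτu.pow n
    apply hu'.mul_left_cancel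
    rw [← h8]; ring
  apply idem_eq_of_isUnit hφi he
  rw [h9, ← map_pow, ← map_one (algebraMap Ah Sh), ← map_sub]
  apply IsUnit.map
  have := hunit (y2 * (τ * y2))
  convert this using 1
  ring

end abstract

end Groth.Agent.Lib.Helper83.IdemAway
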