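import Groth.Agent.Lib.Helper83.IdemAway2

set_option autoImplicit false

namespace Groth.Agent.Lib.Helper83.IdemAway

open Polynomial

universe u

section abstract

variable {A Ah SA Sh : Type u} [CommRing A] [CommRing Ah] [Algebra A Ah] [CommRing SA]
  [CommRing Sh] [Algebra A SA] [Algebra Ah Sh] (t : A) [IsLocalization.Away t SA]
  [IsLocalization.Away (algebraMap A Ah t) Sh] (φ : SA →+* Sh)
  (hφ : ∀ x : A, φ (algebraMap A SA x) = algebraMap Ah Sh (algebraMap A Ah x))

include hφ in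
theorem idem_eq_zero_abs [HenselianRing A (Ideal.span {t})]
    (hinj : ∀ (N : ℕ) (x : A) (y : Ah), algebraMap A Ah x = algebraMap A Ah t ^ N * y →
      ∃ c : A, x = t ^ N * c)
    (ε : SA) (hε : IsIdempotentElem ε) (h0 : φ ε = 0) : ε = 0 := by
  have hjac : Ideal.span {t} ≤ (⊥ : Ideal A).jacobson := HenselianRing.jac
  have htj : ∀ x : A, IsUnit (t * x + 1) := by
    intro x
    have h1 : t ∈ (⊥ : Ideal A).jacobson := hjac (Ideal.mem_span_singleton_self t)
    exact (Ideal.mem_jacobson_bot.mp h1) x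
  have htu : IsUnit (algebraMap A SA t) := IsLocalization.Away.algebraMap_isUnit t
  obtain ⟨n0, b0, hb0⟩ := IsLocalization.Away.surj t ε
  have hee : ε * ε = ε := hε
  have h1 : algebraMap A SA (b0 ^ 2) = algebraMap A SA (t ^ n0 * b0) := by
    rw [map_pow, map_mul, map_pow, ← hb0]
    linear_combination (algebraMap A SA t ^ n0) ^ 2 * hee
  obtain ⟨m, hm⟩ := IsLocalization.Away.exists_of_eq t h1
  -- φ ε = 0
  have h2 : algebraMap Ah Sh (algebraMap A Ah b0) = algebraMap Ah Sh 0 := by
    rw [← hφ, ← hb0, map_mul, h0, zero_mul, map_zero]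
  obtain ⟨m', hm'⟩ := IsLocalization.Away.exists_of_eq (algebraMap A Ah t) h2
  rw [mul_zero] at hm'
  obtain ⟨b2, hb2d⟩ : ∃ b2 : A, b2 = t ^ (m + m') * b0 := ⟨_, rfl⟩
  obtain ⟨n, hn⟩ : ∃ n : ℕ, n = n0 + (m + m') := ⟨_, rfl⟩
  have hb2 : b2 ^ 2 = t ^ n * b2 := by
    rw [hb2d, hn, pow_add, pow_add]; linear_combination t ^ m * t ^ m' * t ^ m' * hm
  have he2 : ε * algebraMap A SA t ^ n = algebraMap A SA b2 := by
    rw [hn, pow_add, ← mul_assoc, hb0, hb2d, map_mul, map_pow]; ring
  have hι : algebraMap A Ah b2 = algebraMap A Ah t ^ (n + 1) * 0 := by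
    rw [hb2d, map_mul, map_pow, pow_add, mul_assoc, hm', mul_zero, mul_zero]
  obtain ⟨c, hc⟩ := hinj (n + 1) b2 0 hι
  have h3 : t ^ (2 * n + 1) * c = 0 := by
    have h4 : t ^ (2 * n + 1) * c * (t * (-c) + 1) = 0 := by
      have := hb2
      rw [hc] at this
      linear_combination -this
    exact ((htj (-c)).mul_left_eq_zero).mp h4
  have h5 : algebraMap A SA c = 0 := by
    have := congrArg (algebraMap A SA) h3
    rw [map_mul, map_pow, map_zero] at this
    exact ((htu.pow (2 * n + 1)).mul_right_eq_zero).mp this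
  have h6 : ε * algebraMap A SA t ^ n = 0 := by
    rw [he2, hc, map_mul, h5, mul_zero]
  exact ((htu.pow n).mul_left_eq_zero).mp h6

include hφ in
theorem idem_unique_abs [HenselianRing A (Ideal.span {t})]
    (hinj : ∀ (N : ℕ) (x : A) (y : Ah), algebraMap A Ah x = algebraMap A Ah t ^ N * y →
      ∃ c : A, x = t ^ N * c)
    (e₁ e₂ : SA) (h1 : IsIdempotentElem e₁) (h2 : IsIdempotentElem e₂) (h : φ e₁ = φ e₂) :
    e₁ = e₂ := by
  have h3 := idem_sub_cube h1 h2
  have hε : IsIdempotentElem ((e₁ - e₂) ^ 2) := by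
    show (e₁ - e₂) ^ 2 * (e₁ - e₂) ^ 2 = (e₁ - e₂) ^ 2
    linear_combination (e₁ - e₂) * h3
  have h0 : φ ((e₁ - e₂) ^ 2) = 0 := by
    rw [map_pow, map_sub, h, sub_self]; ring
  have := idem_eq_zero_abs t φ hφ hinj _ hε h0
  have h4 : e₁ - e₂ = 0 := by
    rw [← h3]
    linear_combination (e₁ - e₂) * this
  exact sub_eq_zero.mp h4

end abstract

theorem hinj_adic (A : Type u) [CommRing A] (t : A) (N : ℕ) (x : A)
    (y : AdicCompletion (Ideal.span {t}) A)
    (h : algebraMap A (AdicCompletion (Ideal.span {t}) A) x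
      = algebraMap A (AdicCompletion (Ideal.span {t}) A) t ^ N * y) :
    ∃ c : A, x = t ^ N * c := by
  have hev : ∀ x : A, AdicCompletion.evalₐ (Ideal.span {t}) N
      (algebraMap A (AdicCompletion (Ideal.span {t}) A) x) = Ideal.Quotient.mk _ x := by
    intro x
    rw [AlgHom.commutes]; rfl
  have h1 := congrArg (AdicCompletion.evalₐ (Ideal.span {t}) N) h
  rw [hev, map_mul, ← map_pow, hev] at h1
  have h2 : Ideal.Quotient.mk (Ideal.span {t} ^ N) (t ^ N) = 0 := by
    rw [Ideal.Quotient.eq_zero_iff_mem]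
    exact Ideal.pow_mem_pow (Ideal.mem_span_singleton_self t) N
  rw [h2, zero_mul, Ideal.Quotient.eq_zero_iff_mem, Ideal.span_singleton_pow,
    Ideal.mem_span_singleton'] at h1
  obtain ⟨c, hc⟩ := h1
  exact ⟨c, by rw [← hc]; ring⟩

theorem hdense_adic (A : Type u) [CommRing A] (t : A) (N : ℕ)
    (a : AdicCompletion (Ideal.span {t}) A) :
    ∃ (a' : A) (y : AdicCompletion (Ideal.span {t}) A),
      a - algebraMap A (AdicCompletion (Ideal.span {t}) A) a'
        = algebraMap A (AdicCompletion (Ideal.span {t}) A) t ^ N * y := by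
  obtain ⟨a', ha'⟩ := Ideal.Quotient.mk_surjective
    (AdicCompletion.evalₐ (Ideal.span {t}) N a)
  have hev : ∀ x : A, AdicCompletion.evalₐ (Ideal.span {t}) N
      (algebraMap A (AdicCompletion (Ideal.span {t}) A) x) = Ideal.Quotient.mk _ x := by
    intro x
    rw [AlgHom.commutes]; rfl
  have h4 : AdicCompletion.evalₐ (Ideal.span {t}) N
      (a - algebraMap A (AdicCompletion (Ideal.span {t}) A) a') = 0 := by
    rw [map_sub, hev, ha', sub_self]
  obtain ⟨y1, hy1⟩ := mem_ker_evalₐ A t N _ h4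
  exact ⟨a', y1, hy1⟩

theorem main (A : Type u) [CommRing A] (t : A) [HenselianRing A (Ideal.span {t})]
    (e : Localization.Away (algebraMap A (AdicCompletion (Ideal.span {t}) A) t))
    (he : IsIdempotentElem e) :
    ∃! e₀ : Localization.Away t, IsIdempotentElem e₀ ∧
      Localization.awayMap (algebraMap A (AdicCompletion (Ideal.span {t}) A)) t e₀ = e := by
  have hφ : ∀ x : A, Localization.awayMap (algebraMap A (AdicCompletion (Ideal.span {t}) A)) t
      (algebraMap A (Localization.Away t) x)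
      = algebraMap (AdicCompletion (Ideal.span {t}) A)
        (Localization.Away (algebraMap A (AdicCompletion (Ideal.span {t}) A) t))
        (algebraMap A (AdicCompletion (Ideal.span {t}) A) x) := by
    intro x
    exact IsLocalization.map_eq _ x
  obtain ⟨e₀, h1, h2⟩ := exists_idem_abs t
    (Localization.awayMap (algebraMap A (AdicCompletion (Ideal.span {t}) A)) t) hφ
    (hdense_adic A t) (hinj_adic A t) (isUnit_one_sub A t) e he
  refine ⟨e₀, ⟨h1, h2⟩, ?_⟩
  rintro e' ⟨h1', h2'⟩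
  exact idem_unique_abs t _ hφ (hinj_adic A t) e' e₀ h1' h1 (h2'.trans h2.symm)

end Groth.Agent.Lib.Helper83.IdemAway
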