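import Mathlib

set_option autoImplicit false

namespace Groth.Agent.Lib.Helper83.IdemPS

open PowerSeries

universe u

variable {R : Type u} [CommRing R]

/-- a power series `ν + X^n U` with `ν` nilpotent and `U` a unit is a non-zero-divisor -/
theorem eq_zero_of_mul_eq_zero (β ν U : PowerSeries R) (n : ℕ) (hν : IsNilpotent ν) (hU : IsUnit U)
    (h : β * (ν + X ^ n * U) = 0) : β = 0 := by
  obtain ⟨K, hK⟩ := hν
  have h1 : β * (X ^ n * U) = β * (-ν) := by linear_combination h
  have h2 : ∀ j : ℕ, β * (X ^ n * U) ^ j = β * (-ν) ^ j := by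
    intro j
    induction j with
    | zero => simp
    | succ j ih =>
      rw [pow_succ, ← mul_assoc, ih, mul_assoc, mul_comm ((-ν) ^ j), ← mul_assoc, h1, pow_succ]
      ring
  have h3 : β * (X ^ n * U) ^ K = 0 := by
    rw [h2 K, neg_pow, hK, mul_zero, mul_zero]
  rw [mul_pow, ← pow_mul] at h3
  have hUK : IsUnit (U ^ K) := hU.pow K
  have h4 : β * X ^ (n * K) = 0 := by
    have : (β * X ^ (n * K)) * U ^ K = 0 := by rw [← h3]; ring
    exact (hUK.mul_left_eq_zero).mp this
  have h5 : X ^ (n * K) * β = X ^ (n * K) * 0 := by rw [mul_zero, mul_comm]; exact h4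
  exact X_pow_mul_cancel h5

theorem decomp (β : PowerSeries R) (n : ℕ) :
    β = ((trunc n β : Polynomial R) : PowerSeries R) + X ^ n * PowerSeries.mk (fun i => coeff (i + n) β) := by
  ext i
  rw [map_add, Polynomial.coeff_coe, coeff_trunc, coeff_X_pow_mul']
  by_cases hi : i < n
  · rw [if_pos hi, if_neg (by omega), add_zero]
  · have hin : i - n + n = i := by omega
    rw [if_neg hi, if_pos (by omega), coeff_mk, zero_add, hin]

/-- key lemma: `α^2 = X^n α` in `R[[X]]` forces `α = r X^n` with `r` idempotent. -/
theorem exists_idem_of_sq (α : PowerSeries R) (n : ℕ) (h : α ^ 2 = X ^ n * α) :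
    ∃ r : R, IsIdempotentElem r ∧ α = C r * X ^ n := by
  -- prime by prime
  have hp : ∀ (p : Ideal R) [p.IsPrime], (∀ i, i ≠ n → coeff i α ∈ p) ∧
      (coeff n α) ^ 2 - coeff n α ∈ p := by
    intro p _
    set f := Ideal.Quotient.mk p with hf
    have h1 : (map f α) * (map f α - X ^ n) = 0 := by
      have := congrArg (map f) h
      rw [map_pow, map_mul, map_pow, map_X] at this
      linear_combination this
    rcases mul_eq_zero.mp h1 with h2 | h2
    · have h3 : ∀ i, coeff i α ∈ p := by
        intro i
        have := congrArg (coeff i) h2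
        rw [coeff_map, map_zero, hf, Ideal.Quotient.eq_zero_iff_mem] at this
        exact this
      refine ⟨fun i _ => h3 i, ?_⟩
      exact p.sub_mem (p.pow_mem_of_mem (h3 n) 2 (by norm_num)) (h3 n)
    · have h3 : ∀ i, f (coeff i α) = if i = n then 1 else 0 := by
        intro i
        have := congrArg (coeff i) (sub_eq_zero.mp h2)
        rw [coeff_map, coeff_X_pow] at this
        exact this
      refine ⟨fun i hi => ?_, ?_⟩
      · have := h3 i
        rw [if_neg hi, hf, Ideal.Quotient.eq_zero_iff_mem] at this
        exact this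
      · have := h3 n
        rw [if_pos rfl] at this
        rw [← Ideal.Quotient.eq_zero_iff_mem, ← hf, map_sub, map_pow, this]; ring
  have hnil : ∀ i, i ≠ n → IsNilpotent (coeff i α) := by
    intro i hi
    rw [nilpotent_iff_mem_prime]
    intro J hJ
    exact (hp J).1 i hi
  have hnil2 : IsNilpotent ((coeff n α) ^ 2 - coeff n α) := by
    rw [nilpotent_iff_mem_prime]
    intro J hJ
    exact (hp J).2
  -- lift the idempotent
  set f := Ideal.Quotient.mk (nilradical R) with hf
  have hker : ∀ x ∈ RingHom.ker f, IsNilpotent x := by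
    intro x hx
    rw [hf, Ideal.mk_ker] at hx
    exact mem_nilradical.mp hx
  have hid : IsIdempotentElem (f (coeff n α)) := by
    show f (coeff n α) * f (coeff n α) = f (coeff n α)
    have : f ((coeff n α) ^ 2 - coeff n α) = 0 := by
      rw [hf, Ideal.Quotient.eq_zero_iff_mem]; exact mem_nilradical.mpr hnil2
    rw [map_sub, map_pow] at this
    linear_combination this
  obtain ⟨r, hr, hfr⟩ := exists_isIdempotentElem_eq_of_ker_isNilpotent f hker _ ⟨_, rfl⟩ hid
  have hrn : IsNilpotent (coeff n α - r) := by
    have : f (coeff n α - r) = 0 := by rw [map_sub, hfr, sub_self]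
    rw [hf, Ideal.Quotient.eq_zero_iff_mem] at this
    exact mem_nilradical.mp this
  refine ⟨r, hr, ?_⟩
  set β : PowerSeries R := α - C r * X ^ n with hβ
  have hβc : ∀ i, IsNilpotent (coeff i β) := by
    intro i
    rw [hβ, map_sub, coeff_C_mul, coeff_X_pow]
    by_cases hi : i = n
    · rw [if_pos hi, mul_one, hi]; exact hrn
    · rw [if_neg hi, mul_zero, sub_zero]; exact hnil i hi
  have hrr : r * r = r := hr
  have hCr : (C r : PowerSeries R) * C r = C r := by rw [← map_mul, hrr]
  have hmain : β * (β + C (2 * r - 1) * X ^ n) = 0 := by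
    have hα : α = β + C r * X ^ n := by rw [hβ]; ring
    have h2 : (C (2 * r - 1) : PowerSeries R) = 2 * C r - 1 := by
      rw [map_sub, map_mul, map_one]; congr 1
    rw [h2]
    rw [hα] at h
    linear_combination h - (X ^ n) ^ 2 * hCr
  have hw : IsUnit (2 * r - 1) := by
    apply IsUnit.of_mul_eq_one (2 * r - 1)
    linear_combination 4 * hrr
  rw [decomp β n] at hmain
  have key := eq_zero_of_mul_eq_zero
    (((trunc n β : Polynomial R) : PowerSeries R) + X ^ n * PowerSeries.mk (fun i => coeff (i + n) β))
    ((trunc n β : Polynomial R) : PowerSeries R)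
    (PowerSeries.mk (fun i => coeff (i + n) β) + C (2 * r - 1)) n ?_ ?_ ?_
  · rw [← decomp β n] at key
    exact sub_eq_zero.mp key
  · have : IsNilpotent (trunc n β : Polynomial R) := by
      rw [Polynomial.isNilpotent_iff]
      intro i
      rw [coeff_trunc]
      split_ifs
      · exact hβc i
      · exact IsNilpotent.zero
    exact this.map (Polynomial.coeToPowerSeries.ringHom)
  · rw [PowerSeries.isUnit_iff_constantCoeff, map_add, ← coeff_zero_eq_constantCoeff_apply,
      coeff_mk, zero_add, constantCoeff_C]
    exact (hβc n).isUnit_add_right_of_commute hw (Commute.all _ _)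
  · rw [← hmain]; ring

end Groth.Agent.Lib.Helper83.IdemPS
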