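import Groth.Agent.Lib.Helper83.IdemAway3
import Groth.Agent.Lib.Helper83.IdemPS1
import Groth.Agent.Lib.Helper58.PairHensProps

set_option autoImplicit false

namespace Groth.Agent.Lib.Helper83.IdemPS

open Polynomial

universe u

section rep

variable {A SA : Type u} [CommRing A] [CommRing SA] [Algebra A SA] (t : A)
  [IsLocalization.Away t SA]

theorem exists_rep (e : SA) (he : IsIdempotentElem e) :
    ∃ (n : ℕ) (a : A), a ^ 2 = t ^ n * a ∧ e * algebraMap A SA t ^ n = algebraMap A SA a := by
  obtain ⟨n0, a0, h0⟩ := IsLocalization.Away.surj t e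
  have hee : e * e = e := he
  have h1 : algebraMap A SA (a0 ^ 2) = algebraMap A SA (t ^ n0 * a0) := by
    rw [map_pow, map_mul, map_pow, ← h0]
    linear_combination (algebraMap A SA t ^ n0) ^ 2 * hee
  obtain ⟨m, hm⟩ := IsLocalization.Away.exists_of_eq t h1
  refine ⟨n0 + m, t ^ m * a0, ?_, ?_⟩
  · rw [pow_add]; linear_combination t ^ m * hm
  · rw [pow_add, ← mul_assoc, h0, map_mul, map_pow]; ring

end rep

theorem main (R : Type u) [CommRing R]
    (B : Type u) [CommRing B] [Algebra R[X] B]
    (hB : Hens2.IsPairHenselization R[X] (Ideal.span {(X : R[X])}) B)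
    (e : Localization.Away (algebraMap R[X] B X)) (he : IsIdempotentElem e) :
    ∃! r : R, IsIdempotentElem r ∧
      algebraMap B (Localization.Away (algebraMap R[X] B X))
        (algebraMap R[X] B (Polynomial.C r)) = e := by
  -- Henselian
  have hmapI : (Ideal.span {(X : R[X])}).map (algebraMap R[X] B)
      = Ideal.span {algebraMap R[X] B X} := by
    rw [Ideal.map_span, Set.image_singleton]
  have hH : HenselianRing B (Ideal.span {algebraMap R[X] B X}) := by
    rw [← hmapI]; exact hB.1
  -- the map to power series
  have hle : (Ideal.span {(X : R[X])}).map (Polynomial.coeToPowerSeries.ringHom (R := R))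
      ≤ Ideal.span {(PowerSeries.X : PowerSeries R)} := by
    rw [Ideal.map_span, Set.image_singleton, Polynomial.coeToPowerSeries.ringHom_apply,
      Polynomial.coe_X]
  obtain ⟨g, hg, -⟩ := hB.2 (PowerSeries R) (Ideal.span {(PowerSeries.X : PowerSeries R)})
    (Polynomial.coeToPowerSeries.ringHom) inferInstance hle
  have hgp : ∀ p : R[X], g (algebraMap R[X] B p) = (p : PowerSeries R) := by
    intro p
    have := congrArg (fun ρ : R[X] →+* PowerSeries R => ρ p) hg
    simpa using this
  have hgt : g (algebraMap R[X] B X) = (PowerSeries.X : PowerSeries R) := by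
    rw [hgp, Polynomial.coe_X]
  let _ : Algebra B (PowerSeries R) := g.toAlgebra
  have halg : ∀ b : B, algebraMap B (PowerSeries R) b = g b := fun _ => rfl
  -- hinj
  have hinj : ∀ (N : ℕ) (x : B) (y : PowerSeries R),
      algebraMap B (PowerSeries R) x
        = algebraMap B (PowerSeries R) (algebraMap R[X] B X) ^ N * y →
      ∃ c : B, x = (algebraMap R[X] B X) ^ N * c := by
    intro N x y hxy
    rw [halg, halg, hgt] at hxy
    have hb := (Groth.Agent.Lib.Helper58.PairHens.quotientMap_pow_bijective hB N).2
    obtain ⟨pbar, hp⟩ := hb (Ideal.Quotient.mk _ x)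
    obtain ⟨p, rfl⟩ := Ideal.Quotient.mk_surjective pbar
    rw [Ideal.quotientMap_mk, Ideal.Quotient.eq, Ideal.span_singleton_pow, Ideal.map_span,
      Set.image_singleton, map_pow, Ideal.mem_span_singleton'] at hp
    obtain ⟨b, hb'⟩ := hp
    have hx : x = algebraMap R[X] B p - b * algebraMap R[X] B X ^ N := by rw [hb']; ring
    have hdvd : (X : R[X]) ^ N ∣ p := by
      rw [Polynomial.X_pow_dvd_iff]
      intro d hd
      have h1 : (p : PowerSeries R) = PowerSeries.X ^ N * (y + g b) := by
        have := congrArg g hx
        rw [map_sub, map_mul, map_pow, hgp, hgt, hxy] at this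
        linear_combination -this
      have h2 := congrArg (PowerSeries.coeff d) h1
      rw [Polynomial.coeff_coe, PowerSeries.coeff_X_pow_mul', if_neg (by omega)] at h2
      exact h2
    obtain ⟨p', rfl⟩ := hdvd
    refine ⟨algebraMap R[X] B p' - b, ?_⟩
    rw [hx, map_mul, map_pow]; ring
  -- φ
  set φ := Localization.awayMap (algebraMap B (PowerSeries R)) (algebraMap R[X] B X) with hφd
  have hφ : ∀ x : B, φ (algebraMap B (Localization.Away (algebraMap R[X] B X)) x)
      = algebraMap (PowerSeries R)
        (Localization.Away (algebraMap B (PowerSeries R) (algebraMap R[X] B X)))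
        (algebraMap B (PowerSeries R) x) := by
    intro x
    exact IsLocalization.map_eq _ x
  have hτu : IsUnit (algebraMap (PowerSeries R)
        (Localization.Away (algebraMap B (PowerSeries R) (algebraMap R[X] B X)))
        (algebraMap B (PowerSeries R) (algebraMap R[X] B X))) :=
    IsLocalization.Away.algebraMap_isUnit _
  -- representation
  obtain ⟨n, a, ha, hea⟩ := exists_rep (algebraMap R[X] B X) e he
  have hα : (g a) ^ 2 = PowerSeries.X ^ n * g a := by
    rw [← map_pow, ha, map_mul, map_pow, hgt]
  obtain ⟨r, hr, hαr⟩ := exists_idem_of_sq (g a) n hα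
  have hCr : IsIdempotentElem (algebraMap B (Localization.Away (algebraMap R[X] B X))
        (algebraMap R[X] B (Polynomial.C r))) := by
    have h1 : IsIdempotentElem (Polynomial.C r : R[X]) := hr.map (Polynomial.C : R →+* R[X])
    exact (h1.map (algebraMap R[X] B)).map _
  have hgC : ∀ s : R, g (algebraMap R[X] B (Polynomial.C s)) = PowerSeries.C s := by
    intro s
    rw [hgp, Polynomial.coe_C]
  refine ⟨r, ⟨hr, ?_⟩, ?_⟩
  · apply IdemAway.idem_unique_abs (algebraMap R[X] B X) φ hφ hinj _ _ hCr he
    apply (hτu.pow n).mul_right_cancel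
    have h1 : φ e * (algebraMap (PowerSeries R)
        (Localization.Away (algebraMap B (PowerSeries R) (algebraMap R[X] B X)))
        (algebraMap B (PowerSeries R) (algebraMap R[X] B X))) ^ n
        = algebraMap (PowerSeries R) _ (g a) := by
      rw [← hφ (algebraMap R[X] B X), ← map_pow, ← map_mul, hea, hφ]; rfl
    have h2 : φ (algebraMap B (Localization.Away (algebraMap R[X] B X))
          (algebraMap R[X] B (Polynomial.C r))) * (algebraMap (PowerSeries R)
        (Localization.Away (algebraMap B (PowerSeries R) (algebraMap R[X] B X)))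
        (algebraMap B (PowerSeries R) (algebraMap R[X] B X))) ^ n
        = algebraMap (PowerSeries R) _ (g a) := by
      rw [hφ, ← map_pow, ← map_mul, halg, halg, hgC, hgt, hαr]
    rw [h1, h2]
  · rintro r' ⟨hr', hr'e⟩
    have h0 : algebraMap B (Localization.Away (algebraMap R[X] B X))
        (algebraMap R[X] B (Polynomial.C r')) = algebraMap B (Localization.Away (algebraMap R[X] B X))
        (algebraMap R[X] B (Polynomial.C r)) := by
      rw [hr'e]
      symm
      apply IdemAway.idem_unique_abs (algebraMap R[X] B X) φ hφ hinj _ _ hCr he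
      apply (hτu.pow n).mul_right_cancel
      have h1 : φ e * (algebraMap (PowerSeries R)
          (Localization.Away (algebraMap B (PowerSeries R) (algebraMap R[X] B X)))
          (algebraMap B (PowerSeries R) (algebraMap R[X] B X))) ^ n
          = algebraMap (PowerSeries R) _ (g a) := by
        rw [← hφ (algebraMap R[X] B X), ← map_pow, ← map_mul, hea, hφ]; rfl
      have h2 : φ (algebraMap B (Localization.Away (algebraMap R[X] B X))
            (algebraMap R[X] B (Polynomial.C r))) * (algebraMap (PowerSeries R)
          (Localization.Away (algebraMap B (PowerSeries R) (algebraMap R[X] B X)))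
          (algebraMap B (PowerSeries R) (algebraMap R[X] B X))) ^ n
          = algebraMap (PowerSeries R) _ (g a) := by
        rw [hφ, ← map_pow, ← map_mul, halg, halg, hgC, hgt, hαr]
      rw [h1, h2]
    have h1 := congrArg φ h0
    rw [hφ, hφ] at h1
    have e1 : ∀ s : R, algebraMap B (PowerSeries R) (algebraMap R[X] B (Polynomial.C s))
        = PowerSeries.C s := hgC
    have e2 : algebraMap B (PowerSeries R) (algebraMap R[X] B X) = PowerSeries.X := hgt
    rw [e1, e1] at h1
    obtain ⟨m, hm⟩ := IsLocalization.Away.exists_of_eq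
      (algebraMap B (PowerSeries R) (algebraMap R[X] B X)) h1
    rw [e2] at hm
    exact PowerSeries.C_injective (PowerSeries.X_pow_mul_cancel hm)

end Groth.Agent.Lib.Helper83.IdemPS
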