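import Mathlib

set_option autoImplicit false
universe u
open CategoryTheory

namespace Groth.Agent.Lib.Helper83.InflRetract

open groupCohomology

theorem main
    {k G : Type u} [CommRing k] [Group G] (A : Rep.{u} k G) (P : Subgroup G) [P.Normal] [Finite P]
    (hP : Function.Bijective fun a : A => (Nat.card P : k) • a) :
    ∃ r : ModuleCat.of k (groupCohomology.cocycles₁ A) ⟶
        ModuleCat.of k (groupCohomology.cocycles₁ (A.quotientToInvariants P)),
      (groupCohomology.mapCocycles₁ (QuotientGroup.mk' P) (Rep.ofHom (A.ρ.quotientToInvariants_lift P)) :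
          ModuleCat.of k (groupCohomology.cocycles₁ (A.quotientToInvariants P)) ⟶
            ModuleCat.of k (groupCohomology.cocycles₁ A)) ≫ r = 𝟙 _ := by
  classical
  have : Fintype P := Fintype.ofFinite P
  let N : A →ₗ[k] A := (Nat.card P : k) • LinearMap.id
  have hN : ∀ a : A, N a = (Nat.card P : k) • a := fun a => rfl
  let Ne : A ≃ₗ[k] A := LinearEquiv.ofBijective N hP
  have hNe : ∀ a : A, Ne a = (Nat.card P : k) • a := fun a => rfl
  let T : cocycles₁ A →ₗ[k] A :=
    ∑ p : P, (LinearMap.proj (R := k) (φ := fun _ : G => (A : Type u)) (p : G)) ∘ₗ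
      (cocycles₁ A).subtype
  have hT : ∀ x : cocycles₁ A, T x = ∑ p : P, x (p : G) := by
    intro x
    simp only [T, LinearMap.sum_apply]
    rfl
  let Y : cocycles₁ A →ₗ[k] A := -(Ne.symm.toLinearMap ∘ₗ T)
  have hY : ∀ x, Ne (Y x) = - T x := by
    intro x
    simp [Y]
  have h2 : ∀ (x : cocycles₁ A) (s : G), s ∈ P → x s = A.ρ s (Y x) - Y x := by
    intro x s hs
    apply Ne.injective
    have h1 := (mem_cocycles₁_iff x).1 x.2
    have hρT : A.ρ s (T x) = T x - Ne (x s) := by
      rw [hT, map_sum]
      have : ∀ q : P, A.ρ s (x (q : G)) = x ((⟨s, hs⟩ * q : P) : G) - x s := by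
        intro q
        rw [Subgroup.coe_mul, h1 s q]
        simp
      simp only [this, Finset.sum_sub_distrib]
      have hre : (∑ q : P, x ((⟨s, hs⟩ * q : P) : G)) = ∑ q : P, x (q : G) :=
        Equiv.sum_comp (Equiv.mulLeft (⟨s, hs⟩ : P)) (fun q : P => x (q : G))
      rw [hre]
      simp [hNe, Nat.card_eq_fintype_card, Finset.card_univ, ← Nat.cast_smul_eq_nsmul k]
    have hcomm : Ne (A.ρ s (Y x)) = A.ρ s (Ne (Y x)) := by
      simp [hNe]
    rw [map_sub, hcomm, hY, map_neg, hρT]
    abel
  -- the corrected cocycle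
  let F : cocycles₁ A → G → A := fun x g => x g - A.ρ g (Y x) + Y x
  have hF : ∀ x g, F x g = x g - A.ρ g (Y x) + Y x := fun _ _ => rfl
  have F1 : ∀ x g h, F x (g * h) = A.ρ g (F x h) + F x g := by
    intro x g h
    have h1 := (mem_cocycles₁_iff x).1 x.2
    simp only [hF, h1 g h, map_mul, Module.End.mul_apply, map_sub, map_add]
    abel
  have F2 : ∀ x s, s ∈ P → F x s = 0 := by
    intro x s hs
    rw [hF, h2 x s hs]
    abel
  have F3 : ∀ x g s, s ∈ P → F x (g * s) = F x g := by
    intro x g s hs
    rw [F1, F2 x s hs, map_zero, zero_add]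
  have F4 : ∀ x g s, s ∈ P → A.ρ s (F x g) = F x g := by
    intro x g s hs
    have h3 : F x (s * g) = A.ρ s (F x g) := by
      rw [F1, F2 x s hs, add_zero]
    have h4 : s * g = g * (g⁻¹ * s * g) := by group
    rw [← h3, h4, F3 x g _ (Subgroup.Normal.conj_mem' ‹_› s hs g)]
  have F5 : ∀ x x' g, F (x + x') g = F x g + F x' g := by
    intro x x' g
    simp only [hF, map_add]
    change (x g + x' g) - _ + _ = _
    abel
  have F6 : ∀ (c : k) x g, F (c • x) g = c • F x g := by
    intro c x g
    simp only [hF, map_smul, smul_add, smul_sub]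
    rfl
  have hinv : ∀ x g, F x g ∈ Representation.invariants (A.ρ.comp P.subtype) := by
    intro x g s
    exact F4 x g s s.2
  have hwell : ∀ x (g h : G), QuotientGroup.leftRel P g h →
      (⟨F x g, hinv x g⟩ : Representation.invariants (A.ρ.comp P.subtype)) =
        ⟨F x h, hinv x h⟩ := by
    intro x g h hgh
    apply Subtype.ext
    have h5 : h = g * (g⁻¹ * h) := by group
    change F x g = F x h
    rw [h5, F3 x g _ (QuotientGroup.leftRel_apply.1 hgh)]
  let r₀ : cocycles₁ A → (G ⧸ P → A.quotientToInvariants P) := fun x q =>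
    Quotient.liftOn' q (fun g => ⟨F x g, hinv x g⟩) (hwell x)
  have hr₀ : ∀ x (g : G), r₀ x (QuotientGroup.mk g) = ⟨F x g, hinv x g⟩ := fun _ _ => rfl
  have hcoc : ∀ x, r₀ x ∈ cocycles₁ (A.quotientToInvariants P) := by
    intro x
    rw [mem_cocycles₁_iff]
    intro g h
    induction g using QuotientGroup.induction_on with | @H g =>
    induction h using QuotientGroup.induction_on with | @H h =>
    rw [← QuotientGroup.mk_mul, hr₀, hr₀, hr₀]
    apply Subtype.ext
    exact F1 x g h
  let r' : cocycles₁ A →ₗ[k] cocycles₁ (A.quotientToInvariants P) :=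
    { toFun := fun x => ⟨r₀ x, hcoc x⟩
      map_add' := by
        intro x x'
        apply cocycles₁_ext
        intro q
        induction q using QuotientGroup.induction_on with | @H g =>
        apply Subtype.ext
        exact F5 x x' g
      map_smul' := by
        intro c x
        apply cocycles₁_ext
        intro q
        induction q using QuotientGroup.induction_on with | @H g =>
        apply Subtype.ext
        exact F6 c x g }
  refine ⟨ModuleCat.ofHom r', ?_⟩
  ext φ q
  induction q using QuotientGroup.induction_on with | @H g =>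
  have hinf : ∀ g : G, (mapCocycles₁ (QuotientGroup.mk' P)
      (Rep.ofHom (A.ρ.quotientToInvariants_lift P)) φ : cocycles₁ A) g =
      ((φ : cocycles₁ (A.quotientToInvariants P)) (QuotientGroup.mk g) : A) := fun g => rfl
  set x : cocycles₁ A := mapCocycles₁ (QuotientGroup.mk' P)
      (Rep.ofHom (A.ρ.quotientToInvariants_lift P)) φ with hx
  change F x g = ((φ : cocycles₁ (A.quotientToInvariants P)) (QuotientGroup.mk g) : A)
  have hTx : T x = 0 := by
    rw [hT]
    apply Finset.sum_eq_zero
    intro p _
    rw [hinf, (QuotientGroup.eq_one_iff (p : G)).2 p.2]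
    have := cocycles₁_map_one (φ : cocycles₁ (A.quotientToInvariants P))
    rw [this]
    rfl
  have hYx : Y x = 0 := by
    simp [Y, hTx]
  rw [hF, hYx, map_zero, sub_zero, add_zero, hinf]

end Groth.Agent.Lib.Helper83.InflRetract
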