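import Groth.Agent.Lib.Helper83.InjDecomp
import Mathlib.RingTheory.Artinian.Ring
import Mathlib.RingTheory.HopkinsLevitzki
import Mathlib.RingTheory.KrullDimension.Basic
import Mathlib.RingTheory.Ideal.AssociatedPrime.Localization
import Mathlib.RingTheory.Localization.AtPrime.Basic
import Mathlib.Algebra.Category.ModuleCat.Colimits
import Mathlib.Algebra.Category.ModuleCat.FilteredColimits
import Mathlib.CategoryTheory.Filtered.Basic
import Mathlib.CategoryTheory.Limits.Types.Filtered
import Mathlib.Algebra.Module.LocalizedModule.Basic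
import Mathlib.Algebra.Module.Torsion.Basic

set_option autoImplicit false
universe u
namespace Groth.Agent.Lib.Helper83.InjColim


open InjHull Groth.Agent.Lib.Helper85.Hull

section Good

variable (A : Type u) [CommRing A]

/-- an `A`-module is good if it is isomorphic to a finite module over an Artinian `A`-algebra -/
def Good (M : Type u) [AddCommGroup M] [Module A M] : Prop :=
  ∃ (B : Type u) (_ : CommRing B) (_ : Algebra A B) (_ : IsArtinianRing B)
    (M' : Type u) (_ : AddCommGroup M') (_ : Module A M') (_ : Module B M')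
    (_ : IsScalarTower A B M') (_ : Module.Finite B M'), Nonempty (M ≃ₗ[A] M')

variable {A}

theorem Good.of_equiv {M N : Type u} [AddCommGroup M] [Module A M] [AddCommGroup N] [Module A N]
    (e : M ≃ₗ[A] N) (h : Good A M) : Good A N := by
  obtain ⟨B, i1, i2, i3, M', i4, i5, i6, i7, i8, ⟨f⟩⟩ := h
  exact ⟨B, i1, i2, i3, M', i4, i5, i6, i7, i8, ⟨e.symm.trans f⟩⟩

theorem Good.of_subsingleton (M : Type u) [AddCommGroup M] [Module A M] [Subsingleton M] :
    Good A M := by
  have hsub : Subsingleton (A ⧸ (⊤ : Ideal A)) := Ideal.Quotient.subsingleton_iff.mpr rfl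
  have : Finite (A ⧸ (⊤ : Ideal A)) := Finite.of_subsingleton
  have hart : IsArtinianRing (A ⧸ (⊤ : Ideal A)) := isArtinian_of_finite
  exact ⟨A ⧸ (⊤ : Ideal A), inferInstance, inferInstance, hart, PUnit.{u+1}, inferInstance,
    inferInstance, inferInstance, inferInstance, inferInstance,
    ⟨LinearEquiv.ofSubsingleton M PUnit⟩⟩

/-- the componentwise module structure -/
@[reducible] def prodModule (B C M N : Type u) [Semiring B] [Semiring C] [AddCommMonoid M]
    [AddCommMonoid N] [Module B M] [Module C N] : Module (B × C) (M × N) where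
  smul b x := (b.1 • x.1, b.2 • x.2)
  one_smul x := Prod.ext (one_smul B x.1) (one_smul C x.2)
  mul_smul b c x := Prod.ext (mul_smul b.1 c.1 x.1) (mul_smul b.2 c.2 x.2)
  smul_zero b := Prod.ext (smul_zero b.1) (smul_zero b.2)
  smul_add b x y := Prod.ext (smul_add b.1 x.1 y.1) (smul_add b.2 x.2 y.2)
  add_smul b c x := Prod.ext (add_smul b.1 c.1 x.1) (add_smul b.2 c.2 x.2)
  zero_smul x := Prod.ext (zero_smul B x.1) (zero_smul C x.2)

theorem Good.prod {M N : Type u} [AddCommGroup M] [Module A M] [AddCommGroup N] [Module A N]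
    (hM : Good A M) (hN : Good A N) : Good A (M × N) := by
  obtain ⟨B, _, _, _, M', _, _, _, _, _, ⟨f⟩⟩ := hM
  obtain ⟨C, _, _, _, N', _, _, _, _, _, ⟨g⟩⟩ := hN
  let _ : Module (B × C) (M' × N') := prodModule B C M' N'
  have hsm : ∀ (b : B × C) (x : M' × N'), b • x = (b.1 • x.1, b.2 • x.2) := fun _ _ => rfl
  have tower : IsScalarTower A (B × C) (M' × N') := by
    refine ⟨fun a b x => ?_⟩
    rw [hsm, hsm]
    ext
    · simp
    · simp
  have hfin : Module.Finite (B × C) (M' × N') := by
    classical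
    obtain ⟨S, hS⟩ := Module.Finite.fg_top (R := B) (M := M')
    obtain ⟨T, hT⟩ := Module.Finite.fg_top (R := C) (M := N')
    refine ⟨⟨S.image (fun m => ((m, 0) : M' × N')) ∪ T.image (fun n => ((0, n) : M' × N')), ?_⟩⟩
    set X : Set (M' × N') :=
      ↑(S.image (fun m => ((m, 0) : M' × N')) ∪ T.image (fun n => ((0, n) : M' × N'))) with hX
    have h1 : ∀ m ∈ Submodule.span B (S : Set M'), ((m, 0) : M' × N') ∈ Submodule.span (B × C) X := by
      intro m hm
      induction hm using Submodule.span_induction with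
      | mem x hx =>
        apply Submodule.subset_span
        rw [hX, Finset.coe_union]
        exact Or.inl (Finset.mem_coe.mpr (Finset.mem_image.mpr ⟨x, hx, rfl⟩))
      | zero => exact Submodule.zero_mem _
      | add x y _ _ hx hy =>
        have : ((x + y, 0) : M' × N') = (x, 0) + (y, 0) := by simp
        rw [this]
        exact Submodule.add_mem _ hx hy
      | smul b x _ hx =>
        have : ((b • x, 0) : M' × N') = ((b, 0) : B × C) • ((x, 0) : M' × N') := by
          rw [hsm]; simp
        rw [this]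
        exact Submodule.smul_mem _ _ hx
    have h2 : ∀ n ∈ Submodule.span C (T : Set N'), ((0, n) : M' × N') ∈ Submodule.span (B × C) X := by
      intro m hm
      induction hm using Submodule.span_induction with
      | mem x hx =>
        apply Submodule.subset_span
        rw [hX, Finset.coe_union]
        exact Or.inr (Finset.mem_coe.mpr (Finset.mem_image.mpr ⟨x, hx, rfl⟩))
      | zero => exact Submodule.zero_mem _
      | add x y _ _ hx hy =>
        have : ((0, x + y) : M' × N') = (0, x) + (0, y) := by simp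
        rw [this]
        exact Submodule.add_mem _ hx hy
      | smul b x _ hx =>
        have : ((0, b • x) : M' × N') = ((0, b) : B × C) • ((0, x) : M' × N') := by
          rw [hsm]; simp
        rw [this]
        exact Submodule.smul_mem _ _ hx
    rw [eq_top_iff]
    rintro ⟨m, n⟩ -
    have : ((m, n) : M' × N') = (m, 0) + (0, n) := by simp
    rw [this]
    exact Submodule.add_mem _ (h1 m (hS ▸ Submodule.mem_top)) (h2 n (hT ▸ Submodule.mem_top))
  exact ⟨B × C, inferInstance, inferInstance, inferInstance, M' × N', inferInstance, inferInstance,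
    inferInstance, tower, hfin, ⟨f.prodCongr g⟩⟩

variable {J : Type u} [AddCommGroup J] [Module A J]

theorem Good.sup {N₁ N₂ : Submodule A J} (hd : Disjoint N₁ N₂) (h1 : Good A N₁) (h2 : Good A N₂) :
    Good A ↥(N₁ ⊔ N₂) := by
  let φ : (N₁ × N₂) →ₗ[A] J := N₁.subtype.coprod N₂.subtype
  have hrange : LinearMap.range φ = N₁ ⊔ N₂ := by
    rw [LinearMap.range_coprod, Submodule.range_subtype, Submodule.range_subtype]
  have hinj : Function.Injective φ := by
    rw [← LinearMap.ker_eq_bot, LinearMap.ker_coprod_of_disjoint_range]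
    · rw [Submodule.ker_subtype, Submodule.ker_subtype, Submodule.prod_bot]
    · rwa [Submodule.range_subtype, Submodule.range_subtype]
  exact (h1.prod h2).of_equiv
    ((LinearEquiv.ofInjective φ hinj).trans (LinearEquiv.ofEq _ _ hrange))

theorem Good.finset_sup {ι : Type u} (E N : ι → Submodule A J) (hind : iSupIndep E)
    (hNE : ∀ i, N i ≤ E i) (F : Finset ι) (hgood : ∀ i ∈ F, Good A ↥(N i)) :
    Good A ↥(F.sup N) := by
  classical
  induction F using Finset.induction_on with
  | empty =>
    rw [Finset.sup_empty]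
    exact Good.of_subsingleton _
  | insert a F ha ih =>
    rw [Finset.sup_insert]
    have hd : Disjoint (N a) (F.sup N) := by
      refine ((hind a).mono_left (hNE a)).mono_right ?_
      refine Finset.sup_le fun b hb => (hNE b).trans ?_
      exact le_iSup₂_of_le b (ne_of_mem_of_not_mem hb ha) le_rfl
    exact Good.sup hd (hgood a (Finset.mem_insert_self a F))
      (ih fun i hi => hgood i (Finset.mem_insert_of_mem hi))

/-- transport of the structure to the module itself -/
theorem Good.exists_module {M : Type u} [AddCommGroup M] [Module A M] (h : Good A M) :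
    ∃ (B : Type u) (_ : CommRing B) (_ : Algebra A B) (_ : IsArtinianRing B)
      (_ : Module B M) (_ : IsScalarTower A B M), Module.Finite B M := by
  obtain ⟨B, _, _, _, M', _, _, _, _, _, ⟨f⟩⟩ := h
  let _ : SMul B M := ⟨fun b m => f.symm (b • f m)⟩
  have hsm : ∀ (b : B) (m : M), b • m = f.symm (b • f m) := fun _ _ => rfl
  let modB : Module B M := Function.Injective.module B f.toLinearMap.toAddMonoidHom f.injective
    (fun c x => by
      change f (c • x) = c • f x
      rw [hsm, LinearEquiv.apply_symm_apply])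
  have tower : IsScalarTower A B M := by
    refine ⟨fun a b m => ?_⟩
    change f.symm ((a • b) • f m) = a • f.symm (b • f m)
    rw [smul_assoc, map_smul]
  let l : M ≃ₗ[B] M' := { f.toAddEquiv with
    map_smul' := fun b m => by
      change f (b • m) = b • f m
      rw [hsm, LinearEquiv.apply_symm_apply] }
  exact ⟨B, inferInstance, inferInstance, inferInstance, modB, tower, Module.Finite.equiv l.symm⟩

end Good




section Prime

variable {A : Type u} [CommRing A] [IsNoetherianRing A]

/-- structure of an indecomposable injective module: a prime `p` such that elements outside `p`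
act bijectively and every element is killed by a power of `p`. -/
theorem exists_prime_data {E : Type u} [AddCommGroup E] [Module A E] (hE : IsIndecomposable A E)
    [Module.Injective A E] :
    ∃ p : Ideal A, p.IsPrime ∧ (∀ s, s ∉ p → Function.Bijective (fun y : E => s • y)) ∧
      ∀ y : E, ∃ n : ℕ, ∀ a ∈ p ^ n, a • y = 0 := by
  have := hE.1
  obtain ⟨p, hp⟩ := associatedPrimes.nonempty A E
  obtain ⟨hprime, x, hpx⟩ := isAssociatedPrime_iff.mp hp
  have hx : ∀ r : A, r • x = 0 ↔ r ∈ p := by
    intro r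
    rw [hpx, Submodule.mem_colon_singleton, Submodule.mem_bot]
  have hx0 : x ≠ 0 := by
    intro h0
    have : (1 : A) ∈ p := (hx 1).mp (by rw [h0, smul_zero])
    exact hprime.ne_top ((Ideal.eq_top_iff_one p).mpr this)
  refine ⟨p, hprime, fun s hs => smul_bijective hE p x hx s hs, ?_⟩
  have hspan : Submodule.span A {x} ≠ ⊥ := by
    rw [Ne, Submodule.span_singleton_eq_bot]; exact hx0
  have hess := essIn_top_of_indecomposable hE _ hspan
  -- every associated prime of `E` is `p`
  have hAss : ∀ (z : E) (q : Ideal A), q.IsPrime → z ≠ 0 → (∀ r : A, r • z = 0 ↔ r ∈ q) → q = p := by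
    intro z q hq hz0 hz
    obtain ⟨r, hr0, hrx⟩ := hess z trivial hz0
    obtain ⟨t, ht⟩ := Submodule.mem_span_singleton.mp hrx
    have htp : t ∉ p := fun h => hr0 (by rw [← ht]; exact (hx t).mpr h)
    have hrq : r ∉ q := fun h => hr0 ((hz r).mpr h)
    ext a
    constructor
    · intro ha
      have h1 : (a * r) • z = 0 := (hz _).mpr (q.mul_mem_right r ha)
      have h2 : (a * t) • x = 0 := by rw [mul_smul, ht, ← mul_smul]; exact h1
      exact (hprime.mem_or_mem ((hx _).mp h2)).resolve_right htp
    · intro ha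
      have h2 : (a * t) • x = 0 := (hx _).mpr (p.mul_mem_right t ha)
      have h1 : (a * r) • z = 0 := by rw [mul_smul, ← ht, ← mul_smul]; exact h2
      exact (hq.mem_or_mem ((hz _).mp h1)).resolve_right hrq
  intro y
  let M : Submodule A E := Submodule.span A {y}
  have hfin : Module.Finite A M := Module.Finite.span_singleton A y
  have hle : p ≤ (Module.annihilator A M).radical := by
    rw [Ideal.radical_eq_sInf]
    refine le_sInf ?_
    rintro Q ⟨hQ1, hQ2⟩
    obtain ⟨q, hq, hqQ⟩ := Ideal.exists_minimalPrimes_le hQ1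
    have hqass : q ∈ associatedPrimes A M :=
      Module.associatedPrimes.minimalPrimes_annihilator_subset_associatedPrimes A M hq
    obtain ⟨hqprime, z, hqz⟩ := isAssociatedPrime_iff.mp hqass
    have hz : ∀ r : A, r • (z : E) = 0 ↔ r ∈ q := by
      intro r
      rw [hqz, Submodule.mem_colon_singleton, Submodule.mem_bot]
      constructor
      · intro h; exact Subtype.ext h
      · intro h; exact congrArg Subtype.val h
    have hz0 : (z : E) ≠ 0 := by
      intro h0
      have : (1 : A) ∈ q := (hz 1).mp (by rw [h0, smul_zero])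
      exact hqprime.ne_top ((Ideal.eq_top_iff_one q).mpr this)
    rw [← hAss z q hqprime hz0 hz]
    exact hqQ
  obtain ⟨n, hn⟩ := Ideal.exists_pow_le_of_le_radical_of_fg hle
    ((isNoetherianRing_iff_ideal_fg A).mp ‹_› p)
  refine ⟨n, fun a ha => ?_⟩
  have := (Module.mem_annihilator.mp (hn ha)) ⟨y, Submodule.mem_span_singleton_self y⟩
  exact congrArg Subtype.val this

end Prime



section Local

variable {A : Type u} [CommRing A] [IsNoetherianRing A]
variable {J : Type u} [AddCommGroup J] [Module A J]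

/-- the local pieces: finite modules over `A_p / ann` -/
theorem local_data (N : Submodule A J) (p : Ideal A) [hp : p.IsPrime]
    (hinj : ∀ s, s ∉ p → ∀ y ∈ N, s • y = 0 → y = 0)
    (hsurj : ∀ s, s ∉ p → ∀ y ∈ N, ∃ z ∈ N, s • z = y)
    (n : ℕ) (hn : ∀ a ∈ p ^ n, ∀ y ∈ N, a • y = 0)
    (T : Finset J) (hT : ∀ t ∈ T, t ∈ N)
    (hgen : ∀ y ∈ N, ∃ s, s ∉ p ∧ s • y ∈ Submodule.span A (T : Set J)) :
    ∃ (B : Type u) (_ : CommRing B) (_ : Algebra A B) (_ : IsArtinianRing B)
    (M' : Type u) (_ : AddCommGroup M') (_ : Module A M') (_ : Module B M')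
    (_ : IsScalarTower A B M') (_ : Module.Finite B M'), Nonempty (↥N ≃ₗ[A] M') := by
  classical
  let S := p.primeCompl
  let Ap := Localization.AtPrime p
  let N' := LocalizedModule S ↥N
  have hunit : ∀ s : S, IsUnit (algebraMap A (Module.End A ↥N) s) := by
    intro s
    rw [Module.End.isUnit_iff]
    constructor
    · intro y z hyz
      have h1 : (s : A) • (y - z) = 0 := by
        rw [smul_sub]; exact sub_eq_zero.mpr hyz
      have h2 : ((y - z : ↥N) : J) = 0 :=
        hinj s s.2 _ (y - z).2 (congrArg Subtype.val h1)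
      exact sub_eq_zero.mp (Subtype.ext h2)
    · intro y
      obtain ⟨z, hz, hzy⟩ := hsurj s s.2 y y.2
      exact ⟨⟨z, hz⟩, Subtype.ext hzy⟩
  have hloc : IsLocalizedModule S (LinearMap.id : ↥N →ₗ[A] ↥N) :=
    ⟨hunit, fun m => ⟨(m, 1), one_smul _ _⟩, fun h => ⟨1, congrArg _ h⟩⟩
  let e : ↥N ≃ₗ[A] N' :=
    IsLocalizedModule.linearEquiv S LinearMap.id (LocalizedModule.mkLinearMap S ↥N)
  -- annihilator
  have hann : (IsLocalRing.maximalIdeal Ap) ^ n ≤ Module.annihilator Ap N' := by
    rw [← IsLocalization.AtPrime.map_eq_maximalIdeal p Ap, ← Ideal.map_pow,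
      Ideal.map_le_iff_le_comap]
    intro a ha
    rw [Ideal.mem_comap, Module.mem_annihilator]
    intro w
    obtain ⟨y, rfl⟩ := e.surjective w
    rw [algebraMap_smul, ← map_smul]
    have : a • y = 0 := Subtype.ext (hn a ha y y.2)
    rw [this, map_zero]
  let B := Ap ⧸ Module.annihilator Ap N'
  have hart : IsArtinianRing B := by
    rw [isArtinianRing_iff_krullDimLE_zero, Ring.krullDimLE_zero_iff]
    intro Q hQ
    have hsurjmk : Function.Surjective (Ideal.Quotient.mk (Module.annihilator Ap N')) :=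
      Ideal.Quotient.mk_surjective
    let Q' := Q.comap (Ideal.Quotient.mk (Module.annihilator Ap N'))
    have hQ' : Q'.IsPrime := Ideal.comap_isPrime _ _
    have hle : Module.annihilator Ap N' ≤ Q' := by
      intro x hx
      rw [Ideal.mem_comap, Ideal.Quotient.eq_zero_iff_mem.mpr hx]
      exact Q.zero_mem
    have hm : IsLocalRing.maximalIdeal Ap ≤ Q' := Ideal.IsPrime.le_of_pow_le (hann.trans hle)
    have hQ'max : Q'.IsMaximal := by
      have := (IsLocalRing.maximalIdeal.isMaximal Ap).eq_of_le hQ'.ne_top hm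
      rw [← this]
      exact IsLocalRing.maximalIdeal.isMaximal Ap
    have hQeq : Q = Q'.map (Ideal.Quotient.mk (Module.annihilator Ap N')) :=
      (Ideal.map_comap_of_surjective _ hsurjmk Q).symm
    rcases Ideal.map_eq_top_or_isMaximal_of_surjective _ hsurjmk hQ'max with h | h
    · exact absurd (hQeq.trans h) hQ.ne_top
    · rw [hQeq]; exact h
  letI modB : Module B N' := Module.quotientAnnihilator
  have tower1 : IsScalarTower Ap B N' := (Module.isTorsionBySet_annihilator Ap N').isScalarTower
  have tower2 : IsScalarTower A B N' := (Module.isTorsionBySet_annihilator Ap N').isScalarTower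
  -- finite generation over `Ap`
  have hfinAp : Module.Finite Ap N' := by
    let X : Finset N' := T.attach.image (fun t => e ⟨t.1, hT t.1 t.2⟩)
    refine ⟨⟨X, ?_⟩⟩
    have key : ∀ z ∈ Submodule.span A (T : Set J), ∃ hz : z ∈ N,
        e ⟨z, hz⟩ ∈ Submodule.span Ap (X : Set N') := by
      intro z hz
      induction hz using Submodule.span_induction with
      | mem t ht =>
        refine ⟨hT t ht, Submodule.subset_span ?_⟩
        exact Finset.mem_coe.mpr (Finset.mem_image.mpr ⟨⟨t, ht⟩, Finset.mem_attach _ _, rfl⟩)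
      | zero =>
        refine ⟨N.zero_mem, ?_⟩
        have : (⟨0, N.zero_mem⟩ : ↥N) = 0 := rfl
        rw [this, map_zero]
        exact Submodule.zero_mem _
      | add x y _ _ hx hy =>
        obtain ⟨hx1, hx2⟩ := hx
        obtain ⟨hy1, hy2⟩ := hy
        refine ⟨N.add_mem hx1 hy1, ?_⟩
        have : (⟨x + y, N.add_mem hx1 hy1⟩ : ↥N) = ⟨x, hx1⟩ + ⟨y, hy1⟩ := rfl
        rw [this, map_add]
        exact Submodule.add_mem _ hx2 hy2
      | smul a x _ hx =>
        obtain ⟨hx1, hx2⟩ := hx
        refine ⟨N.smul_mem a hx1, ?_⟩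
        have : (⟨a • x, N.smul_mem a hx1⟩ : ↥N) = a • ⟨x, hx1⟩ := rfl
        rw [this, map_smul, ← algebraMap_smul Ap a]
        exact Submodule.smul_mem _ _ hx2
    rw [eq_top_iff]
    intro w _
    obtain ⟨y, rfl⟩ := e.surjective w
    obtain ⟨s, hs, hsy⟩ := hgen y y.2
    obtain ⟨hz, hmem⟩ := key _ hsy
    have h1 : (⟨s • (y : J), hz⟩ : ↥N) = s • y := rfl
    rw [h1, map_smul, ← algebraMap_smul Ap s] at hmem
    obtain ⟨u, hu⟩ := IsLocalization.map_units Ap (⟨s, hs⟩ : S)
    have h2 : e y = (↑u⁻¹ : Ap) • ((algebraMap A Ap s) • e y) := by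
      rw [← hu, smul_smul, Units.inv_mul, one_smul]
    rw [h2]
    exact Submodule.smul_mem _ _ hmem
  have hfin : Module.Finite B N' := Module.Finite.of_restrictScalars_finite Ap B N'
  exact ⟨B, inferInstance, inferInstance, hart, N', inferInstance, inferInstance, modB, tower2,
    hfin, ⟨e⟩⟩

/-- the `p`-saturation inside `E` of the span of `T` -/
def sat (E : Submodule A J) (p : Ideal A) [hp : p.IsPrime] (T : Set J) : Submodule A J where
  carrier := {y | y ∈ E ∧ ∃ s, s ∉ p ∧ s • y ∈ Submodule.span A T}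
  zero_mem' := ⟨E.zero_mem, 1, fun h => hp.ne_top ((Ideal.eq_top_iff_one p).mpr h), by
    rw [smul_zero]; exact Submodule.zero_mem _⟩
  add_mem' := by
    rintro y z ⟨h1, s, hs, hs'⟩ ⟨h2, t, ht, ht'⟩
    refine ⟨E.add_mem h1 h2, s * t, fun h => (hp.mem_or_mem h).elim hs ht, ?_⟩
    rw [smul_add]
    refine Submodule.add_mem _ ?_ ?_
    · rw [mul_comm, mul_smul]; exact Submodule.smul_mem _ _ hs'
    · rw [mul_smul]; exact Submodule.smul_mem _ _ ht'
  smul_mem' := by
    rintro a y ⟨h1, s, hs, hs'⟩
    refine ⟨E.smul_mem a h1, s, hs, ?_⟩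
    rw [smul_comm]
    exact Submodule.smul_mem _ _ hs'

theorem sat_le (E : Submodule A J) (p : Ideal A) [p.IsPrime] (T : Set J) : sat E p T ≤ E :=
  fun _ hy => hy.1

theorem sat_mono (E : Submodule A J) (p : Ideal A) [p.IsPrime] {T T' : Set J} (h : T ⊆ T') :
    sat E p T ≤ sat E p T' :=
  fun _ ⟨h1, s, hs, hs'⟩ => ⟨h1, s, hs, Submodule.span_mono h hs'⟩

theorem mem_sat_of_mem (E : Submodule A J) (p : Ideal A) [hp : p.IsPrime] {T : Set J} {y : J}
    (hyE : y ∈ E) (hyT : y ∈ T) : y ∈ sat E p T :=
  ⟨hyE, 1, fun h => hp.ne_top ((Ideal.eq_top_iff_one p).mpr h), by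
    rw [one_smul]; exact Submodule.subset_span hyT⟩

theorem sat_local_data (E : Submodule A J) (p : Ideal A) [hp : p.IsPrime]
    (hinj : ∀ s, s ∉ p → ∀ y ∈ E, s • y = 0 → y = 0)
    (hsurj : ∀ s, s ∉ p → ∀ y ∈ E, ∃ z ∈ E, s • z = y)
    (hpow : ∀ y ∈ E, ∃ n : ℕ, ∀ a ∈ p ^ n, a • y = 0)
    (T : Finset J) (hT : ∀ t ∈ T, t ∈ E) :
    ∃ (B : Type u) (_ : CommRing B) (_ : Algebra A B) (_ : IsArtinianRing B)
    (M' : Type u) (_ : AddCommGroup M') (_ : Module A M') (_ : Module B M')
    (_ : IsScalarTower A B M') (_ : Module.Finite B M'),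
      Nonempty (↥(sat E p (T : Set J)) ≃ₗ[A] M') := by
  classical
  -- uniform exponent
  have hexp : ∃ n : ℕ, ∀ t ∈ T, ∀ a ∈ p ^ n, a • t = 0 := by
    induction T using Finset.induction_on with
    | empty => exact ⟨0, fun t ht => absurd ht (Finset.notMem_empty t)⟩
    | insert b T hb ih =>
      obtain ⟨n₁, h₁⟩ := ih (fun t ht => hT t (Finset.mem_insert_of_mem ht))
      obtain ⟨n₂, h₂⟩ := hpow b (hT b (Finset.mem_insert_self b T))
      refine ⟨max n₁ n₂, fun t ht a ha => ?_⟩
      rcases Finset.mem_insert.mp ht with rfl | ht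
      · exact h₂ a (Ideal.pow_le_pow_right (le_max_right n₁ n₂) ha)
      · exact h₁ t ht a (Ideal.pow_le_pow_right (le_max_left n₁ n₂) ha)
  obtain ⟨n, hn⟩ := hexp
  have hspan : ∀ z ∈ Submodule.span A (T : Set J), ∀ a ∈ p ^ n, a • z = 0 := by
    intro z hz a ha
    induction hz using Submodule.span_induction with
    | mem t ht => exact hn t ht a ha
    | zero => exact smul_zero a
    | add x y _ _ hx hy => rw [smul_add, hx, hy, add_zero]
    | smul c x _ hx => rw [smul_comm, hx, smul_zero]
  refine local_data (sat E p (T : Set J)) p ?_ ?_ n ?_ T ?_ ?_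
  · intro s hs y hy h0
    exact hinj s hs y hy.1 h0
  · intro s hs y hy
    obtain ⟨z, hzE, hzy⟩ := hsurj s hs y hy.1
    obtain ⟨t, ht, hty⟩ := hy.2
    refine ⟨z, ⟨hzE, t * s, fun h => (hp.mem_or_mem h).elim ht hs, ?_⟩, hzy⟩
    rw [mul_smul, hzy]
    exact hty
  · intro a ha y hy
    obtain ⟨t, ht, hty⟩ := hy.2
    have h1 : t • (a • y) = 0 := by rw [smul_comm]; exact hspan _ hty a ha
    exact hinj t ht _ (E.smul_mem a hy.1) h1
  · intro t ht
    exact mem_sat_of_mem E p (hT t ht) ht
  · intro y hy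
    exact hy.2

end Local


section Main

open CategoryTheory CategoryTheory.Limits

variable {A : Type u} [CommRing A]
variable {J : Type u} [AddCommGroup J] [Module A J]

/-- the diagram of a monotone family of submodules -/
def diag {ι : Type u} [Preorder ι] (N : ι →o Submodule A J) : ι ⥤ ModuleCat.{u} A where
  obj i := ModuleCat.of A ↥(N i)
  map {i j} h := ModuleCat.ofHom (Submodule.inclusion (N.monotone (leOfHom h)))
  map_id i := rfl
  map_comp f g := rfl

/-- the cocone of inclusions -/
def cocone {ι : Type u} [Preorder ι] (N : ι →o Submodule A J) : Cocone (diag N) where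
  pt := ModuleCat.of A J
  ι :=
    { app := fun i => ModuleCat.ofHom (N i).subtype
      naturality := fun i j h => rfl }

/-- a module is the filtered colimit of a directed covering family of submodules -/
noncomputable def isColimitCocone {ι : Type u} [Preorder ι] [IsDirected ι (· ≤ ·)] [Nonempty ι]
    (N : ι →o Submodule A J) (hcov : ∀ y : J, ∃ i, y ∈ N i) : IsColimit (cocone N) := by
  have h2 : ReflectsColimitsOfShape ι (forget (ModuleCat.{u} A)) :=
    reflectsColimitsOfShape_of_reflectsIsomorphisms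
  apply isColimitOfReflects (forget (ModuleCat.{u} A))
  apply Types.FilteredColimit.isColimitOf'
  · intro x
    change J at x
    obtain ⟨i, hi⟩ := hcov x
    exact ⟨i, ⟨x, hi⟩, rfl⟩
  · intro j y y' e
    refine ⟨j, 𝟙 j, ?_⟩
    change ↥(N j) at y y'
    have : (y : J) = y' := e
    have h3 : y = y' := Subtype.ext this
    rw [h3]

theorem main [IsNoetherianRing A] [Module.Injective A J] :
    ∃ (ι : Type u) (_ : Preorder ι) (_ : IsDirected ι (· ≤ ·)) (_ : Nonempty ι)
      (N : ι →o Submodule A J), (∀ y : J, ∃ i, y ∈ N i) ∧ ∀ i, Good A ↥(N i) := by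
  classical
  obtain ⟨ι₀, E, hind, htop, hE⟩ := Groth.Agent.Lib.Helper83.InjDecomp.main (R := A) (I := J)
    inferInstance
  have hdata : ∀ i, ∃ p : Ideal A, p.IsPrime ∧
      (∀ s, s ∉ p → Function.Bijective (fun y : ↥(E i) => s • y)) ∧
      ∀ y : ↥(E i), ∃ n : ℕ, ∀ a ∈ p ^ n, a • y = 0 := fun i =>
    haveI := (hE i).2
    exists_prime_data (hE i).1
  choose p hp hbij hpow using hdata
  have hinj : ∀ i, ∀ s, s ∉ p i → ∀ y ∈ E i, s • y = 0 → y = 0 := by
    intro i s hs y hy h0
    have := (hbij i s hs).1 (a₁ := ⟨y, hy⟩) (a₂ := 0) (by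
      apply Subtype.ext
      change s • y = s • (0 : J)
      rw [h0, smul_zero])
    exact congrArg Subtype.val this
  have hsurj : ∀ i, ∀ s, s ∉ p i → ∀ y ∈ E i, ∃ z ∈ E i, s • z = y := by
    intro i s hs y hy
    obtain ⟨z, hz⟩ := (hbij i s hs).2 ⟨y, hy⟩
    exact ⟨z.1, z.2, congrArg Subtype.val hz⟩
  have hpow' : ∀ i, ∀ y ∈ E i, ∃ n : ℕ, ∀ a ∈ p i ^ n, a • y = 0 := by
    intro i y hy
    obtain ⟨n, hn⟩ := hpow i ⟨y, hy⟩
    exact ⟨n, fun a ha => congrArg Subtype.val (hn a ha)⟩
  let Idx := Finset (Σ i : ι₀, ↥(E i))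
  let T : ι₀ → Idx → Finset J := fun i Φ =>
    (Φ.filter (fun z => z.1 = i)).image (fun z => (z.2 : J))
  have hT : ∀ i Φ, ∀ t ∈ T i Φ, t ∈ E i := by
    intro i Φ t ht
    obtain ⟨⟨j, w⟩, hz, rfl⟩ := Finset.mem_image.mp ht
    obtain ⟨-, hji⟩ := Finset.mem_filter.mp hz
    dsimp only at hji
    subst hji
    exact w.2
  have hTmono : ∀ i {Φ Φ' : Idx}, Φ ≤ Φ' → T i Φ ⊆ T i Φ' := fun i Φ Φ' h =>
    Finset.image_subset_image (Finset.filter_subset_filter _ h)
  let Nf : Idx → Submodule A J := fun Φ =>
    (Φ.image Sigma.fst).sup (fun i => haveI := hp i; sat (E i) (p i) (T i Φ : Set J))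
  have hNmono : Monotone Nf := by
    intro Φ Φ' h
    refine (Finset.sup_mono (Finset.image_subset_image h)).trans ?_
    refine Finset.sup_mono_fun fun i _ => ?_
    haveI := hp i
    exact sat_mono (E i) (p i) (Finset.coe_subset.mpr (hTmono i h))
  let N : Idx →o Submodule A J := ⟨Nf, hNmono⟩
  refine ⟨Idx, inferInstance, inferInstance, ⟨∅⟩, N, ?_, ?_⟩
  · -- covering
    have hsup : (⨆ Φ, Nf Φ) = ⊤ := by
      rw [eq_top_iff, ← htop]
      refine iSup_le fun i => ?_
      intro y hy
      let Φ : Idx := {⟨i, ⟨y, hy⟩⟩}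
      have hyT : y ∈ (T i Φ : Set J) := by
        refine Finset.mem_coe.mpr (Finset.mem_image.mpr ⟨⟨i, ⟨y, hy⟩⟩, ?_, rfl⟩)
        exact Finset.mem_filter.mpr ⟨Finset.mem_singleton_self _, rfl⟩
      haveI := hp i
      have h1 : y ∈ sat (E i) (p i) (T i Φ : Set J) := mem_sat_of_mem (E i) (p i) hy hyT
      have h2 : sat (E i) (p i) (T i Φ : Set J) ≤ Nf Φ :=
        Finset.le_sup (f := fun i => haveI := hp i; sat (E i) (p i) (T i Φ : Set J))
          (Finset.mem_image.mpr ⟨⟨i, ⟨y, hy⟩⟩, Finset.mem_singleton_self _, rfl⟩)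
      exact Submodule.mem_iSup_of_mem Φ (h2 h1)
    intro y
    have hy : y ∈ ⨆ Φ, Nf Φ := by rw [hsup]; exact Submodule.mem_top
    exact (Submodule.mem_iSup_of_directed _ hNmono.directed_le).mp hy
  · intro Φ
    change Good A ↥(Nf Φ)
    refine Good.finset_sup E _ hind (fun i => ?_) _ (fun i _ => ?_)
    · haveI := hp i
      exact sat_le (E i) (p i) _
    · haveI := hp i
      exact sat_local_data (E i) (p i) (hinj i) (hsurj i) (hpow' i) (T i Φ) (hT i Φ)

end Main

end Groth.Agent.Lib.Helper83.InjColim
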