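import Groth.Agent.Lib.Helper85.HullIndec
import Mathlib.Algebra.DirectSum.Module
import Mathlib.Order.CompactlyGenerated.Basic
import Mathlib.RingTheory.Finiteness.Basic
import Mathlib.RingTheory.Noetherian.Basic

set_option autoImplicit false
universe u
namespace Groth.Agent.Lib.Helper83.InjDecomp

open InjHull Groth.Agent.Lib.Helper85.Hull

variable {R : Type u} [CommRing R]

theorem injective_prod {A B : Type u} [AddCommGroup A] [Module R A] [AddCommGroup B] [Module R B]
    [Module.Injective R A] [Module.Injective R B] : Module.Injective R (A × B) := by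
  refine ⟨fun X Y _ _ _ _ f hf g => ?_⟩
  obtain ⟨l₁, hl₁⟩ := Module.Injective.extension_property R A _ _ f hf
    ((LinearMap.fst R A B) ∘ₗ g)
  obtain ⟨l₂, hl₂⟩ := Module.Injective.extension_property R B _ _ f hf
    ((LinearMap.snd R A B) ∘ₗ g)
  refine ⟨l₁.prod l₂, fun x => ?_⟩
  have h1 : l₁ (f x) = (g x).1 := LinearMap.congr_fun hl₁ x
  have h2 : l₂ (f x) = (g x).2 := LinearMap.congr_fun hl₂ x
  ext
  · simp [h1]
  · simp [h2]

theorem injective_of_subsingleton {A : Type u} [AddCommGroup A] [Module R A] [Subsingleton A] :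
    Module.Injective R A := by
  refine ⟨fun X Y _ _ _ _ f hf g => ⟨0, fun x => Subsingleton.elim _ _⟩⟩

variable {I : Type u} [AddCommGroup I] [Module R I]

theorem injective_sup {A B : Submodule R I} (hd : Disjoint A B) [Module.Injective R A]
    [Module.Injective R B] : Module.Injective R ↥(A ⊔ B) := by
  let φ : (A × B) →ₗ[R] I := A.subtype.coprod B.subtype
  have hrange : LinearMap.range φ = A ⊔ B := by
    rw [LinearMap.range_coprod, Submodule.range_subtype, Submodule.range_subtype]
  have hinj : Function.Injective φ := by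
    rw [← LinearMap.ker_eq_bot, LinearMap.ker_coprod_of_disjoint_range]
    · rw [Submodule.ker_subtype, Submodule.ker_subtype, Submodule.prod_bot]
    · rwa [Submodule.range_subtype, Submodule.range_subtype]
  have : Module.Injective R (A × B) := injective_prod
  exact injective_of_linearEquiv ((LinearEquiv.ofInjective φ hinj).trans (LinearEquiv.ofEq _ _ hrange))

theorem exists_isCompl_of_injective (S : Submodule R I) [Module.Injective R S] :
    ∃ N : Submodule R I, IsCompl S N := by
  obtain ⟨ρ, hρ⟩ := Module.Injective.extension_property R S _ _ S.subtype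
    (Submodule.subtype_injective _) LinearMap.id
  exact ⟨_, LinearMap.isCompl_of_proj (fun x => LinearMap.congr_fun hρ x)⟩

theorem injective_finset_sup (𝒮 : Set (Submodule R I)) (hind : sSupIndep 𝒮)
    (hinj : ∀ E ∈ 𝒮, Module.Injective R E) (F : Finset (Submodule R I)) (hF : ↑F ⊆ 𝒮) :
    Module.Injective R ↥(F.sup id) := by
  classical
  induction F using Finset.induction_on with
  | empty =>
    rw [Finset.sup_empty]
    exact injective_of_subsingleton
  | insert a F ha ih =>
    rw [Finset.sup_insert]
    have haS : a ∈ 𝒮 := hF (Finset.mem_insert_self a F)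
    have hFS : ↑F ⊆ 𝒮 := fun x hx => hF (Finset.mem_insert_of_mem hx)
    have : Module.Injective R ↥a := hinj a haS
    have := ih hFS
    change Module.Injective R ↥(a ⊔ F.sup id)
    have hd : Disjoint a (F.sup id) := by
      refine (hind haS).mono_right ?_
      refine Finset.sup_le fun b hb => ?_
      refine le_sSup ⟨hFS hb, ?_⟩
      rintro rfl
      exact ha hb
    exact injective_sup hd

/-- Bass: over a Noetherian ring, the sum of an independent family of injective submodules of an
injective module is injective. -/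
theorem injective_sSup [IsNoetherianRing R] [Module.Injective R I] (𝒮 : Set (Submodule R I))
    (hind : sSupIndep 𝒮) (hinj : ∀ E ∈ 𝒮, Module.Injective R E) :
    Module.Injective R ↥(sSup 𝒮) := by
  apply Module.Baer.injective
  intro J g
  let ψ : J →ₗ[R] I := (sSup 𝒮).subtype ∘ₗ g
  have hfg : (LinearMap.range ψ).FG := by
    rw [LinearMap.range_eq_map]
    exact Submodule.FG.map _ (Module.Finite.fg_top)
  have hle : LinearMap.range ψ ≤ sSup 𝒮 := by
    rintro _ ⟨a, rfl⟩
    exact (g a).2
  obtain ⟨F, hFS, hF⟩ := (CompleteLattice.isCompactElement_iff_exists_le_sSup_of_le_sSup _ _).mp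
    ((Submodule.fg_iff_compact _).mp hfg) 𝒮 hle
  have := injective_finset_sup 𝒮 hind hinj F hFS
  obtain ⟨N, hc⟩ := exists_isCompl_of_injective (F.sup id)
  obtain ⟨h, hh⟩ := Module.Injective.extension_property R I _ _ J.subtype
    (Submodule.subtype_injective _) ψ
  have hFle : F.sup id ≤ sSup 𝒮 := Finset.sup_le fun b hb => le_sSup (hFS hb)
  refine ⟨(Submodule.inclusion hFle) ∘ₗ ((F.sup id).projectionOnto N hc) ∘ₗ h, ?_⟩
  intro a ha
  have h1 : h a = ψ ⟨a, ha⟩ := LinearMap.congr_fun hh ⟨a, ha⟩
  have h2 : ψ ⟨a, ha⟩ ∈ F.sup id := hF ⟨_, rfl⟩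
  apply Subtype.ext
  simp only [LinearMap.comp_apply, Submodule.coe_inclusion]
  rw [h1]
  have := Submodule.projectionOnto_apply_left hc ⟨_, h2⟩
  rw [Submodule.coe_mk] at this
  rw [this]
  rfl

theorem isIndecomposable_of_linearEquiv {M N : Type u} [AddCommGroup M] [Module R M]
    [AddCommGroup N] [Module R N] (e : M ≃ₗ[R] N) (hM : IsIndecomposable R M) :
    IsIndecomposable R N := by
  have := hM.1
  refine ⟨e.symm.toEquiv.nontrivial, fun A B hc => ?_⟩
  have hc' : IsCompl (Submodule.orderIsoMapComap e.symm A) (Submodule.orderIsoMapComap e.symm B) :=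
    (OrderIso.isCompl_iff _).mp hc
  rcases hM.2 _ _ hc' with h | h
  · left
    exact (map_eq_bot_iff (Submodule.orderIsoMapComap e.symm)).mp h
  · right
    exact (map_eq_bot_iff (Submodule.orderIsoMapComap e.symm)).mp h

/-- A nonzero injective module over a Noetherian ring contains an indecomposable injective
submodule. -/
theorem exists_indecomposable_injective [IsNoetherianRing R] [Module.Injective R I]
    [Nontrivial I] :
    ∃ E : Submodule R I, IsIndecomposable R E ∧ Module.Injective R E := by
  obtain ⟨p, hp⟩ := associatedPrimes.nonempty R I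
  obtain ⟨hprime, x, hpx⟩ := isAssociatedPrime_iff.mp hp
  have hx : ∀ r : R, r • x = 0 ↔ r ∈ p := by
    intro r
    rw [hpx, Submodule.mem_colon_singleton, Submodule.mem_bot]
  have hx0 : x ≠ 0 := by
    intro h0
    have : (1 : R) ∈ p := (hx 1).mp (by rw [h0, smul_zero])
    exact hprime.ne_top ((Ideal.eq_top_iff_one p).mpr this)
  obtain ⟨E, hKE, hess, hmax⟩ := exists_maximal_ess (Submodule.span R {x})
  obtain ⟨N, hc⟩ := exists_isCompl_of_maximal_ess _ E hess hmax
  have hxE : x ∈ E := hKE (Submodule.mem_span_singleton_self x)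
  refine ⟨E, ⟨⟨⟨⟨x, hxE⟩, 0, fun h => hx0 (congrArg Subtype.val h)⟩⟩, ?_⟩,
    injective_of_isCompl E N hc⟩
  intro A B hAB
  by_contra hcon
  rw [not_or] at hcon
  obtain ⟨a, haA, ha0⟩ := (Submodule.ne_bot_iff A).mp hcon.1
  obtain ⟨b, hbB, hb0⟩ := (Submodule.ne_bot_iff B).mp hcon.2
  have ha0' : (a : I) ≠ 0 := fun h => ha0 (Subtype.ext h)
  have hb0' : (b : I) ≠ 0 := fun h => hb0 (Subtype.ext h)
  obtain ⟨r, hr0, hrK⟩ := hess a a.2 ha0'
  obtain ⟨s, hs0, hsK⟩ := hess b b.2 hb0'
  obtain ⟨t, ht⟩ := Submodule.mem_span_singleton.mp hrK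
  obtain ⟨t', ht'⟩ := Submodule.mem_span_singleton.mp hsK
  have htp : t ∉ p := fun h => hr0 (by rw [← ht]; exact (hx t).mpr h)
  have htp' : t' ∉ p := fun h => hs0 (by rw [← ht']; exact (hx t').mpr h)
  let z : E := (t' * r) • a
  have hzA : z ∈ A := A.smul_mem _ haA
  have hz1 : (z : I) = (t' * t) • x := by
    change (t' * r) • (a : I) = _
    rw [mul_smul, ← ht, mul_smul]
  have hzB : z ∈ B := by
    have : z = (t * s) • b := by
      apply Subtype.ext
      rw [hz1]
      change _ = (t * s) • (b : I)
      rw [mul_smul t s, ← ht', ← mul_smul, mul_comm]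
    rw [this]
    exact B.smul_mem _ hbB
  have hz0 : z = 0 := by
    have : z ∈ A ⊓ B := ⟨hzA, hzB⟩
    rwa [hAB.inf_eq_bot, Submodule.mem_bot] at this
  have : (t' * t) • x = 0 := by rw [← hz1, hz0]; rfl
  rcases hprime.mem_or_mem ((hx _).mp this) with h | h
  · exact htp' h
  · exact htp h

/-- Over a Noetherian ring every injective module is the internal direct sum of indecomposable
injective submodules (independent family with supremum `⊤`). -/
theorem main [IsNoetherianRing R] (hI : Module.Injective R I) :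
    ∃ (ι : Type u) (E : ι → Submodule R I), iSupIndep E ∧ iSup E = ⊤ ∧
      ∀ i, IsIndecomposable R ↥(E i) ∧ Module.Injective R ↥(E i) := by
  let P : Set (Set (Submodule R I)) :=
    {𝒮 | sSupIndep 𝒮 ∧ ∀ E ∈ 𝒮, IsIndecomposable R ↥E ∧ Module.Injective R ↥E}
  obtain ⟨𝒮, h𝒮⟩ := zorn_subset P (by
    intro c hc hchain
    refine ⟨⋃₀ c, ⟨?_, ?_⟩, fun s hs => Set.subset_sUnion_of_mem hs⟩
    · exact iSupIndep_sUnion_of_directed hchain.directedOn (fun a ha => (hc ha).1)
    · rintro E ⟨s, hs, hEs⟩
      exact (hc hs).2 E hEs)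
  have hind : sSupIndep 𝒮 := h𝒮.prop.1
  have hprop := h𝒮.prop.2
  have hT : Module.Injective R ↥(sSup 𝒮) := injective_sSup 𝒮 hind (fun E hE => (hprop E hE).2)
  obtain ⟨N, hc⟩ := exists_isCompl_of_injective (sSup 𝒮)
  have hN : N = ⊥ := by
    by_contra hN
    have : Module.Injective R N := injective_of_isCompl N (sSup 𝒮) hc.symm
    have : Nontrivial N := (Submodule.nontrivial_iff_ne_bot).mpr hN
    obtain ⟨E₁, hE₁ind, hE₁inj⟩ := exists_indecomposable_injective (R := R) (I := N)
    let E' : Submodule R I := E₁.map N.subtype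
    let e : E₁ ≃ₗ[R] E' := Submodule.equivMapOfInjective N.subtype (Submodule.subtype_injective _) E₁
    have hE'ind : IsIndecomposable R E' := isIndecomposable_of_linearEquiv e hE₁ind
    have hE'inj : Module.Injective R E' := injective_of_linearEquiv e
    have hE'N : E' ≤ N := by
      rintro _ ⟨y, _, rfl⟩
      exact y.2
    have hdisj : Disjoint E' (sSup 𝒮) := hc.disjoint.symm.mono_left hE'N
    have hmem : insert E' 𝒮 ∈ P := by
      refine ⟨?_, ?_⟩
      · intro b hb
        rcases hb with rfl | hb
        · refine hdisj.mono_right (sSup_le_sSup ?_)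
          rintro y ⟨hy, hy'⟩
          rcases hy with rfl | hy
          · exact absurd rfl hy'
          · exact hy
        · by_cases hbE : b = E'
          · subst hbE
            refine hdisj.mono_right (sSup_le_sSup ?_)
            rintro y ⟨hy, hy'⟩
            rcases hy with rfl | hy
            · exact absurd rfl hy'
            · exact hy
          · have h1 : Disjoint b (sSup (𝒮 \ {b})) := hind hb
            have h2 : Disjoint (b ⊔ sSup (𝒮 \ {b})) E' := by
              refine hdisj.symm.mono_left ?_
              exact sup_le (le_sSup hb) (sSup_le_sSup Set.sdiff_subset)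
            have h3 := h1.disjoint_sup_right_of_disjoint_sup_left h2
            refine h3.mono_right ?_
            refine sSup_le ?_
            rintro y ⟨hy, hy'⟩
            rcases hy with rfl | hy
            · exact le_sup_right
            · exact le_sup_of_le_left (le_sSup ⟨hy, hy'⟩)
      · intro E hE
        rcases hE with rfl | hE
        · exact ⟨hE'ind, hE'inj⟩
        · exact hprop E hE
    have hsub : insert E' 𝒮 ⊆ 𝒮 := h𝒮.le_of_ge hmem (Set.subset_insert _ _)
    have hE'S : E' ≤ sSup 𝒮 := le_sSup (hsub (Set.mem_insert _ _))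
    have hbot : E' = ⊥ := by
      rw [eq_bot_iff]
      exact fun y hy => (Submodule.disjoint_def.mp hdisj y hy (hE'S hy)) ▸ Submodule.zero_mem _
    have := hE'ind.1
    exact (Submodule.nontrivial_iff_ne_bot.mp this) hbot
  have htop : sSup 𝒮 = ⊤ := by
    have := hc.sup_eq_top
    rwa [hN, sup_bot_eq] at this
  refine ⟨↥𝒮, fun i => i.1, (sSupIndep_iff 𝒮).mp hind, ?_, fun i => hprop i.1 i.2⟩
  rw [← htop, sSup_eq_iSup']

end Groth.Agent.Lib.Helper83.InjDecomp
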