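import Groth.Agent.S9651
import Mathlib

/-!
# Images of constructible sets under finite type maps of Jacobson rings (helper83)

`part1`, `part2` (S9652), `mem_image_iff` (S9653). Uses landed `Groth.Agent.S9651.result`.
-/

set_option autoImplicit false
universe u

namespace Groth.Agent.Lib.Helper83.JacConstr

open PrimeSpectrum Topology

section top
variable {X : Type*} [TopologicalSpace X]

/-- (L1) a point closed in `T` with a locally closed neighbourhood inside `T` is a closed point. -/
theorem isClosed_singleton_of_nbhd [JacobsonSpace X] {T : Set X} {x : X}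
    (hxT : closure {x} ∩ T = {x}) {U : Set X} (hU : IsOpen U) (hxU : x ∈ U)
    (hUT : U ∩ closure {x} ⊆ T) : IsClosed ({x} : Set X) := by
  apply isClosed_singleton_of_isLocallyClosed_singleton
  have : ({x} : Set X) = U ∩ closure {x} := by
    apply Set.Subset.antisymm
    · rintro _ rfl
      exact ⟨hxU, subset_closure rfl⟩
    · intro z hz
      rw [← hxT]
      exact ⟨hz.2, hUT hz⟩
  rw [this]
  exact hU.isLocallyClosed.inter isClosed_closure.isLocallyClosed

theorem closure_inter_of_isClosed {T : Set X} {x : X} (hx : IsClosed ({x} : Set X)) (hxT : x ∈ T) :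
    closure {x} ∩ T = {x} := by
  rw [hx.closure_eq]
  exact Set.inter_eq_left.2 (Set.singleton_subset_iff.2 hxT)

end top

section
variable {S : Type u} [CommRing S]

/-- (L0) a point of a constructible set lies in a piece `V(I) ∩ D(g)` inside the set. -/
theorem exists_piece {E : Set (PrimeSpectrum S)} (hE : IsConstructible E) {y : PrimeSpectrum S}
    (hy : y ∈ E) :
    ∃ (I : Ideal S) (g : S), I ≤ y.asIdeal ∧ g ∉ y.asIdeal ∧
      ∀ z : PrimeSpectrum S, I ≤ z.asIdeal → g ∉ z.asIdeal → z ∈ E := by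
  obtain ⟨D, rfl⟩ := exists_constructibleSetData_iff.2 hE
  simp only [ConstructibleSetData.toSet, Set.mem_iUnion] at hy
  obtain ⟨C, hC, hyC⟩ := hy
  refine ⟨Ideal.span (Set.range C.g), C.f, ?_, ?_, ?_⟩
  · rw [Ideal.span_le]
    exact hyC.1
  · intro h
    apply hyC.2
    rw [mem_zeroLocus, Set.singleton_subset_iff]
    exact h
  · intro z hz1 hz2
    simp only [ConstructibleSetData.toSet, Set.mem_iUnion]
    refine ⟨C, hC, ?_, ?_⟩
    · rw [mem_zeroLocus]
      exact Ideal.span_le.1 hz1
    · intro h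
      rw [mem_zeroLocus, Set.singleton_subset_iff] at h
      exact hz2 h

/-- (L2) points of a constructible set closed in it are closed points. -/
theorem isClosed_of_closed_in [IsJacobsonRing S] {E : Set (PrimeSpectrum S)}
    (hE : IsConstructible E) {y : PrimeSpectrum S} (hy : y ∈ E) (hyE : closure {y} ∩ E = {y}) :
    IsClosed ({y} : Set (PrimeSpectrum S)) := by
  obtain ⟨I, g, hI, hg, hpiece⟩ := exists_piece hE hy
  refine isClosed_singleton_of_nbhd hyE (basicOpen g).isOpen hg ?_
  rintro z ⟨hz1, hz2⟩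
  apply hpiece z _ hz1
  rw [← specializes_iff_mem_closure, ← le_iff_specializes] at hz2
  exact hI.trans hz2

end

variable {R S : Type u} [CommRing R] [CommRing S] [Algebra R S]

/-- (L4) finite type maps from Jacobson rings send closed points to closed points. -/
theorem isClosed_comap [IsJacobsonRing R] [Algebra.FiniteType R S] {y : PrimeSpectrum S}
    (hy : IsClosed ({y} : Set (PrimeSpectrum S))) :
    IsClosed ({PrimeSpectrum.comap (algebraMap R S) y} : Set (PrimeSpectrum R)) := by
  rw [isClosed_singleton_iff_isMaximal] at hy ⊢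
  haveI := hy
  let K := S ⧸ y.asIdeal
  letI : Field K := Ideal.Quotient.field y.asIdeal
  haveI : Algebra.FiniteType R K :=
    Algebra.FiniteType.trans (inferInstance : Algebra.FiniteType R S)
      (Algebra.FiniteType.of_surjective (Algebra.ofId S K) Ideal.Quotient.mk_surjective)
  haveI : Module.Finite R K := finite_of_finite_type_of_isJacobsonRing R K
  have hker : RingHom.ker (algebraMap R K) = (PrimeSpectrum.comap (algebraMap R S) y).asIdeal := by
    ext r
    rw [RingHom.mem_ker, IsScalarTower.algebraMap_apply R S K, Ideal.Quotient.algebraMap_eq,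
      Ideal.Quotient.eq_zero_iff_mem]
    rfl
  rw [← hker, RingHom.ker_eq_comap_bot]
  haveI : Algebra.IsIntegral R K := Algebra.IsIntegral.of_finite R K
  haveI : (⊥ : Ideal K).IsMaximal := Ideal.bot_isMaximal
  exact Ideal.isMaximal_comap_of_isIntegral_of_isMaximal (R := R) (S := K) ⊥

/-- a locally closed piece whose fibre over `p` is empty misses a neighbourhood of `p` in `V(p)`. -/
theorem piece_missing (I : Ideal S) (g : S) (p : PrimeSpectrum R)
    (hemp : ∀ y : PrimeSpectrum S, I ≤ y.asIdeal → g ∉ y.asIdeal →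
      PrimeSpectrum.comap (algebraMap R S) y ≠ p) :
    ∃ r : R, r ∉ p.asIdeal ∧ ∀ y : PrimeSpectrum S, I ≤ y.asIdeal → g ∉ y.asIdeal →
      p.asIdeal ≤ (PrimeSpectrum.comap (algebraMap R S) y).asIdeal →
      r ∈ (PrimeSpectrum.comap (algebraMap R S) y).asIdeal := by
  set J : Ideal S := I ⊔ Ideal.map (algebraMap R S) p.asIdeal with hJ
  set M : Submonoid S := Submonoid.map (algebraMap R S) p.asIdeal.primeCompl ⊔ Submonoid.powers g
    with hM
  have hgM : g ∈ M := Submonoid.mem_sup_right (Submonoid.mem_powers g)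
  have hrM : ∀ r : R, r ∉ p.asIdeal → algebraMap R S r ∈ M := fun r hr =>
    Submonoid.mem_sup_left ⟨r, hr, rfl⟩
  by_cases hdisj : Disjoint (J : Set S) (M : Set S)
  · exfalso
    obtain ⟨y, hyprime, hJy, hyM⟩ := Ideal.exists_le_prime_disjoint J M hdisj
    have hgy : g ∉ y := fun h => Set.disjoint_left.1 hyM h hgM
    refine hemp ⟨y, hyprime⟩ (le_sup_left.trans hJy) hgy ?_
    apply PrimeSpectrum.ext
    apply le_antisymm
    · intro r hr
      by_contra hrp
      exact Set.disjoint_left.1 hyM hr (hrM r hrp)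
    · exact Ideal.map_le_iff_le_comap.1 (le_sup_right.trans hJy)
  · rw [Set.not_disjoint_iff] at hdisj
    obtain ⟨x, hxJ, hxM⟩ := hdisj
    obtain ⟨a, ⟨r, hr, rfl⟩, b, ⟨n, rfl⟩, rfl⟩ := Submonoid.mem_sup.1 hxM
    refine ⟨r, hr, fun y hIy hgy hpy => ?_⟩
    have hJy : J ≤ y.asIdeal := sup_le hIy (Ideal.map_le_iff_le_comap.2 hpy)
    have h1 := hJy hxJ
    rcases y.isPrime.mem_or_mem h1 with h2 | h2
    · exact h2
    · exact absurd (y.isPrime.mem_of_pow_mem n h2) hgy

/-- a constructible set whose image misses `ξ` misses a neighbourhood of `ξ` in its closure. -/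
theorem constructible_missing {E : Set (PrimeSpectrum S)} (hE : IsConstructible E)
    (ξ : PrimeSpectrum R) (hξ : ξ ∉ PrimeSpectrum.comap (algebraMap R S) '' E) :
    ∃ r : R, r ∉ ξ.asIdeal ∧ ∀ y ∈ E,
      ξ.asIdeal ≤ (PrimeSpectrum.comap (algebraMap R S) y).asIdeal →
      r ∈ (PrimeSpectrum.comap (algebraMap R S) y).asIdeal := by
  classical
  obtain ⟨D, rfl⟩ := exists_constructibleSetData_iff.2 hE
  have hpiece : ∀ C ∈ D, ∃ r : R, r ∉ ξ.asIdeal ∧ ∀ y : PrimeSpectrum S,
      Ideal.span (Set.range C.g) ≤ y.asIdeal → C.f ∉ y.asIdeal →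
      ξ.asIdeal ≤ (PrimeSpectrum.comap (algebraMap R S) y).asIdeal →
      r ∈ (PrimeSpectrum.comap (algebraMap R S) y).asIdeal := by
    intro C hC
    apply piece_missing
    intro y hy1 hy2 hy3
    apply hξ
    refine ⟨y, ?_, hy3⟩
    simp only [ConstructibleSetData.toSet, Set.mem_iUnion]
    refine ⟨C, hC, ?_, ?_⟩
    · rw [mem_zeroLocus]; exact Ideal.span_le.1 hy1
    · intro h
      rw [mem_zeroLocus, Set.singleton_subset_iff] at h
      exact hy2 h
  choose! r hr1 hr2 using hpiece
  refine ⟨∏ C ∈ D, r C, ?_, ?_⟩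
  · intro h
    obtain ⟨C, hC, hrC⟩ := (Ideal.IsPrime.prod_mem_iff (hp := ξ.isPrime)).1 h
    exact hr1 C hC hrC
  · intro y hy hξy
    simp only [ConstructibleSetData.toSet, Set.mem_iUnion] at hy
    obtain ⟨C, hC, hyC⟩ := hy
    have h1 : r C ∈ (PrimeSpectrum.comap (algebraMap R S) y).asIdeal := by
      apply hr2 C hC y _ _ hξy
      · rw [Ideal.span_le]; exact hyC.1
      · intro h
        apply hyC.2
        rw [mem_zeroLocus, Set.singleton_subset_iff]
        exact h
    exact Ideal.mem_of_dvd _ (Finset.dvd_prod_of_mem r hC) h1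

local notation "f" => PrimeSpectrum.comap (algebraMap R S)

/-- (L3) points of the image closed in the image are closed points. -/
theorem isClosed_of_closed_in_image [IsJacobsonRing R] [Algebra.FiniteType R S]
    {E : Set (PrimeSpectrum S)} (hE : IsConstructible E) {x : PrimeSpectrum R}
    (hx : x ∈ f '' E) (hxE : closure {x} ∩ f '' E = {x}) :
    IsClosed ({x} : Set (PrimeSpectrum R)) := by
  obtain ⟨U, hU, hdense, hUE⟩ := Groth.Agent.S9651.result E hE x hx
  have hxU : x ∈ U := by
    have h1 : x ∈ closure (U ∩ closure {x}) := hdense (subset_closure rfl)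
    have hne : (U ∩ closure {x}).Nonempty := by
      by_contra h
      rw [Set.not_nonempty_iff_eq_empty] at h
      rw [h, closure_empty] at h1
      exact h1
    obtain ⟨z, hzU, hz⟩ := hne
    rw [← specializes_iff_mem_closure] at hz
    exact hz.mem_open hU hzU
  exact isClosed_singleton_of_nbhd hxE hU hxU hUE

/-- (L5) closed points of the image come from closed points of `E`. -/
theorem exists_closed_preimage [IsJacobsonRing S]
    {E : Set (PrimeSpectrum S)} (hE : IsConstructible E) {x : PrimeSpectrum R}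
    (hx : x ∈ f '' E) (hxc : IsClosed ({x} : Set (PrimeSpectrum R))) :
    ∃ y ∈ E, IsClosed ({y} : Set (PrimeSpectrum S)) ∧ f y = x := by
  obtain ⟨y₀, hy₀, rfl⟩ := hx
  obtain ⟨I, g, hI, hg, hpiece⟩ := exists_piece hE hy₀
  have hlc : IsLocallyClosed ((zeroLocus (I : Set S) ∩ (basicOpen g : Set (PrimeSpectrum S))) ∩
      f ⁻¹' {f y₀}) := by
    refine ((isClosed_zeroLocus _).isLocallyClosed.inter (basicOpen g).isOpen.isLocallyClosed).inter
      ?_
    exact (hxc.preimage (PrimeSpectrum.continuous_comap (algebraMap R S))).isLocallyClosed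
  have hne : ((zeroLocus (I : Set S) ∩ (basicOpen g : Set (PrimeSpectrum S))) ∩
      f ⁻¹' {f y₀}).Nonempty := ⟨y₀, ⟨hI, hg⟩, rfl⟩
  obtain ⟨y, ⟨⟨hy1, hy2⟩, hy3⟩, hy4⟩ := nonempty_inter_closedPoints hne hlc
  exact ⟨y, hpiece y hy1 hy2, hy4, hy3⟩

theorem part2 [IsJacobsonRing R] [IsJacobsonRing S] [Algebra.FiniteType R S]
    (E : Set (PrimeSpectrum S)) (hE : IsConstructible E) :
    f '' {y | y ∈ E ∧ closure {y} ∩ E = {y}} =
        {x | IsClosed ({x} : Set (PrimeSpectrum R))} ∩ f '' E := by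
  apply Set.Subset.antisymm
  · rintro _ ⟨y, ⟨hy, hyE⟩, rfl⟩
    exact ⟨isClosed_comap (isClosed_of_closed_in hE hy hyE), y, hy, rfl⟩
  · rintro x ⟨hxc, hx⟩
    obtain ⟨y, hy, hyc, rfl⟩ := exists_closed_preimage hE hx hxc
    exact ⟨y, ⟨hy, closure_inter_of_isClosed hyc hy⟩, rfl⟩

theorem part1 [IsJacobsonRing R] [IsJacobsonRing S] [Algebra.FiniteType R S]
    (E : Set (PrimeSpectrum S)) (hE : IsConstructible E) :
    {x | x ∈ f '' E ∧ closure {x} ∩ f '' E = {x}} =
        f '' {y | y ∈ E ∧ closure {y} ∩ E = {y}} := by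
  rw [part2 E hE]
  apply Set.Subset.antisymm
  · rintro x ⟨hx, hxE⟩
    exact ⟨isClosed_of_closed_in_image hE hx hxE, hx⟩
  · rintro x ⟨hxc, hx⟩
    exact ⟨hx, closure_inter_of_isClosed hxc hx⟩


theorem mem_image_iff [IsJacobsonRing R] [IsJacobsonRing S] [Algebra.FiniteType R S]
    (E : Set (PrimeSpectrum S)) (hE : IsConstructible E) (ξ : PrimeSpectrum R) :
    ξ ∈ f '' E ↔
      closure ({ξ} : Set (PrimeSpectrum R)) ⊆
        closure (closure {ξ} ∩ f '' {y | y ∈ E ∧ closure {y} ∩ E = {y}}) := by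
  constructor
  · intro hξ
    obtain ⟨U, hU, hdense, hUE⟩ := Groth.Agent.S9651.result E hE ξ hξ
    have hlc : IsLocallyClosed (U ∩ closure ({ξ} : Set (PrimeSpectrum R))) :=
      hU.isLocallyClosed.inter isClosed_closure.isLocallyClosed
    rw [← JacobsonSpace.closure_inter_closedPoints_eq_closure hlc] at hdense
    refine hdense.trans (closure_mono ?_)
    rintro z ⟨⟨hzU, hzξ⟩, hzc⟩
    refine ⟨hzξ, ?_⟩
    rw [part2 E hE]
    exact ⟨hzc, hUE ⟨hzU, hzξ⟩⟩
  · intro h
    by_contra hξ
    obtain ⟨r, hr, hrE⟩ := constructible_missing hE ξ hξ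
    have h1 : ξ ∈ closure (closure {ξ} ∩ f '' {y | y ∈ E ∧ closure {y} ∩ E = {y}}) :=
      h (subset_closure rfl)
    rw [mem_closure_iff] at h1
    obtain ⟨z, hzr, hzξ, y, ⟨hyE, _⟩, rfl⟩ := h1 (basicOpen r) (basicOpen r).isOpen hr
    apply hzr
    apply hrE y hyE
    rw [← specializes_iff_mem_closure, ← le_iff_specializes] at hzξ
    exact hzξ

end Groth.Agent.Lib.Helper83.JacConstr
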