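import Mathlib

set_option autoImplicit false
universe u

namespace Groth.Agent.Lib.Helper83

theorem card_ge_of_maximalIdeal_le_radical {A : Type u} [CommRing A] [IsLocalRing A]
    [IsNoetherianRing A] (n : ℕ) (hn : ringKrullDim A = n) (s : Finset A)
    (hsm : Ideal.span (s : Set A) ≤ IsLocalRing.maximalIdeal A)
    (h : IsLocalRing.maximalIdeal A ≤ (Ideal.span (s : Set A)).radical) : n ≤ s.card := by
  have hmin : IsLocalRing.maximalIdeal A ∈ (Ideal.span (s : Set A)).minimalPrimes := by
    refine ⟨⟨inferInstance, hsm⟩, ?_⟩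
    rintro q ⟨hq, hsq⟩ _
    calc IsLocalRing.maximalIdeal A ≤ (Ideal.span (s : Set A)).radical := h
      _ ≤ q.radical := Ideal.radical_mono hsq
      _ = q := hq.radical
  have h1 := Ideal.height_le_card_of_mem_minimalPrimes_span_finset hmin
  have h2 : ((IsLocalRing.maximalIdeal A).height : WithBot ℕ∞) = ((n : ℕ∞) : WithBot ℕ∞) := by
    rw [IsLocalRing.maximalIdeal_height_eq_ringKrullDim, hn]; rfl
  have h3 : (IsLocalRing.maximalIdeal A).height = (n : ℕ∞) := WithBot.coe_injective h2
  rw [h3] at h1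
  exact_mod_cast h1

end Groth.Agent.Lib.Helper83
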