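import Mathlib

namespace Groth.Agent.Lib.Helper83.KrullGrp

section Generic

variable {A : Type*} [CommRing A] [IsNoetherianRing A]

lemma mem_iInf_pow_iff (m : Ideal A) (x : A) :
    x ∈ (⨅ n : ℕ, m ^ n) ↔ ∃ r ∈ m, r * x = x := by
  have h := Ideal.mem_iInf_smul_pow_eq_bot_iff m (M := A) x
  have h2 : (⨅ i : ℕ, m ^ i • (⊤ : Submodule A A)) = ⨅ n : ℕ, m ^ n := by
    congr 1
    ext i
    simp
  rw [h2] at h
  rw [h]
  constructor
  · rintro ⟨r, hr⟩
    exact ⟨r.1, r.2, hr⟩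
  · rintro ⟨r, hr, hx⟩
    exact ⟨⟨r, hr⟩, hx⟩

lemma mem_iInf_pow_iff' (m : Ideal A) [m.IsMaximal] (x : A) :
    x ∈ (⨅ n : ℕ, m ^ n) ↔ ∃ s, s ∉ m ∧ s * x = 0 := by
  rw [mem_iInf_pow_iff]
  constructor
  · rintro ⟨r, hr, hx⟩
    refine ⟨1 - r, ?_, by rw [sub_mul, hx, one_mul, sub_self]⟩
    intro h
    have : (1 : A) ∈ m := by
      have := m.add_mem h hr
      simpa using this
    exact (Ideal.IsMaximal.ne_top ‹_›) ((Ideal.eq_top_iff_one m).mpr this)
  · rintro ⟨s, hs, hx⟩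
    obtain ⟨t, ht⟩ := Ideal.IsMaximal.exists_inv ‹m.IsMaximal› hs
    obtain ⟨i, hi, hti⟩ := ht
    refine ⟨i, hi, ?_⟩
    have : i = 1 - t * s := by rw [← hti]; ring
    rw [this, sub_mul, mul_assoc, hx]
    ring

/-- an automorphism mapping an ideal into itself maps it onto itself (Noetherian) -/
lemma stab_inv (J : Ideal A) (σ : A ≃+* A) (h : ∀ x ∈ J, σ x ∈ J) :
    ∀ x ∈ J, σ.symm x ∈ J := by
  -- chain `comap σ^n J`
  let f : ℕ →o Ideal A :=
    ⟨fun n => Ideal.comap ((σ ^ n : A ≃+* A) : A →+* A) J, by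
      apply monotone_nat_of_le_succ
      intro n x hx
      simp only [Ideal.mem_comap, RingEquiv.coe_toRingHom] at hx ⊢
      rw [pow_succ', RingAut.mul_apply]
      exact h _ hx⟩
  obtain ⟨n, hn⟩ := monotone_stabilizes_iff_noetherian.mpr inferInstance f
  have h1 := hn (n + 1) (Nat.le_succ n)
  intro x hx
  -- z := σ^{-(n+1)} x ; σ^{n+1} z = x ∈ J so z ∈ f (n+1) = f n so σ^n z ∈ J
  have hz : ((σ ^ (n + 1))⁻¹ : A ≃+* A) x ∈ f (n + 1) := by
    change (σ ^ (n + 1) : A ≃+* A) (((σ ^ (n + 1))⁻¹ : A ≃+* A) x) ∈ J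
    rw [← RingAut.mul_apply, mul_inv_cancel, RingAut.one_apply]
    exact hx
  rw [← h1] at hz
  change (σ ^ n : A ≃+* A) (((σ ^ (n + 1))⁻¹ : A ≃+* A) x) ∈ J at hz
  rw [← RingAut.mul_apply] at hz
  have : (σ ^ n * (σ ^ (n + 1))⁻¹ : A ≃+* A) = σ⁻¹ := by
    rw [pow_succ', mul_inv_rev, mul_inv_cancel_left]
  rw [this, RingAut.inv_apply] at hz
  exact hz

theorem iInf_pow_eq_bot_of_transitive [IsJacobsonRing A]
    (hconn : ∀ e : A, IsIdempotentElem e → e = 0 ∨ e = 1)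
    (m : Ideal A) [hm : m.IsMaximal]
    (htrans : ∀ n : Ideal A, n.IsMaximal → ∃ σ : A ≃+* A, Ideal.comap (σ : A →+* A) m = n) :
    (⨅ n : ℕ, m ^ n) = ⊥ := by
  set J : Ideal A := ⨅ n : ℕ, m ^ n with hJ
  have : Nontrivial A := by
    by_contra h
    rw [not_nontrivial_iff_subsingleton] at h
    exact hm.ne_top ((Ideal.eq_top_iff_one m).mpr (Subsingleton.elim (0 : A) 1 ▸ m.zero_mem))
  -- uniform annihilating element
  obtain ⟨s, hs1, hsJ⟩ : ∃ s : A, s - 1 ∈ m ∧ ∀ x ∈ J, s * x = 0 := by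
    have hle : J ≤ m • J := by
      intro x hx
      obtain ⟨r, hr, hrx⟩ := (mem_iInf_pow_iff m x).mp hx
      rw [← hrx]
      exact Submodule.smul_mem_smul hr hx
    obtain ⟨r, hr1, hr2⟩ := Submodule.exists_sub_one_mem_and_smul_eq_zero_of_fg_of_le_smul m J
      (IsNoetherian.noetherian J) hle
    exact ⟨r, hr1, fun x hx => by simpa using hr2 x hx⟩
  have hsm : s ∉ m := by
    intro h
    have : (1 : A) ∈ m := by
      have := m.sub_mem h hs1
      simpa using this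
    exact hm.ne_top ((Ideal.eq_top_iff_one m).mpr this)
  -- annihilator of J
  let 𝔞 : Ideal A := Submodule.annihilator J
  have h𝔞 : ∀ t, t ∈ 𝔞 ↔ ∀ x ∈ J, t * x = 0 := by
    intro t
    simp only [𝔞, Submodule.mem_annihilator, smul_eq_mul]
  have hs𝔞 : s ∈ 𝔞 := (h𝔞 s).mpr hsJ
  -- the two predicates
  let P : (A ≃+* A) → Prop := fun σ => ∃ t ∈ 𝔞, σ t ∉ m
  let S : (A ≃+* A) → Prop := fun σ => ∀ x ∈ J, σ x ∈ J
  have hPS : ∀ σ, P σ → S σ := by
    rintro σ ⟨t, ht, hσt⟩ x hx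
    rw [hJ, mem_iInf_pow_iff']
    refine ⟨σ t, hσt, ?_⟩
    rw [← map_mul, (h𝔞 t).mp ht x hx, map_zero]
  have hSP : ∀ σ, S σ → P σ := by
    intro σ hσ
    refine ⟨σ.symm s, ?_, by simpa using hsm⟩
    rw [h𝔞]
    intro x hx
    apply σ.injective
    rw [map_mul, RingEquiv.apply_symm_apply, map_zero]
    exact hsJ _ (hσ x hx)
  have hSinv : ∀ σ, S σ → S σ⁻¹ := fun σ hσ => stab_inv J σ hσ
  have hSmul : ∀ σ ρ, S σ → S ρ → S (σ * ρ) := fun σ ρ hσ hρ x hx => hσ _ (hρ x hx)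
  -- the complementary ideal
  let 𝔟 : Ideal A := ⨆ (ρ : A ≃+* A) (_ : ¬ P ρ), Ideal.comap (ρ : A →+* A) 𝔞
  have h1 : ∀ n : Ideal A, n.IsMaximal → 𝔞 ≤ n → ¬ 𝔟 ≤ n := by
    intro n hn han hbn
    obtain ⟨ρ, rfl⟩ := htrans n hn
    have hPρ : ¬ P ρ := by
      rintro ⟨t, ht, hρt⟩
      exact hρt (han ht)
    have h2 : Ideal.comap (ρ : A →+* A) 𝔞 ≤ Ideal.comap (ρ : A →+* A) m :=
      (le_iSup₂ (f := fun (ρ : A ≃+* A) (_ : ¬ P ρ) => Ideal.comap (ρ : A →+* A) 𝔞) ρ hPρ).trans hbn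
    have h3 : ρ.symm s ∈ Ideal.comap (ρ : A →+* A) 𝔞 := by
      rw [Ideal.mem_comap]
      change ρ (ρ.symm s) ∈ 𝔞
      rw [RingEquiv.apply_symm_apply]
      exact hs𝔞
    have := h2 h3
    rw [Ideal.mem_comap] at this
    change ρ (ρ.symm s) ∈ m at this
    rw [RingEquiv.apply_symm_apply] at this
    exact hsm this
  have h2 : ∀ n : Ideal A, n.IsMaximal → ¬ 𝔞 ≤ n → 𝔟 ≤ n := by
    intro n hn han
    obtain ⟨σ', rfl⟩ := htrans n hn
    have hPσ' : P σ' := by
      rw [SetLike.not_le_iff_exists] at han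
      obtain ⟨t, ht, htn⟩ := han
      exact ⟨t, ht, by simpa using htn⟩
    apply iSup₂_le
    intro ρ hρ t ht
    by_contra htn
    apply hρ
    -- u = ρ t ∈ 𝔞, (σ' ρ⁻¹) u ∉ m
    have hP2 : P (σ' * ρ⁻¹) := by
      refine ⟨ρ t, by simpa using ht, ?_⟩
      rw [RingAut.mul_apply, RingAut.inv_apply, RingEquiv.symm_apply_apply]
      simpa using htn
    have hS2 := hSinv _ (hPS _ hP2)
    have hS3 := hSmul _ _ hS2 (hPS _ hPσ')
    have : (σ' * ρ⁻¹)⁻¹ * σ' = ρ := by group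
    rw [this] at hS3
    exact hSP _ hS3
  have hsup : 𝔞 ⊔ 𝔟 = ⊤ := by
    by_contra hne
    obtain ⟨n, hn, hle⟩ := Ideal.exists_le_maximal _ hne
    exact h1 n hn (le_sup_left.trans hle) (le_sup_right.trans hle)
  have hmul : 𝔞 * 𝔟 ≤ nilradical A := by
    have hjac : Ideal.jacobson (nilradical A) = nilradical A :=
      IsJacobsonRing.out inferInstance (Ideal.radical_isRadical (0 : Ideal A))
    rw [← hjac, Ideal.jacobson]
    apply le_sInf
    rintro n ⟨-, hn⟩
    by_cases han : 𝔞 ≤ n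
    · exact Ideal.mul_le_left.trans han
    · exact Ideal.mul_le_right.trans (h2 n hn han)
  obtain ⟨N, hN⟩ := IsNoetherianRing.isNilpotent_nilradical A
  have hzero : 𝔞 ^ N * 𝔟 ^ N = ⊥ := by
    rw [← mul_pow, ← le_bot_iff, ← Ideal.zero_eq_bot, ← hN]
    exact Ideal.pow_right_mono hmul N
  have hsupN : 𝔞 ^ N ⊔ 𝔟 ^ N = ⊤ := Ideal.pow_sup_pow_eq_top hsup
  obtain ⟨e, he, f, hf, hef⟩ := Submodule.mem_sup.mp (hsupN ▸ Submodule.mem_top : (1 : A) ∈ 𝔞 ^ N ⊔ 𝔟 ^ N)
  have hef0 : e * f = 0 := by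
    have : e * f ∈ 𝔞 ^ N * 𝔟 ^ N := Ideal.mul_mem_mul he hf
    rw [hzero] at this
    simpa using this
  have hidem : IsIdempotentElem e := by
    have : e * e = e * (e + f) - e * f := by ring
    rw [IsIdempotentElem, this, hef, hef0]
    ring
  rcases hconn e hidem with h0 | h1'
  · exfalso
    rw [h0, zero_add] at hef
    have h1b : (1 : A) ∈ 𝔟 := by
      rw [← hef]
      exact Ideal.pow_le_self (by
        rintro rfl
        rw [pow_zero, Ideal.one_eq_top] at hzero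
        rw [pow_zero, Ideal.one_eq_top, Ideal.top_mul] at hzero
        exact (top_ne_bot hzero)) hf
    have hbm : 𝔟 ≤ m := h2 m hm (fun h => hsm (h hs𝔞))
    exact hm.ne_top ((Ideal.eq_top_iff_one m).mpr (hbm h1b))
  · rw [eq_bot_iff]
    intro x hx
    have h1a : (1 : A) ∈ 𝔞 := by
      rw [← h1']
      by_cases hN0 : N = 0
      · subst hN0
        rw [pow_zero, pow_zero, Ideal.one_eq_top, Ideal.top_mul] at hzero
        exact absurd hzero top_ne_bot
      · exact Ideal.pow_le_self hN0 he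
    have := (h𝔞 1).mp h1a x hx
    simpa using this

end Generic

open WithConv

section Transl

variable {k : Type*} [Field k] {A : Type*} [CommRing A] [HopfAlgebra k A]

/-- constant map attached to a point -/
noncomputable def u (g : A →ₐ[k] k) : A →ₐ[k] A := (Algebra.ofId k A).comp g

/-- translation by a point -/
noncomputable def τ (g : A →ₐ[k] k) : A →ₐ[k] A :=
  ofConv (toConv (u g) * toConv (AlgHom.id k A))

lemma comp_u (f : A →ₐ[k] A) (g : A →ₐ[k] k) : f.comp (u g) = u g := by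
  ext a
  simp [u]

lemma id_mul_antipode :
    (toConv (AlgHom.id k A) * toConv (HopfAlgebra.antipodeAlgHom k A) : WithConv (A →ₐ[k] A)) = 1 := by
  apply WithConv.ofConv_injective
  apply AlgHom.toLinearMap_injective
  apply WithConv.toConv_injective
  rw [AlgHom.toLinearMap_convMul, AlgHom.toLinearMap_convOne]
  exact LinearMap.id_mul_antipode

lemma antipode_mul_id :
    (toConv (HopfAlgebra.antipodeAlgHom k A) * toConv (AlgHom.id k A) : WithConv (A →ₐ[k] A)) = 1 := by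
  apply WithConv.ofConv_injective
  apply AlgHom.toLinearMap_injective
  apply WithConv.toConv_injective
  rw [AlgHom.toLinearMap_convMul, AlgHom.toLinearMap_convOne]
  exact LinearMap.antipode_mul_id

lemma u_comp_one (g : A →ₐ[k] k) :
    (u g).comp (1 : WithConv (A →ₐ[k] A)).ofConv = (1 : WithConv (A →ₐ[k] A)).ofConv := by
  ext a
  simp [u, AlgHom.convOne_def]

lemma u_mul_u_antipode (g : A →ₐ[k] k) :
    (toConv (u g) * toConv (u (g.comp (HopfAlgebra.antipodeAlgHom k A))) : WithConv (A →ₐ[k] A)) = 1 := by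
  have h := AlgHom.comp_convMul_distrib (u g) (toConv (AlgHom.id k A))
    (toConv (HopfAlgebra.antipodeAlgHom k A))
  rw [id_mul_antipode, u_comp_one] at h
  apply WithConv.ofConv_injective
  rw [h]
  rfl

lemma u_antipode_mul_u (g : A →ₐ[k] k) :
    (toConv (u (g.comp (HopfAlgebra.antipodeAlgHom k A))) * toConv (u g) : WithConv (A →ₐ[k] A)) = 1 := by
  have h := AlgHom.comp_convMul_distrib (u g) (toConv (HopfAlgebra.antipodeAlgHom k A))
    (toConv (AlgHom.id k A))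
  rw [antipode_mul_id, u_comp_one] at h
  apply WithConv.ofConv_injective
  rw [h]
  rfl

lemma τ_comp_τ (g h : A →ₐ[k] k) :
    (τ h).comp (τ g) = ofConv ((toConv (u g) * toConv (u h)) * toConv (AlgHom.id k A)) := by
  have h1 := AlgHom.comp_convMul_distrib (τ h) (toConv (u g)) (toConv (AlgHom.id k A))
  have h2 : τ g = (toConv (u g) * toConv (AlgHom.id k A)).ofConv := rfl
  rw [h2, h1, mul_assoc]
  congr 2
  rw [ofConv_toConv, comp_u]

lemma τ_comp_τ_antipode (g : A →ₐ[k] k) :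
    (τ (g.comp (HopfAlgebra.antipodeAlgHom k A))).comp (τ g) = AlgHom.id k A := by
  rw [τ_comp_τ, u_mul_u_antipode, one_mul]

lemma τ_antipode_comp_τ (g : A →ₐ[k] k) :
    (τ g).comp (τ (g.comp (HopfAlgebra.antipodeAlgHom k A))) = AlgHom.id k A := by
  rw [τ_comp_τ, u_antipode_mul_u, one_mul]

lemma counit_comp_τ (g : A →ₐ[k] k) : (Bialgebra.counitAlgHom k A).comp (τ g) = g := by
  have h1 := AlgHom.comp_convMul_distrib (Bialgebra.counitAlgHom k A) (toConv (u g))
    (toConv (AlgHom.id k A))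
  rw [τ, h1]
  have h2 : (Bialgebra.counitAlgHom k A).comp (toConv (u g)).ofConv = g := by
    ext a
    simp [u]
  have h3 : toConv ((Bialgebra.counitAlgHom k A).comp (toConv (AlgHom.id k A)).ofConv) =
      (1 : WithConv (A →ₐ[k] k)) := by
    apply WithConv.ofConv_injective
    ext a
    simp [AlgHom.convOne_def]
  rw [h2, h3, mul_one]

/-- translation as an algebra automorphism -/
noncomputable def τEquiv (g : A →ₐ[k] k) : A ≃ₐ[k] A :=
  AlgEquiv.ofAlgHom (τ g) (τ (g.comp (HopfAlgebra.antipodeAlgHom k A)))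
    (τ_antipode_comp_τ g) (τ_comp_τ_antipode g)

lemma counit_τEquiv (g : A →ₐ[k] k) (a : A) :
    Coalgebra.counit (R := k) (τEquiv g a) = g a :=
  DFunLike.congr_fun (counit_comp_τ g) a

end Transl

section Null

variable {k : Type*} [Field k] [IsAlgClosed k] {A : Type*} [CommRing A] [Algebra k A]
  [Algebra.FiniteType k A]

lemma exists_point (n : Ideal A) [hn : n.IsMaximal] :
    ∃ g : A →ₐ[k] k, RingHom.ker (g : A →+* k) = n := by
  let _ : Field (A ⧸ n) := Ideal.Quotient.field n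
  have hft : Algebra.FiniteType k (A ⧸ n) :=
    Algebra.FiniteType.of_surjective (Ideal.Quotient.mkₐ k n) (Ideal.Quotient.mkₐ_surjective k n)
  have hfin : Module.Finite k (A ⧸ n) := finite_of_finite_type_of_isJacobsonRing k (A ⧸ n)
  have hint : Algebra.IsIntegral k (A ⧸ n) := Algebra.IsIntegral.of_finite k (A ⧸ n)
  have hbij : Function.Bijective (algebraMap k (A ⧸ n)) :=
    IsAlgClosed.algebraMap_bijective_of_isIntegral
  let e : k ≃ₐ[k] (A ⧸ n) := AlgEquiv.ofBijective (Algebra.ofId k (A ⧸ n)) hbij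
  refine ⟨(e.symm : (A ⧸ n) →ₐ[k] k).comp (Ideal.Quotient.mkₐ k n), ?_⟩
  ext a
  simp [RingHom.mem_ker, Ideal.Quotient.eq_zero_iff_mem]

end Null

section Main

theorem main (k : Type*) [Field k] [IsAlgClosed k]
    (A : Type*) [CommRing A] [HopfAlgebra k A] [Algebra.FiniteType k A]
    (hconn : ∀ e : A, IsIdempotentElem e → e = 0 ∨ e = 1) :
    (⨅ n : ℕ, RingHom.ker (Bialgebra.counitAlgHom k A) ^ n) = ⊥ := by
  have : IsNoetherianRing A := Algebra.FiniteType.isNoetherianRing k A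
  have : IsJacobsonRing A := isJacobsonRing_of_finiteType (A := k) (B := A)
  have hsurj : Function.Surjective (Bialgebra.counitAlgHom k A : A →+* k) := by
    intro c
    exact ⟨algebraMap k A c, by simp⟩
  have hmax : (RingHom.ker (Bialgebra.counitAlgHom k A)).IsMaximal :=
    RingHom.ker_isMaximal_of_surjective _ hsurj
  apply iInf_pow_eq_bot_of_transitive hconn
  intro n hn
  obtain ⟨g, hg⟩ := exists_point (k := k) n
  refine ⟨(τEquiv g).toRingEquiv, ?_⟩
  rw [← hg]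
  ext x
  simp only [Ideal.mem_comap, RingHom.mem_ker]
  change Coalgebra.counit (R := k) (τEquiv g x) = 0 ↔ g x = 0
  rw [counit_τEquiv]

end Main

end Groth.Agent.Lib.Helper83.KrullGrp
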