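import Mathlib
import Groth.Agent.Lib.Helper83.PlaneCoord

/-!
# The kernel of `R[a,b,c] → R[u,v]`, `a ↦ u², b ↦ v², c ↦ g` in characteristic 2
-/

namespace Groth.Agent.Lib.Helper83.KumKer

open MvPolynomial

variable {R : Type*} [CommRing R]

/-- The inclusion `R[a,b] → R[a,b,c]`. -/
noncomputable def ι : MvPolynomial (Fin 2) R →ₐ[R] MvPolynomial (Fin 3) R := aeval ![X 0, X 1]

/-- Reduction modulo the monic polynomial `c² + G(a,b)`. -/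
theorem exists_reduce (G : MvPolynomial (Fin 2) R) (F : MvPolynomial (Fin 3) R) :
    ∃ r₀ r₁ : MvPolynomial (Fin 2) R,
      F - (ι r₀ + ι r₁ * X 2) ∈ Ideal.span {(X 2 ^ 2 + ι G : MvPolynomial (Fin 3) R)} := by
  induction F using MvPolynomial.induction_on with
  | C a =>
    refine ⟨C a, 0, ?_⟩
    simp [ι]
  | add p q hp hq =>
    obtain ⟨a0, a1, ha⟩ := hp
    obtain ⟨b0, b1, hb⟩ := hq
    refine ⟨a0 + b0, a1 + b1, ?_⟩
    have := Ideal.add_mem _ ha hb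
    convert this using 1
    simp only [map_add]
    ring
  | mul_X p i hp =>
    obtain ⟨a0, a1, ha⟩ := hp
    have hι0 : ι (X 0 : MvPolynomial (Fin 2) R) = X 0 := by simp [ι]
    have hι1 : ι (X 1 : MvPolynomial (Fin 2) R) = X 1 := by simp [ι]
    have key : ∀ j : Fin 2, ∃ r₀ r₁ : MvPolynomial (Fin 2) R,
        p * ι (X j) - (ι r₀ + ι r₁ * X 2) ∈
          Ideal.span {(X 2 ^ 2 + ι G : MvPolynomial (Fin 3) R)} := by
      intro j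
      refine ⟨a0 * X j, a1 * X j, ?_⟩
      have := Ideal.mul_mem_right (ι (X j)) _ ha
      convert this using 1
      simp only [map_mul]
      ring
    fin_cases i
    · have := key 0
      rwa [hι0] at this
    · have := key 1
      rwa [hι1] at this
    · refine ⟨-(a1 * G), a0, ?_⟩
      have h1 := Ideal.mul_mem_right (X 2) _ ha
      have h2 := Ideal.mul_mem_left _ (ι a1)
        (Ideal.subset_span (Set.mem_singleton (X 2 ^ 2 + ι G : MvPolynomial (Fin 3) R)))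
      convert Ideal.add_mem _ h1 h2 using 1
      simp only [map_mul, map_neg]
      change p * X 2 - _ = _
      ring

section char2

variable [CharP R 2]

lemma two_eq_zero' : (2 : MvPolynomial (Fin 2) R) = 0 := by
  have := CharP.cast_eq_zero (MvPolynomial (Fin 2) R) 2
  exact_mod_cast this

lemma pderiv_expand_two (i : Fin 2) (q : MvPolynomial (Fin 2) R) :
    pderiv i (expand 2 q) = 0 := by
  have h : expand 2 q = aeval (fun j : Fin 2 => (X j ^ 2 : MvPolynomial (Fin 2) R)) q := rfl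
  rw [h, PlaneCoord.deriv_aeval]
  apply Finset.sum_eq_zero
  intro j _
  rw [Derivation.leibniz_pow]
  have : (2 : ℕ) • ((X j : MvPolynomial (Fin 2) R) ^ (2 - 1) • pderiv i (X j : MvPolynomial (Fin 2) R)) = 0 := by
    rw [nsmul_eq_mul]
    have := two_eq_zero' (R := R)
    push_cast
    rw [this, zero_mul]
  rw [this, smul_zero]

variable (l0 l2 l4 s0 s2 s4 τ : R)

/-- the polynomial `g` -/
noncomputable abbrev g : MvPolynomial (Fin 2) R :=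
  (C s0 * X 1 ^ 4 + C s2 * X 1 ^ 2 + C s4) * X 0 ^ 3 +
    (C l0 * X 0 ^ 4 + C l2 * X 0 ^ 2 + C l4) * X 1 ^ 3 + C τ * X 0 ^ 3 * X 1 ^ 3

lemma pderiv_pderiv_g :
    pderiv 0 (pderiv 1 (g l0 l2 l4 s0 s2 s4 τ)) = C τ * X 0 ^ 2 * X 1 ^ 2 := by
  have h2 := two_eq_zero' (R := R)
  have h01 : pderiv (1 : Fin 2) (X 0 : MvPolynomial (Fin 2) R) = 0 := pderiv_X_of_ne (by decide)
  have h10 : pderiv (0 : Fin 2) (X 1 : MvPolynomial (Fin 2) R) = 0 := pderiv_X_of_ne (by decide)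
  have hn : ∀ n : ℕ, pderiv (0 : Fin 2) ((n : ℕ) : MvPolynomial (Fin 2) R) = 0 :=
    fun n => Derivation.map_natCast _ n
  have hn2 := hn 2
  have hn3 := hn 3
  have hn4 := hn 4
  push_cast at hn2 hn3 hn4
  simp only [g, map_add, Derivation.leibniz, Derivation.leibniz_pow, pderiv_C, pderiv_X_self, h01, h10,
    smul_eq_mul, nsmul_eq_mul, smul_zero, mul_zero, add_zero, zero_add, mul_one]
  push_cast
  simp only [hn2, hn3, hn4, mul_zero, add_zero, zero_add]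
  linear_combination (6 * C s0 * X 1 ^ 3 * X 0 ^ 2 + 3 * C s2 * X 1 * X 0 ^ 2 +
    6 * C l0 * X 0 ^ 3 * X 1 ^ 2 + 3 * C l2 * X 0 * X 1 ^ 2 + 4 * C τ * X 0 ^ 2 * X 1 ^ 2) * h2

/-- the polynomial `G(a,b)` with `g² = G(u²,v²)` -/
noncomputable abbrev G₂ : MvPolynomial (Fin 2) R :=
  C (s0 ^ 2) * X 0 ^ 3 * X 1 ^ 4 + C (s2 ^ 2) * X 0 ^ 3 * X 1 ^ 2 +
    C (s4 ^ 2) * X 0 ^ 3 + C (l0 ^ 2) * X 0 ^ 4 * X 1 ^ 3 + C (l2 ^ 2) * X 0 ^ 2 * X 1 ^ 3 +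
    C (l4 ^ 2) * X 1 ^ 3 + C (τ ^ 2) * X 0 ^ 3 * X 1 ^ 3

lemma sq_g_add : (g l0 l2 l4 s0 s2 s4 τ) ^ 2 + expand 2 (G₂ l0 l2 l4 s0 s2 s4 τ) = 0 := by
  have h2 := two_eq_zero' (R := R)
  simp only [g, G₂, map_add, map_mul, map_pow, expand_C, expand_X]
  linear_combination
    ((C s0 ^ 2 * (X 0 ^ 2) ^ 3 * (X 1 ^ 2) ^ 4 + C s2 ^ 2 * (X 0 ^ 2) ^ 3 * (X 1 ^ 2) ^ 2 +
      C s4 ^ 2 * (X 0 ^ 2) ^ 3 + C l0 ^ 2 * (X 0 ^ 2) ^ 4 * (X 1 ^ 2) ^ 3 +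
      C l2 ^ 2 * (X 0 ^ 2) ^ 2 * (X 1 ^ 2) ^ 3 + C l4 ^ 2 * (X 1 ^ 2) ^ 3 +
      C τ ^ 2 * (X 0 ^ 2) ^ 3 * (X 1 ^ 2) ^ 3) +
    ((C s0 * X 1 ^ 4 + C s2 * X 1 ^ 2 + C s4) * X 0 ^ 3 *
        ((C l0 * X 0 ^ 4 + C l2 * X 0 ^ 2 + C l4) * X 1 ^ 3) +
      (C s0 * X 1 ^ 4 + C s2 * X 1 ^ 2 + C s4) * X 0 ^ 3 * (C τ * X 0 ^ 3 * X 1 ^ 3) +
      (C l0 * X 0 ^ 4 + C l2 * X 0 ^ 2 + C l4) * X 1 ^ 3 * (C τ * X 0 ^ 3 * X 1 ^ 3) +
      (C s0 * C s2 * X 1 ^ 6 + C s0 * C s4 * X 1 ^ 4 + C s2 * C s4 * X 1 ^ 2) * X 0 ^ 6 +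
      (C l0 * C l2 * X 0 ^ 6 + C l0 * C l4 * X 0 ^ 4 + C l2 * C l4 * X 0 ^ 2) * X 1 ^ 6)) * h2

/-- freeness-type statement: `E r₀ + E r₁ g = 0` forces `r₀ = r₁ = 0`. -/
lemma eq_zero_of_expand_add (hτ : IsUnit τ) (r₀ r₁ : MvPolynomial (Fin 2) R)
    (h : expand 2 r₀ + expand 2 r₁ * g l0 l2 l4 s0 s2 s4 τ = 0) : r₀ = 0 ∧ r₁ = 0 := by
  have hg := pderiv_pderiv_g l0 l2 l4 s0 s2 s4 τ
  have h1 : expand 2 r₁ * (C τ * X 0 ^ 2 * X 1 ^ 2) = 0 := by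
    generalize g l0 l2 l4 s0 s2 s4 τ = gg at h hg
    have h1 := congrArg (fun q => pderiv (0 : Fin 2) (pderiv (1 : Fin 2) q)) h
    simp only [map_add, map_zero, Derivation.leibniz, pderiv_expand_two,
      zero_add, smul_eq_mul, hg] at h1
    simpa using h1
  have hreg : IsRegular (C τ * X 0 ^ 2 * X 1 ^ 2 : MvPolynomial (Fin 2) R) :=
    ((hτ.map C).isRegular.mul (isRegular_X_pow 2)).mul (isRegular_X_pow 2)
  have hr1 : expand 2 r₁ = 0 := by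
    apply hreg.right
    simpa using h1
  have hr1' : r₁ = 0 := (expand_eq_zero (by norm_num)).mp hr1
  rw [hr1, zero_mul, add_zero] at h
  exact ⟨(expand_eq_zero (by norm_num)).mp h, hr1'⟩

theorem main (hτ : IsUnit τ) :
    RingHom.ker (aeval (R := R) (S₁ := MvPolynomial (Fin 2) R)
        ![X 0 ^ 2, X 1 ^ 2, g l0 l2 l4 s0 s2 s4 τ]) =
      Ideal.span {(X 2 ^ 2 + ι (G₂ l0 l2 l4 s0 s2 s4 τ) : MvPolynomial (Fin 3) R)} := by
  set φ := aeval (R := R) (S₁ := MvPolynomial (Fin 2) R)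
        ![X 0 ^ 2, X 1 ^ 2, g l0 l2 l4 s0 s2 s4 τ] with hφ
  have hφι : ∀ r : MvPolynomial (Fin 2) R, φ (ι r) = expand 2 r := by
    intro r
    rw [ι, comp_aeval_apply]
    have : (fun i : Fin 2 => φ (![X 0, X 1] i)) = fun i => (X i ^ 2 : MvPolynomial (Fin 2) R) := by
      funext i
      fin_cases i <;> simp [φ]
    rw [this]
    rfl
  have hφ2 : φ (X 2) = g l0 l2 l4 s0 s2 s4 τ := by simp [φ]
  have hgen : φ (X 2 ^ 2 + ι (G₂ l0 l2 l4 s0 s2 s4 τ)) = 0 := by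
    rw [map_add, map_pow, hφ2, hφι]
    exact sq_g_add l0 l2 l4 s0 s2 s4 τ
  have hle : Ideal.span {(X 2 ^ 2 + ι (G₂ l0 l2 l4 s0 s2 s4 τ) : MvPolynomial (Fin 3) R)} ≤
      RingHom.ker φ := by
    rw [Ideal.span_le, Set.singleton_subset_iff]
    exact hgen
  apply le_antisymm _ hle
  intro F hF
  obtain ⟨r₀, r₁, hr⟩ := exists_reduce (G₂ l0 l2 l4 s0 s2 s4 τ) F
  have h1 : φ (F - (ι r₀ + ι r₁ * X 2)) = 0 := hle hr
  rw [map_sub, (RingHom.mem_ker).mp hF, zero_sub, neg_eq_zero, map_add, map_mul, hφι, hφι, hφ2] at h1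
  obtain ⟨h0, h1'⟩ := eq_zero_of_expand_add l0 l2 l4 s0 s2 s4 τ hτ r₀ r₁ h1
  rw [h0, h1'] at hr
  simpa using hr

end char2

end Groth.Agent.Lib.Helper83.KumKer
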