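import Mathlib
import Groth.Agent.Lib.Helper83.KumKer

/-!
# `R[u,v]` over `R[u²,v²]` in characteristic 2: components, derivations, kernels
-/

set_option linter.unusedSimpArgs false

namespace Groth.Agent.Lib.Helper83.KumKer

open MvPolynomial

variable {R : Type*} [CommRing R]

/-- Every polynomial is `E q₀ + E q₁ u + E q₂ v + E q₃ uv`. -/
theorem exists_components (p : MvPolynomial (Fin 2) R) :
    ∃ q₀ q₁ q₂ q₃ : MvPolynomial (Fin 2) R,
      p = expand 2 q₀ + expand 2 q₁ * X 0 + expand 2 q₂ * X 1 + expand 2 q₃ * (X 0 * X 1) := by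
  induction p using MvPolynomial.induction_on with
  | C a =>
    refine ⟨C a, 0, 0, 0, ?_⟩
    simp
  | add p q hp hq =>
    obtain ⟨a0, a1, a2, a3, ha⟩ := hp
    obtain ⟨b0, b1, b2, b3, hb⟩ := hq
    refine ⟨a0 + b0, a1 + b1, a2 + b2, a3 + b3, ?_⟩
    rw [ha, hb]
    simp only [map_add]
    ring
  | mul_X p i hp =>
    obtain ⟨a0, a1, a2, a3, ha⟩ := hp
    fin_cases i
    · refine ⟨X 0 * a1, a0, X 0 * a3, a2, ?_⟩
      rw [ha]
      simp only [map_mul, expand_X]
      change _ * X 0 = _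
      ring
    · refine ⟨X 1 * a2, X 1 * a3, a0, a1, ?_⟩
      rw [ha]
      simp only [map_mul, expand_X]
      change _ * X 1 = _
      ring

section char2

variable [CharP R 2]

/-- Any derivation kills `expand 2 q` in characteristic 2. -/
lemma deriv_expand_two
    (D : Derivation R (MvPolynomial (Fin 2) R) (MvPolynomial (Fin 2) R))
    (q : MvPolynomial (Fin 2) R) : D (expand 2 q) = 0 := by
  have h : expand 2 q = aeval (fun j : Fin 2 => (X j ^ 2 : MvPolynomial (Fin 2) R)) q := rfl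
  rw [h, PlaneCoord.deriv_aeval]
  apply Finset.sum_eq_zero
  intro j _
  rw [Derivation.leibniz_pow]
  have : (2 : ℕ) • ((X j : MvPolynomial (Fin 2) R) ^ (2 - 1) • D (X j : MvPolynomial (Fin 2) R)) = 0 := by
    rw [nsmul_eq_mul]
    have := two_eq_zero' (R := R)
    push_cast
    rw [this, zero_mul]
  rw [this, smul_zero]

/-- Uniqueness of the components. -/
theorem components_eq_zero (w₀ w₁ w₂ w₃ : MvPolynomial (Fin 2) R)
    (h : expand 2 w₀ + expand 2 w₁ * X 0 + expand 2 w₂ * X 1 + expand 2 w₃ * (X 0 * X 1) = 0) :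
    w₀ = 0 ∧ w₁ = 0 ∧ w₂ = 0 ∧ w₃ = 0 := by
  have h01 : pderiv (1 : Fin 2) (X 0 : MvPolynomial (Fin 2) R) = 0 := pderiv_X_of_ne (by decide)
  have h10 : pderiv (0 : Fin 2) (X 1 : MvPolynomial (Fin 2) R) = 0 := pderiv_X_of_ne (by decide)
  have e2 : ∀ q : MvPolynomial (Fin 2) R, expand 2 q = 0 → q = 0 :=
    fun q hq => (expand_eq_zero (by norm_num)).mp hq
  -- ∂_v
  have hv := congrArg (pderiv (1 : Fin 2)) h
  simp only [map_add, map_zero, Derivation.leibniz, pderiv_expand_two, pderiv_X_self, h01,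
    smul_eq_mul, mul_zero, zero_add, add_zero, mul_one] at hv
  -- ∂_u
  have hu := congrArg (pderiv (0 : Fin 2)) h
  simp only [map_add, map_zero, Derivation.leibniz, pderiv_expand_two, pderiv_X_self, h10,
    smul_eq_mul, mul_zero, zero_add, add_zero, mul_one] at hu
  -- ∂_u ∂_v
  have huv := congrArg (pderiv (0 : Fin 2)) hv
  simp only [map_add, map_zero, Derivation.leibniz, pderiv_expand_two, pderiv_X_self, h10,
    smul_eq_mul, mul_zero, zero_add, add_zero, mul_one] at huv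
  have h3 : w₃ = 0 := e2 _ huv
  rw [h3, map_zero, zero_mul, add_zero] at hv hu
  have h2 : w₂ = 0 := e2 _ hv
  have h1 : w₁ = 0 := e2 _ hu
  rw [h3, h2, h1] at h
  simp only [map_zero, zero_mul, add_zero] at h
  exact ⟨e2 _ h, h1, h2, h3⟩

/-- General kernel computation: if `g² = G(u²,v²)` and `∂_u∂_v g` is regular then
`ker (a ↦ u², b ↦ v², c ↦ g) = (c² + G)`. -/
theorem main_gen (g G c : MvPolynomial (Fin 2) R) (hc : IsRegular c)
    (hgc : pderiv 0 (pderiv 1 g) = c) (hsq : g ^ 2 + expand 2 G = 0) :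
    RingHom.ker (aeval (R := R) (S₁ := MvPolynomial (Fin 2) R) ![X 0 ^ 2, X 1 ^ 2, g]) =
      Ideal.span {(X 2 ^ 2 + ι G : MvPolynomial (Fin 3) R)} := by
  set φ := aeval (R := R) (S₁ := MvPolynomial (Fin 2) R) ![X 0 ^ 2, X 1 ^ 2, g] with hφ
  have hφι : ∀ r : MvPolynomial (Fin 2) R, φ (ι r) = expand 2 r := by
    intro r
    rw [ι, comp_aeval_apply]
    have : (fun i : Fin 2 => φ (![X 0, X 1] i)) = fun i => (X i ^ 2 : MvPolynomial (Fin 2) R) := by
      funext i
      fin_cases i <;> simp [φ]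
    rw [this]
    rfl
  have hφ2 : φ (X 2) = g := by simp [φ]
  have hgen : φ (X 2 ^ 2 + ι G) = 0 := by
    rw [map_add, map_pow, hφ2, hφι]
    exact hsq
  have hle : Ideal.span {(X 2 ^ 2 + ι G : MvPolynomial (Fin 3) R)} ≤ RingHom.ker φ := by
    rw [Ideal.span_le, Set.singleton_subset_iff]
    exact hgen
  apply le_antisymm _ hle
  intro F hF
  obtain ⟨r₀, r₁, hr⟩ := exists_reduce G F
  have h1 : φ (F - (ι r₀ + ι r₁ * X 2)) = 0 := hle hr
  rw [map_sub, (RingHom.mem_ker).mp hF, zero_sub, neg_eq_zero, map_add, map_mul, hφι, hφι, hφ2] at h1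
  have h2 : expand 2 r₁ * c = 0 := by
    have h2 := congrArg (fun q => pderiv (0 : Fin 2) (pderiv (1 : Fin 2) q)) h1
    simp only [map_add, map_zero, Derivation.leibniz, pderiv_expand_two,
      zero_add, smul_eq_mul, hgc] at h2
    simpa using h2
  have hr1 : expand 2 r₁ = 0 := by
    apply hc.right
    simpa using h2
  have hr1' : r₁ = 0 := (expand_eq_zero (by norm_num)).mp hr1
  rw [hr1, zero_mul, add_zero] at h1
  have hr0 : r₀ = 0 := (expand_eq_zero (by norm_num)).mp h1
  rw [hr0, hr1'] at hr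
  simpa using hr

end char2

end Groth.Agent.Lib.Helper83.KumKer
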