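import Mathlib
import Groth.Agent.Lib.Helper83.KumKer2

/-!
# The smooth chart (S13122): kernel of the derivation and of `R[a,b,c] → R[x,y]`
-/

set_option linter.unusedSectionVars false
set_option linter.unusedSimpArgs false

namespace Groth.Agent.Lib.Helper83.KumKer

open MvPolynomial

variable {R : Type*} [CommRing R] [CharP R 2] (l0 l2 l4 s0 s2 s4 τ : R)

/-- `D(x)` -/
noncomputable abbrev Px : MvPolynomial (Fin 2) R :=
  C l4 * X 0 ^ 4 + C l2 * X 0 ^ 2 + C τ * X 0 + C l0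

/-- `D(y)` -/
noncomputable abbrev Qy : MvPolynomial (Fin 2) R :=
  C s4 * X 1 ^ 4 + C s2 * X 1 ^ 2 + C τ * X 1 + C s0

/-- the generator `h` -/
noncomputable abbrev hh : MvPolynomial (Fin 2) R :=
  (C s4 * X 1 ^ 4 + C s2 * X 1 ^ 2 + C s0) * X 0 +
    (C l4 * X 0 ^ 4 + C l2 * X 0 ^ 2 + C l0) * X 1 + C τ * X 0 * X 1

/-- even part of `P`, as a polynomial in `a = x²` -/
noncomputable abbrev pe : MvPolynomial (Fin 2) R := C l4 * X 0 ^ 2 + C l2 * X 0 + C l0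

/-- even part of `Q`, as a polynomial in `b = y²` -/
noncomputable abbrev qe : MvPolynomial (Fin 2) R := C s4 * X 1 ^ 2 + C s2 * X 1 + C s0

/-- `G` with `h² = G(x²,y²)` -/
noncomputable abbrev GG : MvPolynomial (Fin 2) R :=
  C (τ ^ 2) * X 0 * X 1 + (C (s4 ^ 2) * X 1 ^ 4 + C (s2 ^ 2) * X 1 ^ 2 + C (s0 ^ 2)) * X 0 +
    (C (l4 ^ 2) * X 0 ^ 4 + C (l2 ^ 2) * X 0 ^ 2 + C (l0 ^ 2)) * X 1

/-- the derivation -/
noncomputable abbrev DD : Derivation R (MvPolynomial (Fin 2) R) (MvPolynomial (Fin 2) R) :=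
  mkDerivation R (![Px l0 l2 l4 τ, Qy s0 s2 s4 τ] : Fin 2 → MvPolynomial (Fin 2) R)

lemma hh_eq : hh l0 l2 l4 s0 s2 s4 τ =
    expand 2 (qe s0 s2 s4) * X 0 + expand 2 (pe l0 l2 l4) * X 1 + C τ * (X 0 * X 1) := by
  simp only [hh, pe, qe, map_add, map_mul, map_pow, expand_C, expand_X]
  ring

lemma Px_eq : Px l0 l2 l4 τ = expand 2 (pe l0 l2 l4) + C τ * X 0 := by
  simp only [Px, pe, map_add, map_mul, map_pow, expand_C, expand_X]
  ring

lemma Qy_eq : Qy s0 s2 s4 τ = expand 2 (qe s0 s2 s4) + C τ * X 1 := by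
  simp only [Qy, qe, map_add, map_mul, map_pow, expand_C, expand_X]
  ring

lemma DD_X0 : DD l0 l2 l4 s0 s2 s4 τ (X 0) = Px l0 l2 l4 τ := by
  rw [DD, mkDerivation_X]; rfl

lemma DD_X1 : DD l0 l2 l4 s0 s2 s4 τ (X 1) = Qy s0 s2 s4 τ := by
  rw [DD, mkDerivation_X]; rfl

lemma DD_C (r : R) : DD l0 l2 l4 s0 s2 s4 τ (C r) = 0 := by
  rw [← algebraMap_eq]
  exact Derivation.map_algebraMap _ r

/-- `D` applied to a polynomial given by its components (generic version) -/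
lemma D_components_gen (D : Derivation R (MvPolynomial (Fin 2) R) (MvPolynomial (Fin 2) R))
    (t : R) (pe' qe' : MvPolynomial (Fin 2) R)
    (hD0 : D (X 0) = expand 2 pe' + C t * X 0) (hD1 : D (X 1) = expand 2 qe' + C t * X 1)
    (q₀ q₁ q₂ q₃ : MvPolynomial (Fin 2) R) :
    D (expand 2 q₀ + expand 2 q₁ * X 0 + expand 2 q₂ * X 1 + expand 2 q₃ * (X 0 * X 1)) =
    expand 2 (q₁ * pe' + q₂ * qe') +
      expand 2 (C t * q₁ + q₃ * qe') * X 0 +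
      expand 2 (C t * q₂ + q₃ * pe') * X 1 + expand 2 0 * (X 0 * X 1) := by
  have h2 := two_eq_zero' (R := R)
  simp only [map_add, Derivation.leibniz, deriv_expand_two, hD0, hD1, add_zero,
    zero_add, smul_eq_mul, map_mul, expand_C, map_zero, zero_mul, smul_zero]
  linear_combination (C t * expand 2 q₃ * X 0 * X 1) * h2

/-- `D` applied to a polynomial given by its components -/
lemma DD_components (q₀ q₁ q₂ q₃ : MvPolynomial (Fin 2) R) :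
    DD l0 l2 l4 s0 s2 s4 τ
      (expand 2 q₀ + expand 2 q₁ * X 0 + expand 2 q₂ * X 1 + expand 2 q₃ * (X 0 * X 1)) =
    expand 2 (q₁ * pe l0 l2 l4 + q₂ * qe s0 s2 s4) +
      expand 2 (C τ * q₁ + q₃ * qe s0 s2 s4) * X 0 +
      expand 2 (C τ * q₂ + q₃ * pe l0 l2 l4) * X 1 + expand 2 0 * (X 0 * X 1) :=
  D_components_gen _ τ _ _ ((DD_X0 l0 l2 l4 s0 s2 s4 τ).trans (Px_eq l0 l2 l4 τ))
    ((DD_X1 l0 l2 l4 s0 s2 s4 τ).trans (Qy_eq s0 s2 s4 τ)) q₀ q₁ q₂ q₃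

lemma DD_hh : DD l0 l2 l4 s0 s2 s4 τ (hh l0 l2 l4 s0 s2 s4 τ) = 0 := by
  have h := DD_components l0 l2 l4 s0 s2 s4 τ 0 (qe s0 s2 s4) (pe l0 l2 l4) (C τ)
  have h2 := two_eq_zero' (R := R)
  have e : hh l0 l2 l4 s0 s2 s4 τ = expand 2 0 + expand 2 (qe s0 s2 s4) * X 0 +
      expand 2 (pe l0 l2 l4) * X 1 + expand 2 (C τ) * (X 0 * X 1) := by
    rw [hh_eq, map_zero, zero_add, expand_C]
  rw [e, h]
  have e1 : qe s0 s2 s4 * pe l0 l2 l4 + pe l0 l2 l4 * qe s0 s2 s4 =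
      (2 : MvPolynomial (Fin 2) R) * (qe s0 s2 s4 * pe l0 l2 l4) := by ring
  have e2 : C τ * qe s0 s2 s4 + C τ * qe s0 s2 s4 =
      (2 : MvPolynomial (Fin 2) R) * (C τ * qe s0 s2 s4) := by ring
  have e3 : C τ * pe l0 l2 l4 + C τ * pe l0 l2 l4 =
      (2 : MvPolynomial (Fin 2) R) * (C τ * pe l0 l2 l4) := by ring
  rw [e1, e2, e3, h2]
  simp

/-- Part (1) of S13122. -/
theorem DD_eq_zero_iff (hτ : IsUnit τ) (p : MvPolynomial (Fin 2) R) :
    DD l0 l2 l4 s0 s2 s4 τ p = 0 ↔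
      p ∈ (aeval (R := R) (S₁ := MvPolynomial (Fin 2) R)
        ![X 0 ^ 2, X 1 ^ 2, hh l0 l2 l4 s0 s2 s4 τ]).range := by
  have h2 := two_eq_zero' (R := R)
  set φ := aeval (R := R) (S₁ := MvPolynomial (Fin 2) R)
    ![X 0 ^ 2, X 1 ^ 2, hh l0 l2 l4 s0 s2 s4 τ] with hφ
  have hφι : ∀ r : MvPolynomial (Fin 2) R, φ (ι r) = expand 2 r := by
    intro r
    rw [ι, comp_aeval_apply]
    have : (fun i : Fin 2 => φ (![X 0, X 1] i)) = fun i => (X i ^ 2 : MvPolynomial (Fin 2) R) := by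
      funext i
      fin_cases i <;> simp [φ]
    rw [this]
    rfl
  have hφ2 : φ (X 2) = hh l0 l2 l4 s0 s2 s4 τ := by simp [φ]
  constructor
  · intro hD
    obtain ⟨q₀, q₁, q₂, q₃, hp⟩ := exists_components p
    rw [hp, DD_components] at hD
    obtain ⟨-, h1, h2', -⟩ := components_eq_zero _ _ _ _ hD
    obtain ⟨u, hu⟩ := hτ
    -- r = τ⁻¹ q₃
    set r := C (↑u⁻¹ : R) * q₃ with hr
    have hτr : C τ * r = q₃ := by
      rw [hr, ← mul_assoc, ← C_mul, ← hu, Units.mul_inv, C_1, one_mul]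
    have hq1 : q₁ = -(r * qe s0 s2 s4) := by
      have : C τ * (q₁ + r * qe s0 s2 s4) = 0 := by
        rw [mul_add, ← mul_assoc, hτr]; exact h1
      have hreg : IsRegular (C τ : MvPolynomial (Fin 2) R) := by
        rw [← hu]; exact ((u.isUnit).map C).isRegular
      have := hreg.left (by simpa using this : C τ * (q₁ + r * qe s0 s2 s4) = C τ * 0)
      exact eq_neg_of_add_eq_zero_left this
    have hq2 : q₂ = -(r * pe l0 l2 l4) := by
      have : C τ * (q₂ + r * pe l0 l2 l4) = 0 := by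
        rw [mul_add, ← mul_assoc, hτr]; exact h2'
      have hreg : IsRegular (C τ : MvPolynomial (Fin 2) R) := by
        rw [← hu]; exact ((u.isUnit).map C).isRegular
      have := hreg.left (by simpa using this : C τ * (q₂ + r * pe l0 l2 l4) = C τ * 0)
      exact eq_neg_of_add_eq_zero_left this
    refine ⟨ι q₀ + ι r * X 2, ?_⟩
    change φ (ι q₀ + ι r * X 2) = p
    rw [map_add, map_mul, hφι, hφι, hφ2, hp, hq1, hq2, ← hτr, hh_eq]
    simp only [map_neg, map_mul, expand_C]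
    linear_combination (expand 2 r * expand 2 (qe s0 s2 s4) * X 0 +
      expand 2 r * expand 2 (pe l0 l2 l4) * X 1) * h2
  · rintro ⟨F, rfl⟩
    change DD l0 l2 l4 s0 s2 s4 τ (φ F) = 0
    rw [hφ, PlaneCoord.deriv_aeval]
    apply Finset.sum_eq_zero
    intro i _
    have : DD l0 l2 l4 s0 s2 s4 τ
        ((![X 0 ^ 2, X 1 ^ 2, hh l0 l2 l4 s0 s2 s4 τ] : Fin 3 → MvPolynomial (Fin 2) R) i) = 0 := by
      fin_cases i
      · have := deriv_expand_two (DD l0 l2 l4 s0 s2 s4 τ) (X 0)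
        simpa using this
      · have := deriv_expand_two (DD l0 l2 l4 s0 s2 s4 τ) (X 1)
        simpa using this
      · exact DD_hh l0 l2 l4 s0 s2 s4 τ
    rw [this, smul_zero]

lemma pderiv_pderiv_hh :
    pderiv 0 (pderiv 1 (hh l0 l2 l4 s0 s2 s4 τ)) = C τ := by
  have h2 := two_eq_zero' (R := R)
  have h01 : pderiv (1 : Fin 2) (X 0 : MvPolynomial (Fin 2) R) = 0 := pderiv_X_of_ne (by decide)
  have h10 : pderiv (0 : Fin 2) (X 1 : MvPolynomial (Fin 2) R) = 0 := pderiv_X_of_ne (by decide)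
  have hn : ∀ n : ℕ, pderiv (0 : Fin 2) ((n : ℕ) : MvPolynomial (Fin 2) R) = 0 :=
    fun n => Derivation.map_natCast _ n
  have hn2 := hn 2
  have hn3 := hn 3
  have hn4 := hn 4
  push_cast at hn2 hn3 hn4
  simp only [hh, map_add, Derivation.leibniz, Derivation.leibniz_pow, pderiv_C, pderiv_X_self, h01, h10,
    smul_eq_mul, nsmul_eq_mul, smul_zero, mul_zero, add_zero, zero_add, mul_one]
  push_cast
  simp only [hn2, hn3, hn4, mul_zero, add_zero, zero_add]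
  linear_combination (2 * C s4 * X 1 ^ 3 + C s2 * X 1 + 2 * C l4 * X 0 ^ 3 + C l2 * X 0) * h2

lemma sq_hh_add : (hh l0 l2 l4 s0 s2 s4 τ) ^ 2 + expand 2 (GG l0 l2 l4 s0 s2 s4 τ) = 0 := by
  have h2 := two_eq_zero' (R := R)
  simp only [hh, GG, map_add, map_mul, map_pow, expand_C, expand_X]
  linear_combination
    ((C τ ^ 2 * X 0 ^ 2 * X 1 ^ 2 +
      (C s4 ^ 2 * (X 1 ^ 2) ^ 4 + C s2 ^ 2 * (X 1 ^ 2) ^ 2 + C s0 ^ 2) * X 0 ^ 2 +
      (C l4 ^ 2 * (X 0 ^ 2) ^ 4 + C l2 ^ 2 * (X 0 ^ 2) ^ 2 + C l0 ^ 2) * X 1 ^ 2) +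
    ((C s4 * X 1 ^ 4 + C s2 * X 1 ^ 2 + C s0) * X 0 *
        ((C l4 * X 0 ^ 4 + C l2 * X 0 ^ 2 + C l0) * X 1) +
      (C s4 * X 1 ^ 4 + C s2 * X 1 ^ 2 + C s0) * X 0 * (C τ * X 0 * X 1) +
      (C l4 * X 0 ^ 4 + C l2 * X 0 ^ 2 + C l0) * X 1 * (C τ * X 0 * X 1) +
      (C s4 * C s2 * X 1 ^ 6 + C s4 * C s0 * X 1 ^ 4 + C s2 * C s0 * X 1 ^ 2) * X 0 ^ 2 +
      (C l4 * C l2 * X 0 ^ 6 + C l4 * C l0 * X 0 ^ 4 + C l2 * C l0 * X 0 ^ 2) * X 1 ^ 2)) * h2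

/-- Part (2) of S13122. -/
theorem ker_hh (hτ : IsUnit τ) :
    RingHom.ker (aeval (R := R) (S₁ := MvPolynomial (Fin 2) R)
        ![X 0 ^ 2, X 1 ^ 2, hh l0 l2 l4 s0 s2 s4 τ]) =
      Ideal.span {(X 2 ^ 2 + ι (GG l0 l2 l4 s0 s2 s4 τ) : MvPolynomial (Fin 3) R)} :=
  main_gen _ _ (C τ) ((hτ.map C).isRegular) (pderiv_pderiv_hh l0 l2 l4 s0 s2 s4 τ)
    (sq_hh_add l0 l2 l4 s0 s2 s4 τ)

end Groth.Agent.Lib.Helper83.KumKer
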