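import Mathlib
import Groth.Agent.Lib.Helper83.KumKer3

/-!
# The cuspidal chart (S13120): kernel of the derivation on `R[u²,u³,v²,v³]`
-/

set_option linter.unusedSectionVars false
set_option linter.unusedSimpArgs false

namespace Groth.Agent.Lib.Helper83.KumKer

open MvPolynomial

variable {R : Type*} [CommRing R]

/-- Components of elements of `R[u²,u³,v²,v³]`. -/
theorem exists_components_cusp {a : MvPolynomial (Fin 2) R}
    (ha : a ∈ Algebra.adjoin R
      ({X 0 ^ 2, X 0 ^ 3, X 1 ^ 2, X 1 ^ 3} : Set (MvPolynomial (Fin 2) R))) :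
    ∃ q₀ q₁ q₂ q₃ : MvPolynomial (Fin 2) R,
      a = expand 2 q₀ + expand 2 (X 0 * q₁) * X 0 + expand 2 (X 1 * q₂) * X 1 +
        expand 2 (X 0 * X 1 * q₃) * (X 0 * X 1) := by
  induction ha using Algebra.adjoin_induction with
  | mem x hx =>
    simp only [Set.mem_insert_iff, Set.mem_singleton_iff] at hx
    rcases hx with rfl | rfl | rfl | rfl
    · exact ⟨X 0, 0, 0, 0, by simp⟩
    · refine ⟨0, 1, 0, 0, ?_⟩
      simp only [map_zero, mul_one, expand_X, mul_zero, zero_mul, add_zero, zero_add]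
      ring
    · exact ⟨X 1, 0, 0, 0, by simp⟩
    · refine ⟨0, 0, 1, 0, ?_⟩
      simp only [map_zero, mul_one, expand_X, mul_zero, zero_mul, add_zero, zero_add]
      ring
  | algebraMap r =>
    refine ⟨C r, 0, 0, 0, ?_⟩
    simp [algebraMap_eq]
  | add x y _ _ hx hy =>
    obtain ⟨a0, a1, a2, a3, ha⟩ := hx
    obtain ⟨b0, b1, b2, b3, hb⟩ := hy
    refine ⟨a0 + b0, a1 + b1, a2 + b2, a3 + b3, ?_⟩
    rw [ha, hb]
    simp only [map_add, map_mul, expand_X]
    ring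
  | mul x y _ _ hx hy =>
    obtain ⟨p0, p1, p2, p3, ha⟩ := hx
    obtain ⟨q0, q1, q2, q3, hb⟩ := hy
    refine ⟨p0 * q0 + X 0 ^ 3 * p1 * q1 + X 1 ^ 3 * p2 * q2 + X 0 ^ 3 * X 1 ^ 3 * p3 * q3,
      p0 * q1 + p1 * q0 + X 1 ^ 3 * (p2 * q3 + p3 * q2),
      p0 * q2 + p2 * q0 + X 0 ^ 3 * (p1 * q3 + p3 * q1),
      p0 * q3 + p3 * q0 + p1 * q2 + p2 * q1, ?_⟩
    rw [ha, hb]
    simp only [map_add, map_mul, map_pow, expand_X]
    ring

section char2

variable [CharP R 2]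

/-- `D` applied to a polynomial given by its components (generic version, polynomial twist). -/
lemma D_components_gen' (D : Derivation R (MvPolynomial (Fin 2) R) (MvPolynomial (Fin 2) R))
    (t pe' qe' : MvPolynomial (Fin 2) R)
    (hD0 : D (X 0) = expand 2 pe' + expand 2 t * X 0)
    (hD1 : D (X 1) = expand 2 qe' + expand 2 t * X 1)
    (q₀ q₁ q₂ q₃ : MvPolynomial (Fin 2) R) :
    D (expand 2 q₀ + expand 2 q₁ * X 0 + expand 2 q₂ * X 1 + expand 2 q₃ * (X 0 * X 1)) =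
    expand 2 (q₁ * pe' + q₂ * qe') +
      expand 2 (t * q₁ + q₃ * qe') * X 0 +
      expand 2 (t * q₂ + q₃ * pe') * X 1 + expand 2 0 * (X 0 * X 1) := by
  have h2 := two_eq_zero' (R := R)
  simp only [map_add, Derivation.leibniz, deriv_expand_two, hD0, hD1, add_zero,
    zero_add, smul_eq_mul, map_mul, map_zero, zero_mul, smul_zero]
  linear_combination (expand 2 t * expand 2 q₃ * X 0 * X 1) * h2

variable (l0 l2 l4 s0 s2 s4 τ : R)

/-- even part of `P̃` -/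
noncomputable abbrev pc : MvPolynomial (Fin 2) R := C l0 * X 0 ^ 2 + C l2 * X 0 + C l4

/-- even part of `Q̃` -/
noncomputable abbrev qc : MvPolynomial (Fin 2) R := C s0 * X 1 ^ 2 + C s2 * X 1 + C s4

/-- the derivation of the cuspidal chart -/
noncomputable abbrev Dc : Derivation R (MvPolynomial (Fin 2) R) (MvPolynomial (Fin 2) R) :=
  mkDerivation R (![X 1 ^ 2 * (C l0 * X 0 ^ 4 + C τ * X 0 ^ 3 + C l2 * X 0 ^ 2 + C l4),
          X 0 ^ 2 * (C s0 * X 1 ^ 4 + C τ * X 1 ^ 3 + C s2 * X 1 ^ 2 + C s4)] :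
          Fin 2 → MvPolynomial (Fin 2) R)

lemma Dc_X0 : Dc l0 l2 l4 s0 s2 s4 τ (X 0) =
    expand 2 (X 1 * pc l0 l2 l4) + expand 2 (C τ * X 0 * X 1) * X 0 := by
  rw [Dc, mkDerivation_X]
  simp only [pc, map_add, map_mul, map_pow, expand_C, expand_X, Matrix.cons_val_zero]
  ring

lemma Dc_X1 : Dc l0 l2 l4 s0 s2 s4 τ (X 1) =
    expand 2 (X 0 * qc s0 s2 s4) + expand 2 (C τ * X 0 * X 1) * X 1 := by
  rw [Dc, mkDerivation_X]
  simp only [qc, map_add, map_mul, map_pow, expand_C, expand_X, Matrix.cons_val_one,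
    Matrix.cons_val_zero, Matrix.cons_val_fin_one]
  ring

lemma g_eq : g l0 l2 l4 s0 s2 s4 τ =
    expand 2 0 + expand 2 (X 0 * qc s0 s2 s4) * X 0 + expand 2 (X 1 * pc l0 l2 l4) * X 1 +
      expand 2 (C τ * X 0 * X 1) * (X 0 * X 1) := by
  simp only [g, pc, qc, map_add, map_mul, map_pow, expand_C, expand_X, map_zero]
  ring

lemma Dc_g : Dc l0 l2 l4 s0 s2 s4 τ (g l0 l2 l4 s0 s2 s4 τ) = 0 := by
  have h2 := two_eq_zero' (R := R)
  rw [g_eq, D_components_gen' _ _ _ _ (Dc_X0 l0 l2 l4 s0 s2 s4 τ) (Dc_X1 l0 l2 l4 s0 s2 s4 τ)]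
  have e1 : X 0 * qc s0 s2 s4 * (X 1 * pc l0 l2 l4) + X 1 * pc l0 l2 l4 * (X 0 * qc s0 s2 s4) =
      (2 : MvPolynomial (Fin 2) R) * (X 0 * qc s0 s2 s4 * (X 1 * pc l0 l2 l4)) := by ring
  have e2 : C τ * X 0 * X 1 * (X 0 * qc s0 s2 s4) + C τ * X 0 * X 1 * (X 0 * qc s0 s2 s4) =
      (2 : MvPolynomial (Fin 2) R) * (C τ * X 0 * X 1 * (X 0 * qc s0 s2 s4)) := by ring
  have e3 : C τ * X 0 * X 1 * (X 1 * pc l0 l2 l4) + C τ * X 0 * X 1 * (X 1 * pc l0 l2 l4) =
      (2 : MvPolynomial (Fin 2) R) * (C τ * X 0 * X 1 * (X 1 * pc l0 l2 l4)) := by ring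
  rw [e1, e2, e3, h2]
  simp

lemma expand_mem_adjoin (q : MvPolynomial (Fin 2) R) (z : MvPolynomial (Fin 2) R) :
    expand 2 q ∈ Algebra.adjoin R ({X 0 ^ 2, X 1 ^ 2, z} : Set (MvPolynomial (Fin 2) R)) := by
  have h : expand 2 q = aeval (fun j : Fin 2 => (X j ^ 2 : MvPolynomial (Fin 2) R)) q := rfl
  rw [h]
  have h1 : aeval (fun j : Fin 2 => (X j ^ 2 : MvPolynomial (Fin 2) R)) q ∈
      Algebra.adjoin R (Set.range (fun j : Fin 2 => (X j ^ 2 : MvPolynomial (Fin 2) R))) := by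
    rw [Algebra.adjoin_range_eq_range_aeval]
    exact ⟨q, rfl⟩
  refine Algebra.adjoin_mono ?_ h1
  rintro _ ⟨j, rfl⟩
  fin_cases j
  · simp
  · simp

theorem Dc_eq_zero_iff (hτ : IsUnit τ) (a : MvPolynomial (Fin 2) R)
    (ha : a ∈ Algebra.adjoin R
      ({X 0 ^ 2, X 0 ^ 3, X 1 ^ 2, X 1 ^ 3} : Set (MvPolynomial (Fin 2) R))) :
    Dc l0 l2 l4 s0 s2 s4 τ a = 0 ↔
      a ∈ Algebra.adjoin R
        ({X 0 ^ 2, X 1 ^ 2, g l0 l2 l4 s0 s2 s4 τ} : Set (MvPolynomial (Fin 2) R)) := by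
  have h2 := two_eq_zero' (R := R)
  constructor
  · intro hD
    obtain ⟨q₀, q₁, q₂, q₃, hp⟩ := exists_components_cusp ha
    rw [hp, D_components_gen' _ _ _ _ (Dc_X0 l0 l2 l4 s0 s2 s4 τ) (Dc_X1 l0 l2 l4 s0 s2 s4 τ)] at hD
    obtain ⟨-, h1, h2', -⟩ := components_eq_zero _ _ _ _ hD
    obtain ⟨u, hu⟩ := hτ
    set r := C (↑u⁻¹ : R) * q₃ with hr
    have hτr : C τ * r = q₃ := by
      rw [hr, ← mul_assoc, ← C_mul, ← hu, Units.mul_inv, C_1, one_mul]
    have hregτ : IsRegular (C τ : MvPolynomial (Fin 2) R) := by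
      rw [← hu]; exact ((u.isUnit).map C).isRegular
    have hreg1 : IsRegular (C τ * X 0 ^ 2 * X 1 : MvPolynomial (Fin 2) R) :=
      (hregτ.mul (isRegular_X_pow 2)).mul isRegular_X
    have hreg2 : IsRegular (C τ * X 0 * X 1 ^ 2 : MvPolynomial (Fin 2) R) :=
      (hregτ.mul isRegular_X).mul (isRegular_X_pow 2)
    have hq1 : q₁ = -(r * qc s0 s2 s4) := by
      have : C τ * X 0 ^ 2 * X 1 * (q₁ + r * qc s0 s2 s4) = 0 := by
        rw [← h1, ← hτr]; ring
      have := hreg1.left (by simpa using this :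
        C τ * X 0 ^ 2 * X 1 * (q₁ + r * qc s0 s2 s4) = C τ * X 0 ^ 2 * X 1 * 0)
      exact eq_neg_of_add_eq_zero_left this
    have hq2 : q₂ = -(r * pc l0 l2 l4) := by
      have : C τ * X 0 * X 1 ^ 2 * (q₂ + r * pc l0 l2 l4) = 0 := by
        rw [← h2', ← hτr]; ring
      have := hreg2.left (by simpa using this :
        C τ * X 0 * X 1 ^ 2 * (q₂ + r * pc l0 l2 l4) = C τ * X 0 * X 1 ^ 2 * 0)
      exact eq_neg_of_add_eq_zero_left this
    have hfin : a = expand 2 q₀ + expand 2 r * g l0 l2 l4 s0 s2 s4 τ := by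
      rw [hp, hq1, hq2, ← hτr, g_eq]
      simp only [map_neg, map_mul, map_zero, zero_add]
      linear_combination (-(expand 2 (X 0) * (expand 2 r * expand 2 (qc s0 s2 s4)) * X 0) -
        expand 2 (X 1) * (expand 2 r * expand 2 (pc l0 l2 l4)) * X 1) * h2
    rw [hfin]
    exact add_mem (expand_mem_adjoin _ _)
      (mul_mem (expand_mem_adjoin _ _) (Algebra.subset_adjoin (by simp)))
  · intro hmem
    clear ha
    induction hmem using Algebra.adjoin_induction with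
    | mem x hx =>
      simp only [Set.mem_insert_iff, Set.mem_singleton_iff] at hx
      rcases hx with rfl | rfl | rfl
      · have := deriv_expand_two (Dc l0 l2 l4 s0 s2 s4 τ) (X 0)
        simpa using this
      · have := deriv_expand_two (Dc l0 l2 l4 s0 s2 s4 τ) (X 1)
        simpa using this
      · exact Dc_g l0 l2 l4 s0 s2 s4 τ
    | algebraMap r => exact Derivation.map_algebraMap _ r
    | add x y _ _ hx hy => rw [map_add, hx, hy, add_zero]
    | mul x y _ _ hx hy => rw [Derivation.leibniz, hx, hy, smul_zero, smul_zero, add_zero]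

end char2

end Groth.Agent.Lib.Helper83.KumKer
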