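import Mathlib

/-!
# Discriminant group of the image lattice of `d` versus torsion of `Coker(d* d)`

`L₀, L₁` finite free `ℤ`-modules with positive definite symmetric forms, `B₀` unimodular,
`d : L₀ → L₁`, `ds : L₁ → L₀` adjoint.  We build the isomorphism
`Tors(L₀ / Im(ds ∘ d)) ≃ Hom(Im d, ℤ) / Im d`.
-/

set_option linter.unusedSectionVars false

namespace Groth.Agent.Lib.Helper83.LatticeDisc

open Module

variable {L₀ L₁ : Type} [AddCommGroup L₀] [AddCommGroup L₁]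
  (B₀ : LinearMap.BilinForm ℤ L₀) (B₁ : LinearMap.BilinForm ℤ L₁)
  (d : L₀ →ₗ[ℤ] L₁) (ds : L₁ →ₗ[ℤ] L₀)

/-- The `B₀`-orthogonal of `ker d`. -/
def P : Submodule ℤ L₀ where
  carrier := {x | ∀ y, d y = 0 → B₀ x y = 0}
  add_mem' := by
    intro a b ha hb y hy
    simp [ha y hy, hb y hy]
  zero_mem' := by
    intro y _
    simp
  smul_mem' := by
    intro c a ha y hy
    simp [ha y hy]

lemma mem_P {x : L₀} : x ∈ P B₀ d ↔ ∀ y, d y = 0 → B₀ x y = 0 := Iff.rfl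

/-- `x ↦ (d y ↦ B₀ x y)` on the orthogonal of `ker d`. -/
noncomputable def Ψ : P B₀ d →ₗ[ℤ] Module.Dual ℤ (LinearMap.range d) where
  toFun x := ((LinearMap.ker d).liftQ (B₀ x.1) (fun y hy => x.2 y hy)).comp
      d.quotKerEquivRange.symm.toLinearMap
  map_add' := by
    intro x y
    ext ⟨m, z, rfl⟩
    simp [LinearMap.quotKerEquivRange_symm_apply_image]
  map_smul' := by
    intro c x
    ext ⟨m, z, rfl⟩
    simp [LinearMap.quotKerEquivRange_symm_apply_image]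

lemma Ψ_apply (x : P B₀ d) (y : L₀) :
    Ψ B₀ d x ⟨d y, LinearMap.mem_range_self d y⟩ = B₀ x.1 y := by
  simp [Ψ, LinearMap.quotKerEquivRange_symm_apply_image]

/-- The map `Im d → Hom(Im d, ℤ)` induced by `B₁`. -/
noncomputable abbrev ι : LinearMap.range d →ₗ[ℤ] Module.Dual ℤ (LinearMap.range d) :=
  (B₁.compl₂ (LinearMap.range d).subtype) ∘ₗ (LinearMap.range d).subtype

lemma ι_apply (m m' : LinearMap.range d) : ι B₁ d m m' = B₁ m.1 m'.1 := rfl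

variable {B₀ B₁ d ds}

section basic

variable (h₀s : B₀.IsSymm) (h₁s : B₁.IsSymm)
  (hadj : ∀ x y, B₁ (d x) y = B₀ x (ds y))

include hadj in
lemma B₀_T (a b : L₀) : B₀ a ((ds ∘ₗ d) b) = B₁ (d a) (d b) := by
  simp [hadj]

include h₀s hadj in
lemma T_mem_P (z : L₀) : (ds ∘ₗ d) z ∈ P B₀ d := by
  intro y hy
  rw [h₀s.eq, B₀_T hadj, hy]
  simp

include h₀s hadj in
lemma mem_P_of_torsion {x : L₀}
    (hx : (Submodule.Quotient.mk x : L₀ ⧸ LinearMap.range (ds ∘ₗ d)) ∈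
      Submodule.torsion ℤ (L₀ ⧸ LinearMap.range (ds ∘ₗ d))) : x ∈ P B₀ d := by
  rw [Submodule.mem_torsion_iff] at hx
  obtain ⟨a, ha⟩ := hx
  have ha0 : (a : ℤ) ≠ 0 := nonZeroDivisors.coe_ne_zero a
  have h1 : (a : ℤ) • x ∈ LinearMap.range (ds ∘ₗ d) := by
    rw [← Submodule.Quotient.mk_eq_zero, Submodule.Quotient.mk_smul]
    exact ha
  obtain ⟨z, hz⟩ := h1
  intro y hy
  have h2 : B₀ ((a : ℤ) • x) y = 0 := by
    rw [← hz]
    exact T_mem_P h₀s hadj z y hy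
  rw [map_smul, LinearMap.smul_apply, smul_eq_mul] at h2
  exact (mul_eq_zero.mp h2).resolve_left ha0

end basic

section rank

variable [Module.Finite ℤ L₀] [Module.Free ℤ L₀]
  (h₀s : B₀.IsSymm) (h₁s : B₁.IsSymm)
  (h₀p : ∀ x, x ≠ 0 → 0 < B₀ x x) (h₁p : ∀ x, x ≠ 0 → 0 < B₁ x x)
  (hadj : ∀ x y, B₁ (d x) y = B₀ x (ds y))

include h₁p hadj in
lemma d_eq_zero_of_T {y : L₀} (hy : (ds ∘ₗ d) y = 0) : d y = 0 := by
  by_contra h
  have := h₁p _ h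
  rw [← B₀_T hadj, hy] at this
  simp at this

include h₁s h₀p hadj in
lemma T_eq_zero_of_TT {y : L₀} (hy : (ds ∘ₗ d) ((ds ∘ₗ d) y) = 0) : (ds ∘ₗ d) y = 0 := by
  by_contra h
  have := h₀p _ h
  rw [B₀_T hadj, h₁s.eq, ← B₀_T hadj, hy] at this
  simp at this

include h₀s h₁s h₀p h₁p hadj in
/-- The rank argument: every element of `(ker d)^⊥` has a nonzero multiple in `Im (ds ∘ d)`. -/
lemma exists_smul_mem_range {x : L₀} (hx : x ∈ P B₀ d) :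
    ∃ a : ℤ, a ≠ 0 ∧ a • x ∈ LinearMap.range (ds ∘ₗ d) := by
  classical
  set T : L₀ →ₗ[ℤ] L₀ := ds ∘ₗ d with hT
  let K : Submodule ℤ L₀ := LinearMap.ker T
  let π : L₀ →ₗ[ℤ] L₀ ⧸ LinearMap.range T := (LinearMap.range T).mkQ
  let j : K →ₗ[ℤ] L₀ ⧸ LinearMap.range T := π ∘ₗ K.subtype
  have hj : Function.Injective j := by
    rw [← LinearMap.ker_eq_bot, LinearMap.ker_eq_bot']
    rintro ⟨k, hk⟩ h
    have h1 : k ∈ LinearMap.range T := by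
      simpa [j, π] using h
    obtain ⟨y, rfl⟩ := h1
    have : T y = 0 := T_eq_zero_of_TT h₁s h₀p hadj hk
    exact Subtype.ext this
  -- ranks
  have r1 := (LinearMap.range T).finrank_quotient_add_finrank
  have r2 := (LinearMap.ker T).finrank_quotient_add_finrank
  rw [LinearEquiv.finrank_eq T.quotKerEquivRange] at r2
  have r3 := LinearMap.finrank_range_of_inj hj
  have r4 := (LinearMap.range j).finrank_quotient_add_finrank
  have r5 : finrank ℤ ((L₀ ⧸ LinearMap.range T) ⧸ LinearMap.range j) = 0 := by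
    have : finrank ℤ K = finrank ℤ (LinearMap.ker T) := rfl
    omega
  have htors := (Module.finrank_eq_zero_iff_isTorsion (R := ℤ)).mp r5
  obtain ⟨a, ha⟩ := @htors (Submodule.Quotient.mk (π x))
  have ha0 : (a : ℤ) ≠ 0 := nonZeroDivisors.coe_ne_zero a
  have h1 : (a : ℤ) • π x ∈ LinearMap.range j := by
    rw [← Submodule.Quotient.mk_eq_zero, Submodule.Quotient.mk_smul]
    exact ha
  obtain ⟨⟨k, hk⟩, hk2⟩ := h1
  have hk' : T k = 0 := hk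
  have h2 : (a : ℤ) • x - k ∈ LinearMap.range T := by
    rw [← Submodule.Quotient.mk_eq_zero]
    have : π k = (a : ℤ) • π x := hk2
    simp only [π, Submodule.mkQ_apply] at this
    rw [Submodule.Quotient.mk_sub, Submodule.Quotient.mk_smul, this, sub_self]
  obtain ⟨y, hy⟩ := h2
  have hdk : d k = 0 := d_eq_zero_of_T h₁p hadj hk'
  have hkk : B₀ k k = 0 := by
    have e : k = (a : ℤ) • x - T y := by rw [hy]; abel
    have h3 : B₀ x k = 0 := hx k hdk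
    have h4 : B₀ (T y) k = 0 := by
      rw [h₀s.eq, hT, B₀_T hadj, hdk]; simp
    calc B₀ k k = B₀ ((a : ℤ) • x - T y) k := by rw [← e]
      _ = 0 := by
        rw [map_sub, LinearMap.sub_apply, map_smul, LinearMap.smul_apply, h3, h4]; simp
  have hk0 : k = 0 := by
    by_contra h
    have := h₀p k h
    omega
  refine ⟨a, ha0, ?_⟩
  rw [hk0, sub_zero] at hy
  exact ⟨y, hy⟩

include h₀s h₁s h₀p h₁p hadj in
lemma torsion_of_mem_P {x : L₀} (hx : x ∈ P B₀ d) :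
    (Submodule.Quotient.mk x : L₀ ⧸ LinearMap.range (ds ∘ₗ d)) ∈
      Submodule.torsion ℤ (L₀ ⧸ LinearMap.range (ds ∘ₗ d)) := by
  obtain ⟨a, ha0, ha⟩ := exists_smul_mem_range h₀s h₁s h₀p h₁p hadj hx
  rw [Submodule.mem_torsion_iff]
  refine ⟨⟨a, mem_nonZeroDivisors_of_ne_zero ha0⟩, ?_⟩
  change a • (Submodule.Quotient.mk x : L₀ ⧸ LinearMap.range (ds ∘ₗ d)) = 0
  rw [← Submodule.Quotient.mk_smul, Submodule.Quotient.mk_eq_zero]
  exact ha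

end rank

section equiv

variable [Module.Finite ℤ L₀] [Module.Free ℤ L₀]
  (h₀s : B₀.IsSymm) (h₁s : B₁.IsSymm)
  (h₀p : ∀ x, x ≠ 0 → 0 < B₀ x x) (h₁p : ∀ x, x ≠ 0 → 0 < B₁ x x)
  (huni : Function.Bijective B₀)
  (hadj : ∀ x y, B₁ (d x) y = B₀ x (ds y))

/-- `(ker d)^⊥ → Tors(L₀ / Im(ds ∘ d))`. -/
noncomputable def Θ : P B₀ d →ₗ[ℤ] Submodule.torsion ℤ (L₀ ⧸ LinearMap.range (ds ∘ₗ d)) :=
  LinearMap.codRestrict _ ((LinearMap.range (ds ∘ₗ d)).mkQ ∘ₗ (P B₀ d).subtype)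
    (fun x => torsion_of_mem_P h₀s h₁s h₀p h₁p hadj x.2)

lemma Θ_apply (x : P B₀ d) :
    ((Θ h₀s h₁s h₀p h₁p hadj x : Submodule.torsion ℤ (L₀ ⧸ LinearMap.range (ds ∘ₗ d))) :
      L₀ ⧸ LinearMap.range (ds ∘ₗ d)) = Submodule.Quotient.mk x.1 := rfl

lemma Θ_surjective : Function.Surjective (Θ h₀s h₁s h₀p h₁p hadj) := by
  rintro ⟨t, ht⟩
  obtain ⟨x, rfl⟩ := Submodule.Quotient.mk_surjective _ t
  exact ⟨⟨x, mem_P_of_torsion h₀s hadj ht⟩, Subtype.ext rfl⟩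

lemma mem_ker_Θ (x : P B₀ d) :
    x ∈ LinearMap.ker (Θ h₀s h₁s h₀p h₁p hadj) ↔ x.1 ∈ LinearMap.range (ds ∘ₗ d) := by
  rw [LinearMap.mem_ker, ← Submodule.Quotient.mk_eq_zero, ← Θ_apply h₀s h₁s h₀p h₁p hadj]
  exact ⟨fun h => by rw [h]; rfl, fun h => Subtype.ext h⟩

/-- `(ker d)^⊥ → Hom(Im d, ℤ) / Im d`. -/
noncomputable def Ψ' (B₀ : LinearMap.BilinForm ℤ L₀) (B₁ : LinearMap.BilinForm ℤ L₁)
    (d : L₀ →ₗ[ℤ] L₁) :
    P B₀ d →ₗ[ℤ] (Module.Dual ℤ (LinearMap.range d) ⧸ LinearMap.range (ι B₁ d)) :=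
  (LinearMap.range (ι B₁ d)).mkQ ∘ₗ Ψ B₀ d

include huni in
lemma Ψ_surjective : Function.Surjective (Ψ B₀ d) := by
  intro ψ
  obtain ⟨x, hx⟩ := huni.2 (ψ ∘ₗ d.rangeRestrict)
  have hxP : x ∈ P B₀ d := by
    intro y hy
    rw [hx]
    have : d.rangeRestrict y = 0 := Subtype.ext hy
    simp [this]
  refine ⟨⟨x, hxP⟩, ?_⟩
  ext ⟨m, y, rfl⟩
  rw [Ψ_apply, hx]
  rfl

include huni in
lemma Ψ'_surjective : Function.Surjective (Ψ' B₀ B₁ d) := by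
  intro q
  obtain ⟨ψ, rfl⟩ := Submodule.Quotient.mk_surjective _ q
  obtain ⟨x, rfl⟩ := Ψ_surjective huni ψ
  exact ⟨x, rfl⟩

include h₀s h₁s huni hadj in
lemma mem_ker_Ψ' (x : P B₀ d) :
    x ∈ LinearMap.ker (Ψ' B₀ B₁ d) ↔ x.1 ∈ LinearMap.range (ds ∘ₗ d) := by
  rw [LinearMap.mem_ker]
  change Submodule.Quotient.mk (Ψ B₀ d x) = 0 ↔ _
  rw [Submodule.Quotient.mk_eq_zero]
  constructor
  · rintro ⟨⟨m, z, rfl⟩, hz⟩
    refine ⟨z, ?_⟩
    apply huni.1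
    ext y
    have h1 := LinearMap.congr_fun hz ⟨d y, LinearMap.mem_range_self d y⟩
    rw [Ψ_apply, ι_apply] at h1
    rw [← h1, h₀s.eq, B₀_T hadj, h₁s.eq]
  · rintro ⟨z, hz⟩
    refine ⟨⟨d z, LinearMap.mem_range_self d z⟩, ?_⟩
    ext ⟨m, y, rfl⟩
    rw [Ψ_apply, ι_apply, ← hz, h₀s.eq, B₀_T hadj, h₁s.eq]

include huni in
/-- The isomorphism `Tors(L₀ / Im(ds ∘ d)) ≃ Hom(Im d, ℤ) / Im d`. -/
noncomputable def Φ : Submodule.torsion ℤ (L₀ ⧸ LinearMap.range (ds ∘ₗ d)) ≃ₗ[ℤ]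
    (Module.Dual ℤ (LinearMap.range d) ⧸ LinearMap.range (ι B₁ d)) :=
  ((Θ h₀s h₁s h₀p h₁p hadj).quotKerEquivOfSurjective (Θ_surjective h₀s h₁s h₀p h₁p hadj)).symm ≪≫ₗ
    (Submodule.quotEquivOfEq _ _ (by
      ext x
      rw [mem_ker_Θ, mem_ker_Ψ' h₀s h₁s huni hadj])) ≪≫ₗ
    ((Ψ' B₀ B₁ d).quotKerEquivOfSurjective (Ψ'_surjective huni))

lemma Φ_apply (x : P B₀ d) :
    Φ h₀s h₁s h₀p h₁p huni hadj (Θ h₀s h₁s h₀p h₁p hadj x) =
      Submodule.Quotient.mk (Ψ B₀ d x) := by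
  have : ((Θ h₀s h₁s h₀p h₁p hadj).quotKerEquivOfSurjective
      (Θ_surjective h₀s h₁s h₀p h₁p hadj)).symm (Θ h₀s h₁s h₀p h₁p hadj x) =
      Submodule.Quotient.mk x := by
    rw [LinearEquiv.symm_apply_eq, LinearMap.quotKerEquivOfSurjective_apply_mk]
  simp only [Φ, LinearEquiv.trans_apply, this, Submodule.quotEquivOfEq_mk,
    LinearMap.quotKerEquivOfSurjective_apply_mk]
  rfl

end equiv

end Groth.Agent.Lib.Helper83.LatticeDisc
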