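import Groth.Statements.S15750
import Mathlib

set_option autoImplicit false
universe u

namespace Groth.Agent.Lib.Helper83.LaurentUnits

open HahnSeries

variable {R : Type u} [CommRing R]

section Domain
variable {D : Type u} [CommRing D] (π : R →+* D)

lemma mapmul (x y : HahnSeries ℤ R) : (x * y).map π = x.map π * y.map π :=
  HahnSeries.map_mul (Γ := ℤ) (π : R →ₙ+* D) (x := x) (y := y)

lemma mapone : (1 : HahnSeries ℤ R).map π = 1 :=
  HahnSeries.map_one (Γ := ℤ) (π.toMonoidWithZeroHom)

variable [IsDomain D]

/-- the element `e = lc(f) * g_{-ord f}` maps to `0` or `1` in any domain quotient, and to `1`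
if the leading coefficient survives. -/
lemma key_mod (f g : HahnSeries ℤ R) (hfg : f * g = 1) :
    (π (f.leadingCoeff * g.coeff (-f.order)) = 0 ∨ π (f.leadingCoeff * g.coeff (-f.order)) = 1) ∧
    (π f.leadingCoeff ≠ 0 → π (f.leadingCoeff * g.coeff (-f.order)) = 1) := by
  have hFG : f.map π * g.map π = 1 := by rw [← mapmul, hfg, mapone]
  have hF : f.map π ≠ 0 := by
    intro h; rw [h, zero_mul] at hFG; exact zero_ne_one hFG
  have hG : g.map π ≠ 0 := by
    intro h; rw [h, mul_zero] at hFG; exact zero_ne_one hFG
  have hord : (f.map π).order + (g.map π).order = 0 := by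
    rw [← HahnSeries.order_mul hF hG, hFG, HahnSeries.order_one]
  have hlc : (f.map π).leadingCoeff * (g.map π).leadingCoeff = 1 := by
    rw [← HahnSeries.leadingCoeff_mul, hFG, HahnSeries.leadingCoeff_one]
  have hle : f.order ≤ (f.map π).order := by
    apply HahnSeries.order_le_of_coeff_ne_zero
    intro h0
    have h1 : (f.map π).coeff (f.map π).order = 0 := by
      rw [HahnSeries.map_coeff, h0, map_zero]
    rw [← HahnSeries.leadingCoeff_eq] at h1
    exact (HahnSeries.leadingCoeff_ne_zero.2 hF) h1
  have hcase : (f.map π).order = f.order → π (f.leadingCoeff * g.coeff (-f.order)) = 1 := by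
    intro heq
    have hGo : (g.map π).order = -f.order := by omega
    have h1 : π f.leadingCoeff = (f.map π).leadingCoeff := by
      rw [HahnSeries.leadingCoeff_eq, HahnSeries.leadingCoeff_eq, heq, HahnSeries.map_coeff]
    have h2 : π (g.coeff (-f.order)) = (g.map π).leadingCoeff := by
      rw [HahnSeries.leadingCoeff_eq, hGo, HahnSeries.map_coeff]
    rw [map_mul, h1, h2, hlc]
  constructor
  · rcases hle.lt_or_eq with hlt | heq
    · left
      have : (f.map π).coeff f.order = 0 := HahnSeries.coeff_eq_zero_of_lt_order hlt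
      rw [HahnSeries.map_coeff, ← HahnSeries.leadingCoeff_eq] at this
      rw [map_mul, this, zero_mul]
    · right
      exact hcase heq.symm
  · intro hne
    apply hcase
    apply le_antisymm _ hle
    apply HahnSeries.order_le_of_coeff_ne_zero
    rw [HahnSeries.map_coeff, ← HahnSeries.leadingCoeff_eq]
    exact hne

end Domain

theorem leadingCoeff_isUnit [IsReduced R] [Nontrivial R]
    (hconn : ∀ e : R, IsIdempotentElem e → e = 0 ∨ e = 1)
    (f g : HahnSeries ℤ R) (hfg : f * g = 1) : IsUnit f.leadingCoeff := by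
  have hidem : IsIdempotentElem (f.leadingCoeff * g.coeff (-f.order)) := by
    have hnil : (f.leadingCoeff * g.coeff (-f.order)) * (f.leadingCoeff * g.coeff (-f.order)) -
        (f.leadingCoeff * g.coeff (-f.order)) ∈ nilradical R := by
      rw [nilradical_eq_sInf, Ideal.mem_sInf]
      intro Q hQ
      have hQ' : Q.IsPrime := hQ
      have := (key_mod (Ideal.Quotient.mk Q) f g hfg).1
      rw [← Ideal.Quotient.eq_zero_iff_mem, map_sub, map_mul]
      rcases this with h | h <;> rw [h] <;> ring
    have h0 : (f.leadingCoeff * g.coeff (-f.order)) * (f.leadingCoeff * g.coeff (-f.order)) -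
        (f.leadingCoeff * g.coeff (-f.order)) = 0 := (mem_nilradical.1 hnil).eq_zero
    exact sub_eq_zero.1 h0
  have hf0 : f ≠ 0 := by
    intro h; rw [h, zero_mul] at hfg; exact zero_ne_one hfg
  have hlc0 : f.leadingCoeff ≠ 0 := HahnSeries.leadingCoeff_ne_zero.2 hf0
  obtain ⟨P, hP, hlcP⟩ : ∃ P : Ideal R, P.IsPrime ∧ f.leadingCoeff ∉ P := by
    by_contra hcon
    push Not at hcon
    have : f.leadingCoeff ∈ nilradical R := by
      rw [nilradical_eq_sInf, Ideal.mem_sInf]
      intro Q hQ
      exact hcon Q hQ
    exact hlc0 (mem_nilradical.1 this).eq_zero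
  have he1 : f.leadingCoeff * g.coeff (-f.order) = 1 := by
    rcases hconn _ hidem with h0 | h1
    · exfalso
      have := (key_mod (Ideal.Quotient.mk P) f g hfg).2
        (by rwa [Ne, Ideal.Quotient.eq_zero_iff_mem])
      rw [h0, map_zero] at this
      exact zero_ne_one this
    · exact h1
  exact IsUnit.of_mul_eq_one _ he1

lemma order_ofPowerSeries_of_ne (u : PowerSeries R) (hu : PowerSeries.constantCoeff u ≠ 0) :
    (HahnSeries.ofPowerSeries ℤ R u).order = 0 := by
  have hc0 : (HahnSeries.ofPowerSeries ℤ R u).coeff 0 ≠ 0 := by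
    rw [PowerSeries.coeff_coe]
    simpa using hu
  apply le_antisymm (HahnSeries.order_le_of_coeff_ne_zero hc0)
  by_contra hlt
  push Not at hlt
  have hx0 : HahnSeries.ofPowerSeries ℤ R u ≠ 0 := HahnSeries.ne_zero_of_coeff_ne_zero hc0
  have h1 := HahnSeries.leadingCoeff_ne_zero.2 hx0
  rw [HahnSeries.leadingCoeff_eq, PowerSeries.coeff_coe, if_pos hlt] at h1
  exact h1 rfl

theorem main (R : Type u) [CommRing R]
    [IsReduced R] [Nontrivial R] (hconn : ∀ e : R, IsIdempotentElem e → e = 0 ∨ e = 1)
    (f : (LaurentSeries R)ˣ) :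
    ∃! p : ℤ × (PowerSeries R)ˣ,
      (f : LaurentSeries R) = HahnSeries.single p.1 (1 : R) * HahnSeries.ofPowerSeries ℤ R (p.2 : PowerSeries R) := by
  have hu : IsUnit (f : LaurentSeries R).leadingCoeff :=
    leadingCoeff_isUnit hconn (f : LaurentSeries R) ((f⁻¹ : (LaurentSeries R)ˣ) : LaurentSeries R)
      (by simp)
  have hps : IsUnit (f : LaurentSeries R).powerSeriesPart := by
    rw [PowerSeries.isUnit_iff_constantCoeff, ← PowerSeries.coeff_zero_eq_constantCoeff_apply,
      LaurentSeries.powerSeriesPart_coeff]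
    simpa [HahnSeries.leadingCoeff_eq] using hu
  refine ⟨((f : LaurentSeries R).order, hps.unit), ?_, ?_⟩
  · simp [LaurentSeries.single_order_mul_powerSeriesPart]
  · rintro ⟨n, v⟩ hnv
    simp only at hnv
    have hv0 : PowerSeries.constantCoeff (v : PowerSeries R) ≠ 0 := by
      have := (PowerSeries.isUnit_iff_constantCoeff.1 v.isUnit)
      exact this.ne_zero
    have hx0 : HahnSeries.ofPowerSeries ℤ R (v : PowerSeries R) ≠ 0 := by
      intro h
      have := order_ofPowerSeries_of_ne (v : PowerSeries R) hv0
      have hc : (HahnSeries.ofPowerSeries ℤ R (v : PowerSeries R)).coeff 0 ≠ 0 := by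
        rw [PowerSeries.coeff_coe]; simpa using hv0
      rw [h] at hc
      exact hc rfl
    have hord : (f : LaurentSeries R).order = n := by
      rw [hnv, HahnSeries.order_single_mul_of_isRegular isRegular_one hx0,
        order_ofPowerSeries_of_ne _ hv0, add_zero]
    have hpart : (v : PowerSeries R) = (f : LaurentSeries R).powerSeriesPart := by
      apply HahnSeries.ofPowerSeries_injective (Γ := ℤ)
      rw [LaurentSeries.ofPowerSeries_powerSeriesPart, hord]
      conv_rhs => rw [hnv]
      rw [← mul_assoc, HahnSeries.single_mul_single, neg_add_cancel, mul_one]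
      change _ = (1 : LaurentSeries R) * _
      rw [one_mul]
    ext
    · exact hord.symm
    · simp [hpart]

end Groth.Agent.Lib.Helper83.LaurentUnits
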