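import Mathlib

set_option autoImplicit false

open MvPolynomial

namespace Groth.Agent.Lib.Helper83.LocCohGr

universe u
variable {A : Type u} [CommRing A] {r : ℕ} (f : Fin r → A) (I : Ideal A) (c : ℕ)
  (φ : Fin r → (↥(I ^ c) →ₗ[A] A))

open Classical in
noncomputable def psi (j : Fin r) (x : A) : A := if h : x ∈ I ^ c then φ j ⟨x, h⟩ else 0

lemma psi_of_mem (j : Fin r) (x : A) (h : x ∈ I ^ c) : psi I c φ j x = φ j ⟨x, h⟩ := dif_pos h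

lemma psi_add (j : Fin r) (x y : A) (hx : x ∈ I ^ c) (hy : y ∈ I ^ c) :
    psi I c φ j (x + y) = psi I c φ j x + psi I c φ j y := by
  rw [psi_of_mem I c φ j _ (Ideal.add_mem _ hx hy), psi_of_mem I c φ j _ hx,
    psi_of_mem I c φ j _ hy, ← map_add]
  rfl

lemma psi_mul (j : Fin r) (a x : A) (hx : x ∈ I ^ c) :
    psi I c φ j (a * x) = a * psi I c φ j x := by
  rw [psi_of_mem I c φ j _ (Ideal.mul_mem_left _ a hx), psi_of_mem I c φ j _ hx]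
  have : (⟨a * x, Ideal.mul_mem_left _ a hx⟩ : ↥(I ^ c)) = a • ⟨x, hx⟩ := rfl
  rw [this, map_smul, smul_eq_mul]

lemma pow_succ_mul_le (n : ℕ) : I ^ ((n + 1) * c) ≤ I ^ c :=
  Ideal.pow_le_pow_right (by nlinarith)

lemma psi_mem (j : Fin r) (n : ℕ) (x : A) (hx : x ∈ I ^ ((n + 1) * c)) :
    psi I c φ j x ∈ I ^ (n * c) := by
  have h1 : I ^ ((n + 1) * c) = I ^ (n * c) * I ^ c := by
    rw [← pow_add]; congr 1; ring
  rw [h1] at hx
  have key : x ∈ I ^ c ∧ psi I c φ j x ∈ I ^ (n * c) := by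
    refine Submodule.mul_induction_on hx ?_ ?_
    · intro g hg h hh
      refine ⟨Ideal.mul_mem_left _ _ hh, ?_⟩
      rw [psi_mul I c φ j g h hh]
      exact Ideal.mul_mem_right _ _ hg
    · rintro x y ⟨hx1, hx2⟩ ⟨hy1, hy2⟩
      refine ⟨Ideal.add_mem _ hx1 hy1, ?_⟩
      rw [psi_add I c φ j x y hx1 hy1]
      exact Ideal.add_mem _ hx2 hy2
  exact key.2

/-- the graded map. -/
noncomputable def Phi : ℕ → A → MvPolynomial (Fin r) A
  | 0, a => C a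
  | (n + 1), x => ∑ j, X j * Phi n (psi I c φ j x)

lemma Phi_zero (a : A) : Phi I c φ 0 a = C a := rfl

lemma Phi_succ (n : ℕ) (x : A) :
    Phi I c φ (n + 1) x = ∑ j, X j * Phi I c φ n (psi I c φ j x) := rfl

lemma Phi_add : ∀ (n : ℕ) (g h : A), g ∈ I ^ (n * c) → h ∈ I ^ (n * c) →
    Phi I c φ n (g + h) = Phi I c φ n g + Phi I c φ n h
  | 0, g, h, _, _ => by simp [Phi_zero]
  | (n + 1), g, h, hg, hh => by
    rw [Phi_succ, Phi_succ, Phi_succ, ← Finset.sum_add_distrib]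
    apply Finset.sum_congr rfl
    intro j _
    rw [psi_add I c φ j g h (pow_succ_mul_le I c n hg) (pow_succ_mul_le I c n hh),
      Phi_add n _ _ (psi_mem I c φ j n g hg) (psi_mem I c φ j n h hh), mul_add]

lemma Phi_smul : ∀ (n : ℕ) (a g : A), g ∈ I ^ (n * c) →
    Phi I c φ n (a * g) = a • Phi I c φ n g
  | 0, a, g, _ => by simp [Phi_zero, MvPolynomial.smul_eq_C_mul]
  | (n + 1), a, g, hg => by
    rw [Phi_succ, Phi_succ, Finset.smul_sum]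
    apply Finset.sum_congr rfl
    intro j _
    rw [psi_mul I c φ j a g (pow_succ_mul_le I c n hg), Phi_smul n a _ (psi_mem I c φ j n g hg),
      mul_smul_comm]

lemma Phi_homog : ∀ (n : ℕ) (g : A), (Phi I c φ n g).IsHomogeneous n
  | 0, g => by rw [Phi_zero]; exact isHomogeneous_C _ _
  | (n + 1), g => by
    rw [Phi_succ]
    apply IsHomogeneous.sum
    intro j _
    rw [add_comm n 1]
    exact (isHomogeneous_X A j).mul (Phi_homog n _)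

lemma Phi_mul (n : ℕ) : ∀ (m : ℕ) (g h : A), g ∈ I ^ (n * c) → h ∈ I ^ (m * c) →
    Phi I c φ (n + m) (g * h) = Phi I c φ n g * Phi I c φ m h
  | 0, g, h, hg, _ => by
    rw [add_zero, Phi_zero, mul_comm g h, Phi_smul I c φ n h g hg, MvPolynomial.smul_eq_C_mul,
      mul_comm]
  | (m + 1), g, h, hg, hh => by
    have : n + (m + 1) = (n + m) + 1 := rfl
    rw [this, Phi_succ, Phi_succ, Finset.mul_sum]
    apply Finset.sum_congr rfl
    intro j _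
    rw [psi_mul I c φ j g h (pow_succ_mul_le I c m hh),
      Phi_mul n m g _ hg (psi_mem I c φ j m h hh)]
    ring

lemma aeval_Phi (hφ : ∀ x : ↥(I ^ c), (x : A) = ∑ j, f j * φ j x) :
    ∀ (n : ℕ) (g : A), g ∈ I ^ (n * c) → MvPolynomial.aeval f (Phi I c φ n g) = g
  | 0, g, _ => by rw [Phi_zero, aeval_C]; rfl
  | (n + 1), g, hg => by
    rw [Phi_succ, map_sum]
    have hg' := pow_succ_mul_le I c n hg
    have h1 := hφ ⟨g, hg'⟩
    conv_rhs => rw [show g = ((⟨g, hg'⟩ : ↥(I ^ c)) : A) from rfl, h1]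
    apply Finset.sum_congr rfl
    intro j _
    rw [map_mul, aeval_X, aeval_Phi hφ n _ (psi_mem I c φ j n g hg), psi_of_mem I c φ j g hg']

theorem main (hφ : ∀ x : ↥(I ^ c), (x : A) = ∑ j, f j * φ j x) :
    ∃ Φ : ℕ → A → MvPolynomial (Fin r) A, (((∀ n : ℕ, ∀ g ∈ I ^ (n * c), ∀ h ∈ I ^ (n * c), Φ n (g + h) = Φ n g + Φ n h) ∧ (∀ (n : ℕ) (a : A), ∀ g ∈ I ^ (n * c), Φ n (a * g) = a • Φ n g) ∧ (∀ n : ℕ, ∀ g ∈ I ^ (n * c), (Φ n g).IsHomogeneous n) ∧ (∀ n m : ℕ, ∀ g ∈ I ^ (n * c), ∀ h ∈ I ^ (m * c), Φ (n + m) (g * h) = Φ n g * Φ m h) ∧ (∀ a : A, Φ 0 a = MvPolynomial.C a) ∧ (∀ (g : A) (hg : g ∈ I ^ c), Φ 1 g = ∑ j, MvPolynomial.C (φ j ⟨g, hg⟩) * MvPolynomial.X j)) ∧ ∀ n : ℕ, ∀ g ∈ I ^ (n * c), MvPolynomial.aeval f (Φ n g) = g) ∧ ∀ Ψ : ℕ → A → MvPolynomial (Fin r) A, ((∀ n : ℕ, ∀ g ∈ I ^ (n * c), ∀ h ∈ I ^ (n * c), Ψ n (g + h) = Ψ n g + Ψ n h) ∧ (∀ (n : ℕ) (a : A), ∀ g ∈ I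 ^ (n * c), Ψ n (a * g) = a • Ψ n g) ∧ (∀ n : ℕ, ∀ g ∈ I ^ (n * c), (Ψ n g).IsHomogeneous n) ∧ (∀ n m : ℕ, ∀ g ∈ I ^ (n * c), ∀ h ∈ I ^ (m * c), Ψ (n + m) (g * h) = Ψ n g * Ψ m h) ∧ (∀ a : A, Ψ 0 a = MvPolynomial.C a) ∧ (∀ (g : A) (hg : g ∈ I ^ c), Ψ 1 g = ∑ j, MvPolynomial.C (φ j ⟨g, hg⟩) * MvPolynomial.X j)) → ∀ n : ℕ, ∀ g ∈ I ^ (n * c), Ψ n g = Φ n g := by
  have hΦ1 : ∀ (g : A) (hg : g ∈ I ^ c),
      Phi I c φ 1 g = ∑ j, MvPolynomial.C (φ j ⟨g, hg⟩) * MvPolynomial.X j := by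
    intro g hg
    rw [Phi_succ]
    apply Finset.sum_congr rfl
    intro j _
    rw [Phi_zero, psi_of_mem I c φ j g hg, mul_comm]
  refine ⟨Phi I c φ, ⟨⟨fun n g hg h hh => Phi_add I c φ n g h hg hh,
    fun n a g hg => Phi_smul I c φ n a g hg, fun n g _ => Phi_homog I c φ n g,
    fun n m g hg h hh => Phi_mul I c φ n m g h hg hh, fun a => Phi_zero I c φ a, hΦ1⟩,
    fun n g hg => aeval_Phi f I c φ hφ n g hg⟩, ?_⟩
  rintro Ψ ⟨hadd, -, -, hmul, h0, h1⟩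
  intro n
  induction n with
  | zero => intro g _; rw [h0, Phi_zero]
  | succ n ih =>
    intro g hg
    have hpow : I ^ ((n + 1) * c) = I ^ (n * c) * I ^ c := by
      rw [← pow_add]; congr 1; ring
    have key : g ∈ I ^ ((n + 1) * c) ∧ Ψ (n + 1) g = Phi I c φ (n + 1) g := by
      have hg2 := hg
      rw [hpow] at hg2
      refine Submodule.mul_induction_on hg2 ?_ ?_
      · intro a ha b hb
        have hb1 : b ∈ I ^ (1 * c) := by rwa [one_mul]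
        refine ⟨?_, ?_⟩
        · rw [hpow]; exact Ideal.mul_mem_mul ha hb
        · rw [hmul n 1 a ha b hb1, ih a ha, h1 b hb, ← hΦ1 b hb,
            ← Phi_mul I c φ n 1 a b ha hb1]
      · rintro x y ⟨hx1, hx2⟩ ⟨hy1, hy2⟩
        refine ⟨Ideal.add_mem _ hx1 hy1, ?_⟩
        rw [hadd (n + 1) x hx1 y hy1, hx2, hy2, ← Phi_add I c φ (n + 1) x y hx1 hy1]
    exact key.2

end Groth.Agent.Lib.Helper83.LocCohGr
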