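import Groth.Agent.Lib.Helper83.LocCohGr1

set_option autoImplicit false

open MvPolynomial TensorProduct

namespace Groth.Agent.Lib.Helper83.LocCohGr

universe u

section lift

variable {B N Q ι : Type*} [CommRing B] [AddCommGroup N] [Module B N] [AddCommGroup Q] [Module B Q]

theorem exists_lift_span (v : ι → N) (w : ι → Q)
    (h : ∀ l : ι →₀ B, Finsupp.linearCombination B v l = 0 → Finsupp.linearCombination B w l = 0) :
    ∃ Ψ : ↥(Submodule.span B (Set.range v)) →ₗ[B] Q,
      ∀ i, Ψ ⟨v i, Submodule.subset_span ⟨i, rfl⟩⟩ = w i := by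
  let π := Finsupp.linearCombination B v
  have hr : LinearMap.range π = Submodule.span B (Set.range v) := Finsupp.range_linearCombination B
  let e1 : ↥(Submodule.span B (Set.range v)) ≃ₗ[B] ↥(LinearMap.range π) := LinearEquiv.ofEq _ _ hr.symm
  let L : ((ι →₀ B) ⧸ LinearMap.ker π) →ₗ[B] Q :=
    (LinearMap.ker π).liftQ (Finsupp.linearCombination B w) (fun l hl => LinearMap.mem_ker.mpr (h l (LinearMap.mem_ker.mp hl)))
  refine ⟨L ∘ₗ (π.quotKerEquivRange.symm : ↥(LinearMap.range π) →ₗ[B] _) ∘ₗ (e1 : _ →ₗ[B] _), ?_⟩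
  intro i
  have h1 : π (Finsupp.single i 1) = v i := by
    simp [π]
  have h2 : (e1 ⟨v i, Submodule.subset_span ⟨i, rfl⟩⟩ : ↥(LinearMap.range π)) =
      ⟨π (Finsupp.single i 1), LinearMap.mem_range_self _ _⟩ := by
    apply Subtype.ext
    simp [e1, h1]
  show L (π.quotKerEquivRange.symm (e1 ⟨v i, _⟩)) = w i
  rw [h2, LinearMap.quotKerEquivRange_symm_apply_image]
  rw [Submodule.mkQ_apply]
  show L (Submodule.Quotient.mk _) = w i
  rw [Submodule.liftQ_apply]
  simp

theorem ext_span {S : Set N} (Ψ₁ Ψ₂ : ↥(Submodule.span B S) →ₗ[B] Q)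
    (h : ∀ s (hs : s ∈ S), Ψ₁ ⟨s, Submodule.subset_span hs⟩ = Ψ₂ ⟨s, Submodule.subset_span hs⟩) :
    Ψ₁ = Ψ₂ := by
  apply LinearMap.ext_on (Submodule.span_span_coe_preimage (R := B) (s := S))
  rintro ⟨y, hy⟩ hys
  exact h y hys

end lift

section AR

variable {A B N : Type*} [CommRing A] [CommRing B] [Algebra A B] [AddCommGroup N] [Module B N]

theorem exists_AR [IsNoetherianRing B] [Module.Finite B N] (I : Ideal A) (c : ℕ) :
    ∃ K : ℕ, ∀ m ≥ K, ∀ y : N, y ∈ ((I.map (algebraMap A B)) ^ m • ⊤ : Submodule B N) →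
      (∀ f ∈ I ^ c, algebraMap A B f • y = 0) → y = 0 := by
  let N' : Submodule B N :=
    { carrier := {y | ∀ f ∈ I ^ c, algebraMap A B f • y = 0}
      add_mem' := by
        intro a b ha hb f hf
        rw [smul_add, ha f hf, hb f hf, add_zero]
      zero_mem' := by intro f _; exact smul_zero _
      smul_mem' := by
        intro b y hy f hf
        rw [smul_comm, hy f hf, smul_zero] }
  obtain ⟨k, hk⟩ := Ideal.exists_pow_inf_eq_pow_smul (I.map (algebraMap A B)) N'
  refine ⟨k + c, fun m hm y hy hy' => ?_⟩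
  have h1 : y ∈ (I.map (algebraMap A B)) ^ m • ⊤ ⊓ N' := ⟨hy, hy'⟩
  rw [hk m (by omega)] at h1
  have h2 : (I.map (algebraMap A B)) ^ (m - k) • ((I.map (algebraMap A B)) ^ k • ⊤ ⊓ N') ≤
      (⊥ : Submodule B N) := by
    rw [Submodule.smul_le]
    intro b hb z hz
    have hb' : b ∈ (I.map (algebraMap A B)) ^ c := Ideal.pow_le_pow_right (by omega) hb
    rw [← Ideal.map_pow] at hb'
    rw [Submodule.mem_bot]
    have hz' : ∀ f ∈ I ^ c, algebraMap A B f • z = 0 := hz.2
    refine Submodule.span_induction (p := fun b _ => b • z = 0) ?_ ?_ ?_ ?_ hb'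
    · rintro _ ⟨f, hf, rfl⟩
      exact hz' f hf
    · exact zero_smul _ _
    · intro x y _ _ hx hy
      rw [add_smul, hx, hy, add_zero]
    · intro a x _ hx
      rw [smul_eq_mul, mul_smul, hx, smul_zero]
  exact (Submodule.mem_bot B).mp (h2 h1)

end AR

end Groth.Agent.Lib.Helper83.LocCohGr
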