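import Groth.Agent.Lib.Helper83.LocCohGr2

set_option autoImplicit false

open MvPolynomial TensorProduct

namespace Groth.Agent.Lib.Helper83.LocCohGr

universe u
variable {A : Type u} [CommRing A] {r : ℕ} (f : Fin r → A) (I : Ideal A) (c : ℕ)
  (φ : Fin r → (↥(I ^ c) →ₗ[A] A))

lemma phi_swap (j : Fin r) (x y : A) (hx : x ∈ I ^ c) (hy : y ∈ I ^ c) :
    x * φ j ⟨y, hy⟩ = y * φ j ⟨x, hx⟩ := by
  have h1 : (x • (⟨y, hy⟩ : ↥(I ^ c))) = y • (⟨x, hx⟩ : ↥(I ^ c)) := by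
    apply Subtype.ext
    show x * y = y * x
    ring
  have h2 := congrArg (φ j) h1
  rwa [map_smul, map_smul, smul_eq_mul, smul_eq_mul] at h2

lemma psi_mem_fine (j : Fin r) (m : ℕ) (x : A) (hx : x ∈ I ^ (m + c)) :
    psi I c φ j x ∈ I ^ m := by
  rw [pow_add] at hx
  have key : x ∈ I ^ c ∧ psi I c φ j x ∈ I ^ m := by
    refine Submodule.mul_induction_on hx ?_ ?_
    · intro g hg h hh
      refine ⟨Ideal.mul_mem_left _ _ hh, ?_⟩
      rw [psi_mul I c φ j g h hh]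
      exact Ideal.mul_mem_right _ _ hg
    · rintro x y ⟨hx1, hx2⟩ ⟨hy1, hy2⟩
      refine ⟨Ideal.add_mem _ hx1 hy1, ?_⟩
      rw [psi_add I c φ j x y hx1 hy1]
      exact Ideal.add_mem _ hx2 hy2
  exact key.2

theorem uniq (Ψ : ℕ → A → MvPolynomial (Fin r) A)
    (hadd : ∀ n : ℕ, ∀ g ∈ I ^ (n * c), ∀ h ∈ I ^ (n * c), Ψ n (g + h) = Ψ n g + Ψ n h)
    (hmul : ∀ n m : ℕ, ∀ g ∈ I ^ (n * c), ∀ h ∈ I ^ (m * c), Ψ (n + m) (g * h) = Ψ n g * Ψ m h)
    (h0 : ∀ a : A, Ψ 0 a = MvPolynomial.C a)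
    (h1 : ∀ (g : A) (hg : g ∈ I ^ c),
      Ψ 1 g = ∑ j, MvPolynomial.C (φ j ⟨g, hg⟩) * MvPolynomial.X j) :
    ∀ n : ℕ, ∀ g ∈ I ^ (n * c), Ψ n g = Phi I c φ n g := by
  have hΦ1 : ∀ (g : A) (hg : g ∈ I ^ c),
      Phi I c φ 1 g = ∑ j, MvPolynomial.C (φ j ⟨g, hg⟩) * MvPolynomial.X j := by
    intro g hg
    rw [Phi_succ]
    apply Finset.sum_congr rfl
    intro j _
    rw [Phi_zero, psi_of_mem I c φ j g hg, mul_comm]
  intro n
  induction n with
  | zero => intro g _; rw [h0, Phi_zero]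
  | succ n ih =>
    intro g hg
    have hpow : I ^ ((n + 1) * c) = I ^ (n * c) * I ^ c := by
      rw [← pow_add]; congr 1; ring
    have key : g ∈ I ^ ((n + 1) * c) ∧ Ψ (n + 1) g = Phi I c φ (n + 1) g := by
      have hg2 := hg
      rw [hpow] at hg2
      refine Submodule.mul_induction_on hg2 ?_ ?_
      · intro a ha b hb
        have hb1 : b ∈ I ^ (1 * c) := by rwa [one_mul]
        refine ⟨?_, ?_⟩
        · rw [hpow]; exact Ideal.mul_mem_mul ha hb
        · rw [hmul n 1 a ha b hb1, ih a ha, h1 b hb, ← hΦ1 b hb,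
            ← Phi_mul I c φ n 1 a b ha hb1]
      · rintro x y ⟨hx1, hx2⟩ ⟨hy1, hy2⟩
        refine ⟨Ideal.add_mem _ hx1 hy1, ?_⟩
        rw [hadd (n + 1) x hx1 y hy1, hx2, hy2, ← Phi_add I c φ (n + 1) x y hx1 hy1]
    exact key.2

/-- restriction of the `φ j` to a higher power. -/
noncomputable def phiR {c' : ℕ} (hcc' : c ≤ c') (j : Fin r) : ↥(I ^ c') →ₗ[A] A :=
  (φ j).comp (Submodule.inclusion (Ideal.pow_le_pow_right hcc'))

lemma phiR_apply {c' : ℕ} (hcc' : c ≤ c') (j : Fin r) (g : A) (hg : g ∈ I ^ c') :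
    phiR I c φ hcc' j ⟨g, hg⟩ = φ j ⟨g, Ideal.pow_le_pow_right hcc' hg⟩ := rfl

lemma psi_phiR {c' : ℕ} (hcc' : c ≤ c') (j : Fin r) (g : A) (hg : g ∈ I ^ c') :
    psi I c' (phiR I c φ hcc') j g = psi I c φ j g := by
  rw [psi_of_mem _ _ _ j g hg, psi_of_mem I c φ j g (Ideal.pow_le_pow_right hcc' hg), phiR_apply]

section module

variable {B N : Type u} [CommRing B] [Algebra A B] [AddCommGroup N] [Module B N]

variable (B N) in
/-- generators of `I^k N`. -/
def vv (k : ℕ) : ↥(I ^ k) × N → N := fun p => algebraMap A B (p.1 : A) • p.2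

variable (N) in
/-- the step on generators. -/
noncomputable def hstep (c' : ℕ) (φ' : Fin r → (↥(I ^ c') →ₗ[A] A)) (j : Fin r) (n : ℕ) :
    ↥(I ^ ((n + 1) * c')) × N → ↥(I ^ (n * c')) × N :=
  fun p => (⟨psi I c' φ' j p.1, psi_mem I c' φ' j n p.1 p.1.2⟩, p.2)

theorem wd_step (K : ℕ)
    (hAR : ∀ m ≥ K, ∀ y : N, y ∈ ((I.map (algebraMap A B)) ^ m • ⊤ : Submodule B N) →
      (∀ f ∈ I ^ c, algebraMap A B f • y = 0) → y = 0)
    (c' : ℕ) (hc' : c' = c + K) (hcc' : c ≤ c') (j : Fin r) (n : ℕ)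
    (l : (↥(I ^ ((n + 1) * c')) × N) →₀ B)
    (hl : Finsupp.linearCombination B (vv I B N ((n + 1) * c')) l = 0) :
    Finsupp.linearCombination B (vv I B N (n * c') ∘ hstep I N c' (phiR I c φ hcc') j n) l = 0 := by
  have hexp : (n + 1) * c' = (n * c' + K) + c := by rw [hc']; ring
  have hmemc : ∀ p : ↥(I ^ ((n + 1) * c')) × N, (p.1 : A) ∈ I ^ c := fun p =>
    Ideal.pow_le_pow_right (by rw [hexp]; omega) p.1.2
  have hmemc' : ∀ p : ↥(I ^ ((n + 1) * c')) × N, (p.1 : A) ∈ I ^ c' := fun p =>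
    pow_succ_mul_le I c' n p.1.2
  have hval : ∀ p : ↥(I ^ ((n + 1) * c')) × N,
      (vv I B N (n * c') ∘ hstep I N c' (phiR I c φ hcc') j n) p =
        algebraMap A B (psi I c φ j p.1) • p.2 := by
    intro p
    show algebraMap A B (psi I c' (phiR I c φ hcc') j p.1) • p.2 = _
    rw [psi_phiR I c φ hcc' j _ (hmemc' p)]
  apply hAR (n * c' + K) (by omega)
  · rw [Finsupp.linearCombination_apply, Finsupp.sum]
    apply Submodule.sum_mem
    intro p _
    apply Submodule.smul_mem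
    rw [hval]
    apply Submodule.smul_mem_smul _ Submodule.mem_top
    rw [← Ideal.map_pow]
    apply Ideal.mem_map_of_mem
    apply psi_mem_fine I c φ j
    rw [← hexp]; exact p.1.2
  · intro g hg
    rw [Finsupp.linearCombination_apply, Finsupp.sum, Finset.smul_sum]
    have h2 : ∀ p ∈ l.support, algebraMap A B g • l p •
        (vv I B N (n * c') ∘ hstep I N c' (phiR I c φ hcc') j n) p =
        algebraMap A B (φ j ⟨g, hg⟩) • (l p • vv I B N ((n + 1) * c') p) := by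
      intro p _
      rw [hval, psi_of_mem I c φ j _ (hmemc p)]
      show algebraMap A B g • l p • algebraMap A B (φ j ⟨p.1, _⟩) • p.2 =
        algebraMap A B (φ j ⟨g, hg⟩) • l p • algebraMap A B (p.1 : A) • p.2
      have h3 := phi_swap I c φ j g p.1 hg (hmemc p)
      rw [smul_comm (algebraMap A B g) (l p), smul_smul (algebraMap A B g), ← map_mul, h3,
        map_mul, smul_comm (algebraMap A B (φ j ⟨g, hg⟩)) (l p)]
      congr 1
      rw [mul_comm (algebraMap A B (p.1 : A)), mul_smul]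
    rw [Finset.sum_congr rfl h2, ← Finset.smul_sum]
    have h4 : ∑ p ∈ l.support, l p • vv I B N ((n + 1) * c') p = 0 := by
      rw [← hl, Finsupp.linearCombination_apply, Finsupp.sum]
    rw [h4, smul_zero]

end module

end Groth.Agent.Lib.Helper83.LocCohGr
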