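import Groth.Agent.Lib.Helper83.LocCohGr3

set_option autoImplicit false

open MvPolynomial TensorProduct

namespace Groth.Agent.Lib.Helper83.LocCohGr

universe u
variable {A : Type u} [CommRing A] {r : ℕ} (f : Fin r → A) (I : Ideal A) (c : ℕ)
  (φ : Fin r → (↥(I ^ c) →ₗ[A] A))
variable {B N : Type u} [CommRing B] [Algebra A B] [AddCommGroup N] [Module B N]

variable (B N) in
/-- the values of `Ψ_n` on generators. -/
noncomputable def ww (c' : ℕ) (φ' : Fin r → (↥(I ^ c') →ₗ[A] A)) (n : ℕ) :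
    ↥(I ^ (n * c')) × N → MvPolynomial (Fin r) B ⊗[B] N :=
  fun p => MvPolynomial.map (algebraMap A B) (Phi I c' φ' n p.1) ⊗ₜ[B] p.2

variable (B N) in
/-- multiplication by `T_j`. -/
noncomputable def mulX (j : Fin r) :
    MvPolynomial (Fin r) B ⊗[B] N →ₗ[B] MvPolynomial (Fin r) B ⊗[B] N :=
  LinearMap.rTensor N (LinearMap.mulLeft B (X j))

lemma ww_succ (c' : ℕ) (φ' : Fin r → (↥(I ^ c') →ₗ[A] A)) (n : ℕ)
    (p : ↥(I ^ ((n + 1) * c')) × N) :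
    ww I B N c' φ' (n + 1) p = ∑ j, mulX B N j (ww I B N c' φ' n (hstep I N c' φ' j n p)) := by
  show MvPolynomial.map (algebraMap A B) (Phi I c' φ' (n + 1) p.1) ⊗ₜ[B] p.2 = _
  rw [Phi_succ, map_sum, TensorProduct.sum_tmul]
  apply Finset.sum_congr rfl
  intro j _
  rw [map_mul, MvPolynomial.map_X]
  show _ = LinearMap.rTensor N (LinearMap.mulLeft B (X j))
    (MvPolynomial.map (algebraMap A B) (Phi I c' φ' n (psi I c' φ' j p.1)) ⊗ₜ[B] p.2)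
  rw [LinearMap.rTensor_tmul, LinearMap.mulLeft_apply]

lemma lc_succ (c' : ℕ) (φ' : Fin r → (↥(I ^ c') →ₗ[A] A)) (n : ℕ)
    (l : (↥(I ^ ((n + 1) * c')) × N) →₀ B) :
    Finsupp.linearCombination B (ww I B N c' φ' (n + 1)) l =
      ∑ j, mulX B N j (Finsupp.linearCombination B (ww I B N c' φ' n ∘ hstep I N c' φ' j n) l) := by
  simp only [Finsupp.linearCombination_apply, Finsupp.sum, map_sum, map_smul]
  rw [Finset.sum_comm]
  apply Finset.sum_congr rfl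
  intro p _
  rw [ww_succ, Finset.smul_sum]
  rfl

lemma ww_zero (c' : ℕ) (φ' : Fin r → (↥(I ^ c') →ₗ[A] A)) (p : ↥(I ^ (0 * c')) × N) :
    ww I B N c' φ' 0 p =
      (TensorProduct.mk B (MvPolynomial (Fin r) B) N 1) (vv I B N (0 * c') p) := by
  show MvPolynomial.map (algebraMap A B) (Phi I c' φ' 0 p.1) ⊗ₜ[B] p.2 =
    (1 : MvPolynomial (Fin r) B) ⊗ₜ[B] (algebraMap A B (p.1 : A) • p.2)
  rw [Phi_zero, MvPolynomial.map_C, MvPolynomial.C_eq_smul_one, TensorProduct.smul_tmul]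

theorem wd (K : ℕ)
    (hAR : ∀ m ≥ K, ∀ y : N, y ∈ ((I.map (algebraMap A B)) ^ m • ⊤ : Submodule B N) →
      (∀ f ∈ I ^ c, algebraMap A B f • y = 0) → y = 0)
    (c' : ℕ) (hc' : c' = c + K) (hcc' : c ≤ c') :
    ∀ (n : ℕ) (l : (↥(I ^ (n * c')) × N) →₀ B),
      Finsupp.linearCombination B (vv I B N (n * c')) l = 0 →
      Finsupp.linearCombination B (ww I B N c' (phiR I c φ hcc') n) l = 0 := by
  intro n
  induction n with
  | zero =>
    intro l hl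
    have h1 : ww I B N c' (phiR I c φ hcc') 0 =
        (TensorProduct.mk B (MvPolynomial (Fin r) B) N 1) ∘ vv I B N (0 * c') := by
      funext p; exact ww_zero I c' _ p
    rw [h1, ← Finsupp.apply_linearCombination, hl, map_zero]
  | succ n ih =>
    intro l hl
    rw [lc_succ]
    apply Finset.sum_eq_zero
    intro j _
    have h1 := wd_step I c φ K hAR c' hc' hcc' j n l hl
    rw [← Finsupp.linearCombination_mapDomain] at h1
    have h2 := ih _ h1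
    rw [Finsupp.linearCombination_mapDomain] at h2
    rw [h2, map_zero]

theorem main2 [IsNoetherianRing B] [Module.Finite B N]
    (hφ : ∀ x : ↥(I ^ c), (x : A) = ∑ j, f j * φ j x) :
    ∃ c' : ℕ, ∃ hcc' : c ≤ c', ∀ Φ : ℕ → A → MvPolynomial (Fin r) A, ((∀ n : ℕ, ∀ g ∈ I ^ (n * c'), ∀ h ∈ I ^ (n * c'), Φ n (g + h) = Φ n g + Φ n h) ∧ (∀ (n : ℕ) (a : A), ∀ g ∈ I ^ (n * c'), Φ n (a * g) = a • Φ n g) ∧ (∀ n : ℕ, ∀ g ∈ I ^ (n * c'), (Φ n g).IsHomogeneous n) ∧ (∀ n m : ℕ, ∀ g ∈ I ^ (n * c'), ∀ h ∈ I ^ (m * c'), Φ (n + m) (g * h) = Φ n g * Φ m h) ∧ (∀ a : A, Φ 0 a = MvPolynomial.C a) ∧ (∀ (g : A) (hg : g ∈ I ^ c'), Φ 1 g = ∑ j, MvPolynomial.C (φ j ⟨g, Ideal.pow_le_pow_right hcc' hg⟩) * MvPolynomial.X j)) → ∀ n : ℕ, ∃ Ψ : ↥(Submodule.span B {y : N | ∃ g ∈ I ^ (n * c'), ∃ x : N, y = algebraMap A B g • x}) →ₗ[B] (MvPolynomial (Fin r) B ⊗[B] N), (∀ (g : A) (hg : g ∈ I ^ (n * c')) (x : N), Ψ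 ⟨algebraMap A B g • x, Submodule.subset_span ⟨g, hg, x, rfl⟩⟩ = MvPolynomial.map (algebraMap A B) (Φ n g) ⊗ₜ[B] x) ∧ (∀ y : ↥(Submodule.span B {y : N | ∃ g ∈ I ^ (n * c'), ∃ x : N, y = algebraMap A B g • x}), TensorProduct.lift ((LinearMap.lsmul B N).comp (MvPolynomial.aeval (fun j ↦ algebraMap A B (f j))).toLinearMap) (Ψ y) = (y : N)) ∧ (∀ Ψ' : ↥(Submodule.span B {y : N | ∃ g ∈ I ^ (n * c'), ∃ x : N, y = algebraMap A B g • x}) →ₗ[B] (MvPolynomial (Fin r) B ⊗[B] N), (∀ (g : A) (hg : g ∈ I ^ (n * c')) (x : N), Ψ' ⟨algebraMap A B g • x, Submodule.subset_span ⟨g, hg, x, rfl⟩⟩ = MvPolynomial.map (algebraMap A B) (Φ n g) ⊗ₜ[B] x) → Ψ' = Ψ) := by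
  obtain ⟨K, hAR⟩ := exists_AR (A := A) (B := B) (N := N) I c
  refine ⟨c + K, Nat.le_add_right c K, ?_⟩
  intro Φ hΦ n
  set c' := c + K with hc'
  have hcc' : c ≤ c' := Nat.le_add_right c K
  have hφ' : ∀ x : ↥(I ^ c'), (x : A) = ∑ j, f j * phiR I c φ hcc' j x := fun x =>
    hφ ⟨x, Ideal.pow_le_pow_right hcc' x.2⟩
  have hΦeq : ∀ n : ℕ, ∀ g ∈ I ^ (n * c'), Φ n g = Phi I c' (phiR I c φ hcc') n g :=
    uniq I c' (phiR I c φ hcc') Φ hΦ.1 hΦ.2.2.2.1 hΦ.2.2.2.2.1 (fun g hg => hΦ.2.2.2.2.2 g hg)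
  have hS : {y : N | ∃ g ∈ I ^ (n * c'), ∃ x : N, y = algebraMap A B g • x} =
      Set.range (vv I B N (n * c')) := by
    ext y
    constructor
    · rintro ⟨g, hg, x, rfl⟩
      exact ⟨(⟨g, hg⟩, x), rfl⟩
    · rintro ⟨⟨⟨g, hg⟩, x⟩, rfl⟩
      exact ⟨g, hg, x, rfl⟩
  obtain ⟨Ψ₀, hΨ₀⟩ := exists_lift_span (B := B) (vv I B N (n * c'))
    (ww I B N c' (phiR I c φ hcc') n) (wd I c φ K hAR c' hc' hcc' n)
  let e : ↥(Submodule.span B {y : N | ∃ g ∈ I ^ (n * c'), ∃ x : N, y = algebraMap A B g • x}) ≃ₗ[B]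
      ↥(Submodule.span B (Set.range (vv I B N (n * c')))) :=
    LinearEquiv.ofEq _ _ (congrArg (Submodule.span B) hS)
  let Ψ : ↥(Submodule.span B {y : N | ∃ g ∈ I ^ (n * c'), ∃ x : N, y = algebraMap A B g • x}) →ₗ[B]
      (MvPolynomial (Fin r) B ⊗[B] N) := Ψ₀ ∘ₗ e.toLinearMap
  have hgen : ∀ (g : A) (hg : g ∈ I ^ (n * c')) (x : N),
      Ψ ⟨algebraMap A B g • x, Submodule.subset_span ⟨g, hg, x, rfl⟩⟩ =
        MvPolynomial.map (algebraMap A B) (Φ n g) ⊗ₜ[B] x := by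
    intro g hg x
    have h1 : (e ⟨algebraMap A B g • x, Submodule.subset_span ⟨g, hg, x, rfl⟩⟩ :
        ↥(Submodule.span B (Set.range (vv I B N (n * c'))))) =
        ⟨vv I B N (n * c') (⟨g, hg⟩, x), Submodule.subset_span ⟨_, rfl⟩⟩ := by
      apply Subtype.ext
      rfl
    show Ψ₀ (e _) = _
    rw [h1, hΨ₀, hΦeq n g hg]
    rfl
  refine ⟨Ψ, hgen, ?_, ?_⟩
  · intro y
    have h2 : (TensorProduct.lift ((LinearMap.lsmul B N).comp
        (MvPolynomial.aeval (fun j ↦ algebraMap A B (f j))).toLinearMap)) ∘ₗ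
        Ψ = Submodule.subtype _ := by
      apply ext_span
      rintro s ⟨g, hg, x, rfl⟩
      show TensorProduct.lift _ (Ψ _) = algebraMap A B g • x
      rw [hgen g hg x, TensorProduct.lift.tmul]
      show (MvPolynomial.aeval (fun j ↦ algebraMap A B (f j)))
        (MvPolynomial.map (algebraMap A B) (Φ n g)) • x = _
      rw [MvPolynomial.aeval_map_algebraMap]
      have h3 := MvPolynomial.aeval_algebraMap_apply B f (Φ n g)
      have h4 : (algebraMap A B ∘ f) = fun j => algebraMap A B (f j) := rfl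
      rw [h4] at h3
      rw [h3, hΦeq n g hg, aeval_Phi f I c' (phiR I c φ hcc') hφ' n g hg]
    exact congrArg (fun L => L y) h2
  · intro Ψ' hΨ'
    apply ext_span
    rintro s ⟨g, hg, x, rfl⟩
    rw [hΨ' g hg x, hgen g hg x]

end Groth.Agent.Lib.Helper83.LocCohGr
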