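import Groth.Statements.S3208
import Mathlib

set_option autoImplicit false

namespace Groth.Agent.Lib.Helper83.Minkowski

variable {E : Type} [CommRing E] [NoZeroSMulDivisors ℤ E] [Module.Finite ℤ E]

/-- separation: an element divisible by all powers of `p ≥ 2` is zero. -/
lemma eq_zero_of_forall_pow_dvd (p : ℕ) (hp : 2 ≤ p) (x : E) (h : ∀ a : ℕ, ((p : E) ^ a) ∣ x) :
    x = 0 := by
  classical
  let b := Module.Free.chooseBasis ℤ E
  apply b.repr.injective
  rw [map_zero]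
  ext i
  rw [Finsupp.zero_apply]
  by_contra hne
  generalize hz : b.repr x i = z at hne
  obtain ⟨w, hw⟩ := h z.natAbs
  have h1 : (p : E) ^ z.natAbs * w = ((p : ℤ) ^ z.natAbs) • w := by
    rw [zsmul_eq_mul]; push_cast; ring
  have h2 : z = (p : ℤ) ^ z.natAbs * b.repr w i := by
    have : b.repr x i = (p : ℤ) ^ z.natAbs * b.repr w i := by
      rw [hw, h1, map_smul, Finsupp.smul_apply, smul_eq_mul]
    rw [hz] at this
    exact this
  have h3 : ((p : ℤ) ^ z.natAbs) ∣ z := ⟨_, h2⟩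
  have h4 : (p ^ z.natAbs : ℕ) ∣ z.natAbs := by
    have := Int.natAbs_dvd_natAbs.2 h3
    simpa [Int.natAbs_pow] using this
  have h5 : 0 < z.natAbs := Int.natAbs_pos.2 hne
  have h6 := Nat.le_of_dvd h5 h4
  have h7 : z.natAbs < p ^ z.natAbs := Nat.lt_pow_self hp
  omega

omit [Module.Finite ℤ E] in
/-- cancellation of a power of `p`. -/
lemma dvd_of_pow_mul_dvd (p : ℕ) (hp : 2 ≤ p) (c : ℕ) (w : E)
    (h : ((p : E) ^ (c + 1)) ∣ (p : E) ^ c * w) : (p : E) ∣ w := by
  obtain ⟨w', hw'⟩ := h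
  refine ⟨w', ?_⟩
  have h1 : ((p : ℤ) ^ c) • (w - (p : E) * w') = 0 := by
    rw [zsmul_eq_mul]; push_cast
    rw [mul_sub, hw']; ring
  have h2 : ((p : ℤ) ^ c) ≠ 0 := by positivity
  have := (smul_eq_zero.1 h1).resolve_left h2
  exact sub_eq_zero.1 this

omit [NoZeroSMulDivisors ℤ E] [Module.Finite ℤ E] in
/-- geometric sum congruence: `∑_{i<ℓ} u^i = ℓ + (u - 1) * G'`. -/
lemma exists_geom_sum_eq (u : E) (l : ℕ) :
    ∃ G' : E, (∑ i ∈ Finset.range l, u ^ i) = (l : E) + (u - 1) * G' := by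
  induction l with
  | zero => exact ⟨0, by simp⟩
  | succ l ih =>
    obtain ⟨G', hG'⟩ := ih
    obtain ⟨q, hq⟩ := sub_dvd_pow_sub_pow u 1 l
    rw [one_pow] at hq
    refine ⟨G' + q, ?_⟩
    rw [Finset.sum_range_succ, hG']
    have : u ^ l = 1 + (u - 1) * q := by rw [← hq]; ring
    rw [this]; push_cast; ring

omit [Module.Finite ℤ E] in
/-- step for a prime `l ≠ p`. -/
lemma step_ne (p l : ℕ) (hp : p.Prime) (hl : l.Prime) (hne : l ≠ p) (a : ℕ) (ha : 1 ≤ a)
    (u w : E) (hu : u - 1 = (p : E) ^ a * w) (hul : u ^ l = 1) : (p : E) ∣ w := by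
  obtain ⟨G', hG'⟩ := exists_geom_sum_eq u l
  have h1 := geom_sum_mul u l
  rw [hul, sub_self, hG', hu] at h1
  -- (l + p^a w G') * (p^a w) = 0
  have h2 : (p : E) ^ a * ((l : E) * w + (p : E) ^ a * w * w * G') = 0 := by
    rw [← h1]; ring
  have h3 : ((p : E) ^ (a + 1)) ∣ (p : E) ^ a * ((l : E) * w + (p : E) ^ a * w * w * G') := by
    rw [h2]; exact dvd_zero _
  have h4 := dvd_of_pow_mul_dvd p hp.two_le a _ h3
  have h5 : (p : E) ∣ (p : E) ^ a * w * w * G' := by
    obtain ⟨a', rfl⟩ : ∃ a', a = a' + 1 := ⟨a - 1, by omega⟩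
    exact ⟨(p : E) ^ a' * w * w * G', by ring⟩
  have h6 : (p : E) ∣ (l : E) * w := (dvd_add_left h5).1 h4
  -- coprimality
  have hcop : Nat.Coprime l p := (Nat.coprime_primes hl hp).2 hne
  have hcop' : IsCoprime (l : ℤ) (p : ℤ) := Nat.isCoprime_iff_coprime.2 hcop
  obtain ⟨x, y, hxy⟩ := hcop'
  have hxyE : (x : E) * (l : E) + (y : E) * (p : E) = 1 := by exact_mod_cast congrArg (Int.cast : ℤ → E) hxy
  have : w = (x : E) * ((l : E) * w) + (p : E) * ((y : E) * w) := by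
    calc w = 1 * w := (one_mul w).symm
      _ = ((x : E) * (l : E) + (y : E) * (p : E)) * w := by rw [hxyE]
      _ = _ := by ring
  rw [this]
  exact dvd_add (Dvd.dvd.mul_left h6 _) (dvd_mul_right _ _)

omit [Module.Finite ℤ E] in
/-- step for the prime `p` itself. -/
lemma step_eq (p : ℕ) (hp : p.Prime) (a : ℕ) (ha : 1 ≤ a) (hgood : 3 ≤ p ∨ 2 ≤ a)
    (u w : E) (hu : u - 1 = (p : E) ^ a * w) (hup : u ^ p = 1) : (p : E) ∣ w := by
  obtain ⟨q, rfl⟩ : ∃ q, p = q + 2 := ⟨p - 2, by have := hp.two_le; omega⟩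
  set x : E := ((q + 2 : ℕ) : E) ^ a * w with hx
  have hux : u = x + 1 := by linear_combination hu
  have hexp := add_pow x 1 (q + 2)
  rw [← hux, hup, Finset.sum_range_succ', Finset.sum_range_succ'] at hexp
  simp only [one_pow, mul_one, pow_zero, Nat.choose_zero_right, Nat.cast_one, zero_add, pow_one,
    Nat.choose_one_right] at hexp
  -- hexp : 1 = ∑ m<q+1, x^(m+2) * C(q+2,m+2) + x * (q+2) + 1
  have hT : ((q + 2 : ℕ) : E) ^ (a + 2) ∣
      ∑ m ∈ Finset.range (q + 1), x ^ (m + 1 + 1) * ((q + 2).choose (m + 1 + 1) : E) := by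
    apply Finset.dvd_sum
    intro m hm
    rw [Finset.mem_range] at hm
    rcases Nat.lt_succ_iff_lt_or_eq.1 hm with hlt | heq
    · have hdvd : (q + 2) ∣ (q + 2).choose (m + 1 + 1) :=
        hp.dvd_choose_self (by omega) (by omega)
      obtain ⟨c', hc'⟩ := hdvd
      have : x ^ (m + 1 + 1) * ((q + 2).choose (m + 1 + 1) : E) =
          ((q + 2 : ℕ) : E) ^ (a * (m + 2) + 1) * (w ^ (m + 2) * (c' : E)) := by
        rw [hc', hx]; push_cast; ring
      rw [this]
      exact Dvd.dvd.mul_right (pow_dvd_pow _ (by nlinarith)) _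
    · subst heq
      have : x ^ (m + 1 + 1) * ((m + 2).choose (m + 1 + 1) : E) =
          ((m + 2 : ℕ) : E) ^ (a * (m + 2)) * w ^ (m + 2) := by
        rw [Nat.choose_self, hx]; push_cast; ring
      rw [this]
      refine Dvd.dvd.mul_right (pow_dvd_pow _ ?_) _
      rcases hgood with h3 | h2
      · nlinarith
      · nlinarith
  have hsum : ((q + 2 : ℕ) : E) ^ (a + 1) * w =
      -∑ m ∈ Finset.range (q + 1), x ^ (m + 1 + 1) * ((q + 2).choose (m + 1 + 1) : E) := by
    have h1 : x * ((q + 2 : ℕ) : E) =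
        -∑ m ∈ Finset.range (q + 1), x ^ (m + 1 + 1) * ((q + 2).choose (m + 1 + 1) : E) := by
      linear_combination (-1 : E) * hexp
    rw [← h1, hx]; ring
  have hfin : ((q + 2 : ℕ) : E) ^ (a + 1 + 1) ∣ ((q + 2 : ℕ) : E) ^ (a + 1) * w := by
    rw [hsum]; exact (dvd_neg).2 hT
  exact dvd_of_pow_mul_dvd (q + 2) hp.two_le (a + 1) w hfin

/-- finite order and congruent to `1` modulo `p^a` (with `p ≥ 3` or `a ≥ 2`) implies `u = 1`. -/
theorem eq_one_of_pow_eq_one (p : ℕ) (hp : p.Prime) : ∀ (m : ℕ), 0 < m → ∀ (u : E), u ^ m = 1 →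
    ∀ a, 1 ≤ a → (3 ≤ p ∨ 2 ≤ a) → ((p : E) ^ a ∣ u - 1) → u = 1 := by
  intro m
  induction m using Nat.strong_induction_on with
  | _ m ih =>
  intro hm u hum a ha hgood hdiv
  by_cases hm1 : m = 1
  · subst hm1; simpa using hum
  · have hlp : m.minFac.Prime := Nat.minFac_prime hm1
    obtain ⟨m', hm'⟩ := Nat.minFac_dvd m
    have hm'pos : 0 < m' := by
      rcases Nat.eq_zero_or_pos m' with h | h
      · subst h; omega
      · exact h
    have hm'lt : m' < m := by
      have := hlp.two_le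
      nlinarith
    have hul : (u ^ m.minFac) ^ m' = 1 := by rw [← pow_mul, ← hm']; exact hum
    have hdiv' : (p : E) ^ a ∣ u ^ m.minFac - 1 :=
      dvd_trans hdiv (by simpa using sub_dvd_pow_sub_pow u 1 m.minFac)
    have hul1 : u ^ m.minFac = 1 := ih m' hm'lt hm'pos (u ^ m.minFac) hul a ha hgood hdiv'
    have hall : ∀ b, a ≤ b → (p : E) ^ b ∣ u - 1 := by
      intro b hb
      induction b, hb using Nat.le_induction with
      | base => exact hdiv
      | succ b hab ihb =>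
        obtain ⟨w, hw⟩ := ihb
        have hpw : (p : E) ∣ w := by
          by_cases hlp' : m.minFac = p
          · exact step_eq p hp b (by omega) (hgood.imp id (fun h => le_trans h hab)) u w hw
              (hlp' ▸ hul1)
          · exact step_ne p m.minFac hp hlp hlp' b (by omega) u w hw hul1
        obtain ⟨w', rfl⟩ := hpw
        exact ⟨w', by rw [hw]; ring⟩
    have : u - 1 = 0 := eq_zero_of_forall_pow_dvd p hp.two_le _ (fun b => by
      rcases le_total a b with h | h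
      · exact hall b h
      · exact dvd_trans (pow_dvd_pow _ h) hdiv)
    exact sub_eq_zero.1 this

theorem main (u : E) (m : ℕ) (hm : 0 < m)
    (hu : u ^ m = 1) (n : ℕ) (hn : 2 ≤ n) (hcong : ∃ v : E, 1 - u = (n : E) * v) :
    u ^ 2 = 1 ∧ (3 ≤ n → u = 1) := by
  obtain ⟨v, hv⟩ := hcong
  have hodd : ∀ c : ℕ, 2 ≤ c → ¬ 2 ∣ c → ∃ p, p.Prime ∧ p ∣ c ∧ 3 ≤ p := by
    intro c hc hcodd
    have hpr := Nat.minFac_prime (by omega : c ≠ 1)
    refine ⟨c.minFac, hpr, Nat.minFac_dvd c, ?_⟩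
    rcases hpr.two_le.lt_or_eq with h | h
    · omega
    · exfalso; apply hcodd; rw [h]; exact Nat.minFac_dvd c
  have hn3 : 3 ≤ n → u = 1 := by
    intro h3
    by_cases h4 : 4 ∣ n
    · obtain ⟨c, rfl⟩ := h4
      apply eq_one_of_pow_eq_one 2 Nat.prime_two m hm u hu 2 (by norm_num) (Or.inr le_rfl)
      refine ⟨-(c : E) * v, ?_⟩
      push_cast at hv ⊢
      linear_combination -hv
    · obtain ⟨p, hp, hpn, hp3⟩ : ∃ p, p.Prime ∧ p ∣ n ∧ 3 ≤ p := by
        by_cases h2 : 2 ∣ n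
        · obtain ⟨c, rfl⟩ := h2
          have hc2 : 2 ≤ c := by omega
          have hcodd : ¬ 2 ∣ c := by
            rintro ⟨d, hd⟩
            apply h4
            exact ⟨d, by rw [hd]; ring⟩
          obtain ⟨p, hp, hpc, hp3⟩ := hodd c hc2 hcodd
          exact ⟨p, hp, dvd_mul_of_dvd_right hpc 2, hp3⟩
        · exact hodd n hn h2
      obtain ⟨c, rfl⟩ := hpn
      apply eq_one_of_pow_eq_one p hp m hm u hu 1 le_rfl (Or.inl hp3)
      refine ⟨-(c : E) * v, ?_⟩
      push_cast at hv ⊢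
      linear_combination -hv
  refine ⟨?_, hn3⟩
  by_cases h3 : 3 ≤ n
  · rw [hn3 h3]; simp
  · have h2 : n = 2 := by omega
    subst h2
    apply eq_one_of_pow_eq_one 2 Nat.prime_two m hm (u ^ 2)
      (by rw [← pow_mul, mul_comm, pow_mul, hu, one_pow]) 2 (by norm_num) (Or.inr le_rfl)
    refine ⟨v ^ 2 - v, ?_⟩
    have hu' : u = 1 - 2 * v := by
      push_cast at hv
      linear_combination -hv
    rw [hu']; push_cast; ring

end Groth.Agent.Lib.Helper83.Minkowski
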