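import Mathlib

set_option autoImplicit false
universe u

namespace Groth.Agent.Lib.Helper83.MovChart

open MvPolynomial

section Dvd
variable {A : Type*} [CommRing A] (W : A)

theorem dvd_mul_sub_mul {a a' b b' : A} (h1 : W ∣ a - a') (h2 : W ∣ b - b') :
    W ∣ a * b - a' * b' := by
  have : a * b - a' * b' = (a - a') * b + a' * (b - b') := by ring
  rw [this]
  exact dvd_add (Dvd.dvd.mul_right h1 _) (Dvd.dvd.mul_left h2 _)

theorem dvd_pow_sub_pow {a a' : A} (h1 : W ∣ a - a') (k : ℕ) : W ∣ a ^ k - a' ^ k :=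
  h1.trans (sub_dvd_pow_sub_pow a a' k)

theorem dvd_prod_sub_prod {ι : Type*} (s : Finset ι) (f g : ι → A)
    (h : ∀ i ∈ s, W ∣ f i - g i) : W ∣ ∏ i ∈ s, f i - ∏ i ∈ s, g i := by
  classical
  induction s using Finset.induction_on with
  | empty => simp
  | insert a s ha ih =>
    rw [Finset.prod_insert ha, Finset.prod_insert ha]
    exact dvd_mul_sub_mul W (h a (Finset.mem_insert_self _ _))
      (ih fun i hi => h i (Finset.mem_insert_of_mem hi))

end Dvd

section
variable {k : Type u} [CommRing k] (d n : ℕ)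

theorem monomial_eq_prod (m : (Fin d ⊕ Fin n) →₀ ℕ) (a : k) :
    (monomial m a : MvPolynomial (Fin d ⊕ Fin n) k) =
      C a * (∏ i : Fin d, X (Sum.inl i) ^ m (Sum.inl i)) *
        ∏ j : Fin n, X (Sum.inr j) ^ m (Sum.inr j) := by
  rw [MvPolynomial.monomial_eq, Finsupp.prod_fintype _ _ (fun i => pow_zero _),
    Fintype.prod_sum_type, mul_assoc]

/-- one monomial: the homogenised translate is congruent to `τ^N ·` monomial modulo `W`. -/
theorem term_congr (W : Polynomial (MvPolynomial (Fin d ⊕ Fin n) k))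
    (b : Fin d → Polynomial (MvPolynomial (Fin d ⊕ Fin n) k)) (N : ℕ)
    (m : (Fin d ⊕ Fin n) →₀ ℕ) (a : k) (hm : ∑ i : Fin d, m (Sum.inl i) ≤ N) :
    W ∣ Polynomial.C (MvPolynomial.C a) *
            Polynomial.X ^ (N - ∑ i : Fin d, m (Sum.inl i)) *
            (∏ i : Fin d, (Polynomial.X * Polynomial.C (MvPolynomial.X (Sum.inl i)) +
                W * b i) ^ m (Sum.inl i)) *
            ∏ j : Fin n, Polynomial.C (MvPolynomial.X (Sum.inr j)) ^ m (Sum.inr j) -
        Polynomial.C (monomial m a : MvPolynomial (Fin d ⊕ Fin n) k) * Polynomial.X ^ N := by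
  have h1 : W ∣ (∏ i : Fin d, (Polynomial.X * Polynomial.C (MvPolynomial.X (Sum.inl i)) +
                W * b i) ^ m (Sum.inl i)) -
      ∏ i : Fin d, (Polynomial.X * Polynomial.C (MvPolynomial.X (Sum.inl i))) ^ m (Sum.inl i) := by
    refine dvd_prod_sub_prod W _ _ _ fun i _ => dvd_pow_sub_pow W ?_ _
    rw [add_sub_cancel_left]
    exact dvd_mul_right _ _
  have h2 : Polynomial.C (monomial m a : MvPolynomial (Fin d ⊕ Fin n) k) * Polynomial.X ^ N =
      Polynomial.C (MvPolynomial.C a) *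
            Polynomial.X ^ (N - ∑ i : Fin d, m (Sum.inl i)) *
            (∏ i : Fin d, (Polynomial.X * Polynomial.C (MvPolynomial.X (Sum.inl i)))
              ^ m (Sum.inl i)) *
            ∏ j : Fin n, Polynomial.C (MvPolynomial.X (Sum.inr j)) ^ m (Sum.inr j) := by
    rw [monomial_eq_prod]
    simp only [map_mul, map_prod, map_pow, mul_pow, Finset.prod_mul_distrib,
      Finset.prod_pow_eq_pow_sum]
    have hN : N = (N - ∑ i : Fin d, m (Sum.inl i)) + ∑ i : Fin d, m (Sum.inl i) := by omega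
    conv_lhs => rw [hN, pow_add]
    ring
  rw [h2]
  exact dvd_mul_sub_mul W (by
    have := Dvd.dvd.mul_left h1 (Polynomial.C (MvPolynomial.C a) *
            Polynomial.X ^ (N - ∑ i : Fin d, m (Sum.inl i)))
    rwa [mul_sub] at this) (by rw [sub_self]; exact dvd_zero _)

end

theorem main_aux
    {k : Type u} [CommRing k] (d n : ℕ) (U ζ : MvPolynomial (Fin d ⊕ Fin n) k) (v : Fin d → k)
    (N s : ℕ) (hs : N ≤ s)
    {Λ : Type u} [Fintype Λ] (f : Λ → MvPolynomial (Fin d ⊕ Fin n) k)
    (hdeg : ∀ l, ∀ m ∈ (f l).support, ∑ i : Fin d, m (Sum.inl i) ≤ N)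
    (c : ℕ → MvPolynomial (Fin d ⊕ Fin n) k)
    (hE : ζ ^ N + ∑ i ∈ Finset.Icc 1 N, c i * ζ ^ (N - i) * U ^ i ∈ Ideal.span (Set.range f))
    (φ : Λ → Polynomial (MvPolynomial (Fin d ⊕ Fin n) k))
    (hφ : ∀ l, φ l = ∑ m ∈ (f l).support,
          Polynomial.C (MvPolynomial.C (MvPolynomial.coeff m (f l))) *
            Polynomial.X ^ (N - ∑ i : Fin d, m (Sum.inl i)) *
            (∏ i : Fin d, (Polynomial.X * Polynomial.C (MvPolynomial.X (Sum.inl i)) +
                Polynomial.C (U ^ s * MvPolynomial.C (v i))) ^ m (Sum.inl i)) *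
            ∏ j : Fin n, Polynomial.C (MvPolynomial.X (Sum.inr j)) ^ m (Sum.inr j)) :
    ∃ c' : ℕ → Polynomial (MvPolynomial (Fin d ⊕ Fin n) k),
      (Polynomial.X * Polynomial.C ζ) ^ N +
        ∑ i ∈ Finset.Icc 1 N, c' i * (Polynomial.X * Polynomial.C ζ) ^ (N - i) *
            Polynomial.C U ^ i ∈ Ideal.span (Set.range φ) := by
  classical
  obtain ⟨W, hW⟩ : ∃ W : Polynomial (MvPolynomial (Fin d ⊕ Fin n) k), W = Polynomial.C (U ^ s) := ⟨_, rfl⟩
  have hφ1 : ∀ l, W ∣ φ l - Polynomial.C (f l) * Polynomial.X ^ N := by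
    intro l
    have h1 : Polynomial.C (f l) * Polynomial.X ^ N = ∑ m ∈ (f l).support,
        Polynomial.C (monomial m (coeff m (f l)) : MvPolynomial (Fin d ⊕ Fin n) k) *
          Polynomial.X ^ N := by
      conv_lhs => rw [MvPolynomial.as_sum (f l)]
      rw [map_sum, Finset.sum_mul]
    rw [h1, hφ l, ← Finset.sum_sub_distrib]
    refine Finset.dvd_sum fun m hm => ?_
    have h2 := term_congr d n W (fun i => Polynomial.C (MvPolynomial.C (v i))) N m
      (coeff m (f l)) (hdeg l m hm)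
    have h3 : ∀ i : Fin d, Polynomial.C (U ^ s * MvPolynomial.C (v i)) =
        W * Polynomial.C (MvPolynomial.C (v i)) := fun i => by rw [hW, Polynomial.C_mul]
    simp only [h3]
    exact h2
  have key : ∀ g ∈ Ideal.span (Set.range f), Polynomial.C g * Polynomial.X ^ N ∈
      Ideal.span (Set.range φ) ⊔ Ideal.span {W} := by
    intro g hg
    induction hg using Submodule.span_induction with
    | mem g hg =>
      obtain ⟨l, rfl⟩ := hg
      obtain ⟨h, hh⟩ := hφ1 l
      have : Polynomial.C (f l) * Polynomial.X ^ N = φ l + (-h) * W := by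
        linear_combination (-1 : Polynomial (MvPolynomial (Fin d ⊕ Fin n) k)) * hh
      rw [this]
      exact Submodule.add_mem_sup (Ideal.subset_span ⟨l, rfl⟩)
        (Ideal.mul_mem_left _ _ (Ideal.mem_span_singleton_self W))
    | zero => simp
    | add x y _ _ hx hy =>
      rw [map_add, add_mul]
      exact Ideal.add_mem _ hx hy
    | smul a x _ hx =>
      rw [smul_eq_mul, map_mul, mul_assoc]
      exact Ideal.mul_mem_left _ _ hx
  obtain ⟨A, hA, B, hB, hAB⟩ := Submodule.mem_sup.mp (key _ hE)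
  obtain ⟨H, rfl⟩ := Ideal.mem_span_singleton'.mp hB
  rcases Nat.eq_zero_or_pos N with hN0 | hNpos
  · -- N = 0
    subst hN0
    refine ⟨fun _ => 0, ?_⟩
    have hφ0 : ∀ l, φ l = Polynomial.C (f l) := by
      intro l
      have h1 : Polynomial.C (f l) = ∑ m ∈ (f l).support,
          Polynomial.C (monomial m (coeff m (f l)) : MvPolynomial (Fin d ⊕ Fin n) k) := by
        conv_lhs => rw [MvPolynomial.as_sum (f l)]
        rw [map_sum]
      rw [h1, hφ l]
      refine Finset.sum_congr rfl fun m hm => ?_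
      have hm0 : ∀ i : Fin d, m (Sum.inl i) = 0 := by
        intro i
        have := hdeg l m hm
        have h2 : m (Sum.inl i) ≤ ∑ i : Fin d, m (Sum.inl i) :=
          Finset.single_le_sum (f := fun i : Fin d => m (Sum.inl i)) (fun _ _ => Nat.zero_le _)
            (Finset.mem_univ i)
        omega
      rw [monomial_eq_prod]
      simp only [hm0, pow_zero, Finset.prod_const_one, mul_one, Finset.sum_const_zero,
        Nat.sub_zero, map_mul, map_prod, map_pow]
    simp only [Finset.Icc_eq_empty_of_lt Nat.zero_lt_one, Finset.sum_empty, pow_zero, add_zero]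
      at hE ⊢
    have h1 : (1 : Polynomial (MvPolynomial (Fin d ⊕ Fin n) k)) ∈
        Ideal.map Polynomial.C (Ideal.span (Set.range f)) := by
      have := Ideal.mem_map_of_mem (Polynomial.C : MvPolynomial (Fin d ⊕ Fin n) k →+* _) hE
      rwa [map_one] at this
    rw [Ideal.map_span] at h1
    have h2 : (Polynomial.C : MvPolynomial (Fin d ⊕ Fin n) k →+* _) '' Set.range f =
        Set.range φ := by
      ext x
      constructor
      · rintro ⟨_, ⟨l, rfl⟩, rfl⟩
        exact ⟨l, hφ0 l⟩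
      · rintro ⟨l, rfl⟩
        exact ⟨f l, ⟨l, rfl⟩, (hφ0 l).symm⟩
    rw [h2] at h1
    exact h1
  · refine ⟨fun i => Polynomial.C (c i) * Polynomial.X ^ i -
      (if i = N then Polynomial.C (U ^ (s - N)) * H else 0), ?_⟩
    have hNmem : N ∈ Finset.Icc 1 N := Finset.mem_Icc.mpr ⟨hNpos, le_refl _⟩
    have hsum2 : ∑ i ∈ Finset.Icc 1 N, (if i = N then Polynomial.C (U ^ (s - N)) * H else 0) *
        (Polynomial.X * Polynomial.C ζ) ^ (N - i) * Polynomial.C U ^ i = H * W := by
      rw [Finset.sum_eq_single N]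
      · rw [if_pos rfl, Nat.sub_self, pow_zero, mul_one, hW, ← Polynomial.C_pow,
          mul_comm _ H, mul_assoc, ← Polynomial.C_mul, ← pow_add, Nat.sub_add_cancel hs]
      · intro i _ hi
        rw [if_neg hi, zero_mul, zero_mul]
      · intro h
        exact absurd hNmem h
    have hsum1 : (Polynomial.X * Polynomial.C ζ) ^ N + ∑ i ∈ Finset.Icc 1 N,
        (Polynomial.C (c i) * Polynomial.X ^ i) *
          (Polynomial.X * Polynomial.C ζ) ^ (N - i) * Polynomial.C U ^ i =
        Polynomial.C (ζ ^ N + ∑ i ∈ Finset.Icc 1 N, c i * ζ ^ (N - i) * U ^ i) *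
          Polynomial.X ^ N := by
      rw [map_add, add_mul, map_sum, Finset.sum_mul, map_pow, mul_pow]
      have e1 : Polynomial.X ^ N * Polynomial.C ζ ^ N =
          Polynomial.C ζ ^ N * (Polynomial.X : Polynomial (MvPolynomial (Fin d ⊕ Fin n) k)) ^ N :=
        mul_comm _ _
      rw [e1]
      refine congrArg _ ?_
      · refine Finset.sum_congr rfl fun i hi => ?_
        have hiN : i ≤ N := (Finset.mem_Icc.mp hi).2
        have : Polynomial.X ^ N = (Polynomial.X : Polynomial (MvPolynomial (Fin d ⊕ Fin n) k)) ^ i *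
            Polynomial.X ^ (N - i) := by
          rw [← pow_add, Nat.add_sub_cancel' hiN]
        rw [this, map_mul, map_mul, map_pow, map_pow, mul_pow]
        ring
    have htotal : (Polynomial.X * Polynomial.C ζ) ^ N + ∑ i ∈ Finset.Icc 1 N,
        (Polynomial.C (c i) * Polynomial.X ^ i -
          (if i = N then Polynomial.C (U ^ (s - N)) * H else 0)) *
          (Polynomial.X * Polynomial.C ζ) ^ (N - i) * Polynomial.C U ^ i = A := by
      simp only [sub_mul, Finset.sum_sub_distrib]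
      rw [hsum2, ← add_sub_assoc, hsum1, ← hAB]
      ring
    rw [htotal]
    exact hA

theorem main
    {k : Type u} [CommRing k] (d n : ℕ) (u : MvPolynomial (Fin d) k) (v : Fin d → k)
    (J : Finset (Fin n)) (N s : ℕ) (hs : N ≤ s)
    {Λ : Type u} [Fintype Λ] (f : Λ → MvPolynomial (Fin d ⊕ Fin n) k)
    (hdeg : ∀ l, ∀ m ∈ (f l).support, ∑ i : Fin d, m (Sum.inl i) ≤ N)
    (c : ℕ → MvPolynomial (Fin d ⊕ Fin n) k)
    (hE : (∏ j ∈ J, MvPolynomial.X (Sum.inr j)) ^ N +
        ∑ i ∈ Finset.Icc 1 N, c i * (∏ j ∈ J, MvPolynomial.X (Sum.inr j)) ^ (N - i) *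
          MvPolynomial.rename Sum.inl u ^ i ∈ Ideal.span (Set.range f)) :
    ∃ c' : ℕ → Polynomial (MvPolynomial (Fin d ⊕ Fin n) k),
      (Polynomial.X * Polynomial.C (∏ j ∈ J, MvPolynomial.X (Sum.inr j))) ^ N +
        ∑ i ∈ Finset.Icc 1 N, c' i *
          (Polynomial.X * Polynomial.C (∏ j ∈ J, MvPolynomial.X (Sum.inr j))) ^ (N - i) *
            Polynomial.C (MvPolynomial.rename Sum.inl u) ^ i ∈
      Ideal.span (Set.range fun l : Λ =>
        ∑ m ∈ (f l).support,
          Polynomial.C (MvPolynomial.C (MvPolynomial.coeff m (f l))) *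
            Polynomial.X ^ (N - ∑ i : Fin d, m (Sum.inl i)) *
            (∏ i : Fin d, (Polynomial.X * Polynomial.C (MvPolynomial.X (Sum.inl i)) +
                Polynomial.C (MvPolynomial.rename Sum.inl u ^ s * MvPolynomial.C (v i))) ^ m (Sum.inl i)) *
            ∏ j : Fin n, Polynomial.C (MvPolynomial.X (Sum.inr j)) ^ m (Sum.inr j)) := by
  exact main_aux d n (MvPolynomial.rename Sum.inl u) (∏ j ∈ J, MvPolynomial.X (Sum.inr j)) v N s hs f
    hdeg c hE _ (fun _ => rfl)

end Groth.Agent.Lib.Helper83.MovChart
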