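import Mathlib
import Groth.Prelude.Def_W4c5qllcourbesmultMultCrv

/-!
# MultCrv: kernel of a minimal free cover of a quasi-free module (helper83)

`cover_unique`: uniqueness of minimal covers modulo a nilpotent element (generic).
`mu`, `ann_z_pow`: `A/(z^l) ≅ z^k A` for `k + l = n` in `A = R[X]/(X^n)`, `R` a domain.
`phi0`, `Theta`, `kerEquiv`: the standard cover of the model and its kernel; `reindex`: the
reindexing to `revType`; `main`: the statement.
-/

namespace Groth.Agent.Lib.Helper83.MultCrvKer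
open MultCrv Polynomial

universe u v w

section cover
variable {A : Type u} [CommRing A] (z : A) (n : ℕ) (hz : z ^ n = 0)
variable {P : Type v} {P₀ : Type w} {Q : Type*} [AddCommGroup P] [Module A P] [AddCommGroup P₀]
  [Module A P₀] [AddCommMonoid Q] [Module A Q] [Module.Projective A P] [Module.Projective A P₀]

include hz in
/-- Uniqueness of minimal covers modulo a nilpotent element. -/
theorem cover_unique (φ : P →ₗ[A] Q) (φ₀ : P₀ →ₗ[A] Q) (hφ : Function.Surjective φ)
    (hφ₀ : Function.Surjective φ₀) (hk₀ : ∀ x y : P₀, φ₀ x = φ₀ y → ∃ w : P₀, x = y + z • w)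
    (hk : ∀ f : P, (∃ q : Q, φ f = z • q) → ∃ g : P, f = z • g) :
    ∃ ψ : P ≃ₗ[A] P₀, φ₀ ∘ₗ (ψ : P →ₗ[A] P₀) = φ := by
  obtain ⟨ψ, hψ⟩ := Module.projective_lifting_property φ₀ φ hφ₀
  have hψ' : ∀ f, φ₀ (ψ f) = φ f := fun f => by rw [← hψ]; rfl
  have hsurj : Function.Surjective ψ := by
    intro p₀
    have key : ∀ k : ℕ, ∃ f : P, ∃ y : P₀, p₀ = ψ f + z ^ k • y := by
      intro k
      induction k with
      | zero => exact ⟨0, p₀, by rw [map_zero, zero_add, pow_zero, one_smul]⟩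
      | succ k ih =>
        obtain ⟨f, y, h⟩ := ih
        obtain ⟨f', hf'⟩ := hφ (φ₀ y)
        obtain ⟨y', hy'⟩ := hk₀ y (ψ f') (by rw [hψ', hf'])
        refine ⟨f + z ^ k • f', y', ?_⟩
        rw [h, map_add, map_smul, pow_succ, mul_smul, hy', smul_add]
        abel
    obtain ⟨f, y, h⟩ := key n
    exact ⟨f, by rw [h, hz, zero_smul, add_zero]⟩
  obtain ⟨s, hs⟩ := Module.projective_lifting_property ψ LinearMap.id hsurj
  have hs' : ∀ x, ψ (s x) = x := fun x => by
    have := congrArg (fun l => l x) hs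
    exact this
  have hinj : Function.Injective ψ := by
    rw [← LinearMap.ker_eq_bot, LinearMap.ker_eq_bot']
    intro f hf
    have key : ∀ k : ℕ, ∃ g : P, ψ g = 0 ∧ f = z ^ k • g := by
      intro k
      induction k with
      | zero => exact ⟨f, hf, by rw [pow_zero, one_smul]⟩
      | succ k ih =>
        obtain ⟨g, hg, h⟩ := ih
        obtain ⟨g', hg'⟩ := hk g ⟨0, by rw [← hψ', hg, map_zero, smul_zero]⟩
        refine ⟨g' - s (ψ g'), by rw [map_sub, hs', sub_self], ?_⟩
        rw [h, pow_succ, mul_smul, smul_sub, ← map_smul, ← map_smul, ← hg', hg, map_zero, sub_zero]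
    obtain ⟨g, _, h⟩ := key n
    rw [h, hz, zero_smul]
  exact ⟨LinearEquiv.ofBijective ψ ⟨hinj, hsurj⟩, by ext x; exact hψ' x⟩

end cover

variable (R : Type u) [CommRing R] (n : ℕ)

theorem z_pow_n : z R n ^ n = 0 := by
  rw [← map_pow]; exact Ideal.Quotient.eq_zero_iff_mem.2 (Ideal.mem_span_singleton_self _)

/-- annihilator of `z^k` in `R[X]/(X^n)` is `(z^l)` when `k + l = n`. -/
theorem ann_z_pow [IsDomain R] (k l : ℕ) (h : k + l = n) (a : Rn R n) (ha : z R n ^ k * a = 0) :
    a ∈ Ideal.span {z R n ^ l} := by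
  obtain ⟨p, rfl⟩ := Ideal.Quotient.mk_surjective a
  rw [← map_pow, ← map_mul, Ideal.Quotient.eq_zero_iff_mem, Ideal.mem_span_singleton] at ha
  obtain ⟨q, hq⟩ := ha
  rw [← h, pow_add, mul_assoc] at hq
  have := mul_left_cancel₀ (pow_ne_zero k (X_ne_zero : (X : R[X]) ≠ 0)) hq
  rw [this, map_mul, map_pow]
  exact Ideal.mul_mem_right _ _ (Ideal.mem_span_singleton_self _)

/-- multiplication by `z^k` from `A/(z^l)` to `A`, for `n ≤ k + l`. -/
noncomputable def mu (k l : ℕ) (h : n ≤ k + l) : Oi R n l →ₗ[Rn R n] Rn R n :=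
  Submodule.liftQ (Ideal.span {z R n ^ l}) (LinearMap.mulLeft (Rn R n) (z R n ^ k)) (by
    intro a ha
    obtain ⟨b, rfl⟩ := Ideal.mem_span_singleton'.1 ha
    rw [LinearMap.mem_ker, LinearMap.mulLeft_apply]
    obtain ⟨d, hd⟩ := Nat.exists_eq_add_of_le h
    rw [mul_comm b, ← mul_assoc, ← pow_add, hd, pow_add, z_pow_n, zero_mul, zero_mul])

theorem mu_mk (k l : ℕ) (h : n ≤ k + l) (a : Rn R n) :
    mu R n k l h (Ideal.Quotient.mk _ a) = z R n ^ k * a := rfl

theorem mu_injective [IsDomain R] (k l : ℕ) (h : k + l = n) :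
    Function.Injective (mu R n k l h.ge) := by
  rw [← LinearMap.ker_eq_bot, LinearMap.ker_eq_bot']
  intro q hq
  obtain ⟨a, rfl⟩ := Ideal.Quotient.mk_surjective q
  rw [mu_mk] at hq
  exact Ideal.Quotient.eq_zero_iff_mem.2 (ann_z_pow R n k l h a hq)

theorem mem_range_mu (k l : ℕ) (h : n ≤ k + l) (b : Rn R n) :
    b ∈ LinearMap.range (mu R n k l h) ↔ b ∈ Ideal.span {z R n ^ k} := by
  constructor
  · rintro ⟨q, rfl⟩
    obtain ⟨a, rfl⟩ := Ideal.Quotient.mk_surjective q
    rw [mu_mk]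
    exact Ideal.mul_mem_right _ _ (Ideal.mem_span_singleton_self _)
  · intro hb
    obtain ⟨a, rfl⟩ := Ideal.mem_span_singleton'.1 hb
    exact ⟨Ideal.Quotient.mk _ a, by rw [mu_mk, mul_comm]⟩

variable (m : Fin n → ℕ)

/-- free cover of the model -/
abbrev P0 : Type u := (i : Fin n) → (Fin (m i) → Rn R n)
/-- the model as a product -/
abbrev Qpi : Type u := (i : Fin n) → (Fin (m i) → Oi R n (i.1 + 1))
/-- the kernel model -/
abbrev Qk : Type u := (i : Fin n) → (Fin (m i) → Oi R n (n - 1 - i.1))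

noncomputable def phi0 : P0 R n m →ₗ[Rn R n] Qpi R n m :=
  LinearMap.pi fun i => LinearMap.pi fun j =>
    (Submodule.mkQ (Ideal.span {z R n ^ (i.1 + 1)})) ∘ₗ LinearMap.proj j ∘ₗ LinearMap.proj i

theorem phi0_apply (x : P0 R n m) (i : Fin n) (j : Fin (m i)) :
    phi0 R n m x i j = Ideal.Quotient.mk _ (x i j) := rfl

noncomputable def Theta : Qk R n m →ₗ[Rn R n] P0 R n m :=
  LinearMap.pi fun i => LinearMap.pi fun j =>
    (mu R n (i.1 + 1) (n - 1 - i.1) (by omega)) ∘ₗ LinearMap.proj j ∘ₗ LinearMap.proj i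

theorem Theta_apply (q : Qk R n m) (i : Fin n) (j : Fin (m i)) :
    Theta R n m q i j = mu R n (i.1 + 1) (n - 1 - i.1) (by omega) (q i j) := rfl

theorem phi0_surjective : Function.Surjective (phi0 R n m) := by
  intro q
  choose x hx using fun i j => Ideal.Quotient.mk_surjective (q i j)
  exact ⟨x, by ext i j; rw [phi0_apply, hx]⟩

theorem mem_ker_phi0 (x : P0 R n m) :
    x ∈ LinearMap.ker (phi0 R n m) ↔ ∀ i j, x i j ∈ Ideal.span {z R n ^ (i.1 + 1)} := by
  rw [LinearMap.mem_ker]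
  constructor
  · intro h i j
    have := congrFun (congrFun h i) j
    rw [phi0_apply] at this
    exact Ideal.Quotient.eq_zero_iff_mem.1 this
  · intro h
    ext i j
    rw [phi0_apply]
    exact Ideal.Quotient.eq_zero_iff_mem.2 (h i j)

theorem Theta_injective [IsDomain R] : Function.Injective (Theta R n m) := by
  intro q q' h
  ext i j
  have := congrFun (congrFun h i) j
  rw [Theta_apply, Theta_apply] at this
  exact mu_injective R n (i.1 + 1) (n - 1 - i.1) (by omega) this

theorem exists_mu_eq (i : Fin n) (b : Rn R n) (hb : b ∈ Ideal.span {z R n ^ (i.1 + 1)}) :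
    ∃ q : Oi R n (n - 1 - i.1), mu R n (i.1 + 1) (n - 1 - i.1) (by omega) q = b :=
  (mem_range_mu R n (i.1 + 1) (n - 1 - i.1) (by omega) b).2 hb

theorem mu_mem (i : Fin n) (q : Oi R n (n - 1 - i.1)) :
    mu R n (i.1 + 1) (n - 1 - i.1) (by omega) q ∈ Ideal.span {z R n ^ (i.1 + 1)} :=
  (mem_range_mu R n (i.1 + 1) (n - 1 - i.1) (by omega) _).1 ⟨q, rfl⟩

theorem range_Theta : LinearMap.range (Theta R n m) = LinearMap.ker (phi0 R n m) := by
  ext x
  rw [mem_ker_phi0]
  constructor
  · rintro ⟨q, rfl⟩ i j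
    rw [Theta_apply]
    exact mu_mem R n i _
  · intro h
    choose q hq using fun i j => exists_mu_eq R n i (x i j) (h i j)
    refine ⟨q, ?_⟩
    funext i j
    rw [Theta_apply, hq]

noncomputable def kerEquiv [IsDomain R] : ↥(LinearMap.ker (phi0 R n m)) ≃ₗ[Rn R n] Qk R n m :=
  (LinearEquiv.ofEq _ _ (range_Theta R n m).symm).trans
    (LinearEquiv.ofInjective (Theta R n m) (Theta_injective R n m)).symm

theorem ker_phi0_le (x y : P0 R n m) (hx : phi0 R n m x = phi0 R n m y) :
    ∃ w : P0 R n m, x = y + z R n • w := by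
  have h : ∀ i j, x i j - y i j ∈ Ideal.span {z R n ^ (i.1 + 1)} := by
    intro i j
    have := congrFun (congrFun hx i) j
    rw [phi0_apply, phi0_apply] at this
    exact Ideal.Quotient.eq.1 this
  choose a ha using fun i j => Ideal.mem_span_singleton'.1 (h i j)
  refine ⟨fun i j => z R n ^ i.1 * a i j, ?_⟩
  ext i j
  rw [Pi.add_apply, Pi.add_apply, Pi.smul_apply, Pi.smul_apply, smul_eq_mul]
  have := ha i j
  rw [pow_succ] at this
  linear_combination -this

def rho : Fin n → Fin n := fun i => if h : i.1 + 1 < n then ⟨n - 2 - i.1, by omega⟩ else i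

theorem rho_pos (i : Fin n) (h : i.1 + 1 < n) : rho n i = ⟨n - 2 - i.1, by omega⟩ := by
  unfold rho; rw [dif_pos h]

theorem rho_neg (i : Fin n) (h : ¬ i.1 + 1 < n) : rho n i = i := by
  unfold rho; rw [dif_neg h]

theorem rho_invol : Function.Involutive (rho n) := by
  intro i
  by_cases h : i.1 + 1 < n
  · rw [rho_pos n i h, rho_pos n _ (by simp only; omega)]
    apply Fin.ext
    simp only
    omega
  · rw [rho_neg n i h, rho_neg n i h]

noncomputable def castEquiv {k k' o o' : ℕ} (h1 : k = k') (h2 : o = o') :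
    (Fin k → Oi R n o) ≃ₗ[Rn R n] (Fin k' → Oi R n o') := by
  subst h1; subst h2; exact LinearEquiv.refl _ _

theorem subsingleton_Oi_zero : Subsingleton (Oi R n 0) := by
  rw [Ideal.Quotient.subsingleton_iff, pow_zero, Ideal.span_singleton_one]

noncomputable def compEquiv (m : Fin n → ℕ) (i' : Fin n) :
    (Fin (m (rho n i')) → Oi R n (n - 1 - (rho n i').1)) ≃ₗ[Rn R n]
      (Fin (revType n m i') → Oi R n (i'.1 + 1)) := by
  by_cases h : i'.1 + 1 < n
  · refine castEquiv R n ?_ ?_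
    · unfold revType; rw [dif_pos h, rho_pos n i' h]
    · rw [rho_pos n i' h]; simp only; omega
  · have h0 : n - 1 - (rho n i').1 = 0 := by rw [rho_neg n i' h]; omega
    have h1 : revType n m i' = 0 := by unfold revType; rw [dif_neg h]
    rw [h0, h1]
    haveI := subsingleton_Oi_zero R n
    exact LinearEquiv.ofSubsingleton _ _

noncomputable def reindex (m : Fin n → ℕ) : Qk R n m ≃ₗ[Rn R n] Qpi R n (revType n m) :=
  (LinearEquiv.piCongrLeft' (Rn R n) (fun i : Fin n => (Fin (m i) → Oi R n (n - 1 - i.1)))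
    (rho_invol n).toPerm).trans
    (LinearEquiv.piCongrRight fun i' => compEquiv R n m i')


theorem main [IsDomain R] (m : Fin n → ℕ) (M : Type u) [AddCommGroup M] [Module (Rn R n) M]
    (hM : IsQuasiFreeOfType R n M m) (r : ℕ) (φ : (Fin r → Rn R n) →ₗ[Rn R n] M)
    (hφ : Function.Surjective φ)
    (hφz : ∀ f : Fin r → Rn R n, φ f ∈ filt R n M 1 → f ∈ filt R n (Fin r → Rn R n) 1) :
    IsQuasiFreeOfType R n ↥(LinearMap.ker φ) (revType n m) := by
  obtain ⟨e⟩ := hM
  let e' : M ≃ₗ[Rn R n] Qpi R n m := e.trans (QFModel.equivPi R n m)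
  let φ' : (Fin r → Rn R n) →ₗ[Rn R n] Qpi R n m := e'.toLinearMap ∘ₗ φ
  have hφ' : Function.Surjective φ' := e'.surjective.comp hφ
  have hk : ∀ f, (∃ q, φ' f = z R n • q) → ∃ g, f = z R n • g := by
    rintro f ⟨q, hq⟩
    have h1 : φ f ∈ filt R n M 1 := by
      unfold filt; rw [LinearMap.mem_range]
      refine ⟨e'.symm q, ?_⟩
      simp only [LinearMap.smul_apply, LinearMap.id_coe, id_eq, pow_one]
      have h3 : e'.symm (z R n • q) = φ f := by rw [← hq]; exact e'.symm_apply_apply (φ f)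
      rw [← h3]; exact (e'.symm.map_smul _ _).symm
    have h2 := hφz f h1
    unfold filt at h2; rw [LinearMap.mem_range] at h2
    obtain ⟨g, hg⟩ := h2
    exact ⟨g, by rw [← hg]; simp⟩
  obtain ⟨ψ, hψ⟩ := cover_unique (A := Rn R n) (P := Fin r → Rn R n) (P₀ := P0 R n m)
    (Q := Qpi R n m)
    (z R n) n (z_pow_n R n) φ' (phi0 R n m) hφ'
    (phi0_surjective R n m) (ker_phi0_le R n m) hk
  have hker : LinearMap.ker φ =
      (LinearMap.ker (phi0 R n m)).comap (ψ : (Fin r → Rn R n) →ₗ[Rn R n] P0 R n m) := by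
    rw [← LinearMap.ker_comp, hψ]; exact (LinearEquiv.ker_comp e' φ).symm
  exact ⟨(LinearEquiv.ofEq _ _ hker).trans ((ψ.ofSubmodule' _).trans ((kerEquiv R n m).trans
    ((reindex R n m).trans (QFModel.equivPi R n (revType n m)).symm)))⟩

end Groth.Agent.Lib.Helper83.MultCrvKer
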