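import Mathlib
import Groth.Prelude.Def_W4c5qllcourbesmultMultCrv

/-!
# MultCrv: `G1` pieces free iff `Gam2` pieces free (helper83)

Direct element chase on saturation of `z^i M` resp. `z M^(i+2) + M^(i)`; no structure theorem.
`free_G1_iff`, `free_Gam2_iff` translate freeness (over a PID `R`, `M` finite over `Rn R n`) into the
explicit conditions `CondA`, `CondB`; `B_of_A`, `A_of_B` are the chases; `main` is the equivalence.
-/

namespace Groth.Agent.Lib.Helper83.MultCrvSat
open MultCrv Polynomial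

universe u
variable {R : Type u} [CommRing R] (n : ℕ)

theorem z_pow_n : z R n ^ n = 0 := by
  rw [← map_pow]; exact Ideal.Quotient.eq_zero_iff_mem.2 (Ideal.mem_span_singleton_self _)

theorem z_pow_of_le {j : ℕ} (h : n ≤ j) : z R n ^ j = 0 := by
  obtain ⟨k, rfl⟩ := Nat.exists_eq_add_of_le h
  rw [pow_add, z_pow_n, zero_mul]

section plumbing

instance instFiniteRn : Module.Finite R (Rn R n) := (monic_X_pow n).finite_adjoinRoot

theorem tf_quot_iff [IsDomain R] {N : Type*} [AddCommGroup N] [Module (Rn R n) N] [Module R N]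
    [IsScalarTower R (Rn R n) N] (P : Submodule (Rn R n) N) :
    Module.IsTorsionFree R (N ⧸ P) ↔ ∀ r : R, r ≠ 0 → ∀ x : N, r • x ∈ P → x ∈ P := by
  rw [Module.isTorsionFree_iff_smul_eq_zero]
  constructor
  · intro h r hr x hx
    have := h r (Submodule.Quotient.mk x)
      (by rw [← Submodule.Quotient.mk_smul]; exact (Submodule.Quotient.mk_eq_zero _).2 hx)
    rcases this with h | h
    · exact absurd h hr
    · exact (Submodule.Quotient.mk_eq_zero _).1 h
  · intro h r q hq
    obtain ⟨x, rfl⟩ := Submodule.Quotient.mk_surjective _ q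
    by_cases hr : r = 0
    · left; exact hr
    · right
      rw [← Submodule.Quotient.mk_smul, Submodule.Quotient.mk_eq_zero] at hq
      exact (Submodule.Quotient.mk_eq_zero _).2 (h r hr x hq)

variable {M : Type u} [AddCommGroup M] [Module (Rn R n) M]

theorem mem_filt (i : ℕ) (x : M) : x ∈ filt R n M i ↔ ∃ y : M, z R n ^ i • y = x := by
  unfold filt
  simp only [LinearMap.mem_range, LinearMap.smul_apply, LinearMap.id_coe, id_eq]

theorem mem_filt2 (i : ℕ) (x : M) : x ∈ filt2 R n M i ↔ z R n ^ i • x = 0 := by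
  unfold filt2
  exact Submodule.mem_torsionBy_iff _ _

theorem mem_range_lamG2 (i : ℕ) (x : ↥(filt2 R n M (i + 1))) :
    (Submodule.Quotient.mk x : G2 R n M (i + 1)) ∈ LinearMap.range (lamG2 R n M i) ↔
      ∃ u : M, u ∈ filt2 R n M (i + 2) ∧ z R n • u - (x : M) ∈ filt2 R n M i := by
  constructor
  · rintro ⟨q, hq⟩
    obtain ⟨u, rfl⟩ := Submodule.Quotient.mk_surjective _ q
    refine ⟨u.1, u.2, ?_⟩
    unfold lamG2 at hq
    rw [Submodule.mapQ_apply, Submodule.Quotient.eq, Submodule.mem_comap] at hq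
    exact hq
  · rintro ⟨u, hu, h⟩
    refine ⟨Submodule.Quotient.mk ⟨u, hu⟩, ?_⟩
    unfold lamG2
    rw [Submodule.mapQ_apply, Submodule.Quotient.eq, Submodule.mem_comap]
    exact h


end plumbing

variable (R) (M : Type u) [AddCommGroup M] [Module (Rn R n) M] [Module R M]

/-- Explicit form of torsion-freeness of `G1 i`. -/
def CondA (i : ℕ) : Prop :=
  ∀ r : R, r ≠ 0 → ∀ y x' : M, r • (z R n ^ i • y) = z R n ^ (i + 1) • x' →
    ∃ y' : M, z R n ^ i • y = z R n ^ (i + 1) • y'

/-- Explicit form of torsion-freeness of `Gam2 i`. -/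
def CondB (i : ℕ) : Prop :=
  ∀ r : R, r ≠ 0 → ∀ x u : M, z R n ^ (i + 1) • x = 0 → z R n ^ (i + 2) • u = 0 →
    z R n ^ i • (z R n • u - r • x) = 0 →
    ∃ u' : M, z R n ^ (i + 2) • u' = 0 ∧ z R n ^ i • (z R n • u' - x) = 0

variable {R M} [IsScalarTower R (Rn R n) M]

omit [IsScalarTower R (Rn R n) M] in
theorem tf_of_A (hA : ∀ i, i < n → CondA R n M i) (r : R) (hr : r ≠ 0) (m : M)
    (hm : r • m = 0) : m = 0 := by
  have key : ∀ i, i ≤ n → ∃ y : M, z R n ^ i • y = m := by
    intro i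
    induction i with
    | zero => intro _; exact ⟨m, by rw [pow_zero, one_smul]⟩
    | succ i ih =>
      intro hi
      obtain ⟨y, hy⟩ := ih (by omega)
      obtain ⟨y', hy'⟩ := hA i (by omega) r hr y 0 (by rw [hy, hm, smul_zero])
      exact ⟨y', by rw [← hy', hy]⟩
  obtain ⟨y, hy⟩ := key n le_rfl
  rw [← hy, z_pow_n]
  exact zero_smul (Rn R n) y

omit [IsScalarTower R (Rn R n) M] in
theorem sat_of_A (hA : ∀ i, i < n → CondA R n M i) (j : ℕ) :
    ∀ r : R, r ≠ 0 → ∀ m x' : M, r • m = z R n ^ j • x' → ∃ y : M, m = z R n ^ j • y := by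
  induction j with
  | zero => intro r hr m x' _; exact ⟨m, by rw [pow_zero, one_smul]⟩
  | succ j ih =>
    intro r hr m x' h
    obtain ⟨y, hy⟩ := ih r hr m (z R n • x') (by rw [h, pow_succ, mul_smul])
    by_cases hj : j < n
    · obtain ⟨y', hy'⟩ := hA j hj r hr y x' (by rw [← hy, h])
      exact ⟨y', by rw [hy, hy']⟩
    · have h0 : z R n ^ (j + 1) = 0 := z_pow_of_le n (by omega)
      have h' : r • m = 0 := by
        rw [h, h0]
        exact zero_smul (Rn R n) x'
      exact ⟨0, by rw [tf_of_A n hA r hr m h', smul_zero]⟩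

theorem B_of_A (hA : ∀ i, i < n → CondA R n M i) (i : ℕ) : CondB R n M i := by
  intro r hr x u hx hu h
  have h1 : r • (z R n ^ i • x) = z R n ^ (i + 1) • u := by
    rw [smul_sub, sub_eq_zero, smul_smul, ← pow_succ, smul_comm] at h
    exact h.symm
  obtain ⟨y, hy⟩ := sat_of_A n hA (i + 1) r hr _ _ h1
  refine ⟨y, ?_, ?_⟩
  · rw [show i + 2 = (i + 1) + 1 from rfl, pow_succ', mul_smul, ← hy, smul_smul, ← pow_succ', hx]
  · rw [smul_sub, smul_smul, ← pow_succ, hy, sub_self]

/-- `M^{(i+1)}/M^{(i)}` is torsion-free (downward induction from `n`). -/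
theorem P_of_B (hB : ∀ i, i < n → CondB R n M i) :
    ∀ d i : ℕ, n ≤ i + d → ∀ r : R, r ≠ 0 → ∀ m : M, z R n ^ (i + 1) • m = 0 →
      z R n ^ i • (r • m) = 0 → z R n ^ i • m = 0 := by
  intro d
  induction d with
  | zero =>
    intro i hi r hr m _ _
    rw [z_pow_of_le n (by omega)]; exact zero_smul (Rn R n) m
  | succ d ih =>
    intro i hi r hr m hm hrm
    by_cases hin : n ≤ i
    · rw [z_pow_of_le n hin]; exact zero_smul (Rn R n) m
    · obtain ⟨u, hu, h⟩ := hB i (by omega) r hr m 0 hm (smul_zero _)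
        (by linear_combination (norm := module) -hrm)
      have h2 : z R n ^ (i + 1) • (r • u) = 0 := by
        linear_combination (norm := module) r • h + hrm
      have h3 : z R n ^ (i + 1) • u = 0 := ih (i + 1) (by omega) r hr u hu h2
      linear_combination (norm := module) h3 - h

theorem tf_of_B (hB : ∀ i, i < n → CondB R n M i) (r : R) (hr : r ≠ 0) (m : M)
    (hm : r • m = 0) : m = 0 := by
  have key : ∀ d, d ≤ n → z R n ^ (n - d) • m = 0 := by
    intro d
    induction d with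
    | zero => intro _; rw [Nat.sub_zero, z_pow_n]; exact zero_smul (Rn R n) m
    | succ d ih =>
      intro hd
      have h1 := ih (by omega)
      have e : n - d = (n - (d + 1)) + 1 := by omega
      rw [e] at h1
      exact P_of_B n hB n (n - (d + 1)) (by omega) r hr m h1 (by rw [hm, smul_zero])
  have := key n le_rfl
  rwa [Nat.sub_self, pow_zero, one_smul] at this

theorem C_of_B (hB : ∀ i, i < n → CondB R n M i) (j : ℕ) :
    ∀ i : ℕ, ∀ r : R, r ≠ 0 → ∀ m u : M, z R n ^ (i + 1) • m = 0 →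
      z R n ^ (i + j + 1) • u = 0 → z R n ^ i • (z R n ^ j • u - r • m) = 0 →
      ∃ u' : M, z R n ^ (i + j + 1) • u' = 0 ∧ z R n ^ i • (z R n ^ j • u' - m) = 0 := by
  induction j with
  | zero =>
    intro i r hr m u hm hu h
    exact ⟨m, hm, by rw [pow_zero, one_smul, sub_self, smul_zero]⟩
  | succ j ih =>
    intro i r hr m u hm hu h
    by_cases hin : n ≤ i
    · exact ⟨0, smul_zero _, by rw [z_pow_of_le n hin]; exact zero_smul (Rn R n) (_ : M)⟩
    · have hu1 : z R n ^ (i + 2) • (z R n ^ j • u) = 0 := by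
        rw [smul_smul, ← pow_add]
        have e : i + 2 + j = i + (j + 1) + 1 := by omega
        rw [e]; exact hu
      have h' : z R n ^ i • (z R n • (z R n ^ j • u) - r • m) = 0 := by
        rw [smul_smul, ← pow_succ']; exact h
      obtain ⟨u₁, hu₁, h₁⟩ := hB i (by omega) r hr m _ hm hu1 h'
      have h2 : z R n ^ (i + 1) • (z R n ^ j • u - r • u₁) = 0 := by
        linear_combination (norm := module) h - r • h₁
      have e2 : i + 1 + j + 1 = i + (j + 1) + 1 := by omega
      obtain ⟨u₂, hu₂, h₂⟩ := ih (i + 1) r hr u₁ u hu₁ (by rw [e2]; exact hu) h2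
      refine ⟨u₂, by rw [← e2]; exact hu₂, ?_⟩
      linear_combination (norm := module) h₂ + h₁

theorem sat_of_B (hB : ∀ i, i < n → CondB R n M i) (j : ℕ) (r : R) (hr : r ≠ 0) :
    ∀ l : ℕ, ∀ u m : M, z R n ^ l • u = 0 → r • m = z R n ^ j • u →
      ∃ y : M, m = z R n ^ j • y := by
  intro l
  induction l with
  | zero =>
    intro u m hu h
    rw [pow_zero, one_smul] at hu
    rw [hu, smul_zero] at h
    exact ⟨0, by rw [tf_of_B n hB r hr m h, smul_zero]⟩
  | succ l ih =>
    intro u m hu h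
    by_cases hlj : l + 1 ≤ j
    · obtain ⟨k, rfl⟩ := Nat.exists_eq_add_of_le hlj
      have h0 : r • m = 0 := by
        rw [h, pow_add, mul_comm, mul_smul, hu, smul_zero]
      exact ⟨0, by rw [tf_of_B n hB r hr m h0, smul_zero]⟩
    · obtain ⟨i, rfl⟩ : ∃ i, l = i + j := ⟨l - j, by omega⟩
      have hm : z R n ^ (i + 1) • m = 0 := by
        apply tf_of_B n hB r hr
        have e : i + j + 1 = (i + 1) + j := by omega
        rw [e, pow_add, mul_smul] at hu
        rw [smul_comm, h, hu]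
      obtain ⟨u', hu', h'⟩ := C_of_B n hB j i r hr m u hm hu (by rw [h, sub_self, smul_zero])
      have h3 : z R n ^ (i + j) • (u - r • u') = 0 := by
        linear_combination (norm := module) (-r) • h' - z R n ^ i • h
      obtain ⟨y, hy⟩ := ih (u - r • u') (m - z R n ^ j • u') h3
        (by linear_combination (norm := module) h)
      exact ⟨y + u', by linear_combination (norm := module) hy⟩

theorem A_of_B (hB : ∀ i, i < n → CondB R n M i) (i : ℕ) : CondA R n M i := by
  intro r hr y x' h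
  obtain ⟨y', hy'⟩ := sat_of_B n hB (i + 1) r hr n x' (z R n ^ i • y)
    (by rw [z_pow_n]; exact zero_smul (Rn R n) x') h
  exact ⟨y', hy'⟩

variable [IsDomain R] [IsPrincipalIdealRing R] [Module.Finite (Rn R n) M]

theorem free_G1_iff (i : ℕ) : Module.Free R (G1 R n M i) ↔ CondA R n M i := by
  have : IsNoetherian (Rn R n) M := isNoetherian_of_isNoetherianRing_of_finite _ _
  have : Module.Finite R (G1 R n M i) := Module.Finite.trans (Rn R n) _
  rw [Module.free_iff_isTorsionFree, tf_quot_iff]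
  constructor
  · intro h r hr y x' hx
    have := h r hr ⟨z R n ^ i • y, (mem_filt n i _).2 ⟨y, rfl⟩⟩
      (by rw [Submodule.mem_comap]; exact (mem_filt n (i + 1) _).2 ⟨x', hx.symm⟩)
    rw [Submodule.mem_comap] at this
    obtain ⟨y', hy'⟩ := (mem_filt n (i + 1) _).1 this
    exact ⟨y', hy'.symm⟩
  · intro h r hr x hx
    obtain ⟨x, hxi⟩ := x
    obtain ⟨y, rfl⟩ := (mem_filt n i x).1 hxi
    rw [Submodule.mem_comap] at hx ⊢
    obtain ⟨x', hx'⟩ := (mem_filt n (i + 1) _).1 hx
    obtain ⟨y', hy'⟩ := h r hr y x' hx'.symm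
    exact (mem_filt n (i + 1) _).2 ⟨y', hy'.symm⟩

theorem free_Gam2_iff (i : ℕ) : Module.Free R (Gam2 R n M i) ↔ CondB R n M i := by
  have : IsNoetherian (Rn R n) M := isNoetherian_of_isNoetherianRing_of_finite _ _
  have : Module.Finite R (Gam2 R n M i) := Module.Finite.trans (Rn R n) _
  rw [Module.free_iff_isTorsionFree, tf_quot_iff]
  constructor
  · intro h r hr x u hx hu hxu
    have hx' : x ∈ filt2 R n M (i + 1) := (mem_filt2 n _ _).2 hx
    have := h r hr (Submodule.Quotient.mk ⟨x, hx'⟩) (by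
      rw [← Submodule.Quotient.mk_smul, mem_range_lamG2]
      exact ⟨u, (mem_filt2 n _ _).2 hu, (mem_filt2 n _ _).2 hxu⟩)
    obtain ⟨u', hu', h'⟩ := (mem_range_lamG2 n i ⟨x, hx'⟩).1 this
    exact ⟨u', (mem_filt2 n _ _).1 hu', (mem_filt2 n _ _).1 h'⟩
  · intro h r hr q hq
    obtain ⟨⟨x, hx⟩, rfl⟩ := Submodule.Quotient.mk_surjective _ q
    rw [← Submodule.Quotient.mk_smul, mem_range_lamG2] at hq
    obtain ⟨u, hu, hxu⟩ := hq
    rw [mem_range_lamG2]
    obtain ⟨u', hu', h'⟩ := h r hr x u ((mem_filt2 n _ _).1 hx) ((mem_filt2 n _ _).1 hu)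
      ((mem_filt2 n _ _).1 hxu)
    exact ⟨u', (mem_filt2 n _ _).2 hu', (mem_filt2 n _ _).2 h'⟩

theorem main :
    (∀ i : ℕ, i < n → Module.Free R (G1 R n M i)) ↔
      (∀ i : ℕ, i < n → Module.Free R (Gam2 R n M i)) := by
  constructor
  · intro h i _
    rw [free_Gam2_iff]
    exact B_of_A n (fun j hj => (free_G1_iff n j).1 (h j hj)) i
  · intro h i _
    rw [free_G1_iff]
    exact A_of_B n (fun j hj => (free_Gam2_iff n j).1 (h j hj)) i

end Groth.Agent.Lib.Helper83.MultCrvSat
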