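import Groth.Statements.S9326
import Mathlib.Topology.Algebra.InfiniteSum.Nonarchimedean

set_option autoImplicit false
universe u
open Filter Topology

namespace Groth.Agent.Lib.Helper83.NonarchOpenMap

theorem main {N M : Type u} [AddCommGroup N]
    [AddCommGroup M] [UniformSpace N] [IsUniformAddGroup N] [TopologicalSpace M]
    [IsTopologicalAddGroup M] [T2Space M] [CompleteSpace N] [NonarchimedeanAddGroup N]
    [FirstCountableTopology N] (u : N →+ M) (hu : Continuous u) :
    Xor (IsOpenMap u) (∃ V : OpenAddSubgroup N, IsNowhereDense (u '' (V : Set N))) := by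
  by_cases h : ∃ V : OpenAddSubgroup N, IsNowhereDense (u '' (V : Set N))
  · refine Or.inr ⟨h, ?_⟩
    intro hopen
    obtain ⟨V, hV⟩ := h
    have h1 : IsOpen (u '' (V : Set N)) := hopen _ V.isOpen
    have h2 : u '' (V : Set N) ⊆ interior (closure (u '' (V : Set N))) :=
      interior_maximal subset_closure h1
    have h0 : u 0 ∈ u '' (V : Set N) := ⟨0, V.zero_mem, rfl⟩
    rw [IsNowhereDense] at hV
    rw [hV] at h2
    exact h2 h0
  · refine Or.inl ⟨?_, h⟩
    push Not at h
    have hA : ∀ V : OpenAddSubgroup N, IsOpen (closure (u '' (V : Set N))) := by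
      intro V
      have hne : (interior (closure (u '' (V : Set N)))).Nonempty := by
        rw [Set.nonempty_iff_ne_empty]; exact h V
      obtain ⟨g, hg⟩ := hne
      have hcl : ((((V : AddSubgroup N).map u).topologicalClosure : AddSubgroup M) : Set M) =
          closure (u '' (V : Set N)) := by
        rw [AddSubgroup.topologicalClosure_coe, AddSubgroup.coe_map]; rfl
      have := AddSubgroup.isOpen_of_mem_nhds (((V : AddSubgroup N).map u).topologicalClosure)
        (g := g) (by rw [hcl]; exact mem_interior_iff_mem_nhds.1 hg)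
      rwa [hcl] at this
    rw [IsTopologicalAddGroup.isOpenMap_iff_nhds_zero]
    intro O hO
    rw [Filter.mem_map] at hO
    obtain ⟨V, hV⟩ := NonarchimedeanAddGroup.is_nonarchimedean _ hO
    obtain ⟨s, hs⟩ := (𝓝 (0 : N)).exists_antitone_basis
    have hVn : ∀ n, ∃ Vn : OpenAddSubgroup N, (Vn : Set N) ⊆ s n ∩ V := fun n =>
      NonarchimedeanAddGroup.is_nonarchimedean _ (Filter.inter_mem (hs.mem n) V.mem_nhds_zero)
    choose Vs hVs using hVn
    set W : ℕ → Set M := fun n => closure (u '' (Vs n : Set N)) with hWdef
    have hWopen : ∀ n, IsOpen (W n) := fun n => hA (Vs n)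
    have hW0 : ∀ n, (0 : M) ∈ W n := fun n => subset_closure ⟨0, (Vs n).zero_mem, map_zero u⟩
    have hstep : ∀ n (y : M), y ∈ W n → ∃ x, x ∈ Vs n ∧ y - u x ∈ W (n+1) := by
      intro n y hy
      have hopen : IsOpen {z : M | y - z ∈ W (n+1)} :=
        (hWopen (n+1)).preimage (continuous_const.sub continuous_id)
      have hmem : y ∈ {z : M | y - z ∈ W (n+1)} := by simp [hW0]
      obtain ⟨z, hz1, hz2⟩ := mem_closure_iff.1 hy _ hopen hmem
      obtain ⟨x, hx, rfl⟩ := hz2
      exact ⟨x, hx, hz1⟩
    choose! f hfV hfW using hstep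
    suffices hsub : W 0 ⊆ u '' (V : Set N) by
      refine Filter.mem_of_superset ((hWopen 0).mem_nhds (hW0 0)) (hsub.trans ?_)
      rintro _ ⟨x, hx, rfl⟩; exact hV hx
    intro y hy
    let yseq : ℕ → M := fun n => Nat.rec y (fun n yn => yn - u (f n yn)) n
    have hy0 : yseq 0 = y := rfl
    have hysucc : ∀ n, yseq (n+1) = yseq n - u (f n (yseq n)) := fun n => rfl
    have hyW : ∀ n, yseq n ∈ W n := by
      intro n
      induction n with
      | zero => exact hy
      | succ n ih => rw [hysucc]; exact hfW n _ ih
    let x : ℕ → N := fun n => f n (yseq n)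
    have hxV : ∀ n, x n ∈ Vs n := fun n => hfV n _ (hyW n)
    let sN : ℕ → N := fun n => ∑ k ∈ Finset.range n, x k
    have hs_y : ∀ n, y - u (sN n) = yseq n := by
      intro n
      induction n with
      | zero => simp [sN, hy0]
      | succ n ih =>
        have : sN (n+1) = sN n + x n := Finset.sum_range_succ _ _
        calc y - u (sN (n+1)) = (y - u (sN n)) - u (x n) := by rw [this, map_add]; abel
          _ = yseq n - u (x n) := by rw [ih]
          _ = yseq (n+1) := (hysucc n).symm
    have hx0 : Tendsto x atTop (𝓝 0) := by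
      rw [hs.toHasBasis.tendsto_right_iff]
      intro i _
      filter_upwards [eventually_ge_atTop i] with n hn
      exact hs.antitone hn ((hVs n (hxV n)).1)
    have hcauchy : CauchySeq sN := by
      apply NonarchimedeanAddGroup.cauchySeq_of_tendsto_sub_nhds_zero
      have : (fun n => sN (n+1) - sN n) = x := by
        funext n
        have : sN (n+1) = sN n + x n := Finset.sum_range_succ _ _
        rw [this]; abel
      rw [this]; exact hx0
    obtain ⟨a, ha⟩ := cauchySeq_tendsto_of_complete hcauchy
    have haV : a ∈ (V : Set N) := by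
      refine V.isClosed.mem_of_tendsto ha (Filter.Eventually.of_forall fun n => ?_)
      exact (V : AddSubgroup N).sum_mem fun k _ => (hVs k (hxV k)).2
    have hua : Tendsto (fun n => u (sN n)) atTop (𝓝 (u a)) := (hu.tendsto a).comp ha
    have hy0' : Tendsto yseq atTop (𝓝 0) := by
      rw [tendsto_def]
      intro O' hO'
      obtain ⟨C, hC, hCcl, hCO⟩ := exists_mem_nhds_isClosed_subset hO'
      have hpre : u ⁻¹' C ∈ 𝓝 (0 : N) := by
        apply hu.tendsto 0
        rwa [map_zero]
      obtain ⟨i, -, hi⟩ := hs.toHasBasis.mem_iff.1 hpre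
      filter_upwards [eventually_ge_atTop i] with n hn
      apply hCO
      have : W n ⊆ C := by
        apply closure_minimal _ hCcl
        rintro _ ⟨z, hz, rfl⟩
        exact hi (hs.antitone hn (hVs n hz).1)
      exact this (hyW n)
    have huy : Tendsto (fun n => u (sN n)) atTop (𝓝 y) := by
      have : (fun n => u (sN n)) = fun n => y - yseq n := by
        funext n; rw [← hs_y n]; abel
      rw [this]
      have := (tendsto_const_nhds (x := y)).sub hy0'
      simpa using this
    exact ⟨a, haV, tendsto_nhds_unique hua huy⟩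

end Groth.Agent.Lib.Helper83.NonarchOpenMap
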