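import Groth.Statements.S13117
import Mathlib

set_option autoImplicit false
universe u v w

namespace Groth.Agent.Lib.Helper83.NormPi

open LinearMap

section
variable {k : Type w} [CommRing k]

/-- determinant of a dependent product of endomorphisms -/
theorem det_piMap : ∀ (ι : Type u) [Finite ι], ∀ [Fintype ι] (B : ι → Type v)
    [∀ i, AddCommGroup (B i)] [∀ i, Module k (B i)] [∀ i, Module.Free k (B i)]
    [∀ i, Module.Finite k (B i)] (g : ∀ i, B i →ₗ[k] B i),
    LinearMap.det (LinearMap.piMap g) = ∏ i, LinearMap.det (g i) := by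
  intro ι _
  induction ι using Finite.induction_empty_option with
  | of_equiv e ih =>
    rename_i α β
    intro _ B _ _ _ _ g
    let _ : Fintype α := Fintype.ofEquiv β e.symm
    have h := ih (fun a => B (e a)) (fun a => g (e a))
    let E := LinearEquiv.piCongrLeft k B e
    have hE : ∀ y, LinearMap.piMap g (E y) = E (LinearMap.piMap (fun a => g (e a)) y) := by
      intro y
      ext b
      obtain ⟨a, rfl⟩ := e.surjective b
      change g (e a) (Equiv.piCongrLeft B e y (e a)) =
        Equiv.piCongrLeft B e (LinearMap.piMap (fun a => g (e a)) y) (e a)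
      rw [Equiv.piCongrLeft_apply_apply, Equiv.piCongrLeft_apply_apply]
      rfl
    have hconj : LinearMap.piMap g = E.toLinearMap ∘ₗ (LinearMap.piMap fun a => g (e a)) ∘ₗ
        E.symm.toLinearMap := by
      apply LinearMap.ext
      intro x
      obtain ⟨y, rfl⟩ := E.surjective x
      rw [hE]
      simp
    rw [hconj, LinearMap.det_conj, h]
    exact Fintype.prod_equiv e _ _ (fun _ => rfl)
  | h_empty =>
    intro _ B _ _ _ _ g
    rw [LinearMap.det_eq_one_of_subsingleton]
    simp
  | h_option ih =>
    rename_i α _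
    intro instO B _ _ _ _ g
    obtain rfl : instO = instFintypeOption := Subsingleton.elim _ _
    have h := ih (fun a => B (some a)) (fun a => g (some a))
    let E := LinearEquiv.piOptionEquivProd k (M := B)
    have hE : ∀ x, E (LinearMap.piMap g x) =
        LinearMap.prodMap (g none) (LinearMap.piMap fun a => g (some a)) (E x) := by
      intro x
      rfl
    have hconj : LinearMap.piMap g = E.symm.toLinearMap ∘ₗ
        (LinearMap.prodMap (g none) (LinearMap.piMap fun a => g (some a))) ∘ₗ
        E.toLinearMap := by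
      apply LinearMap.ext
      intro x
      apply E.injective
      rw [hE]
      simp
    rw [hconj]
    have := LinearMap.det_conj (LinearMap.prodMap (g none) (LinearMap.piMap fun a => g (some a)))
      E.symm
    rw [LinearEquiv.symm_symm] at this
    rw [this, LinearMap.det_prodMap, h, Fintype.prod_option]

theorem norm_pi {ι : Type u} [Fintype ι] (B : ι → Type v) [∀ i, CommRing (B i)]
    [∀ i, Algebra k (B i)] [∀ i, Module.Free k (B i)] [∀ i, Module.Finite k (B i)]
    (x : ∀ i, B i) :
    Algebra.norm k x = ∏ i, Algebra.norm k (x i) := by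
  rw [Algebra.norm_apply]
  have : Algebra.lmul k (∀ i, B i) x = LinearMap.piMap (fun i => Algebra.lmul k (B i) (x i)) := by
    apply LinearMap.ext
    intro y
    funext i
    rfl
  rw [this, det_piMap ι B]
  rfl

end

theorem norm_local (k B : Type u) [Field k] [CommRing B] [Algebra k B] [IsLocalRing B]
    [Module.Finite k B] (g : B) (c : k)
    (hmem : g - algebraMap k B c ∈ IsLocalRing.maximalIdeal B) :
    Algebra.norm k g = c ^ Module.finrank k B := by
  have : IsArtinianRing B := IsArtinianRing.of_finite k B
  have hnil : IsNilpotent (g - algebraMap k B c) := by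
    have h1 : g - algebraMap k B c ∈ nilradical B := by
      rw [nilradical, ← IsArtinianRing.jacobson_eq_radical, Ideal.zero_eq_bot,
        IsLocalRing.jacobson_eq_maximalIdeal _ bot_ne_top]
      exact hmem
    exact h1
  have hN : IsNilpotent (-(Algebra.lmul k B (g - algebraMap k B c))) :=
    (hnil.map (Algebra.lmul k B)).neg
  have hchar := IsNilpotent.charpoly_eq_X_pow_finrank (R := k) hN
  have hev := LinearMap.eval_charpoly (-(Algebra.lmul k B (g - algebraMap k B c))) c
  rw [hchar] at hev
  have heq : (algebraMap k (Module.End k B)) c - -(Algebra.lmul k B (g - algebraMap k B c)) =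
      Algebra.lmul k B g := by
    ext x
    simp [Algebra.algebraMap_eq_smul_one]
  rw [heq] at hev
  rw [Algebra.norm_apply, ← hev]
  simp

section Main

variable (k A : Type u) [Field k] [IsAlgClosed k] [CommRing A] [Algebra k A] [Module.Finite k A]

omit [IsAlgClosed k] [Module.Finite k A] in
lemma comap_bot_isMaximal (φ : A →ₐ[k] k) : (Ideal.comap φ ⊥).IsMaximal := by
  have hsurj : Function.Surjective φ := fun c => ⟨algebraMap k A c, by simp⟩
  exact Ideal.comap_isMaximal_of_surjective φ hsurj

/-- points ↔ maximal ideals -/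
noncomputable def pointsEquiv : (A →ₐ[k] k) ≃ MaximalSpectrum A := by
  refine Equiv.ofBijective (fun φ => ⟨Ideal.comap φ ⊥, comap_bot_isMaximal k A φ⟩) ⟨?_, ?_⟩
  · intro φ ψ h
    have hI : Ideal.comap φ ⊥ = Ideal.comap ψ ⊥ := congrArg MaximalSpectrum.asIdeal h
    apply AlgHom.ext
    intro a
    have h1 : a - algebraMap k A (φ a) ∈ Ideal.comap φ ⊥ := by
      rw [Ideal.mem_comap, Ideal.mem_bot, map_sub, AlgHom.commutes]
      simp
    rw [hI, Ideal.mem_comap, Ideal.mem_bot, map_sub, AlgHom.commutes] at h1
    have : ψ a = φ a := by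
      have := sub_eq_zero.1 h1
      simpa using this
    exact this.symm
  · intro m
    have : m.asIdeal.IsMaximal := m.isMaximal
    let F := A ⧸ m.asIdeal
    let _ : Field F := Ideal.Quotient.field m.asIdeal
    have hfin : Module.Finite k F :=
      Module.Finite.of_surjective (Ideal.Quotient.mkₐ k m.asIdeal).toLinearMap
        (Ideal.Quotient.mkₐ_surjective k m.asIdeal)
    have hbij : Function.Bijective (algebraMap k F) :=
      IsAlgClosed.algebraMap_bijective_of_isIntegral
    let E : k ≃ₐ[k] F := AlgEquiv.ofBijective (Algebra.ofId k F) hbij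
    refine ⟨E.symm.toAlgHom.comp (Ideal.Quotient.mkₐ k m.asIdeal), ?_⟩
    apply MaximalSpectrum.ext
    ext a
    change a ∈ Ideal.comap _ ⊥ ↔ a ∈ m.asIdeal
    rw [Ideal.mem_comap, Ideal.mem_bot]
    change E.symm (Ideal.Quotient.mk m.asIdeal a) = 0 ↔ _
    rw [map_eq_zero_iff _ E.symm.injective, Ideal.Quotient.eq_zero_iff_mem]

theorem main (f : A) :
    Algebra.norm k f =
      ∏ᶠ φ : A →ₐ[k] k, φ f ^ Module.finrank k (Localization.AtPrime (Ideal.comap φ ⊥)) := by
  classical
  have : IsArtinianRing A := IsArtinianRing.of_finite k A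
  have hfinM : Finite (MaximalSpectrum A) := inferInstance
  have : Fintype (MaximalSpectrum A) := Fintype.ofFinite _
  have hfinP : Finite (A →ₐ[k] k) := Finite.of_equiv _ (pointsEquiv k A).symm
  have : Fintype (A →ₐ[k] k) := Fintype.ofFinite _
  have hfin : ∀ m : MaximalSpectrum A, Module.Finite k (Localization.AtPrime m.asIdeal) := by
    intro m
    exact Module.Finite.of_surjective
      (Algebra.algHom k A (Localization.AtPrime m.asIdeal)).toLinearMap
      (IsArtinianRing.localization_surjective m.asIdeal.primeCompl _)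
  let E : A ≃ₐ[k] MaximalSpectrum.PiLocalization A :=
    (MaximalSpectrum.toPiLocalizationEquiv A).restrictScalars k
  rw [← Algebra.norm_eq_of_algEquiv E f, norm_pi, finprod_eq_prod_of_fintype,
    ← Fintype.prod_equiv (pointsEquiv k A) (fun φ => Algebra.norm k (E f (pointsEquiv k A φ)))
      (fun m => Algebra.norm k (E f m)) (fun _ => rfl)]
  refine Finset.prod_congr rfl fun φ _ => ?_
  change Algebra.norm k (algebraMap A (Localization.AtPrime (Ideal.comap φ ⊥)) f) = _
  have : (Ideal.comap φ ⊥).IsMaximal := comap_bot_isMaximal k A φ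
  have hfin' : Module.Finite k (Localization.AtPrime (Ideal.comap φ ⊥)) :=
    hfin ⟨Ideal.comap φ ⊥, this⟩
  apply norm_local
  have h1 : f - algebraMap k A (φ f) ∈ Ideal.comap φ ⊥ := by
    rw [Ideal.mem_comap, Ideal.mem_bot, map_sub, AlgHom.commutes]
    simp
  have h2 : algebraMap k (Localization.AtPrime (Ideal.comap φ ⊥)) (φ f) =
      algebraMap A _ (algebraMap k A (φ f)) := IsScalarTower.algebraMap_apply k A _ _
  rw [h2, ← map_sub]
  exact (IsLocalization.AtPrime.to_map_mem_maximal_iff _ (Ideal.comap φ ⊥) _).2 h1

end Main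

end Groth.Agent.Lib.Helper83.NormPi
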