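import Mathlib

namespace Groth.Agent.Lib.Helper83.PermReg

open RingTheory.Sequence

section Basic

variable {R : Type*} [CommRing R] {r : ℕ} (f : Fin r → R)

/-- `f i` is a nonzerodivisor modulo the `f j`, `j ∈ T` -/
def P (T : Finset (Fin r)) (i : Fin r) : Prop :=
  ∀ x : R, f i * x ∈ Ideal.span (f '' (T : Set (Fin r))) → x ∈ Ideal.span (f '' (T : Set (Fin r)))

lemma swap_aux (J : Ideal R) (a b : R)
    (hA : ∀ x, a * x ∈ J → x ∈ J)
    (hB : ∀ x, b * x ∈ J ⊔ Ideal.span {a} → x ∈ J ⊔ Ideal.span {a}) :
    ∀ y, a * y ∈ J ⊔ Ideal.span {b} → y ∈ J ⊔ Ideal.span {b} := by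
  intro y hy
  obtain ⟨u, hu, w, hw, huw⟩ := Submodule.mem_sup.mp hy
  obtain ⟨z, rfl⟩ := Ideal.mem_span_singleton'.mp hw
  have h1 : b * z ∈ J ⊔ Ideal.span {a} := by
    have : b * z = -u + y * a := by linear_combination huw
    rw [this]
    exact Submodule.add_mem_sup (J.neg_mem hu) (Ideal.mem_span_singleton'.mpr ⟨y, rfl⟩)
  obtain ⟨v, hv, w', hw', hvw⟩ := Submodule.mem_sup.mp (hB z h1)
  obtain ⟨t, rfl⟩ := Ideal.mem_span_singleton'.mp hw'
  have h2 : a * (y - b * t) ∈ J := by
    have : a * (y - b * t) = u + b * v := by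
      rw [← hvw] at huw
      linear_combination -huw
    rw [this]
    exact J.add_mem hu (J.mul_mem_left _ hv)
  have h3 := hA _ h2
  have : y = (y - b * t) + t * b := by ring
  rw [this]
  exact Submodule.add_mem_sup h3 (Ideal.mem_span_singleton'.mpr ⟨t, rfl⟩)

lemma span_image_insert (T : Finset (Fin r)) (i : Fin r) :
    Ideal.span (f '' ((insert i T : Finset (Fin r)) : Set (Fin r))) =
      Ideal.span (f '' (T : Set (Fin r))) ⊔ Ideal.span {f i} := by
  rw [Finset.coe_insert, Set.image_insert_eq, Ideal.span_insert, sup_comm]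

/-- the ordered condition implies the symmetric one -/
theorem sym_of_ord (hord : ∀ (i : Fin r) (T : Finset (Fin r)), (∀ j ∈ T, j < i) → P f T i) :
    ∀ (T : Finset (Fin r)) (i : Fin r), i ∉ T → P f T i := by
  intro T i hi
  induction' hn : (T.filter (fun j => i < j)).card using Nat.strong_induction_on with n ih generalizing T
  by_cases h0 : T.filter (fun j => i < j) = ∅
  · apply hord
    intro j hj
    have : j ∉ T.filter (fun j => i < j) := by rw [h0]; exact Finset.notMem_empty j
    rw [Finset.mem_filter, not_and] at this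
    have h1 := this hj
    rcases lt_trichotomy j i with h | h | h
    · exact h
    · exact absurd (h ▸ hj) hi
    · exact absurd h h1
  · -- the maximum of T lies above i
    have hne : (T.filter (fun j => i < j)).Nonempty := Finset.nonempty_iff_ne_empty.mpr h0
    have hTne : T.Nonempty := hne.mono (Finset.filter_subset _ _)
    set j := T.max' hTne with hj
    have hjT : j ∈ T := Finset.max'_mem T hTne
    have hij : i < j := by
      obtain ⟨l, hl⟩ := hne
      rw [Finset.mem_filter] at hl
      exact lt_of_lt_of_le hl.2 (Finset.le_max' T l hl.1)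
    set T' := T.erase j with hT'
    have hT'lt : ∀ l ∈ T', l < j := by
      intro l hl
      rw [hT', Finset.mem_erase] at hl
      exact lt_of_le_of_ne (Finset.le_max' T l hl.2) hl.1
    have hiT' : i ∉ T' := fun h => hi (Finset.mem_of_mem_erase h)
    have hTeq : T = insert j T' := (Finset.insert_erase hjT).symm
    -- P (T', i) by induction
    have hA : P f T' i := by
      apply ih (T'.filter (fun j => i < j)).card ?_ T' hiT' rfl
      rw [← hn]
      apply Finset.card_lt_card
      rw [Finset.ssubset_iff_of_subset (Finset.filter_subset_filter _ (Finset.erase_subset j T))]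
      refine ⟨j, Finset.mem_filter.mpr ⟨hjT, hij⟩, ?_⟩
      rw [Finset.mem_filter, not_and]
      intro h
      exact absurd h (Finset.notMem_erase j T)
    -- P (insert i T', j) by the ordered hypothesis
    have hB : P f (insert i T') j := by
      apply hord
      intro l hl
      rw [Finset.mem_insert] at hl
      rcases hl with rfl | hl
      · exact hij
      · exact hT'lt l hl
    intro y hy
    rw [hTeq, span_image_insert] at hy ⊢
    refine swap_aux _ (f i) (f j) hA ?_ y hy
    intro x hx
    rw [← span_image_insert] at hx ⊢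
    exact hB x hx

end Basic

section OfFn

variable {S : Type*} [CommRing S] {r : ℕ} (g : Fin r → S)

lemma ofList_take_ofFn (i : ℕ) :
    Ideal.ofList ((List.ofFn g).take i) = Ideal.span (g '' {j : Fin r | j.val < i}) := by
  unfold Ideal.ofList
  congr 1
  ext x
  simp only [Set.mem_setOf_eq, List.mem_take_iff_getElem, List.length_ofFn, Set.mem_image]
  constructor
  · rintro ⟨j, hj, rfl⟩
    rw [lt_min_iff] at hj
    exact ⟨⟨j, hj.2⟩, hj.1, by simp⟩
  · rintro ⟨j, hj, rfl⟩
    exact ⟨j.val, lt_min_iff.mpr ⟨hj, j.isLt⟩, by simp⟩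

lemma ofList_ofFn : Ideal.ofList (List.ofFn g) = Ideal.span (Set.range g) := by
  unfold Ideal.ofList
  congr 1
  ext x
  simp [List.mem_ofFn]

lemma isWeaklyRegular_ofFn_iff :
    IsWeaklyRegular S (List.ofFn g) ↔ ∀ i : Fin r, ∀ x : S,
      g i * x ∈ Ideal.span (g '' {j : Fin r | j < i}) →
        x ∈ Ideal.span (g '' {j : Fin r | j < i}) := by
  rw [isWeaklyRegular_iff]
  constructor
  · intro h i x hx
    have h1 := h i.val (by simp)
    rw [isSMulRegular_quotient_iff_mem_of_smul_mem] at h1
    have h2 := h1 x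
    rw [ofList_take_ofFn, smul_eq_mul, Ideal.mul_top] at h2
    simp only [List.getElem_ofFn, Fin.eta, smul_eq_mul] at h2
    exact h2 hx
  · intro h i hi
    rw [List.length_ofFn] at hi
    rw [isSMulRegular_quotient_iff_mem_of_smul_mem]
    intro x hx
    rw [ofList_take_ofFn, smul_eq_mul, Ideal.mul_top] at hx ⊢
    simp only [List.getElem_ofFn, smul_eq_mul] at hx
    exact h ⟨i, hi⟩ x hx

lemma isRegular_ofFn_iff :
    IsRegular S (List.ofFn g) ↔ (∀ i : Fin r, ∀ x : S,
      g i * x ∈ Ideal.span (g '' {j : Fin r | j < i}) →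
        x ∈ Ideal.span (g '' {j : Fin r | j < i})) ∧ Ideal.span (Set.range g) ≠ ⊤ := by
  rw [isRegular_iff, isWeaklyRegular_ofFn_iff, ofList_ofFn, smul_eq_mul, Ideal.mul_top]
  constructor
  · rintro ⟨h1, h2⟩
    exact ⟨h1, fun h => h2 h.symm⟩
  · rintro ⟨h1, h2⟩
    exact ⟨h1, fun h => h2 h.symm⟩

end OfFn

section Perm

variable {r : ℕ}

/-- a permutation listing `T` first and then `i` -/
lemma exists_perm (T : Finset (Fin r)) (i : Fin r) (hi : i ∉ T) :
    ∃ (σ : Equiv.Perm (Fin r)) (k : Fin r), σ k = i ∧ (Finset.Iio k).image σ = T := by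
  classical
  have hs : T.card < r := by
    have h1 : (insert i T).card ≤ (Finset.univ : Finset (Fin r)).card :=
      Finset.card_le_card (Finset.subset_univ _)
    rw [Finset.card_insert_of_notMem hi, Finset.card_univ, Fintype.card_fin] at h1
    omega
  let k : Fin r := ⟨T.card, hs⟩
  have hcard : (Finset.Iio k).card = T.card := by simp [k]
  let e : {x // x ∈ Finset.Iio k} ≃ {x // x ∈ T} := Finset.equivOfCardEq hcard
  let σ₀ : Equiv.Perm (Fin r) := e.extendSubtype
  have hk : σ₀ k ∉ T := e.extendSubtype_not_mem k (by simp)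
  have hlt : ∀ j, j < k → σ₀ j ∈ T := fun j hj => e.extendSubtype_mem j (by simpa using hj)
  refine ⟨Equiv.swap (σ₀ k) i * σ₀, k, ?_, ?_⟩
  · simp
  · apply Finset.eq_of_subset_of_card_le
    · intro x hx
      rw [Finset.mem_image] at hx
      obtain ⟨j, hj, rfl⟩ := hx
      rw [Finset.mem_Iio] at hj
      have h1 := hlt j hj
      rw [Equiv.Perm.mul_apply, Equiv.swap_apply_of_ne_of_ne]
      · exact h1
      · intro h; exact hk (h ▸ h1)
      · intro h; exact hi (h ▸ h1)
    · rw [Finset.card_image_of_injective _ (Equiv.injective _), hcard]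

end Perm

section LHS

variable {R : Type*} [CommRing R] {r : ℕ} (f : Fin r → R)

lemma image_comp_Iio (σ : Equiv.Perm (Fin r)) (i : Fin r) :
    (f ∘ σ) '' {j : Fin r | j < i} = f '' (((Finset.Iio i).image σ : Finset (Fin r)) : Set (Fin r)) := by
  rw [Set.image_comp, Finset.coe_image, Finset.coe_Iio]
  rfl

theorem lhs_iff_sym (hf : Ideal.span (Set.range f) ≠ ⊤) :
    (∀ σ : Equiv.Perm (Fin r), IsRegular R (List.ofFn (f ∘ σ))) ↔
      ∀ (T : Finset (Fin r)) (i : Fin r), i ∉ T → P f T i := by
  constructor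
  · intro h T i hi
    obtain ⟨σ, k, hk, hT⟩ := exists_perm T i hi
    have h1 := ((isRegular_ofFn_iff (f ∘ σ)).mp (h σ)).1 k
    rw [image_comp_Iio, hT, Function.comp_apply, hk] at h1
    exact h1
  · intro h σ
    rw [isRegular_ofFn_iff]
    refine ⟨fun i => ?_, ?_⟩
    · rw [image_comp_Iio]
      apply h
      simp
    · rw [σ.surjective.range_comp f]
      exact hf

end LHS

open MvPolynomial

section Coeff

variable {R : Type*} [CommRing R] {r : ℕ} (f : Fin r → R)

/-- the coefficient ideal -/
def J (U : Set (Fin r)) (α : Fin r →₀ ℕ) : Ideal R :=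
  Ideal.span (f '' (U ∩ {j | α j ≠ 0}))

lemma J_mono (U : Set (Fin r)) {α β : Fin r →₀ ℕ} (h : α ≤ β) : J f U α ≤ J f U β := by
  apply Ideal.span_mono
  apply Set.image_mono
  intro j hj
  refine ⟨hj.1, ?_⟩
  have h1 : α j ≠ 0 := hj.2
  have h2 := h j
  show β j ≠ 0
  omega

/-- the generators `f j * X j` -/
noncomputable def g (j : Fin r) : MvPolynomial (Fin r) R := C (f j) * X j

lemma coeff_mem_of_mem (U : Set (Fin r)) (p : MvPolynomial (Fin r) R)
    (hp : p ∈ Ideal.span (g f '' U)) (α : Fin r →₀ ℕ) : coeff α p ∈ J f U α := by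
  induction hp using Submodule.span_induction generalizing α with
  | mem x hx =>
    obtain ⟨j, hj, rfl⟩ := hx
    rw [g, coeff_C_mul, coeff_X]
    split_ifs with h
    · rw [mul_one]
      apply Ideal.subset_span
      refine ⟨j, ⟨hj, ?_⟩, rfl⟩
      show α j ≠ 0
      rw [← h]
      simp
    · simp
  | zero => simp
  | add x y _ _ hx hy =>
    rw [coeff_add]
    exact (J f U α).add_mem (hx α) (hy α)
  | smul a x _ hx =>
    rw [smul_eq_mul, coeff_mul]
    apply Ideal.sum_mem
    intro c hc
    apply Ideal.mul_mem_left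
    apply J_mono f U _ (hx c.2)
    rw [Finset.HasAntidiagonal.mem_antidiagonal] at hc
    rw [← hc]
    exact le_add_self

lemma monomial_mem (U : Set (Fin r)) (α : Fin r →₀ ℕ) (c : R) (hc : c ∈ J f U α) :
    monomial α c ∈ Ideal.span (g f '' U) := by
  unfold J at hc
  induction hc using Submodule.span_induction with
  | mem x hx =>
    obtain ⟨j, ⟨hjU, hj⟩, rfl⟩ := hx
    have hj' : α j ≠ 0 := hj
    have hle : Finsupp.single j 1 ≤ α := by
      rw [Finsupp.single_le_iff]
      omega
    have : monomial α (f j) = g f j * monomial (α - Finsupp.single j 1) 1 := by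
      rw [g, C_mul_X_eq_monomial, monomial_mul, mul_one, add_tsub_cancel_of_le hle]
    rw [this]
    exact Ideal.mul_mem_right _ _ (Ideal.subset_span ⟨j, hjU, rfl⟩)
  | zero => simp
  | add x y _ _ hx hy =>
    rw [map_add]
    exact Ideal.add_mem _ hx hy
  | smul a x _ hx =>
    rw [smul_eq_mul, ← C_mul_monomial]
    exact Ideal.mul_mem_left _ _ hx

theorem mem_span_iff (U : Set (Fin r)) (p : MvPolynomial (Fin r) R) :
    p ∈ Ideal.span (g f '' U) ↔ ∀ α : Fin r →₀ ℕ, coeff α p ∈ J f U α := by
  constructor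
  · exact coeff_mem_of_mem f U p
  · intro h
    rw [← support_sum_monomial_coeff p]
    apply Ideal.sum_mem
    intro α _
    exact monomial_mem f U α _ (h α)

end Coeff

section RHS

variable {R : Type*} [CommRing R] {r : ℕ} (f : Fin r → R)

lemma J_eq_of_filter (i : Fin r) (α : Fin r →₀ ℕ) :
    J f {j : Fin r | j < i} α =
      Ideal.span (f '' ((α.support.filter (fun j => j < i) : Finset (Fin r)) : Set (Fin r))) := by
  unfold J
  congr 2
  ext j
  simp [and_comm]

lemma J_add_single (i : Fin r) (α : Fin r →₀ ℕ) :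
    J f {j : Fin r | j < i} (α + Finsupp.single i 1) = J f {j : Fin r | j < i} α := by
  unfold J
  congr 2
  ext j
  simp only [Set.mem_inter_iff, Set.mem_setOf_eq, Finsupp.coe_add, Pi.add_apply, ne_eq,
    Nat.add_eq_zero_iff, not_and, and_congr_right_iff]
  intro hj
  have : Finsupp.single i 1 j = 0 := by
    rw [Finsupp.single_apply, if_neg]
    exact fun h => (lt_irrefl _ (h ▸ hj))
  rw [this]
  simp

theorem rhs_iff_ord (hf : Ideal.span (Set.range f) ≠ ⊤) :
    IsRegular (MvPolynomial (Fin r) R) (List.ofFn fun i => C (f i) * X i) ↔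
      ∀ (i : Fin r) (T : Finset (Fin r)), (∀ j ∈ T, j < i) → P f T i := by
  have hg : (fun i => C (f i) * X i) = g f := rfl
  rw [hg, isRegular_ofFn_iff]
  constructor
  · rintro ⟨h, -⟩ i T hT x hx
    classical
    -- the indicator exponent of T
    let α : Fin r →₀ ℕ := Finsupp.indicator T (fun _ _ => 1)
    have hα : ∀ j, α j ≠ 0 ↔ j ∈ T := by
      intro j
      simp only [α, Finsupp.indicator_apply]
      split_ifs with hj <;> simp [hj]
    have hJ : J f {j : Fin r | j < i} α = Ideal.span (f '' (T : Set (Fin r))) := by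
      unfold J
      congr 2
      ext j
      simp only [Set.mem_inter_iff, Set.mem_setOf_eq, hα, Finset.mem_coe]
      exact ⟨fun h => h.2, fun h => ⟨hT j h, h⟩⟩
    have h1 : g f i * monomial α x ∈ Ideal.span (g f '' {j : Fin r | j < i}) := by
      rw [mem_span_iff]
      intro β
      rw [g, C_mul_X_eq_monomial, monomial_mul, coeff_monomial]
      split_ifs with hβ
      · rw [← hβ, add_comm, J_add_single, hJ]
        exact hx
      · exact Ideal.zero_mem _
    have h2 := (mem_span_iff f _ _).mp (h i _ h1) α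
    rw [coeff_monomial, if_pos rfl, hJ] at h2
    exact h2
  · intro h
    refine ⟨?_, ?_⟩
    · intro i p hp
      rw [mem_span_iff] at hp ⊢
      intro α
      have h1 := hp (α + Finsupp.single i 1)
      rw [J_add_single, g, mul_assoc, coeff_C_mul, mul_comm (X i), coeff_mul_X] at h1
      rw [J_eq_of_filter] at h1 ⊢
      exact h i _ (fun j hj => (Finset.mem_filter.mp hj).2) _ h1
    · intro htop
      have h1 : (1 : MvPolynomial (Fin r) R) ∈ Ideal.span (g f '' (Set.univ : Set (Fin r))) := by
        rw [Set.image_univ, htop]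
        exact Submodule.mem_top
      have h2 := (mem_span_iff f _ _).mp h1 0
      have h3 : J f (Set.univ : Set (Fin r)) 0 = ⊥ := by
        unfold J
        simp
      rw [h3, coeff_zero_one, Ideal.mem_bot] at h2
      apply hf
      rw [Ideal.eq_top_iff_one, h2]
      exact Ideal.zero_mem _

end RHS

section Main

variable {R : Type*} [CommRing R] {r : ℕ} (f : Fin r → R)

theorem main (hf : Ideal.span (Set.range f) ≠ ⊤) :
    (∀ σ : Equiv.Perm (Fin r), IsRegular R (List.ofFn (f ∘ σ))) ↔
      IsRegular (MvPolynomial (Fin r) R) (List.ofFn fun i => C (f i) * X i) := by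
  rw [lhs_iff_sym f hf, rhs_iff_ord f hf]
  constructor
  · intro h i T hT
    exact h T i (fun hi => lt_irrefl _ (hT i hi))
  · intro h
    exact sym_of_ord f h

end Main

end Groth.Agent.Lib.Helper83.PermReg
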