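import Groth.Prelude.Def_Pi1X
import Mathlib

/-!
Helper lemmas on fundamental groups of Galois categories (helper83).
-/

set_option autoImplicit false
universe u v w
open CategoryTheory PreGaloisCategory

namespace Groth.Agent.Lib.Helper83.Pi1

open CategoryTheory.Limits

theorem nonempty_fiber_terminal {C' : Type u} [Category.{v} C'] [GaloisCategory C']
    (F' : C' ⥤ FintypeCat.{w}) [FiberFunctor F'] : Nonempty (F'.obj (⊤_ C')) := by
  let i : FintypeCat.of PUnit.{w+1} ⟶ F'.obj (⊤_ C') :=
    terminal.from (FintypeCat.of PUnit.{w+1}) ≫ (PreservesTerminal.iso F').inv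
  exact ⟨i PUnit.unit⟩

theorem whisker_smul {C C' : Type u} [Category.{v} C] [Category.{v} C'] (H : C ⥤ C')
    (F' : C' ⥤ FintypeCat.{w}) (X : C) (a : (H ⋙ F').obj X) (σ : Aut F') :
    (Pi1X.autWhisker H F' σ) • a = σ.hom.app (H.obj X) a := rfl

/-- membership in the kernel of the whiskering map -/
theorem mem_ker_autWhisker_iff {C C' : Type u} [Category.{v} C] [Category.{v} C'] (H : C ⥤ C')
    (F' : C' ⥤ FintypeCat.{w}) (σ : Aut F') :
    σ ∈ (Pi1X.autWhisker H F').ker ↔ ∀ (X : C) (y : F'.obj (H.obj X)), σ.hom.app (H.obj X) y = y := by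
  rw [MonoidHom.mem_ker]
  constructor
  · intro h X y
    have h1 : (Pi1X.autWhisker H F' σ).hom.app X y = (1 : Aut (H ⋙ F')).hom.app X y := by rw [h]
    exact h1
  · intro h
    apply Iso.ext
    ext X y
    exact h X y

/-- A morphism out of a connected object with prescribed value on a point exists as soon as the
stabilizers are contained in one another. -/
theorem exists_hom_of_stabilizer_le {C : Type u} [Category.{v} C] [GaloisCategory C]
    (F : C ⥤ FintypeCat.{w}) [FiberFunctor F] (Y X : C) [IsConnected Y] (y : F.obj Y) (x : F.obj X)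
    (h : MulAction.stabilizer (Aut F) y ≤ MulAction.stabilizer (Aut F) x) :
    ∃ q : Y ⟶ X, F.map q y = x := by
  have : MulAction.IsPretransitive (Aut F) (F.obj Y) := FiberFunctor.isPretransitive_of_isConnected F Y
  have hex : ∀ z : F.obj Y, ∃ g : Aut F, g • y = z := fun z => MulAction.exists_smul_eq (Aut F) y z
  choose c hc using hex
  let φ : F.obj Y → F.obj X := fun z => c z • x
  have hφ : ∀ (g : Aut F) (z : F.obj Y), φ (g • z) = g • φ z := by
    intro g z
    change c (g • z) • x = g • (c z • x)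
    have h1 : ((c (g • z))⁻¹ * (g * c z)) • y = y := by
      rw [mul_smul, mul_smul, hc z, inv_smul_eq_iff, hc (g • z)]
    have h2 : ((c (g • z))⁻¹ * (g * c z)) • x = x := h h1
    rw [← mul_smul]
    rw [mul_smul, inv_smul_eq_iff] at h2
    exact h2.symm
  let α : (functorToAction F).obj Y ⟶ (functorToAction F).obj X :=
    { hom := FintypeCat.homMk φ
      comm := by
        intro g
        ext t
        exact hφ g t }
  obtain ⟨s, hs⟩ := (functorToAction F).map_surjective α
  refine ⟨s, ?_⟩
  have h1 : ((functorToAction F).map s).hom = α.hom := by rw [hs]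
  rw [functorToAction_map] at h1
  rw [h1]
  change c y • x = x
  exact h (hc y)

/-- Compactness: an open subgroup containing the kernel of the whiskering map contains the
stabilizer of a single point in the fibre of some `H X`. -/
theorem exists_stabilizer_le_of_ker_le {C C' : Type u} [Category.{v} C] [Category.{v} C']
    [GaloisCategory C] [GaloisCategory C'] (H : C ⥤ C')
    (F' : C' ⥤ FintypeCat.{w}) [FiberFunctor F'] [FiberFunctor (H ⋙ F')]
    (V : Subgroup (Aut F')) (hV : IsOpen (V : Set (Aut F')))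
    (h : (Pi1X.autWhisker H F').ker ≤ V) :
    ∃ (X : C) (y : F'.obj (H.obj X)), MulAction.stabilizer (Aut F') y ≤ V := by
  let ι := Σ X : C, F'.obj (H.obj X)
  obtain ⟨pt⟩ := nonempty_fiber_terminal (H ⋙ F')
  have : Nonempty ι := ⟨⟨⊤_ C, pt⟩⟩
  let t : ι → Set (Aut F') := fun i => (MulAction.stabilizer (Aut F') i.2 : Set (Aut F'))
  have htc : ∀ i, IsClosed (t i) := fun i =>
    Subgroup.isClosed_of_isOpen _ (stabilizer_isOpen (Aut F') i.2)
  have hs : IsCompact ((V : Set (Aut F'))ᶜ) := hV.isClosed_compl.isCompact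
  have hst : ((V : Set (Aut F'))ᶜ ∩ ⋂ i, t i) = ∅ := by
    rw [Set.eq_empty_iff_forall_notMem]
    rintro σ ⟨h1, h2⟩
    apply h1
    apply h
    rw [mem_ker_autWhisker_iff]
    intro X y
    have := Set.mem_iInter.mp h2 ⟨X, y⟩
    exact this
  have hdt : Directed (· ⊇ ·) t := by
    rintro ⟨X1, y1⟩ ⟨X2, y2⟩
    let y : (H ⋙ F').obj (X1 ⨯ X2) := (fiberBinaryProductEquiv (H ⋙ F') X1 X2).symm (y1, y2)
    have e1 : (H ⋙ F').map prod.fst y = y1 := fiberBinaryProductEquiv_symm_fst_apply (H ⋙ F') y1 y2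
    have e2 : (H ⋙ F').map prod.snd y = y2 := fiberBinaryProductEquiv_symm_snd_apply (H ⋙ F') y1 y2
    refine ⟨⟨X1 ⨯ X2, y⟩, ?_, ?_⟩
    · intro σ hσ
      change σ.hom.app _ y = y at hσ
      change σ.hom.app _ y1 = y1
      rw [← e1]
      change σ.hom.app _ (F'.map (H.map prod.fst) y) = _
      rw [NatTrans.naturality_apply σ.hom (H.map prod.fst) y, hσ]
      rfl
    · intro σ hσ
      change σ.hom.app _ y = y at hσ
      change σ.hom.app _ y2 = y2
      rw [← e2]
      change σ.hom.app _ (F'.map (H.map prod.snd) y) = _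
      rw [NatTrans.naturality_apply σ.hom (H.map prod.snd) y, hσ]
      rfl
  obtain ⟨⟨X, y⟩, hi⟩ := hs.elim_directed_family_closed t htc hst hdt
  refine ⟨X, y, ?_⟩
  intro σ hσ
  by_contra hn
  have : σ ∈ ((V : Set (Aut F'))ᶜ ∩ t ⟨X, y⟩) := ⟨hn, hσ⟩
  rw [hi] at this
  exact this

end Groth.Agent.Lib.Helper83.Pi1
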