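import Groth.Agent.Lib.Helper83.Pi1Triv

/-!
Uniqueness of fibre functors on a Galois category (helper83): a functor to finite sets preserving
finite limits and binary coproducts with nonempty values on non-initial objects is isomorphic to
any fibre functor.
-/

set_option autoImplicit false
universe u v w
open CategoryTheory PreGaloisCategory

namespace Groth.Agent.Lib.Helper83.Pi1

open CategoryTheory.Limits

section Basics

variable {C : Type u} [Category.{v} C] [GaloisCategory C]
    (F' : C ⥤ FintypeCat.{w})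

/-- a functor to finite sets preserving binary coproducts sends the initial object to the empty
set -/
theorem isEmpty_obj_initial [PreservesColimitsOfShape (Discrete WalkingPair) F'] :
    IsEmpty (F'.obj (⊥_ C)) := by
  refine ⟨fun t => ?_⟩
  have hc : IsColimit (BinaryCofan.mk (𝟙 (⊥_ C)) (𝟙 (⊥_ C))) :=
    BinaryCofan.IsColimit.mk _ (fun f _ => f) (fun f g => Category.id_comp f)
      (fun f g => initialIsInitial.hom_ext _ _)
      (fun f g m h1 _ => (Category.id_comp m).symm.trans h1)
  have hc' : IsColimit (BinaryCofan.mk (F'.map (𝟙 (⊥_ C))) (F'.map (𝟙 (⊥_ C)))) :=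
    isColimitMapCoconeBinaryCofanEquiv F' _ _ (isColimitOfPreserves F' hc)
  let k1 : F'.obj (⊥_ C) ⟶ FintypeCat.of (ULift.{w} Bool) := FintypeCat.homMk fun _ => ⟨true⟩
  let k2 : F'.obj (⊥_ C) ⟶ FintypeCat.of (ULift.{w} Bool) := FintypeCat.homMk fun _ => ⟨false⟩
  obtain ⟨l, h1, h2⟩ := BinaryCofan.IsColimit.desc' hc' k1 k2
  have h3 : k1 = k2 := by rw [← h1, ← h2]; rfl
  have h4 := ConcreteCategory.congr_hom h3 t
  have h5 : (⟨true⟩ : ULift.{w} Bool) = ⟨false⟩ := h4
  simpa using congrArg ULift.down h5

theorem preservesInitial_of_binary [PreservesColimitsOfShape (Discrete WalkingPair) F'] :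
    PreservesColimitsOfShape (Discrete PEmpty.{1}) F' := by
  have hE := isEmpty_obj_initial F'
  have hI : Nonempty (IsInitial (F'.obj (⊥_ C))) :=
    (Concrete.initial_iff_empty_of_preserves_of_reflects (F'.obj (⊥_ C))).mpr hE
  obtain ⟨hI⟩ := hI
  have := preservesInitial_of_iso F' (initialIsoIsInitial hI)
  exact preservesColimitsOfShape_pempty_of_preservesInitial F'

theorem preservesFiniteCoproducts_of_binary [PreservesColimitsOfShape (Discrete WalkingPair) F']
    (J : Type*) [Finite J] : PreservesColimitsOfShape (Discrete J) F' := by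
  have := preservesInitial_of_binary F'
  exact PreservesFiniteCoproducts.of_preserves_binary_and_initial F' J

/-- an object with inhabited value is not initial -/
theorem not_isInitial_of_inhabited' [PreservesColimitsOfShape (Discrete WalkingPair) F']
    {Z : C} (z : F'.obj Z) (hZ : IsInitial Z) : False := by
  have hE := isEmpty_obj_initial F'
  let i : Z ≅ ⊥_ C := hZ.uniqueUpToIso initialIsInitial
  exact hE.false (F'.map i.hom z)

variable [PreservesFiniteLimits F']

/-- points of an equalizer -/
theorem exists_equalizer_point {X Y : C} (f g : X ⟶ Y) (x : F'.obj X)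
    (h : F'.map f x = F'.map g x) : Nonempty (F'.obj (equalizer f g)) := by
  let e : F'.obj (equalizer f g) ≃ { x : F'.obj X // F'.map f x = F'.map g x } :=
    (PreservesEqualizer.iso (F' ⋙ FintypeCat.incl) f g ≪≫
      Types.equalizerIso (F'.map f).hom (F'.map g).hom).toEquiv
  exact ⟨e.symm ⟨x, h⟩⟩

/-- points of a binary product with prescribed projections -/
theorem exists_prod_point (X Y : C) (x : F'.obj X) (y : F'.obj Y) :
    ∃ p : F'.obj (X ⨯ Y), F'.map prod.fst p = x ∧ F'.map prod.snd p = y := by
  let e : F'.obj (X ⨯ Y) ≃ F'.obj X × F'.obj Y :=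
    (PreservesLimitPair.iso (F' ⋙ FintypeCat.incl) X Y ≪≫
      Types.binaryProductIso (F'.obj X) (F'.obj Y)).toEquiv
  refine ⟨e.symm (x, y), ?_, ?_⟩
  · change ((Types.binaryProductIso _ _).inv ≫ _ ≫ (F' ⋙ FintypeCat.incl).map prod.fst) _ = _
    erw [PreservesLimitPair.iso_inv_fst, Types.binaryProductIso_inv_comp_fst]
    rfl
  · change ((Types.binaryProductIso _ _).inv ≫ _ ≫ (F' ⋙ FintypeCat.incl).map prod.snd) _ = _
    erw [PreservesLimitPair.iso_inv_snd, Types.binaryProductIso_inv_comp_snd]
    rfl

/-- evaluation at a point is injective on morphisms out of a connected object -/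
theorem evaluation_injective' [PreservesColimitsOfShape (Discrete WalkingPair) F']
    (A X : C) [IsConnected A] (a : F'.obj A) (f g : A ⟶ X) (h : F'.map f a = F'.map g a) :
    f = g := by
  obtain ⟨z⟩ := exists_equalizer_point F' f g a h
  have : IsIso (equalizer.ι f g) := by
    apply IsConnected.noTrivialComponent _ (equalizer.ι f g)
    exact not_isInitial_of_inhabited' F' z
  exact eq_of_epi_equalizer

end Basics

section NatTrans

variable {C : Type u} [Category.{v} C] [GaloisCategory C]
    (F : C ⥤ FintypeCat.{w}) [FiberFunctor F] (F' : C ⥤ FintypeCat.{w})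

open PointedGaloisObject in
theorem isCofilteredOrEmpty_pointed : IsCofilteredOrEmpty (PointedGaloisObject F) where
  cone_objs := fun ⟨A, a, _⟩ ⟨B, b, _⟩ ↦ by
    obtain ⟨Z, f, z, hgal, hfz⟩ := exists_hom_from_galois_of_fiber F (A ⨯ B)
      <| (fiberBinaryProductEquiv F A B).symm (a, b)
    refine ⟨⟨Z, z, hgal⟩, ⟨f ≫ prod.fst, ?_⟩, ⟨f ≫ prod.snd, ?_⟩, trivial⟩
    · simp only [F.map_comp, hfz, FintypeCat.comp_apply, fiberBinaryProductEquiv_symm_fst_apply]
    · simp only [F.map_comp, hfz, FintypeCat.comp_apply, fiberBinaryProductEquiv_symm_snd_apply]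
  cone_maps := fun ⟨A, a, _⟩ ⟨B, b, _⟩ ⟨f, hf⟩ ⟨g, hg⟩ ↦ by
    obtain ⟨Z, h, z, hgal, hhz⟩ := exists_hom_from_galois_of_fiber F A a
    refine ⟨⟨Z, z, hgal⟩, ⟨h, hhz⟩, hom_ext ?_⟩
    apply evaluation_injective_of_isConnected F Z B z
    simp [hhz, hf, hg]

/-- compatible systems of points of `F'` on the pointed Galois objects of `F` -/
structure CompatSystem where
  pt : ∀ A : PointedGaloisObject F, F'.obj A.obj
  compat : ∀ {A B : PointedGaloisObject F} (f : A ⟶ B), F'.map f.val (pt A) = pt B

theorem exists_compatSystem (h : ∀ X : C, IsEmpty (F'.obj X) → Nonempty (IsInitial X)) :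
    Nonempty (CompatSystem F F') := by
  have := isCofilteredOrEmpty_pointed F
  let G : PointedGaloisObject F ⥤ Type w := PointedGaloisObject.incl F ⋙ F' ⋙ FintypeCat.incl
  have hfin : ∀ j, Finite (G.obj j) := fun j => inferInstanceAs (Finite (F'.obj j.obj))
  have hne : ∀ j, Nonempty (G.obj j) := by
    intro j
    change Nonempty (F'.obj j.obj)
    by_contra hcon
    rw [not_nonempty_iff] at hcon
    obtain ⟨hI⟩ := h _ hcon
    exact IsConnected.notInitial hI
  obtain ⟨s, hs⟩ := nonempty_sections_of_finite_cofiltered_system G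
  exact ⟨⟨s, fun f => hs f⟩⟩

namespace CompatSystem

variable {F F'} (S : CompatSystem F F')

theorem val_eq {X : C} (A B : PointedGaloisObject F) (f : A.obj ⟶ X) (g : B.obj ⟶ X)
    (hfg : F.map f A.pt = F.map g B.pt) : F'.map f (S.pt A) = F'.map g (S.pt B) := by
  have := isCofilteredOrEmpty_pointed F
  obtain ⟨Z, p, q, -⟩ := IsCofilteredOrEmpty.cone_objs A B
  have hp : F.map p.val Z.pt = A.pt := p.comp
  have hq : F.map q.val Z.pt = B.pt := q.comp
  have h1 : p.val ≫ f = q.val ≫ g := by
    apply evaluation_injective_of_isConnected F Z.obj X Z.pt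
    change F.map (p.val ≫ f) Z.pt = F.map (q.val ≫ g) Z.pt
    rw [F.map_comp, F.map_comp, FintypeCat.comp_apply, FintypeCat.comp_apply, hp, hq, hfg]
  rw [← S.compat p, ← S.compat q, ← FintypeCat.comp_apply, ← FintypeCat.comp_apply,
    ← F'.map_comp, ← F'.map_comp, h1]

/-- the components of the induced natural transformation -/
noncomputable def app (X : C) (x : F.obj X) : F'.obj X :=
  let r := exists_hom_from_galois_of_fiber F X x
  F'.map r.choose_spec.choose
    (S.pt ⟨r.choose, r.choose_spec.choose_spec.choose, r.choose_spec.choose_spec.choose_spec.1⟩)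

theorem app_eq {X : C} (A : PointedGaloisObject F) (f : A.obj ⟶ X) :
    S.app X (F.map f A.pt) = F'.map f (S.pt A) := by
  let r := exists_hom_from_galois_of_fiber F X (F.map f A.pt)
  exact S.val_eq ⟨r.choose, r.choose_spec.choose_spec.choose,
    r.choose_spec.choose_spec.choose_spec.1⟩ A r.choose_spec.choose f
    r.choose_spec.choose_spec.choose_spec.2

/-- the induced natural transformation -/
noncomputable def natTrans : F ⟶ F' where
  app X := FintypeCat.homMk (S.app X)
  naturality X Y h := by
    ext x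
    obtain ⟨A, f, a, hA, rfl⟩ := exists_hom_from_galois_of_fiber F X x
    change S.app Y (F.map h (F.map f a)) = F'.map h (S.app X (F.map f a))
    have e1 := S.app_eq ⟨A, a, hA⟩ f
    have e2 := S.app_eq ⟨A, a, hA⟩ (f ≫ h)
    rw [F.map_comp, FintypeCat.comp_apply] at e2
    rw [e1, e2, F'.map_comp, FintypeCat.comp_apply]

theorem app_injective [PreservesFiniteLimits F'] [PreservesColimitsOfShape (Discrete WalkingPair) F']
    (X : C) : Function.Injective (S.app X) := by
  intro x y hxy
  have := isCofilteredOrEmpty_pointed F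
  obtain ⟨A, f0, a, hA, rfl⟩ := exists_hom_from_galois_of_fiber F X x
  obtain ⟨B, g0, b, hB, rfl⟩ := exists_hom_from_galois_of_fiber F X y
  obtain ⟨Z, p, q, -⟩ := IsCofilteredOrEmpty.cone_objs
    (⟨A, a, hA⟩ : PointedGaloisObject F) (⟨B, b, hB⟩ : PointedGaloisObject F)
  have hp : F.map p.val Z.pt = a := p.comp
  have hq : F.map q.val Z.pt = b := q.comp
  have e1 := S.app_eq Z (p.val ≫ f0)
  have e2 := S.app_eq Z (q.val ≫ g0)
  rw [F.map_comp, FintypeCat.comp_apply, hp] at e1
  rw [F.map_comp, FintypeCat.comp_apply, hq] at e2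
  rw [e1, e2] at hxy
  have h1 : p.val ≫ f0 = q.val ≫ g0 := evaluation_injective' F' Z.obj X (S.pt Z) _ _ hxy
  rw [← hp, ← hq, ← FintypeCat.comp_apply, ← FintypeCat.comp_apply, ← F.map_comp, ← F.map_comp, h1]

end CompatSystem

end NatTrans

section Split

variable {C : Type u} [Category.{v} C] [GaloisCategory C]

/-- points of a finite coproduct come from the summands -/
theorem exists_eq_map_sigmaι' (G : C ⥤ FintypeCat.{w}) {J : Type w} [Finite J]
    [PreservesColimitsOfShape (Discrete J) G] (f : J → C) (x : G.obj (∐ f)) :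
    ∃ (j : J) (y : G.obj (f j)), G.map (Sigma.ι f j) y = x := by
  let _ := Fintype.ofFinite J
  obtain ⟨⟨j⟩, y, hy⟩ := Limits.FintypeCat.jointly_surjective
    (Discrete.functor f ⋙ G) _
    (isColimitOfPreserves G (colimit.isColimit (Discrete.functor f))) x
  exact ⟨j, y, hy⟩

variable (F : C ⥤ FintypeCat.{w}) [FiberFunctor F]

/-- two points of the fibre of a binary product with the same projections agree -/
theorem prod_point_ext (X Y : C) (p q : F.obj (X ⨯ Y))
    (h1 : F.map prod.fst p = F.map prod.fst q) (h2 : F.map prod.snd p = F.map prod.snd q) :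
    p = q := by
  obtain ⟨⟨x, y⟩, rfl⟩ := (fiberBinaryProductEquiv F X Y).symm.surjective p
  obtain ⟨⟨x', y'⟩, rfl⟩ := (fiberBinaryProductEquiv F X Y).symm.surjective q
  rw [fiberBinaryProductEquiv_symm_fst_apply, fiberBinaryProductEquiv_symm_fst_apply] at h1
  rw [fiberBinaryProductEquiv_symm_snd_apply, fiberBinaryProductEquiv_symm_snd_apply] at h2
  rw [h1, h2]

variable (X A : C) [IsGalois A] (a : F.obj A) (g : F.obj X → (A ⟶ X))

/-- the trivialization map of `X` over a Galois object representing its fibre -/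
noncomputable def splitMap : (∐ fun _ : F.obj X => A) ⟶ A ⨯ X :=
  Sigma.desc (fun s => prod.lift (𝟙 A) (g s))

theorem ι_splitMap_fst (s : F.obj X) :
    Sigma.ι (fun _ : F.obj X => A) s ≫ splitMap F X A g ≫ prod.fst = 𝟙 A := by
  rw [splitMap, Sigma.ι_desc_assoc]
  exact prod.lift_fst _ _

theorem ι_splitMap_snd (s : F.obj X) :
    Sigma.ι (fun _ : F.obj X => A) s ≫ splitMap F X A g ≫ prod.snd = g s := by
  rw [splitMap, Sigma.ι_desc_assoc]
  exact prod.lift_snd _ _

variable {F X A a g}

theorem isIso_splitMap (hg : ∀ s, F.map (g s) a = s) : IsIso (splitMap F X A g) := by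
  have hfst : ∀ (s : F.obj X) (b : F.obj A), F.map prod.fst (F.map (splitMap F X A g)
      (F.map (Sigma.ι (fun _ : F.obj X => A) s) b)) = b := by
    intro s b
    rw [← FintypeCat.comp_apply, ← FintypeCat.comp_apply, ← F.map_comp, ← F.map_comp,
      ι_splitMap_fst, F.map_id]
    rfl
  have hsnd : ∀ (s : F.obj X) (b : F.obj A), F.map prod.snd (F.map (splitMap F X A g)
      (F.map (Sigma.ι (fun _ : F.obj X => A) s) b)) = F.map (g s) b := by
    intro s b
    rw [← FintypeCat.comp_apply, ← FintypeCat.comp_apply, ← F.map_comp, ← F.map_comp,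
      ι_splitMap_snd]
  have hiso : IsIso (F.map (splitMap F X A g)) := by
    rw [ConcreteCategory.isIso_iff_bijective]
    constructor
    · intro p q hpq
      obtain ⟨s, b, rfl⟩ := exists_eq_map_sigmaι' F (fun _ : F.obj X => A) p
      obtain ⟨s', b', rfl⟩ := exists_eq_map_sigmaι' F (fun _ : F.obj X => A) q
      have h1 := congrArg (F.map prod.fst) hpq
      rw [hfst, hfst] at h1
      subst h1
      have h2 := congrArg (F.map prod.snd) hpq
      rw [hsnd, hsnd] at h2
      have h3 : g s = g s' := evaluation_injective_of_isConnected F A X b h2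
      have h4 : s = s' := by rw [← hg s, ← hg s', h3]
      rw [h4]
    · intro p
      set b := F.map prod.fst p with hb
      set x := F.map prod.snd p with hx
      have := isPretransitive_of_isGalois F A
      obtain ⟨σ, hσ⟩ := MulAction.exists_smul_eq (Aut A) a b
      have hσ' : F.map σ.hom a = b := hσ
      let g' : A ⟶ X := σ.inv ≫ g x
      have hg' : F.map g' b = x := by
        rw [← hσ', ← FintypeCat.comp_apply, ← F.map_comp]
        simp only [g', Iso.hom_inv_id_assoc]
        exact hg x
      have h5 : g (F.map g' a) = g' :=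
        evaluation_injective_of_isConnected F A X a (hg _)
      refine ⟨F.map (Sigma.ι (fun _ : F.obj X => A) (F.map g' a)) b, ?_⟩
      apply prod_point_ext
      · rw [hfst]
      · rw [hsnd, h5, hg']
  exact isIso_of_reflects_iso (splitMap F X A g) F

end Split

section Main

variable {C : Type u} [Category.{v} C] [GaloisCategory C]
    {F : C ⥤ FintypeCat.{w}} [FiberFunctor F] {F' : C ⥤ FintypeCat.{w}}
    [PreservesFiniteLimits F'] [PreservesColimitsOfShape (Discrete WalkingPair) F']

theorem CompatSystem.app_surjective (S : CompatSystem F F') (X : C) :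
    Function.Surjective (S.app X) := by
  intro x'
  obtain ⟨A, a, hA, hbij⟩ := exists_galois_representative F X
  let g : F.obj X → (A ⟶ X) := fun s => (hbij.surjective s).choose
  have hg : ∀ s, F.map (g s) a = s := fun s => (hbij.surjective s).choose_spec
  have hiso : IsIso (splitMap F X A g) := isIso_splitMap (a := a) hg
  have := preservesFiniteCoproducts_of_binary F' (F.obj X)
  obtain ⟨p', hp1, hp2⟩ := exists_prod_point F' A X (S.pt ⟨A, a, hA⟩) x'
  have hbij' : Function.Bijective (F'.map (splitMap F X A g)) := by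
    rw [← ConcreteCategory.isIso_iff_bijective]
    infer_instance
  obtain ⟨q', rfl⟩ := hbij'.surjective p'
  obtain ⟨s, b', rfl⟩ := exists_eq_map_sigmaι' F' (fun _ : F.obj X => A) q'
  refine ⟨s, ?_⟩
  have h1 : b' = S.pt ⟨A, a, hA⟩ := by
    rw [← hp1, ← FintypeCat.comp_apply, ← FintypeCat.comp_apply, ← F'.map_comp, ← F'.map_comp,
      ι_splitMap_fst, F'.map_id]
    rfl
  have h2 : x' = F'.map (g s) b' := by
    rw [← hp2, ← FintypeCat.comp_apply, ← FintypeCat.comp_apply, ← F'.map_comp, ← F'.map_comp,
      ι_splitMap_snd]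
  have h3 := S.app_eq ⟨A, a, hA⟩ (g s)
  rw [hg s] at h3
  rw [h3, h2, h1]

variable (F F')

/-- uniqueness of fibre functors -/
theorem nonempty_iso_of_preserves
    (h : ∀ X : C, IsEmpty (F'.obj X) → Nonempty (IsInitial X)) : Nonempty (F' ≅ F) := by
  obtain ⟨S⟩ := exists_compatSystem F F' h
  have hiso : ∀ X, IsIso (S.natTrans.app X) := by
    intro X
    rw [ConcreteCategory.isIso_iff_bijective]
    exact ⟨S.app_injective X, S.app_surjective X⟩
  have : IsIso S.natTrans := NatIso.isIso_of_isIso_app _
  exact ⟨(asIso S.natTrans).symm⟩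

end Main

end Groth.Agent.Lib.Helper83.Pi1
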