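import Groth.Agent.Lib.Helper83.Pi1

/-!
Every open subgroup of the fundamental group is the stabilizer of a point of a connected object
(helper83).
-/

set_option autoImplicit false
universe u v w
open CategoryTheory PreGaloisCategory

namespace Groth.Agent.Lib.Helper83.Pi1

open CategoryTheory.Limits

section QuotFin

variable {G : Type u} [Group G] (V : Subgroup G) [Finite (G ⧸ V)]

/-- a small finite model of the coset space -/
def QuotFin : Type w := ULift.{w} (Fin (Nat.card (G ⧸ V)))

noncomputable def quotFinEquiv : QuotFin.{u, w} V ≃ G ⧸ V :=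
  Equiv.ulift.trans (Finite.equivFin (G ⧸ V)).symm

noncomputable instance : MulAction G (QuotFin.{u, w} V) := (quotFinEquiv V).mulAction G

noncomputable instance : Fintype (QuotFin.{u, w} V) := inferInstanceAs (Fintype (ULift.{w} (Fin _)))

theorem quotFin_smul_def (g : G) (q : QuotFin.{u, w} V) :
    g • q = (quotFinEquiv V).symm (g • quotFinEquiv V q) := rfl

/-- base point -/
noncomputable def quotFinBase : QuotFin.{u, w} V := (quotFinEquiv V).symm (QuotientGroup.mk 1)

theorem quotFin_smul_base (g : G) :
    g • quotFinBase.{u, w} V = (quotFinEquiv V).symm (QuotientGroup.mk g) := by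
  rw [quotFin_smul_def, quotFinBase, Equiv.apply_symm_apply]
  congr 1
  change QuotientGroup.mk (g * 1) = _
  rw [mul_one]

theorem quotFin_exists_smul_base (q : QuotFin.{u, w} V) : ∃ g : G, g • quotFinBase.{u, w} V = q := by
  obtain ⟨g, hg⟩ := QuotientGroup.mk_surjective (quotFinEquiv V q)
  refine ⟨g, ?_⟩
  rw [quotFin_smul_base, hg, Equiv.symm_apply_apply]

theorem quotFin_stabilizer_base : MulAction.stabilizer G (quotFinBase.{u, w} V) = V := by
  ext g
  rw [MulAction.mem_stabilizer_iff, quotFin_smul_base, quotFinBase, (quotFinEquiv V).symm.apply_eq_iff_eq]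
  rw [QuotientGroup.eq]
  constructor
  · intro h
    have := V.inv_mem h
    simpa using this
  · intro h
    simpa using V.inv_mem h

end QuotFin

section Main

open scoped FintypeCatDiscrete

variable {C : Type u} [Category.{v} C] [GaloisCategory C]
    (F : C ⥤ FintypeCat.{w}) [FiberFunctor F]

/-- connectedness from transitivity of the action on a nonempty fibre -/
theorem isConnected_of_transitive (X : C) (a : F.obj X)
    (htr : ∀ x : F.obj X, ∃ σ : Aut F, σ • a = x) : IsConnected X := by
  refine ⟨fun hI => not_initial_of_inhabited F a hI, ?_⟩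
  intro Y i hmono hY
  obtain ⟨y⟩ := (not_initial_iff_fiber_nonempty F Y).mp hY
  have hinj : Function.Injective (F.map i) :=
    ConcreteCategory.injective_of_mono_of_preservesPullback (F.map i)
  have hsurj : Function.Surjective (F.map i) := by
    intro x
    obtain ⟨σ, hσ⟩ := htr (F.map i y)
    obtain ⟨τ, hτ⟩ := htr x
    refine ⟨(τ * σ⁻¹) • y, ?_⟩
    rw [← mulAction_naturality, mul_smul, ← hσ, inv_smul_smul, hτ]
  have : IsIso (F.map i) := by
    rw [ConcreteCategory.isIso_iff_bijective]
    exact ⟨hinj, hsurj⟩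
  exact isIso_of_reflects_iso i F

theorem exists_connected_stabilizer_eq (V : Subgroup (Aut F)) (hV : IsOpen (V : Set (Aut F))) :
    ∃ (X : C) (_ : IsConnected X) (a : F.obj X), MulAction.stabilizer (Aut F) a = V := by
  have : Finite (Aut F ⧸ V) := V.quotient_finite_of_isOpen hV
  let A : Action FintypeCat.{w} (Aut F) :=
    Action.FintypeCat.ofMulAction (Aut F) (FintypeCat.of (QuotFin.{max u w, w} V))
  let _ : TopologicalSpace (QuotFin.{max u w, w} V) := ⊥
  have : DiscreteTopology (QuotFin.{max u w, w} V) := ⟨rfl⟩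
  have hcont : ContinuousSMul (Aut F) (QuotFin.{max u w, w} V) := by
    rw [continuousSMul_iff_stabilizer_isOpen]
    intro q
    obtain ⟨g, rfl⟩ := quotFin_exists_smul_base V q
    have key : ∀ τ : Aut F, τ ∈ V ↔ τ • quotFinBase.{max u w, w} V = quotFinBase.{max u w, w} V := by
      intro τ
      rw [← MulAction.mem_stabilizer_iff, quotFin_stabilizer_base]
    have hset : (MulAction.stabilizer (Aut F) (g • quotFinBase.{max u w, w} V) : Set (Aut F)) =
        (fun σ => g⁻¹ * σ * g) ⁻¹' (V : Set (Aut F)) := by
      ext σ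
      simp only [SetLike.mem_coe, MulAction.mem_stabilizer_iff, Set.mem_preimage]
      rw [key, mul_smul, mul_smul, inv_smul_eq_iff]
    rw [hset]
    exact hV.preimage (by fun_prop)
  have hcont' : A.IsContinuous := ⟨hcont.1⟩
  let A' : ContAction FintypeCat.{w} (Aut F) := ⟨A, hcont'⟩
  obtain ⟨X, ⟨j⟩⟩ := Functor.EssSurj.mem_essImage (F := functorToContAction F) A'
  let j' : (functorToAction F).obj X ≅ A := (ObjectProperty.ι _).mapIso j
  let φ : F.obj X → QuotFin.{max u w, w} V := fun x => j'.hom.hom x
  let ψ : QuotFin.{max u w, w} V → F.obj X := fun q => j'.inv.hom q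
  have hφψ : ∀ q, φ (ψ q) = q := by
    intro q
    have h1 : j'.inv.hom ≫ j'.hom.hom = 𝟙 _ := by
      rw [← Action.comp_hom, j'.inv_hom_id]; rfl
    exact ConcreteCategory.congr_hom h1 q
  have hψφ : ∀ x, ψ (φ x) = x := by
    intro x
    have h1 : j'.hom.hom ≫ j'.inv.hom = 𝟙 _ := by
      rw [← Action.comp_hom, j'.hom_inv_id]; rfl
    exact ConcreteCategory.congr_hom h1 x
  have hequiv : ∀ (σ : Aut F) (x : F.obj X), φ (σ • x) = σ • φ x := by
    intro σ x
    exact ConcreteCategory.congr_hom (j'.hom.comm σ) x
  have key : ∀ τ : Aut F, τ ∈ V ↔ τ • quotFinBase.{max u w, w} V = quotFinBase.{max u w, w} V := by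
    intro τ
    rw [← MulAction.mem_stabilizer_iff, quotFin_stabilizer_base]
  refine ⟨X, ?_, ψ (quotFinBase.{max u w, w} V), ?_⟩
  · apply isConnected_of_transitive F X (ψ (quotFinBase.{max u w, w} V))
    intro x
    obtain ⟨g, hg⟩ := quotFin_exists_smul_base V (φ x)
    refine ⟨g, ?_⟩
    have h1 : φ (g • ψ (quotFinBase.{max u w, w} V)) = φ x := by rw [hequiv, hφψ, hg]
    have h2 := congrArg ψ h1
    rwa [hψφ, hψφ] at h2
  · ext σ
    rw [MulAction.mem_stabilizer_iff, key]
    constructor
    · intro h
      have h1 := congrArg φ h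
      rwa [hequiv, hφψ] at h1
    · intro h
      have h1 : φ (σ • ψ (quotFinBase.{max u w, w} V)) = φ (ψ (quotFinBase.{max u w, w} V)) := by
        rw [hequiv, hφψ, h]
      have h2 := congrArg ψ h1
      rwa [hψφ, hψφ] at h2

end Main

/-- the whiskering homomorphism is continuous -/
theorem continuous_autWhisker {C C' : Type u} [Category.{v} C] [Category.{v} C'] (H : C ⥤ C')
    (F' : C' ⥤ FintypeCat.{w}) : Continuous (Pi1X.autWhisker H F') := by
  rw [continuous_induced_rng]
  apply continuous_pi
  intro X
  have h1 : Continuous (fun σ : Aut F' => autEmbedding F' σ (H.obj X)) :=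
    (continuous_apply (H.obj X)).comp continuous_induced_dom
  exact h1

/-- the range of the whiskering homomorphism is closed -/
theorem isClosed_range_autWhisker {C C' : Type u} [Category.{v} C] [Category.{v} C'] (H : C ⥤ C')
    (F' : C' ⥤ FintypeCat.{w}) : IsClosed ((Pi1X.autWhisker H F').range : Set (Aut (H ⋙ F'))) := by
  rw [MonoidHom.coe_range]
  exact (isCompact_range (continuous_autWhisker H F')).isClosed

end Groth.Agent.Lib.Helper83.Pi1
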