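import Groth.Agent.Lib.Helper83.Pi1Open

/-!
Objects of a Galois category with trivial action of the fundamental group are the finite
coproducts of copies of the final object (helper83).
-/

set_option autoImplicit false
universe u v w
open CategoryTheory PreGaloisCategory

namespace Groth.Agent.Lib.Helper83.Pi1

open CategoryTheory.Limits

variable {C : Type u} [Category.{v} C] [GaloisCategory C]
    (F : C ⥤ FintypeCat.{w}) [FiberFunctor F]

theorem subsingleton_fiber_terminal : Subsingleton (F.obj (⊤_ C)) := by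
  have ht : IsTerminal (F.obj (⊤_ C)) := IsTerminal.isTerminalObj F _ terminalIsTerminal
  refine ⟨fun x y => ?_⟩
  have h := ht.hom_ext (FintypeCat.homMk (X := FintypeCat.of PUnit.{w+1}) fun _ => x)
    (FintypeCat.homMk fun _ => y)
  exact ConcreteCategory.congr_hom h PUnit.unit

include F in
theorem isConnected_terminal : IsConnected (⊤_ C) := by
  obtain ⟨pt⟩ := nonempty_fiber_terminal F
  have := subsingleton_fiber_terminal F
  exact isConnected_of_transitive F _ pt (fun x => ⟨1, Subsingleton.elim _ _⟩)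

/-- points of a finite coproduct of copies of the final object -/
theorem exists_eq_map_sigmaι {n : ℕ} (x : F.obj (∐ fun _ : Fin n => ⊤_ C)) (pt : F.obj (⊤_ C)) :
    ∃ i : Fin n, F.map (Sigma.ι (fun _ : Fin n => ⊤_ C) i) pt = x := by
  have := subsingleton_fiber_terminal F
  obtain ⟨⟨j⟩, y, hy⟩ := Limits.FintypeCat.jointly_surjective
    (Discrete.functor (fun _ : Fin n => ⊤_ C) ⋙ F) _
    (isColimitOfPreserves F (colimit.isColimit (Discrete.functor fun _ : Fin n => ⊤_ C))) x
  refine ⟨j, ?_⟩
  rw [← hy]
  have : y = pt := Subsingleton.elim (α := F.obj (⊤_ C)) y pt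
  rw [this]
  rfl

/-- every point of an object with trivial action is the value of a section -/
theorem exists_section_of_trivial (Z : C) (htriv : ∀ (σ : Aut F) (b : F.obj Z), σ.hom.app Z b = b)
    (pt : F.obj (⊤_ C)) (b : F.obj Z) : ∃ s : ⊤_ C ⟶ Z, F.map s pt = b := by
  have := isConnected_terminal F
  apply exists_hom_of_stabilizer_le F (⊤_ C) Z pt b
  intro σ _
  exact htriv σ b

theorem trivial_iff_exists_iso (Z : C) :
    (∀ (σ : Aut F) (b : F.obj Z), σ.hom.app Z b = b) ↔
      ∃ n : ℕ, Nonempty (Z ≅ ∐ fun _ : Fin n => ⊤_ C) := by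
  obtain ⟨pt⟩ := nonempty_fiber_terminal F
  have hss := subsingleton_fiber_terminal F
  constructor
  · intro htriv
    let n := Nat.card (F.obj Z)
    let e : F.obj Z ≃ Fin n := Finite.equivFin _
    choose s hs using exists_section_of_trivial F Z htriv pt
    let d : (∐ fun _ : Fin n => ⊤_ C) ⟶ Z := Sigma.desc (fun i => s (e.symm i))
    have hd : ∀ i, F.map d (F.map (Sigma.ι (fun _ : Fin n => ⊤_ C) i) pt) = e.symm i := by
      intro i
      rw [← FintypeCat.comp_apply, ← F.map_comp]
      rw [Sigma.ι_desc]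
      exact hs _
    have hiso : IsIso (F.map d) := by
      rw [ConcreteCategory.isIso_iff_bijective]
      constructor
      · intro x y hxy
        obtain ⟨i, rfl⟩ := exists_eq_map_sigmaι F x pt
        obtain ⟨j, rfl⟩ := exists_eq_map_sigmaι F y pt
        rw [hd, hd] at hxy
        rw [e.symm.injective hxy]
      · intro b
        refine ⟨F.map (Sigma.ι (fun _ : Fin n => ⊤_ C) (e b)) pt, ?_⟩
        rw [hd, Equiv.symm_apply_apply]
    have : IsIso d := isIso_of_reflects_iso d F
    exact ⟨n, ⟨(asIso d).symm⟩⟩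
  · rintro ⟨n, ⟨φ⟩⟩ σ b
    obtain ⟨i, hi⟩ := exists_eq_map_sigmaι F (F.map φ.hom b) pt
    have hb : b = F.map (Sigma.ι (fun _ : Fin n => ⊤_ C) i ≫ φ.inv) pt := by
      rw [F.map_comp, FintypeCat.comp_apply, hi, ← FintypeCat.comp_apply, ← F.map_comp,
        φ.hom_inv_id, F.map_id]
      rfl
    rw [hb, NatTrans.naturality_apply σ.hom]
    congr 1
    exact Subsingleton.elim _ _

end Groth.Agent.Lib.Helper83.Pi1
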