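import Mathlib

set_option autoImplicit false

namespace Groth.Agent.Lib.Helper83.PicLaur

open TensorProduct CommRing

universe u

section RankOne

variable {A : Type u} [CommRing A] {N : Type u} [AddCommGroup N] [Module A N]
  [Module.Invertible A N]

/-- the rank one identity `φ(e) n = φ(n) e` in an invertible module. -/
theorem rank_one (φ : Module.Dual A N) (e n : N) : φ e • n = φ n • e := by
  have h := Module.Invertible.tmul_comm (R := A) (m₁ := e) (m₂ := n)
  have := congrArg (TensorProduct.lift ((LinearMap.lsmul A N).comp φ)) h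
  simpa using this

theorem rank_one' (φ φ' : Module.Dual A N) (e n : N) : φ e * φ' n = φ n * φ' e := by
  have := congrArg φ' (rank_one φ e n)
  simpa using this

/-- evaluation at `e`. -/
noncomputable def ev (e : N) : Module.Dual A N →ₗ[A] A := LinearMap.applyₗ e

omit [Module.Invertible A N] in
@[simp] theorem ev_apply (e : N) (φ : Module.Dual A N) : ev e φ = φ e := rfl

theorem ev_injective (φ : Module.Dual A N) (e : N) (ha : φ e ∈ nonZeroDivisors A) :
    Function.Injective (ev (A := A) e) := by
  rw [injective_iff_map_eq_zero]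
  intro φ' h
  rw [ev_apply] at h
  ext n
  have := rank_one' φ φ' e n
  rw [h, mul_zero, mul_comm] at this
  exact mem_nonZeroDivisors_iff_right.mp ha _ this

theorem range_mul_range (φ : Module.Dual A N) (e : N) :
    (LinearMap.range φ : Ideal A) * (LinearMap.range (ev (A := A) e) : Ideal A)
      = Ideal.span {φ e} := by
  apply le_antisymm
  · rw [Ideal.mul_le]
    rintro _ ⟨n, rfl⟩ _ ⟨φ', rfl⟩
    rw [ev_apply, ← rank_one' φ φ' e n, Ideal.mem_span_singleton']
    exact ⟨φ' n, mul_comm _ _⟩
  · rw [Ideal.span_le, Set.singleton_subset_iff]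
    have key : ∀ z : Module.Dual A N ⊗[A] N,
        φ e * (Module.Invertible.linearEquiv A N z) ∈
          (LinearMap.range φ : Ideal A) * (LinearMap.range (ev (A := A) e) : Ideal A) := by
      intro z
      induction z using TensorProduct.induction_on with
      | zero => simp
      | tmul φ' n =>
        have : Module.Invertible.linearEquiv A N (φ' ⊗ₜ n) = φ' n := by
          simp [Module.Invertible.linearEquiv]
        rw [this, rank_one' φ φ' e n]
        exact Ideal.mul_mem_mul ⟨n, rfl⟩ ⟨φ', rfl⟩
      | add x y hx hy => rw [map_add, mul_add]; exact Ideal.add_mem _ hx hy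
    have := key ((Module.Invertible.linearEquiv A N).symm 1)
    rwa [LinearEquiv.apply_symm_apply, mul_one] at this

/-- there are `φ`, `e` with `φ e` outside a given proper ideal. -/
theorem exists_not_mem (K : Ideal A) (hK : K ≠ ⊤) : ∃ (φ : Module.Dual A N) (e : N), φ e ∉ K := by
  by_contra hcon
  push Not at hcon
  have key : ∀ z : Module.Dual A N ⊗[A] N, Module.Invertible.linearEquiv A N z ∈ K := by
    intro z
    induction z using TensorProduct.induction_on with
    | zero => simp
    | tmul φ' n =>
      have : Module.Invertible.linearEquiv A N (φ' ⊗ₜ n) = φ' n := by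
        simp [Module.Invertible.linearEquiv]
      rw [this]; exact hcon φ' n
    | add x y hx hy => rw [map_add]; exact Ideal.add_mem _ hx hy
  have := key ((Module.Invertible.linearEquiv A N).symm 1)
  rw [LinearEquiv.apply_symm_apply] at this
  exact hK ((Ideal.eq_top_iff_one K).mpr this)

end RankOne

section Inv

/-- an ideal with an "inverse up to a nonzerodivisor" is an invertible module. -/
theorem invertible_of_mul_eq_span {A : Type u} [CommRing A] (I I₂ : Ideal A) (g : A)
    (hg : g ∈ nonZeroDivisors A) (h : I * I₂ = Ideal.span {g}) : Module.Invertible A I₂ := by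
  have hinj : Function.Injective (algebraMap A (Localization.Away g)) :=
    IsLocalization.injective (Localization.Away g) (Submonoid.powers_le.mpr hg)
  have _ : FaithfulSMul A (Localization.Away g) :=
    (faithfulSMul_iff_algebraMap_injective A (Localization.Away g)).mpr hinj
  set f : A →ₐ[A] Localization.Away g := Algebra.ofId A (Localization.Away g) with hf
  have hfa : ∀ a : A, f.toLinearMap a = algebraMap A (Localization.Away g) a := fun a => rfl
  set gi : Localization.Away g := IsLocalization.Away.invSelf g with hgi
  have hgg : algebraMap A (Localization.Away g) g * gi = 1 := IsLocalization.Away.mul_invSelf g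
  have hmul : Submodule.map f.toLinearMap I₂ * Submodule.map f.toLinearMap I
      = Submodule.span A {algebraMap A (Localization.Away g) g} := by
    rw [← Submodule.map_mul]
    have : (HMul.hMul (α := Submodule A A) I₂ I) = Ideal.span {g} := by
      rw [← h, mul_comm]
    rw [this, Ideal.span, Submodule.map_span, Set.image_singleton, hfa]
  have hunit : Submodule.map f.toLinearMap I₂ *
      (Submodule.map f.toLinearMap I * Submodule.span A {gi}) = 1 := by
    rw [← mul_assoc, hmul, Submodule.span_mul_span, Set.singleton_mul_singleton, hgg,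
      Submodule.one_eq_span]
  obtain ⟨u, hu⟩ : ∃ u : (Submodule A (Localization.Away g))ˣ,
      (u : Submodule A (Localization.Away g)) = Submodule.map f.toLinearMap I₂ :=
    ⟨⟨Submodule.map f.toLinearMap I₂, Submodule.map f.toLinearMap I * Submodule.span A {gi},
      hunit, by rw [mul_comm]; exact hunit⟩, rfl⟩
  have h2 : Module.Invertible A (u : Submodule A (Localization.Away g)) := inferInstance
  rw [hu] at h2
  exact Module.Invertible.congr (Submodule.equivMapOfInjective f.toLinearMap hinj I₂).symm

end Inv

section BaseChange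

variable {R : Type u} [CommRing R] {S : Type u} [CommRing S] [Algebra R S]

/-- the canonical surjection `S ⊗ I → I S`. -/
noncomputable def toMap (I : Ideal R) : S ⊗[R] I →ₗ[S] (I.map (algebraMap R S)) :=
  LinearMap.liftBaseChange S
    ({ toFun := fun i => ⟨algebraMap R S i, Ideal.mem_map_of_mem _ i.2⟩
       map_add' := fun x y => by ext; simp
       map_smul' := fun r x => by ext; simp [Algebra.smul_def] } : I →ₗ[R] (I.map (algebraMap R S)))

theorem toMap_tmul (I : Ideal R) (s : S) (i : I) :
    ((toMap (S := S) I (s ⊗ₜ i) : I.map (algebraMap R S)) : S) = s * algebraMap R S i := by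
  simp [toMap]

theorem toMap_surjective (I : Ideal R) : Function.Surjective (toMap (S := S) I) := by
  rintro ⟨j, hj⟩
  have : ∃ z : S ⊗[R] I, ((toMap (S := S) I z : I.map (algebraMap R S)) : S) = j := by
    refine Submodule.span_induction (p := fun j _ => ∃ z : S ⊗[R] I,
      ((toMap (S := S) I z : I.map (algebraMap R S)) : S) = j) ?_ ?_ ?_ ?_ hj
    · rintro _ ⟨i, hi, rfl⟩
      exact ⟨1 ⊗ₜ ⟨i, hi⟩, by rw [toMap_tmul, one_mul]⟩
    · exact ⟨0, by simp⟩
    · rintro x y _ _ ⟨z, hz⟩ ⟨w, hw⟩
      exact ⟨z + w, by rw [map_add, Submodule.coe_add, hz, hw]⟩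
    · rintro a x _ ⟨z, hz⟩
      exact ⟨a • z, by rw [map_smul, Submodule.coe_smul, hz]⟩
  obtain ⟨z, hz⟩ := this
  exact ⟨z, Subtype.ext hz⟩

theorem mapAlgebra_mk (M : Type u) [AddCommGroup M] [Module R M] [Module.Invertible R M] :
    Pic.mapAlgebra R S (Pic.mk R M) = Pic.mk S (S ⊗[R] M) := by
  rw [Pic.mapAlgebra_apply, Pic.mk_eq_mk_iff]
  exact ⟨TensorProduct.AlgebraTensorModule.congr (LinearEquiv.refl S S) (Pic.mk.linearEquiv R M)⟩

end BaseChange

end Groth.Agent.Lib.Helper83.PicLaur
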