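import Mathlib
import Groth.Agent.Lib.Helper9.HenselFactor

set_option autoImplicit false

namespace Groth.Agent.Lib.Helper83.ZarLaur

open Polynomial

universe u

/-! ## Abstract localisation-like maps -/
section Abstract

variable {A L : Type*} [CommRing A] [CommRing L] (ψ : A →+* L) (S : Submonoid A)

/-- The three localisation axioms, for a plain ring hom. -/
structure IsLoc : Prop where
  unit : ∀ g ∈ S, IsUnit (ψ g)
  surj : ∀ l : L, ∃ a : A, ∃ g ∈ S, l * ψ g = ψ a
  inj : ∀ y : A, ψ y = 0 → ∃ g ∈ S, g * y = 0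

variable {ψ S}

theorem IsLoc.mem_map (h : IsLoc ψ S) (K : Ideal A) {x : L} (hx : x ∈ K.map ψ) :
    ∃ a ∈ K, ∃ g ∈ S, x * ψ g = ψ a := by
  refine Submodule.span_induction (p := fun x _ => ∃ a ∈ K, ∃ g ∈ S, x * ψ g = ψ a)
    ?_ ?_ ?_ ?_ hx
  · rintro _ ⟨k, hk, rfl⟩
    exact ⟨k, hk, 1, S.one_mem, by simp⟩
  · exact ⟨0, K.zero_mem, 1, S.one_mem, by simp⟩
  · rintro x y _ _ ⟨a, ha, g, hg, e1⟩ ⟨a', ha', g', hg', e2⟩
    refine ⟨a * g' + a' * g, K.add_mem (K.mul_mem_right _ ha) (K.mul_mem_right _ ha'),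
      g * g', S.mul_mem hg hg', ?_⟩
    rw [map_add, map_mul, map_mul, map_mul, ← e1, ← e2]; ring
  · rintro l x _ ⟨a, ha, g, hg, e1⟩
    obtain ⟨b, g', hg', e2⟩ := h.surj l
    refine ⟨b * a, K.mul_mem_left _ ha, g' * g, S.mul_mem hg' hg, ?_⟩
    rw [smul_eq_mul, map_mul, map_mul, ← e1, ← e2]; ring

theorem IsLoc.map_comap (h : IsLoc ψ S) (J : Ideal L) : (J.comap ψ).map ψ = J := by
  apply le_antisymm Ideal.map_comap_le
  intro l hl
  obtain ⟨a, g, hg, e⟩ := h.surj l
  have ha : a ∈ J.comap ψ := by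
    rw [Ideal.mem_comap, ← e]; exact J.mul_mem_right _ hl
  obtain ⟨u, hu⟩ := h.unit g hg
  have : l = ψ a * ↑u⁻¹ := by
    rw [← e, ← hu, mul_assoc, Units.mul_inv, mul_one]
  rw [this]
  exact Ideal.mul_mem_right _ _ (Ideal.mem_map_of_mem _ ha)

theorem IsLoc.comap_map (h : IsLoc ψ S) (I : Ideal A)
    (hI : ∀ g ∈ S, ∃ k : A, k * g - 1 ∈ I) : (I.map ψ).comap ψ = I := by
  apply le_antisymm _ Ideal.le_comap_map
  intro q hq
  rw [Ideal.mem_comap] at hq
  obtain ⟨a, ha, g, hg, e⟩ := h.mem_map I hq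
  have e' : ψ (q * g - a) = 0 := by rw [map_sub, map_mul, e, sub_self]
  obtain ⟨g', hg', e''⟩ := h.inj _ e'
  obtain ⟨k, hk⟩ := hI (g' * g) (S.mul_mem hg' hg)
  have h1 : g' * g * q ∈ I := by
    have : g' * g * q = g' * (q * g - a) + g' * a := by ring
    rw [this, e'', zero_add]; exact I.mul_mem_left _ ha
  have : q = k * (g' * g * q) - (k * (g' * g) - 1) * q := by ring
  rw [this]
  exact I.sub_mem (I.mul_mem_left _ h1) (I.mul_mem_right _ hk)

theorem IsLoc.quotientMap_bijective (h : IsLoc ψ S) (I : Ideal A)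
    (hI : ∀ g ∈ S, ∃ k : A, k * g - 1 ∈ I) :
    Function.Bijective (Ideal.quotientMap (I.map ψ) ψ Ideal.le_comap_map) := by
  constructor
  · rw [injective_iff_map_eq_zero]
    intro x hx
    obtain ⟨q, rfl⟩ := Ideal.Quotient.mk_surjective x
    rw [Ideal.quotientMap_mk, Ideal.Quotient.eq_zero_iff_mem] at hx
    rw [Ideal.Quotient.eq_zero_iff_mem, ← h.comap_map I hI]
    exact hx
  · intro y
    obtain ⟨l, rfl⟩ := Ideal.Quotient.mk_surjective y
    obtain ⟨a, g, hg, e⟩ := h.surj l
    obtain ⟨k, hk⟩ := hI g hg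
    refine ⟨Ideal.Quotient.mk I (a * k), ?_⟩
    rw [Ideal.quotientMap_mk, Ideal.Quotient.eq]
    obtain ⟨u, hu⟩ := h.unit g hg
    have h2 : ψ (a * k) - l = (ψ a * ψ (k * g - 1)) * ↑u⁻¹ := by
      have : ψ a * ψ (k * g - 1) = (ψ (a * k) - l) * ψ g := by
        rw [map_sub, map_mul, map_mul, map_one, sub_mul, e]; ring
      rw [this, ← hu, mul_assoc, Units.mul_inv, mul_one]
    rw [h2]
    exact Ideal.mul_mem_right _ _ (Ideal.mul_mem_left _ _ (Ideal.mem_map_of_mem _ hk))

end Abstract


/-! ## The concrete Zariski Laurent ring -/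
section Concrete

/-- The submonoid of monic polynomials. -/
def monics (R : Type*) [CommRing R] : Submonoid R[X] where
  carrier := {g | g.Monic}
  mul_mem' := fun ha hb => Monic.mul ha hb
  one_mem' := monic_one

theorem mem_monics {R : Type*} [CommRing R] {g : R[X]} : g ∈ monics R ↔ g.Monic := Iff.rfl

variable {R : Type u} [CommRing R] {L : Type u} [CommRing L] [Algebra R[X] L] [Algebra R L]
  [IsScalarTower R R[X] L] (ψ : R[X] →ₐ[R] L) (hψ : ψ X * algebraMap R[X] L X = 1)

omit [IsScalarTower R R[X] L] in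
theorem psi_eq (q : R[X]) : ψ q = eval₂ (algebraMap R L) (ψ X) q := by
  have : (ψ : R[X] →+* L) = eval₂RingHom (algebraMap R L) (ψ X) := by
    apply Polynomial.ringHom_ext
    · intro a
      have : ψ (C a) = algebraMap R L a := by
        rw [← Polynomial.algebraMap_eq]; exact ψ.commutes a
      simpa using this
    · simp
  exact congrFun (congrArg DFunLike.coe this) q

theorem alg_eq (p : R[X]) :
    algebraMap R[X] L p = eval₂ (algebraMap R L) (algebraMap R[X] L X) p := by
  have : (algebraMap R[X] L) = eval₂RingHom (algebraMap R L) (algebraMap R[X] L X) := by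
    apply Polynomial.ringHom_ext
    · intro a
      rw [← Polynomial.algebraMap_eq, ← IsScalarTower.algebraMap_apply]
      simp
    · simp
  exact congrFun (congrArg DFunLike.coe this) p

include hψ in
theorem key (N : ℕ) (f : R[X]) (hf : f.natDegree ≤ N) :
    ψ (reflect N f) * (algebraMap R[X] L X) ^ N = algebraMap R[X] L f := by
  let inst : Invertible (algebraMap R[X] L X) := ⟨ψ X, hψ, by rw [mul_comm]; exact hψ⟩
  have := eval₂_reflect_mul_pow (algebraMap R L) (algebraMap R[X] L X) N f hf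
  rw [psi_eq, alg_eq f]
  exact this

include hψ in
theorem key' (N : ℕ) (q : R[X]) (hq : q.natDegree ≤ N) :
    ψ q * (algebraMap R[X] L X) ^ N = algebraMap R[X] L (reflect N q) := by
  have h1 : (reflect N q).natDegree ≤ N := by
    refine natDegree_reflect_le.trans ?_
    simp [hq]
  have := key ψ hψ N (reflect N q) h1
  rwa [reflect_reflect] at this


theorem mem_nonZeroDivisors_of_coeff_zero {g : R[X]} (hg : g.coeff 0 = 1) :
    g ∈ nonZeroDivisors R[X] := by
  rw [mem_nonZeroDivisors_iff_right]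
  intro z hz
  by_contra hz0
  rcases subsingleton_or_nontrivial R with hR | hR
  · exact hz0 (Subsingleton.elim _ _)
  have hg0 : g.natTrailingDegree = 0 := by
    apply Nat.le_zero.mp
    apply natTrailingDegree_le_of_ne_zero
    rw [hg]; exact one_ne_zero
  have h1 := coeff_mul_natTrailingDegree_add_natTrailingDegree (p := z) (q := g)
  rw [hz, coeff_zero] at h1
  have h2 : g.trailingCoeff = 1 := by
    rw [trailingCoeff, hg0, hg]
  rw [h2, mul_one] at h1
  exact hz0 (trailingCoeff_eq_zero.mp h1.symm)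

theorem closure_le_nonZeroDivisors :
    Submonoid.closure ({f : R[X] | f.coeff 0 = 1} ∪ {X}) ≤ nonZeroDivisors R[X] := by
  rw [Submonoid.closure_le]
  rintro g (hg | hg)
  · exact mem_nonZeroDivisors_of_coeff_zero hg
  · rw [Set.mem_singleton_iff] at hg
    rw [hg]; exact X_mem_nonzeroDivisors

variable [IsLocalization (Submonoid.closure ({f : R[X] | f.coeff 0 = 1} ∪ {X})) L]

include hψ in
theorem denom (w : R[X]) (hw : w ∈ Submonoid.closure ({f : R[X] | f.coeff 0 = 1} ∪ {X})) :
    ∃ g : R[X], g.Monic ∧ ∃ k : ℕ, algebraMap R[X] L w = ψ g * (algebraMap R[X] L X) ^ k := by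
  induction hw using Submonoid.closure_induction with
  | mem w hw =>
    rcases hw with hw | hw
    · refine ⟨reflect w.natDegree w, ?_, w.natDegree, (key ψ hψ _ w le_rfl).symm⟩
      apply monic_of_natDegree_le_of_coeff_eq_one w.natDegree
      · refine natDegree_reflect_le.trans ?_
        simp
      · rw [coeff_reflect, revAt_le le_rfl, Nat.sub_self]; exact hw
    · rw [Set.mem_singleton_iff] at hw
      exact ⟨1, monic_one, 1, by rw [hw, map_one, one_mul, pow_one]⟩
  | one => exact ⟨1, monic_one, 0, by simp⟩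
  | mul x y _ _ hx hy =>
    obtain ⟨g, hg, k, e1⟩ := hx
    obtain ⟨g', hg', k', e2⟩ := hy
    refine ⟨g * g', hg.mul hg', k + k', ?_⟩
    rw [map_mul, e1, e2, map_mul, pow_add]; ring

include hψ in
theorem isLoc : IsLoc (ψ : R[X] →+* L) (monics R) := by
  have hT : IsUnit (algebraMap R[X] L X) :=
    IsUnit.of_mul_eq_one _ (by rw [mul_comm]; exact hψ)
  have hinj : Function.Injective (algebraMap R[X] L) :=
    IsLocalization.injective L closure_le_nonZeroDivisors
  refine ⟨?_, ?_, ?_⟩
  · intro g hg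
    have h1 := key' ψ hψ g.natDegree g le_rfl
    have h2 : IsUnit (algebraMap R[X] L (reflect g.natDegree g)) := by
      apply IsLocalization.map_units L
        (⟨_, Submonoid.subset_closure (Or.inl ?_)⟩ :
          Submonoid.closure ({f : R[X] | f.coeff 0 = 1} ∪ {X}))
      show (reflect g.natDegree g).coeff 0 = 1
      rw [coeff_reflect, revAt_le (Nat.zero_le _), Nat.sub_zero]
      exact hg
    rw [← h1] at h2
    exact (IsUnit.mul_iff.mp h2).1
  · intro l
    obtain ⟨⟨p, w⟩, e⟩ := IsLocalization.surj (Submonoid.closure ({f : R[X] | f.coeff 0 = 1} ∪ {X})) l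
    obtain ⟨g, hg, k, e1⟩ := denom ψ hψ w.1 w.2
    have e2 := key ψ hψ p.natDegree p le_rfl
    simp only at e
    refine ⟨reflect p.natDegree p * X ^ k, g * X ^ p.natDegree, (monics R).mul_mem hg (monic_X_pow _), ?_⟩
    have h3 : ∀ n : ℕ, ψ X ^ n * (algebraMap R[X] L X) ^ n = 1 := by
      intro n; rw [← mul_pow, hψ, one_pow]
    show l * ψ (g * X ^ p.natDegree) = ψ (reflect p.natDegree p * X ^ k)
    rw [map_mul, map_mul, map_pow, map_pow]
    have h4 : l * (ψ g * (algebraMap R[X] L X) ^ k) =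
        ψ (reflect p.natDegree p) * (algebraMap R[X] L X) ^ p.natDegree := by
      rw [← e1, e, e2]
    calc l * (ψ g * ψ X ^ p.natDegree)
        = l * (ψ g * (algebraMap R[X] L X) ^ k) * (ψ X ^ k * ψ X ^ p.natDegree) := by
          have := h3 k
          linear_combination (exp := 1) (-(l * ψ g * ψ X ^ p.natDegree)) * this
      _ = ψ (reflect p.natDegree p) * (algebraMap R[X] L X) ^ p.natDegree * (ψ X ^ k * ψ X ^ p.natDegree) := by
          rw [h4]
      _ = ψ (reflect p.natDegree p) * ψ X ^ k := by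
          have := h3 p.natDegree
          linear_combination (exp := 1) (ψ (reflect p.natDegree p) * ψ X ^ k) * this
  · intro y hy
    refine ⟨1, (monics R).one_mem, ?_⟩
    rw [one_mul]
    have h1 := key' ψ hψ y.natDegree y le_rfl
    have hy' : ψ y = 0 := hy
    rw [hy', zero_mul] at h1
    have h2 : reflect y.natDegree y = 0 := hinj (by rw [← h1, map_zero])
    exact reflect_eq_zero_iff.mp h2

end Concrete


/-! ## Monic polynomials are units modulo ideals avoiding the special fibre -/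
section Local

open IsLocalRing

variable {R : Type u} [CommRing R] [IsLocalRing R]

theorem exists_mul_sub_one_mem (I : Ideal R[X])
    (hI : I ⊔ (maximalIdeal R).map (algebraMap R R[X]) = ⊤) (g : R[X]) (hg : g.Monic) :
    ∃ k : R[X], k * g - 1 ∈ I := by
  have hfin : Module.Finite R (AdjoinRoot g) := hg.finite_adjoinRoot
  have hint : Algebra.IsIntegral R (AdjoinRoot g) := Algebra.IsIntegral.of_finite R _
  have hjac : (maximalIdeal R).map (algebraMap R (AdjoinRoot g)) ≤
      Ideal.jacobson (⊥ : Ideal (AdjoinRoot g)) := by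
    rw [Ideal.jacobson, le_sInf_iff]
    rintro M ⟨-, hM⟩
    have h1 : (M.comap (algebraMap R (AdjoinRoot g))).IsMaximal :=
      Ideal.isMaximal_comap_of_isIntegral_of_isMaximal M
    rw [Ideal.map_le_iff_le_comap, IsLocalRing.eq_maximalIdeal h1]
  have h2 : I.map (AdjoinRoot.mk g) ⊔ (maximalIdeal R).map (algebraMap R (AdjoinRoot g)) = ⊤ := by
    have := congrArg (Ideal.map (AdjoinRoot.mk g)) hI
    rw [Ideal.map_sup, Ideal.map_top, Ideal.map_map] at this
    exact this
  have h3 : (1 : AdjoinRoot g) ∈ I.map (AdjoinRoot.mk g) ⊔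
      (maximalIdeal R).map (algebraMap R (AdjoinRoot g)) := by rw [h2]; trivial
  obtain ⟨i, hi, μ, hμ, e⟩ := Submodule.mem_sup.mp h3
  have hμ' := Ideal.mem_jacobson_bot.mp (hjac hμ) (-1)
  have hiu : IsUnit i := by
    have : i = μ * (-1) + 1 := by linear_combination e
    rw [this]; exact hμ'
  have htop : I.map (AdjoinRoot.mk g) = ⊤ := Ideal.eq_top_of_isUnit_mem _ hi hiu
  have h1 : (1 : AdjoinRoot g) ∈ I.map (AdjoinRoot.mk g) := by rw [htop]; trivial
  obtain ⟨j, hj, ej⟩ := (Ideal.mem_map_iff_of_surjective _ AdjoinRoot.mk_surjective).mp h1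
  have h4 : AdjoinRoot.mk g (j - 1) = 0 := by rw [map_sub, ej, map_one, sub_self]
  rw [AdjoinRoot.mk_eq_zero] at h4
  obtain ⟨k', hk'⟩ := h4
  refine ⟨-k', ?_⟩
  have : -k' * g - 1 = -j := by
    have : g * k' = j - 1 := hk'.symm
    linear_combination (-1 : R[X]) * this
  rw [this]; exact I.neg_mem hj


theorem comap_sup_eq_top {R : Type u} [CommRing R] [HenselianLocalRing R] {L : Type u} [CommRing L]
    (ψ : R[X] →+* L) (h : IsLoc ψ (monics R)) (J : Ideal L)
    (hJ : J ⊔ ((maximalIdeal R).map (C : R →+* R[X])).map ψ = ⊤) :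
    J.comap ψ ⊔ (maximalIdeal R).map (C : R →+* R[X]) = ⊤ := by
  have h1 : (1 : L) ∈ J ⊔ ((maximalIdeal R).map (C : R →+* R[X])).map ψ := by rw [hJ]; trivial
  obtain ⟨j, hj, μ, hμ, e⟩ := Submodule.mem_sup.mp h1
  obtain ⟨a, ha, g, hg, e1⟩ := h.mem_map _ hμ
  have hg' : g.Monic := hg
  set F := g - a with hF
  have hFJ : F ∈ J.comap ψ := by
    rw [Ideal.mem_comap, hF, map_sub, ← e1]
    have : ψ g - μ * ψ g = j * ψ g := by rw [← sub_eq_iff_eq_add.mpr e.symm]; ring
    rw [this]; exact J.mul_mem_right _ hj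
  have ha0 : a.map (residue R) = 0 := (Helper9.HenselFactor.mem_map_C_iff_map_eq_zero a).mp ha
  have hFmap : F.map (residue R) = g.map (residue R) := by
    rw [hF, Polynomial.map_sub, ha0, sub_zero]
  have hgm : (g.map (residue R)).Monic := hg'.map _
  have hF0 : F.map (residue R) ≠ 0 := by rw [hFmap]; exact hgm.ne_zero
  obtain ⟨F₁, hF₁m, ⟨U, hU⟩, hF₁d⟩ := Helper9.HenselFactor.exists_monic_dvd F hF0
  have hUJ : U ∈ J.comap ψ := by
    rw [Ideal.mem_comap]
    have h2 : ψ F₁ * ψ U ∈ J := by rw [← map_mul, ← hU]; exact hFJ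
    obtain ⟨u, hu⟩ := h.unit F₁ hF₁m
    have : ψ U = ↑u⁻¹ * (ψ F₁ * ψ U) := by
      rw [← hu, ← mul_assoc, Units.inv_mul, one_mul]
    rw [this]; exact J.mul_mem_left _ h2
  have hU1 : U.map (residue R) = 1 := by
    have h3 : g.map (residue R) = F₁.map (residue R) * U.map (residue R) := by
      rw [← hFmap, hU, Polynomial.map_mul]
    have hF₁bm : (F₁.map (residue R)).Monic := hF₁m.map _
    have hUb0 : U.map (residue R) ≠ 0 := by
      intro h0; rw [h0, mul_zero] at h3; exact hgm.ne_zero h3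
    have hdeg : (U.map (residue R)).natDegree = 0 := by
      have h4 := congrArg natDegree h3
      rw [natDegree_mul hF₁bm.ne_zero hUb0, hF₁m.natDegree_map, hF₁d, hFmap] at h4
      omega
    have hlc : (U.map (residue R)).leadingCoeff = 1 := by
      have h4 := congrArg leadingCoeff h3
      rw [leadingCoeff_mul, hF₁bm.leadingCoeff, one_mul, hgm.leadingCoeff] at h4
      exact h4.symm
    rw [eq_C_of_natDegree_eq_zero hdeg, ← hdeg, coeff_natDegree, hlc, C_1]
  have hU1' : U - 1 ∈ (maximalIdeal R).map (C : R →+* R[X]) := by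
    rw [Helper9.HenselFactor.mem_map_C_iff_map_eq_zero, Polynomial.map_sub, hU1, Polynomial.map_one,
      sub_self]
  rw [Ideal.eq_top_iff_one]
  have : (1 : R[X]) = U - (U - 1) := by ring
  rw [this]
  exact Ideal.sub_mem _ (Ideal.mem_sup_left hUJ) (Ideal.mem_sup_right hU1')

end Local


open IsLocalRing in
theorem main_S15779 (R : Type u) [CommRing R] [HenselianLocalRing R] (L : Type u) [CommRing L]
    [Algebra R[X] L]
    [IsLocalization (Submonoid.closure ({f : R[X] | f.coeff 0 = 1} ∪ {X})) L]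
    [Algebra R L] [IsScalarTower R R[X] L]
    (ψ : R[X] →ₐ[R] L) (hψ : ψ X * algebraMap R[X] L X = 1) :
    (∀ I : Ideal R[X], I ⊔ (IsLocalRing.maximalIdeal R).map (algebraMap R R[X]) = ⊤ →
        (I.map ψ.toRingHom).comap ψ.toRingHom = I ∧
        I.map ψ.toRingHom ⊔ (IsLocalRing.maximalIdeal R).map (algebraMap R L) = ⊤ ∧
        Function.Bijective (Ideal.quotientMap (I.map ψ.toRingHom) ψ.toRingHom Ideal.le_comap_map)) ∧
    (∀ J : Ideal L, J ⊔ (IsLocalRing.maximalIdeal R).map (algebraMap R L) = ⊤ →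
        (J.comap ψ.toRingHom).map ψ.toRingHom = J ∧
        J.comap ψ.toRingHom ⊔ (IsLocalRing.maximalIdeal R).map (algebraMap R R[X]) = ⊤) := by
  have hloc : IsLoc ψ.toRingHom (monics R) := isLoc ψ hψ
  have hcomp : ψ.toRingHom.comp (C : R →+* R[X]) = algebraMap R L := by
    ext a
    have : ψ (C a) = algebraMap R L a := by
      rw [← Polynomial.algebraMap_eq]; exact ψ.commutes a
    exact this
  have hm : (maximalIdeal R).map (algebraMap R L) =
      ((maximalIdeal R).map (C : R →+* R[X])).map ψ.toRingHom := by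
    rw [Ideal.map_map, hcomp]
  refine ⟨fun I hI => ?_, fun J hJ => ?_⟩
  · have hu : ∀ g ∈ monics R, ∃ k : R[X], k * g - 1 ∈ I :=
      fun g hg => exists_mul_sub_one_mem I hI g hg
    refine ⟨hloc.comap_map I hu, ?_, hloc.quotientMap_bijective I hu⟩
    have := congrArg (Ideal.map ψ.toRingHom) hI
    rw [Ideal.map_sup, Ideal.map_top, Polynomial.algebraMap_eq, ← hm] at this
    exact this
  · refine ⟨hloc.map_comap J, ?_⟩
    rw [hm] at hJ
    exact comap_sup_eq_top ψ.toRingHom hloc J hJ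

end Groth.Agent.Lib.Helper83.ZarLaur
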