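import Mathlib
import Groth.Agent.Lib.Helper83.PicLaur1
import Groth.Agent.Lib.Helper83.ZarLaur1

set_option autoImplicit false

namespace Groth.Agent.Lib.Helper83.PicLaur

open TensorProduct CommRing Polynomial IsLocalRing

universe u

section Poly

variable {R : Type u} [CommRing R] [IsLocalRing R]

theorem isUnit_coeff_zero {G : R[X]} (hG : G - 1 ∈ (maximalIdeal R).map (C : R →+* R[X])) :
    IsUnit (G.coeff 0) := by
  rw [Ideal.mem_map_C_iff] at hG
  have h0 := hG 0
  rw [coeff_sub, coeff_one, if_pos rfl] at h0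
  by_contra hnu
  have h2 : G.coeff 0 ∈ maximalIdeal R := (mem_maximalIdeal _).mpr hnu
  have h3 : (1 : R) ∈ maximalIdeal R := by
    have := Ideal.sub_mem _ h2 h0
    rwa [sub_sub_cancel] at this
  exact (Ideal.ne_top_iff_one _).mp (maximalIdeal.isMaximal R).ne_top h3

theorem mem_nonZeroDivisors_of_sub_one_mem {G : R[X]}
    (hG : G - 1 ∈ (maximalIdeal R).map (C : R →+* R[X])) : G ∈ nonZeroDivisors R[X] := by
  obtain ⟨u, hu⟩ := isUnit_coeff_zero hG
  have h1 : C (↑u⁻¹ : R) * G ∈ nonZeroDivisors R[X] := by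
    apply Groth.Agent.Lib.Helper83.ZarLaur.mem_nonZeroDivisors_of_coeff_zero
    rw [coeff_C_mul, ← hu, Units.inv_mul]
  have h2 : C (u : R) ∈ nonZeroDivisors R[X] :=
    IsUnit.mem_nonZeroDivisors (u.isUnit.map C)
  have : G = C (u : R) * (C (↑u⁻¹ : R) * G) := by
    rw [← mul_assoc, ← C_mul, Units.mul_inv, C_1, one_mul]
  rw [this]
  exact mul_mem h2 h1

theorem span_sup_eq_top {G : R[X]} (hG : G - 1 ∈ (maximalIdeal R).map (C : R →+* R[X]))
    (I : Ideal R[X]) (hGI : G ∈ I) : I ⊔ (maximalIdeal R).map (C : R →+* R[X]) = ⊤ := by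
  rw [Ideal.eq_top_iff_one]
  have : (1 : R[X]) = G - (G - 1) := by ring
  rw [this]
  exact Ideal.sub_mem _ (Ideal.mem_sup_left hGI) (Ideal.mem_sup_right hG)

/-- every invertible `R[X]`-module has an element and a functional pairing to `1` mod `m`. -/
theorem exists_pair (M : Type u) [AddCommGroup M] [Module R[X] M] [Module.Invertible R[X] M] :
    ∃ (x : M) (φ : Module.Dual R[X] M), φ x - 1 ∈ (maximalIdeal R).map (C : R →+* R[X]) := by
  let _ : Field (R ⧸ maximalIdeal R) := Ideal.Quotient.field (maximalIdeal R)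
  set K : Ideal R[X] := (maximalIdeal R).map (C : R →+* R[X]) with hK
  let e0 := Ideal.polynomialQuotientEquivQuotientPolynomial (maximalIdeal R)
  have _ : IsDomain (R[X] ⧸ K) := MulEquiv.isDomain (R ⧸ maximalIdeal R)[X] e0.symm.toMulEquiv
  have _ : IsPrincipalIdealRing (R[X] ⧸ K) :=
    IsPrincipalIdealRing.of_surjective e0.toRingHom e0.surjective
  have hfree : Module.Free (R[X] ⧸ K) ((R[X] ⧸ K) ⊗[R[X]] M) := inferInstance
  obtain ⟨ε⟩ := Module.Invertible.free_iff_linearEquiv.mp hfree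
  let ε₀ : M →ₗ[R[X]] (R[X] ⧸ K) :=
    (ε.restrictScalars R[X]).toLinearMap ∘ₗ (TensorProduct.mk R[X] (R[X] ⧸ K) M 1)
  obtain ⟨φ, hφ⟩ := Module.projective_lifting_property (Algebra.linearMap R[X] (R[X] ⧸ K)) ε₀
    Ideal.Quotient.mk_surjective
  have hz : ∀ z : (R[X] ⧸ K) ⊗[R[X]] M, ∃ x : M, z = 1 ⊗ₜ x := by
    intro z
    induction z using TensorProduct.induction_on with
    | zero => exact ⟨0, by simp⟩
    | tmul q m =>
      obtain ⟨q, rfl⟩ := Ideal.Quotient.mk_surjective q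
      refine ⟨q • m, ?_⟩
      rw [← TensorProduct.smul_tmul]
      congr 1
      rw [← Ideal.Quotient.algebraMap_eq, Algebra.algebraMap_eq_smul_one]
    | add a b ha hb =>
      obtain ⟨x, rfl⟩ := ha
      obtain ⟨y, rfl⟩ := hb
      exact ⟨x + y, by rw [TensorProduct.tmul_add]⟩
  obtain ⟨x, hx⟩ := hz (ε.symm 1)
  refine ⟨x, φ, ?_⟩
  have h1 : Ideal.Quotient.mk K (φ x) = 1 := by
    have := congrArg (fun f : M →ₗ[R[X]] (R[X] ⧸ K) => f x) hφ
    simp only [LinearMap.comp_apply, Algebra.linearMap_apply] at this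
    rw [Ideal.Quotient.algebraMap_eq] at this
    rw [this]
    show ε ((1 : R[X] ⧸ K) ⊗ₜ x) = 1
    rw [← hx, LinearEquiv.apply_symm_apply]
  rw [← Ideal.Quotient.eq, h1, map_one]

end Poly

section Abstract

variable (R : Type u) [CommRing R] [IsLocalRing R]
variable (S : Type u) [CommRing S] [Algebra R[X] S]

/-- the hypotheses on `R[s] → S` (to be applied with `S = R{t}[1/t]`, `s ↦ 1/t`). -/
structure Hyp : Prop where
  ne_top : ((maximalIdeal R).map (C : R →+* R[X])).map (algebraMap R[X] S) ≠ ⊤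
  comap_map : ∀ I : Ideal R[X], I ⊔ (maximalIdeal R).map (C : R →+* R[X]) = ⊤ →
    (I.map (algebraMap R[X] S)).comap (algebraMap R[X] S) = I
  map_comap : ∀ J : Ideal S,
    J ⊔ ((maximalIdeal R).map (C : R →+* R[X])).map (algebraMap R[X] S) = ⊤ →
    (J.comap (algebraMap R[X] S)).map (algebraMap R[X] S) = J ∧
      J.comap (algebraMap R[X] S) ⊔ (maximalIdeal R).map (C : R →+* R[X]) = ⊤
  prep : ∀ x : S, x ∉ ((maximalIdeal R).map (C : R →+* R[X])).map (algebraMap R[X] S) →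
    ∃ G : R[X], G.coeff 0 = 1 ∧ G - 1 ∈ (maximalIdeal R).map (C : R →+* R[X]) ∧
      algebraMap R[X] S G ∈ nonZeroDivisors S ∧ ∃ v : Sˣ, x = algebraMap R[X] S G * v

variable {R S}

theorem Hyp.map_sup_eq_top (_h : Hyp R S) (I : Ideal R[X])
    (hI : I ⊔ (maximalIdeal R).map (C : R →+* R[X]) = ⊤) :
    I.map (algebraMap R[X] S) ⊔
      ((maximalIdeal R).map (C : R →+* R[X])).map (algebraMap R[X] S) = ⊤ := by
  rw [← Ideal.map_sup, hI, Ideal.map_top]

theorem Hyp.inj (h : Hyp R S) (y : Pic R[X]) (hy : Pic.mapAlgebra R[X] S y = 1) : y = 1 := by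
  obtain ⟨x, φ, hφ⟩ := exists_pair (R := R) y
  have hG := mem_nonZeroDivisors_of_sub_one_mem hφ
  have einj := ev_injective φ x hG
  set I₂ : Ideal R[X] := LinearMap.range (ev (A := R[X]) x) with hI₂
  let eq₁ : Module.Dual R[X] y ≃ₗ[R[X]] I₂ := LinearEquiv.ofInjective (ev x) einj
  have _ : Module.Invertible R[X] I₂ := Module.Invertible.congr eq₁
  have hGI₂ : φ x ∈ I₂ := ⟨φ, rfl⟩
  have hI₂top := span_sup_eq_top hφ I₂ hGI₂
  have hmk : Pic.mk R[X] I₂ = y⁻¹ := by
    rw [Pic.inv_eq_dual, Pic.mk_eq_mk_iff]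
    exact ⟨eq₁.symm⟩
  have h1 : Pic.mk S (S ⊗[R[X]] I₂) = 1 := by
    rw [← mapAlgebra_mk, hmk, map_inv, hy, inv_one]
  obtain ⟨ε⟩ := Pic.mk_eq_one_iff.mp h1
  set f : S →ₗ[S] (I₂.map (algebraMap R[X] S)) := (toMap (S := S) I₂) ∘ₗ ε.symm.toLinearMap with hf
  have hfs : Function.Surjective f := by
    rw [hf, LinearMap.coe_comp]
    exact (toMap_surjective I₂).comp ε.symm.surjective
  set y₀ : S := (f 1).1 with hy₀
  have hJ' : I₂.map (algebraMap R[X] S) = Ideal.span {y₀} := by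
    apply le_antisymm
    · intro j hj
      obtain ⟨s, hs⟩ := hfs ⟨j, hj⟩
      rw [Ideal.mem_span_singleton']
      refine ⟨s, ?_⟩
      have : f s = s • f 1 := by rw [← map_smul, smul_eq_mul, mul_one]
      rw [this] at hs
      have := congrArg Subtype.val hs
      simpa using this
    · rw [Ideal.span_le, Set.singleton_subset_iff]
      exact (f 1).2
  have hy₀m : y₀ ∉ ((maximalIdeal R).map (C : R →+* R[X])).map (algebraMap R[X] S) := by
    intro hmem
    have hle : I₂.map (algebraMap R[X] S) ≤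
        ((maximalIdeal R).map (C : R →+* R[X])).map (algebraMap R[X] S) := by
      rw [hJ', Ideal.span_le, Set.singleton_subset_iff]; exact hmem
    have := h.map_sup_eq_top I₂ hI₂top
    rw [sup_eq_right.mpr hle] at this
    exact h.ne_top this
  obtain ⟨G', -, hG'1, -, v, hv⟩ := h.prep y₀ hy₀m
  have hJ'' : I₂.map (algebraMap R[X] S) = (Ideal.span {G'}).map (algebraMap R[X] S) := by
    rw [hJ', hv, Ideal.span_singleton_mul_right_unit v.isUnit, Ideal.map_span,
      Set.image_singleton]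
  have hI₂G : I₂ = Ideal.span {G'} := by
    rw [← h.comap_map I₂ hI₂top, hJ'',
      h.comap_map _ (span_sup_eq_top hG'1 _ (Ideal.mem_span_singleton_self G'))]
  have hG'mem : G' ∈ I₂ := by rw [hI₂G]; exact Ideal.mem_span_singleton_self G'
  let g : R[X] →ₗ[R[X]] I₂ := LinearMap.toSpanSingleton R[X] I₂ ⟨G', hG'mem⟩
  have hgs : Function.Surjective g := by
    rintro ⟨i, hi⟩
    have hi' := hi
    rw [hI₂G, Ideal.mem_span_singleton'] at hi'
    obtain ⟨a, ha⟩ := hi'
    refine ⟨a, Subtype.ext ?_⟩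
    simp [g, ha]
  have hgb := Module.Invertible.bijective_of_surjective hgs
  have : Pic.mk R[X] I₂ = 1 := Pic.mk_eq_one_iff.mpr ⟨(LinearEquiv.ofBijective g hgb).symm⟩
  rw [hmk, inv_eq_one] at this
  exact this

theorem Hyp.surj (h : Hyp R S) (z : Pic S) : ∃ y : Pic R[X], Pic.mapAlgebra R[X] S y = z := by
  obtain ⟨φ₀, e, hφ₀⟩ := exists_not_mem (A := S) (N := z) _ h.ne_top
  obtain ⟨G, hG0, hG1, hGnz, v, hv⟩ := h.prep _ hφ₀
  set φ : Module.Dual S z := (↑v⁻¹ : S) • φ₀ with hφ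
  have hφe : φ e = algebraMap R[X] S G := by
    rw [hφ, LinearMap.smul_apply, hv, smul_eq_mul, mul_comm, mul_assoc, Units.mul_inv, mul_one]
  have ha : φ e ∈ nonZeroDivisors S := by rw [hφe]; exact hGnz
  have einj := ev_injective φ e ha
  have hprod := range_mul_range φ e
  set J : Ideal S := LinearMap.range φ with hJ
  set J₂ : Ideal S := LinearMap.range (ev (A := S) e) with hJ₂
  have haJ : algebraMap R[X] S G ∈ J := ⟨e, hφe⟩
  have haJ₂ : algebraMap R[X] S G ∈ J₂ := ⟨φ, hφe⟩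
  have hsup : ∀ J' : Ideal S, algebraMap R[X] S G ∈ J' →
      J' ⊔ ((maximalIdeal R).map (C : R →+* R[X])).map (algebraMap R[X] S) = ⊤ := by
    intro J' hJ'
    rw [Ideal.eq_top_iff_one]
    have : (1 : S) = algebraMap R[X] S G - algebraMap R[X] S (G - 1) := by
      rw [map_sub, map_one]; ring
    rw [this]
    exact Ideal.sub_mem _ (Ideal.mem_sup_left hJ')
      (Ideal.mem_sup_right (Ideal.mem_map_of_mem _ hG1))
  obtain ⟨hmapI, hItop⟩ := h.map_comap J (hsup J haJ)
  obtain ⟨hmapI₂, hI₂top⟩ := h.map_comap J₂ (hsup J₂ haJ₂)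
  set I : Ideal R[X] := J.comap (algebraMap R[X] S) with hI
  set I₂ : Ideal R[X] := J₂.comap (algebraMap R[X] S) with hI₂
  have hGI : G ∈ I := by rw [hI, Ideal.mem_comap]; exact haJ
  have hGI₂ : G ∈ I₂ := by rw [hI₂, Ideal.mem_comap]; exact haJ₂
  have hIItop : I * I₂ ⊔ (maximalIdeal R).map (C : R →+* R[X]) = ⊤ := by
    rw [sup_comm, Ideal.sup_mul_eq_of_coprime_left (by rw [sup_comm]; exact hItop), sup_comm]
    exact hI₂top
  have hmapII : (I * I₂).map (algebraMap R[X] S) =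
      (Ideal.span {G}).map (algebraMap R[X] S) := by
    rw [Ideal.map_mul, hmapI, hmapI₂, hprod, hφe, Ideal.map_span, Set.image_singleton]
  have hII : I * I₂ = Ideal.span {G} := by
    rw [← h.comap_map _ hIItop, hmapII,
      h.comap_map _ (span_sup_eq_top hG1 _ (Ideal.mem_span_singleton_self G))]
  have hGnz' : G ∈ nonZeroDivisors R[X] :=
    Groth.Agent.Lib.Helper83.ZarLaur.mem_nonZeroDivisors_of_coeff_zero hG0
  have _ : Module.Invertible R[X] I₂ := invertible_of_mul_eq_span I I₂ G hGnz' hII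
  let eq₁ : Module.Dual S z ≃ₗ[S] J₂ := LinearEquiv.ofInjective (ev e) einj
  have hJ₂inv : Module.Invertible S J₂ := Module.Invertible.congr eq₁
  have _ : Module.Invertible S (I₂.map (algebraMap R[X] S)) := by
    rw [hmapI₂]; exact hJ₂inv
  have hb := Module.Invertible.bijective_of_surjective (toMap_surjective (S := S) I₂)
  let eq₂ : S ⊗[R[X]] I₂ ≃ₗ[S] Module.Dual S z :=
    LinearEquiv.ofBijective (toMap (S := S) I₂) hb ≪≫ₗ LinearEquiv.ofEq _ _ hmapI₂ ≪≫ₗ eq₁.symm
  refine ⟨(Pic.mk R[X] I₂)⁻¹, ?_⟩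
  rw [map_inv, mapAlgebra_mk, inv_eq_iff_eq_inv, Pic.inv_eq_dual, Pic.mk_eq_mk_iff]
  exact ⟨eq₂⟩

theorem Hyp.bijective (h : Hyp R S) : Function.Bijective (Pic.mapAlgebra R[X] S) := by
  refine ⟨?_, h.surj⟩
  rw [injective_iff_map_eq_one]
  exact h.inj

end Abstract

end Groth.Agent.Lib.Helper83.PicLaur
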