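import Mathlib
import Groth.Agent.Lib.Helper83.ZarLaur2
import Groth.Agent.Lib.Helper58.PairHensFactor
import Groth.Agent.Lib.Helper58.PairHensFinite

set_option autoImplicit false

namespace Groth.Agent.Lib.Helper83.ZarLaur

open Polynomial IsLocalRing Groth.Agent.Lib.Helper58.PairHens Groth.Agent.Lib.Helper58.HenselPair

universe u

section Ev0

variable {R : Type u} [CommRing R] [HenselianLocalRing R]
variable {B : Type u} [CommRing B] [Algebra R[X] B]
  (hB : Hens2.IsPairHenselization R[X] (Ideal.span {(X : R[X])}) B)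

include hB in
/-- evaluation at `t = 0` on the henselization `R{t}`. -/
theorem exists_ev0 : ∃ ev0 : B →+* R, ∀ p : R[X], ev0 (algebraMap R[X] B p) = p.eval 0 := by
  have hH : HenselianRing R (maximalIdeal R) := inferInstance
  have hle : (Ideal.span {(X : R[X])}).map (Polynomial.evalRingHom (0 : R)) ≤ maximalIdeal R := by
    rw [Ideal.map_span, Set.image_singleton, Ideal.span_singleton_le_iff_mem]
    simp
  obtain ⟨g, hg, -⟩ := hB.2 R (maximalIdeal R) (Polynomial.evalRingHom (0 : R)) hH hle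
  exact ⟨g, fun p => by
    have := congrArg (fun ρ : R[X] →+* R => ρ p) hg
    simpa using this⟩

include hB in
theorem isUnit_of_isUnit_ev0 (ev0 : B →+* R)
    (hev : ∀ p : R[X], ev0 (algebraMap R[X] B p) = p.eval 0) (b : B) (hb : IsUnit (ev0 b)) :
    IsUnit b := by
  have hjac : (Ideal.span {(X : R[X])}).map (algebraMap R[X] B) ≤ Ideal.jacobson ⊥ := hB.1.jac
  obtain ⟨p, hp⟩ := (quotMap_bijective_iff.1 (quotientMap_bijective_one _ hB)).2 b
  -- b - alg p ∈ tB
  have hp2 : b - algebraMap R[X] B (C (p.coeff 0)) ∈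
      (Ideal.span {(X : R[X])}).map (algebraMap R[X] B) := by
    have h1 : b - algebraMap R[X] B (C (p.coeff 0)) =
        (b - algebraMap R[X] B p) + algebraMap R[X] B (X * p.divX) := by
      have h0 : algebraMap R[X] B p = algebraMap R[X] B (X * p.divX) +
          algebraMap R[X] B (C (p.coeff 0)) := by
        rw [← map_add, Polynomial.X_mul_divX_add p]
      rw [h0]; ring
    rw [h1]
    refine Ideal.add_mem _ hp (Ideal.mem_map_of_mem _ ?_)
    exact Ideal.mul_mem_right _ _ (Ideal.mem_span_singleton_self X)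
  have hev0 : ev0 b = p.coeff 0 := by
    have h2 : ev0 (b - algebraMap R[X] B (C (p.coeff 0))) = 0 := by
      have hle : (Ideal.span {(X : R[X])}).map (algebraMap R[X] B) ≤ RingHom.ker ev0 := by
        rw [Ideal.map_span, Set.image_singleton, Ideal.span_singleton_le_iff_mem, RingHom.mem_ker,
          hev]
        simp
      exact hle hp2
    rw [map_sub, hev, eval_C, sub_eq_zero] at h2
    exact h2
  rw [hev0] at hb
  apply isUnit_of_isUnit_mk hjac
  rw [← sub_add_cancel b (algebraMap R[X] B (C (p.coeff 0))), map_add,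
    Ideal.Quotient.eq_zero_iff_mem.mpr hp2, zero_add]
  exact ((hb.map C).map (algebraMap R[X] B)).map _

variable [Algebra R B] [IsScalarTower R R[X] B]

include hB in
theorem map_maximalIdeal_le_jacobson' :
    (maximalIdeal R).map (algebraMap R B) ≤ Ideal.jacobson ⊥ := by
  obtain ⟨ev0, hev⟩ := exists_ev0 hB
  have hle : (maximalIdeal R).map (algebraMap R B) ≤ (maximalIdeal R).comap ev0 := by
    rw [Ideal.map_le_iff_le_comap]
    intro a ha
    rw [Ideal.mem_comap, Ideal.mem_comap, IsScalarTower.algebraMap_apply R R[X] B,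
      Polynomial.algebraMap_eq, hev, eval_C]
    exact ha
  intro x hx
  rw [Ideal.mem_jacobson_bot]
  intro y
  apply isUnit_of_isUnit_ev0 hB ev0 hev
  rw [map_add, map_mul, map_one]
  have h1 : ev0 x * ev0 y ∈ maximalIdeal R := Ideal.mul_mem_right _ _ (hle hx)
  by_contra hnu
  have h2 : ev0 x * ev0 y + 1 ∈ maximalIdeal R := (mem_maximalIdeal _).mpr hnu
  have h3 : (1 : R) ∈ maximalIdeal R := by
    have := Ideal.sub_mem _ h2 h1
    rwa [add_sub_cancel_left] at this
  exact (Ideal.ne_top_iff_one _).mp (maximalIdeal.isMaximal R).ne_top h3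

end Ev0


section Nbhd

variable {A : Type u} [CommRing A] {I : Ideal A}
variable {B : Type u} [CommRing B] [Algebra A B]

/-- descend a congruence `f ≡ a mod K B` from a henselization to an étale neighbourhood. -/
theorem exists_nbhd_congr (hB : Hens2.IsPairHenselization A I B) (K : Ideal A) (f : B) (a : A)
    (hf : f - algebraMap A B a ∈ K.map (algebraMap A B)) :
    ∃ (A' : Type u) (_ : CommRing A') (_ : Algebra A A') (_ : Algebra.Etale A A'),
      Function.Bijective
        (Ideal.quotientMap (I.map (algebraMap A A')) (algebraMap A A') Ideal.le_comap_map) ∧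
      ∃ (φ : A' →ₐ[A] B) (f' : A'), φ f' = f ∧
        f' - algebraMap A A' a ∈ K.map (algebraMap A A') := by
  classical
  obtain ⟨c, T, hT, -, hsum⟩ := Submodule.mem_span_iff_exists_finset_subset.1 hf
  have hT' : ∀ y ∈ T, ∃ x ∈ K, algebraMap A B x = y := fun y hy => hT hy
  choose! x hxK hxy using hT'
  obtain ⟨A₁, _, _, _, hb₁, φ₁, hφ₁⟩ := exists_nbhd_of_finset hB (insert f (T.image c))
  obtain ⟨f₁, hf₁⟩ := hφ₁ f (Finset.mem_insert_self _ _)
  have hc : ∀ y ∈ T, ∃ z : A₁, φ₁ z = c y := fun y hy =>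
    hφ₁ (c y) (Finset.mem_insert_of_mem (Finset.mem_image_of_mem c hy))
  choose! c₁ hc₁ using hc
  set z : A₁ := f₁ - algebraMap A A₁ a - ∑ y ∈ T, c₁ y * algebraMap A A₁ (x y) with hz
  have hz0 : φ₁ z = 0 := by
    rw [hz, map_sub, map_sub, hf₁, AlgHom.commutes, map_sum, ← hsum, sub_eq_zero]
    apply Finset.sum_congr rfl
    intro y hy
    rw [map_mul, hc₁ y hy, AlgHom.commutes, hxy y hy, smul_eq_mul]
  obtain ⟨A₂, _, _, _, hb₂, ψ, hψ⟩ := exists_nbhd_of_map_eq_zero hB A₁ hb₁ φ₁ z hz0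
  obtain ⟨⟨φ₂⟩, -⟩ := nonempty_unique_algHom_nbhd hB A₂ hb₂
  obtain ⟨hU⟩ := nonempty_unique_algHom_nbhd hB A₁ hb₁
  have hcomp : φ₂.comp ψ = φ₁ := (hU.uniq _).trans (hU.uniq _).symm
  refine ⟨A₂, inferInstance, inferInstance, inferInstance, hb₂, φ₂, ψ f₁, ?_, ?_⟩
  · rw [← hf₁, ← hcomp]; rfl
  · have h1 : ψ f₁ - algebraMap A A₂ a = ∑ y ∈ T, ψ (c₁ y) * algebraMap A A₂ (x y) := by
      have := hψ
      rw [hz, map_sub, map_sub, AlgHom.commutes, map_sum, sub_eq_zero] at this
      rw [this]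
      apply Finset.sum_congr rfl
      intro y hy
      rw [map_mul, AlgHom.commutes]
    rw [h1]
    exact Ideal.sum_mem _ fun y hy =>
      Ideal.mul_mem_left _ _ (Ideal.mem_map_of_mem _ (hxK y hy))

end Nbhd


section Bij

variable {D : Type u} [CommRing D] {J : Ideal D} {H : Type u} [CommRing H] [Algebra D H]

theorem bijective_of_henselian (hH : Hens2.IsPairHenselization D J H) [HenselianRing D J] :
    Function.Bijective (algebraMap D H) := by
  obtain ⟨e⟩ := nonempty_algEquiv_of_isPairHenselization hH (isPairHenselization_self J)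
  have : ⇑(algebraMap D H) = ⇑e.symm := by
    funext x
    have := e.symm.commutes x
    rw [Algebra.algebraMap_self, RingHom.id_apply] at this
    exact this.symm
  rw [this]
  exact e.symm.bijective

end Bij

section LemmaN

variable {R : Type u} [CommRing R] [HenselianLocalRing R]
variable {A' : Type u} [CommRing A'] [Algebra R[X] A'] [Algebra R A'] [IsScalarTower R R[X] A']
  [Algebra.FiniteType R A']

theorem alg_map_mem {S T : Type*} [CommRing S] [CommRing T] [Algebra R S] [Algebra R T]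
    (ρ : S →ₐ[R] T) {y : S} (hy : y ∈ (maximalIdeal R).map (algebraMap R S)) :
    ρ y ∈ (maximalIdeal R).map (algebraMap R T) := by
  have h1 : ((maximalIdeal R).map (algebraMap R S)).map ρ.toRingHom =
      (maximalIdeal R).map (algebraMap R T) := by
    rw [Ideal.map_map, AlgHom.toRingHom_eq_coe, AlgHom.comp_algebraMap]
  rw [← h1]
  exact Ideal.mem_map_of_mem _ hy

theorem lemmaN (f' : A') (k : ℕ)
    (hf' : f' - algebraMap R[X] A' (X ^ k) ∈ (maximalIdeal R).map (algebraMap R A'))
    (hgen : ∀ x : A', ∃ p ∈ degreeLT R k,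
      x - algebraMap R[X] A' p ∈ Ideal.span {algebraMap R[X] A' (X ^ k)}) :
    ∃ e : A' ⧸ Ideal.span {f'}, IsIdempotentElem e ∧
      1 - e ∈ (maximalIdeal R).map (algebraMap R (A' ⧸ Ideal.span {f'})) ∧
      Module.Finite R ((A' ⧸ Ideal.span {f'}) ⧸ Ideal.span {1 - e}) ∧
      ∀ x : A', ∃ p ∈ degreeLT R k,
        Ideal.Quotient.mk (Ideal.span {f'}) (x - algebraMap R[X] A' p) ∈ Ideal.span {1 - e} := by
  classical
  set π₁ : A' →ₐ[R] A' ⧸ Ideal.span {f'} := Ideal.Quotient.mkₐ R (Ideal.span {f'}) with hπ₁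
  have hπ₁s : Function.Surjective π₁ := Ideal.Quotient.mkₐ_surjective R _
  have hft : Algebra.FiniteType R (A' ⧸ Ideal.span {f'}) :=
    Algebra.FiniteType.of_surjective π₁ hπ₁s
  -- key decomposition
  have key : ∀ x : A', ∃ p ∈ degreeLT R k, ∃ y ∈ (maximalIdeal R).map (algebraMap R A'),
      π₁ x = π₁ (algebraMap R[X] A' p) + π₁ y := by
    intro x
    obtain ⟨p, hp, hx⟩ := hgen x
    obtain ⟨a, ha⟩ := Ideal.mem_span_singleton'.mp hx
    refine ⟨p, hp, -(a * (f' - algebraMap R[X] A' (X ^ k))),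
      Ideal.neg_mem_iff _ |>.mpr (Ideal.mul_mem_left _ _ hf'), ?_⟩
    have h1 : x = algebraMap R[X] A' p + -(a * (f' - algebraMap R[X] A' (X ^ k))) + a * f' := by
      linear_combination -ha
    have h2 : π₁ (a * f') = 0 := by
      rw [hπ₁, Ideal.Quotient.mkₐ_eq_mk, Ideal.Quotient.eq_zero_iff_mem]
      exact Ideal.mul_mem_left _ _ (Ideal.mem_span_singleton_self f')
    conv_lhs => rw [h1]
    rw [map_add, map_add, h2, add_zero]
  set ι : degreeLT R k →ₗ[R] A' :=
    (IsScalarTower.toAlgHom R R[X] A').toLinearMap ∘ₗ (degreeLT R k).subtype with hι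
  have hfinD : Module.Finite R (degreeLT R k) := Module.Finite.equiv (degreeLTEquiv R k).symm
  -- finiteness of the special fibre
  have hQ : Module.Finite R ((A' ⧸ Ideal.span {f'}) ⧸
      (maximalIdeal R).map (algebraMap R (A' ⧸ Ideal.span {f'}))) := by
    set π₂ := Ideal.Quotient.mkₐ R ((maximalIdeal R).map (algebraMap R (A' ⧸ Ideal.span {f'})))
      with hπ₂
    apply Module.Finite.of_surjective (π₂.toLinearMap ∘ₗ π₁.toLinearMap ∘ₗ ι)
    intro y
    obtain ⟨y', rfl⟩ := Ideal.Quotient.mkₐ_surjective R _ y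
    obtain ⟨x, rfl⟩ := hπ₁s y'
    obtain ⟨p, hp, μ, hμ, e1⟩ := key x
    refine ⟨⟨p, hp⟩, ?_⟩
    have h3 : π₂ (π₁ μ) = 0 := by
      rw [hπ₂, Ideal.Quotient.mkₐ_eq_mk, Ideal.Quotient.eq_zero_iff_mem]
      exact alg_map_mem π₁ hμ
    show π₂ (π₁ (algebraMap R[X] A' p)) = _
    rw [e1, map_add, h3, add_zero]
  obtain ⟨e, he, h1e, hfin⟩ := exists_idempotent_finite_quotient (maximalIdeal R)
    (A' ⧸ Ideal.span {f'})
  refine ⟨e, he, h1e, hfin, ?_⟩
  set π₃ := Ideal.Quotient.mkₐ R (Ideal.span {1 - e}) with hπ₃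
  set N : Submodule R ((A' ⧸ Ideal.span {f'}) ⧸ Ideal.span {1 - e}) :=
    LinearMap.range (π₃.toLinearMap ∘ₗ π₁.toLinearMap ∘ₗ ι) with hN
  have htop : (⊤ : Submodule R ((A' ⧸ Ideal.span {f'}) ⧸ Ideal.span {1 - e})) ≤ N := by
    apply Submodule.le_of_le_smul_of_le_jacobson_bot (I := maximalIdeal R)
      (Module.finite_def.mp hfin) (IsLocalRing.maximalIdeal_le_jacobson _)
    rintro y -
    obtain ⟨y', rfl⟩ := Ideal.Quotient.mkₐ_surjective R _ y
    obtain ⟨x, rfl⟩ := hπ₁s y'
    obtain ⟨p, hp, μ, hμ, e1⟩ := key x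
    rw [e1, map_add]
    refine Submodule.add_mem_sup ⟨⟨p, hp⟩, rfl⟩ ?_
    have h4 : π₃ (π₁ μ) ∈ (maximalIdeal R).map
        (algebraMap R ((A' ⧸ Ideal.span {f'}) ⧸ Ideal.span {1 - e})) :=
      alg_map_mem (π₃.comp π₁) hμ
    rw [Ideal.smul_top_eq_map]
    exact h4
  intro x
  have hx : π₃ (π₁ x) ∈ N := htop trivial
  obtain ⟨⟨p, hp⟩, hpx⟩ := hx
  refine ⟨p, hp, ?_⟩
  have h5 : π₃ (π₁ (algebraMap R[X] A' p)) = π₃ (π₁ x) := hpx
  have h6 : π₃ (π₁ (x - algebraMap R[X] A' p)) = 0 := by
    rw [map_sub, map_sub, h5, sub_self]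
  rw [hπ₃, Ideal.Quotient.mkₐ_eq_mk, Ideal.Quotient.eq_zero_iff_mem] at h6
  exact h6

end LemmaN


section Main

variable {R : Type u} [CommRing R] [HenselianLocalRing R]
variable {B : Type u} [CommRing B] [Algebra R[X] B]
  (hB : Hens2.IsPairHenselization R[X] (Ideal.span {(X : R[X])}) B)
  [Algebra R B] [IsScalarTower R R[X] B]

theorem jac_mk {S : Type*} [CommRing S] (K : Ideal S) {x : S}
    (hx : x ∈ Ideal.jacobson (⊥ : Ideal S)) :
    Ideal.Quotient.mk K x ∈ Ideal.jacobson (⊥ : Ideal (S ⧸ K)) := by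
  rw [Ideal.mem_jacobson_bot] at hx ⊢
  intro y
  obtain ⟨y', rfl⟩ := Ideal.Quotient.mk_surjective y
  rw [← map_mul, ← map_one (Ideal.Quotient.mk K), ← map_add]
  exact (hx y').map _

include hB in
theorem exists_poly_congr (f : B) (k : ℕ)
    (hf : f - algebraMap R[X] B (X ^ k) ∈ (maximalIdeal R).map (algebraMap R B)) (b : B) :
    ∃ p ∈ degreeLT R k, b - algebraMap R[X] B p ∈ Ideal.span {f} := by
  classical
  have hRB : algebraMap R B = (algebraMap R[X] B).comp (C : R →+* R[X]) := by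
    ext a
    rw [IsScalarTower.algebraMap_apply R R[X] B, Polynomial.algebraMap_eq]; rfl
  have hm : (maximalIdeal R).map (algebraMap R B) =
      ((maximalIdeal R).map (C : R →+* R[X])).map (algebraMap R[X] B) := by
    rw [Ideal.map_map, hRB]
  have hf0 := hf
  rw [hm] at hf
  obtain ⟨A', _, _, _, hb, φ, f', hφf, hf'⟩ :=
    exists_nbhd_congr hB ((maximalIdeal R).map (C : R →+* R[X])) f (X ^ k) hf
  let _ : Algebra R A' := ((algebraMap R[X] A').comp (C : R →+* R[X])).toAlgebra
  have _ : IsScalarTower R R[X] A' := IsScalarTower.of_algebraMap_eq (fun _ => rfl)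
  let _ : Algebra A' B := φ.toRingHom.toAlgebra
  have _ : IsScalarTower R[X] A' B :=
    IsScalarTower.of_algebraMap_eq (fun a => (φ.commutes a).symm)
  have hφalg : ∀ a : A', algebraMap A' B a = φ a := fun _ => rfl
  have hB' := isPairHenselization_nbhd hb hB
  have hftX : Algebra.FiniteType R[X] A' := inferInstance
  have hftA : Algebra.FiniteType R A' := Algebra.FiniteType.trans
    (inferInstance : Algebra.FiniteType R R[X]) hftX
  -- generation modulo t^k
  have hgen0 : ∀ (n : ℕ) (x : A'), ∃ p : R[X],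
      x - algebraMap R[X] A' p ∈ Ideal.span {algebraMap R[X] A' (X ^ n)} := by
    intro n
    induction n with
    | zero =>
      intro x
      refine ⟨0, ?_⟩
      rw [pow_zero, map_one, Ideal.span_singleton_one]; trivial
    | succ n ih =>
      intro x
      obtain ⟨p, hp⟩ := ih x
      obtain ⟨a, ha⟩ := Ideal.mem_span_singleton'.mp hp
      obtain ⟨q, hq⟩ := (quotMap_bijective_iff.1 hb).2 a
      rw [Ideal.map_span, Set.image_singleton] at hq
      obtain ⟨a', ha'⟩ := Ideal.mem_span_singleton'.mp hq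
      refine ⟨p + q * X ^ n, ?_⟩
      rw [Ideal.mem_span_singleton']
      refine ⟨a', ?_⟩
      rw [map_add, map_mul, pow_succ, map_mul]
      linear_combination (algebraMap R[X] A' (X ^ n)) * ha' + ha
  have hgen : ∀ x : A', ∃ p ∈ degreeLT R k,
      x - algebraMap R[X] A' p ∈ Ideal.span {algebraMap R[X] A' (X ^ k)} := by
    intro x
    obtain ⟨p, hp⟩ := hgen0 k x
    refine ⟨p %ₘ X ^ k, ?_, ?_⟩
    · rw [Polynomial.mem_degreeLT]
      have := degree_modByMonic_lt p (monic_X_pow (R := R) k)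
      rwa [degree_X_pow] at this
    · have h1 : x - algebraMap R[X] A' (p %ₘ X ^ k) =
          (x - algebraMap R[X] A' p) + algebraMap R[X] A' (p /ₘ X ^ k) *
            algebraMap R[X] A' (X ^ k) := by
        have h2 := Polynomial.modByMonic_add_div p (X ^ k)
        have h3 : algebraMap R[X] A' p = algebraMap R[X] A' (p %ₘ X ^ k) +
            algebraMap R[X] A' (X ^ k) * algebraMap R[X] A' (p /ₘ X ^ k) := by
          rw [← map_mul, ← map_add, h2]
        rw [h3]; ring
      rw [h1]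
      exact Ideal.add_mem _ hp (Ideal.mul_mem_left _ _ (Ideal.mem_span_singleton_self _))
  have hf'' : f' - algebraMap R[X] A' (X ^ k) ∈ (maximalIdeal R).map (algebraMap R A') := by
    have : (maximalIdeal R).map (algebraMap R A') =
        ((maximalIdeal R).map (C : R →+* R[X])).map (algebraMap R[X] A') := by
      rw [Ideal.map_map]; rfl
    rw [this]; exact hf'
  obtain ⟨e, he, h1e, hfin, hN⟩ := lemmaN f' k hf'' hgen
  have hE := isPairHenselization_quotient hB' (Ideal.span {f'})
  -- the image of 1 - e vanishes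
  have hφm : ∀ a' ∈ (maximalIdeal R).map (algebraMap R A'),
      φ a' ∈ (maximalIdeal R).map (algebraMap R B) := by
    intro a' ha'
    have h1 : ((maximalIdeal R).map (algebraMap R A')).map φ.toRingHom =
        (maximalIdeal R).map (algebraMap R B) := by
      rw [Ideal.map_map]
      congr 1
      ext a
      show φ (algebraMap R[X] A' (C a)) = algebraMap R B a
      rw [φ.commutes, hRB]; rfl
    rw [← h1]
    exact Ideal.mem_map_of_mem _ ha'
  have hε : algebraMap (A' ⧸ Ideal.span {f'})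
      (B ⧸ (Ideal.span {f'}).map (algebraMap A' B)) (1 - e) = 0 := by
    have h2 : (maximalIdeal R).map (algebraMap R (A' ⧸ Ideal.span {f'})) =
        ((maximalIdeal R).map (algebraMap R A')).map (Ideal.Quotient.mk (Ideal.span {f'})) := by
      rw [Ideal.map_map]; rfl
    rw [h2] at h1e
    obtain ⟨a', ha', hae⟩ :=
      (Ideal.mem_map_iff_of_surjective _ Ideal.Quotient.mk_surjective).mp h1e
    have hidem : IsIdempotentElem (algebraMap (A' ⧸ Ideal.span {f'})
        (B ⧸ (Ideal.span {f'}).map (algebraMap A' B)) (1 - e)) := (he.one_sub).map _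
    apply idempotent_eq_zero_of_mem_jacobson hidem
    rw [← hae, Ideal.Quotient.algebraMap_quotient_map_quotient, hφalg]
    exact jac_mk _ (map_maximalIdeal_le_jacobson' hB (hφm a' ha'))
  have hE1 := isPairHenselization_quotient hE (Ideal.span {1 - e})
  have hint : Algebra.IsIntegral R ((A' ⧸ Ideal.span {f'}) ⧸ Ideal.span {1 - e}) :=
    Algebra.IsIntegral.of_finite R _
  have h1 : HenselianRing ((A' ⧸ Ideal.span {f'}) ⧸ Ideal.span {1 - e})
      ((maximalIdeal R).map (algebraMap R ((A' ⧸ Ideal.span {f'}) ⧸ Ideal.span {1 - e}))) :=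
    henselian_of_isIntegral (A := R) (I := maximalIdeal R) _
  have h2 : HenselianRing ((A' ⧸ Ideal.span {f'}) ⧸ Ideal.span {1 - e})
      ((((Ideal.span {(X : R[X])}).map (algebraMap R[X] A')).map
        (Ideal.Quotient.mk (Ideal.span {f'}))).map (Ideal.Quotient.mk (Ideal.span {1 - e}))) := by
    refine henselian_of_pow_le ((maximalIdeal R).map
      (algebraMap R ((A' ⧸ Ideal.span {f'}) ⧸ Ideal.span {1 - e}))) _ k ?_
    rw [Ideal.map_span, Set.image_singleton, Ideal.map_span, Set.image_singleton, Ideal.map_span,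
      Set.image_singleton, Ideal.span_singleton_pow, Ideal.span_singleton_le_iff_mem,
      ← map_pow, ← map_pow, ← map_pow]
    have h3 : Ideal.Quotient.mk (Ideal.span {1 - e}) (Ideal.Quotient.mk (Ideal.span {f'})
        (algebraMap R[X] A' (X ^ k))) =
        - Ideal.Quotient.mk (Ideal.span {1 - e}) (Ideal.Quotient.mk (Ideal.span {f'})
          (f' - algebraMap R[X] A' (X ^ k))) := by
      rw [map_sub, Ideal.Quotient.eq_zero_iff_mem.mpr (Ideal.mem_span_singleton_self f')]
      simp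
    rw [h3, neg_mem_iff]
    exact alg_map_mem ((Ideal.Quotient.mkₐ R (Ideal.span {1 - e})).comp
      (Ideal.Quotient.mkₐ R (Ideal.span {f'}))) hf''
  have hbij := bijective_of_henselian hE1
  obtain ⟨y, hy⟩ := hbij.2 (Ideal.Quotient.mk _ (Ideal.Quotient.mk _ b))
  obtain ⟨y', rfl⟩ := Ideal.Quotient.mk_surjective y
  obtain ⟨a', rfl⟩ := Ideal.Quotient.mk_surjective y'
  have hz : (Ideal.span {1 - e}).map (algebraMap (A' ⧸ Ideal.span {f'})
      (B ⧸ (Ideal.span {f'}).map (algebraMap A' B))) = ⊥ := by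
    rw [Ideal.map_eq_bot_iff_le_ker, Ideal.span_singleton_le_iff_mem, RingHom.mem_ker]
    exact hε
  rw [Ideal.Quotient.algebraMap_quotient_map_quotient,
    Ideal.Quotient.algebraMap_quotient_map_quotient, hφalg, Ideal.Quotient.eq, hz,
    Ideal.mem_bot, sub_eq_zero] at hy
  obtain ⟨p, hp, hpx⟩ := hN a'
  refine ⟨p, hp, ?_⟩
  obtain ⟨c, hc⟩ := Ideal.mem_span_singleton'.mp hpx
  have h4 : algebraMap (A' ⧸ Ideal.span {f'}) (B ⧸ (Ideal.span {f'}).map (algebraMap A' B))
      (Ideal.Quotient.mk (Ideal.span {f'}) (a' - algebraMap R[X] A' p)) = 0 := by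
    rw [← hc, map_mul, hε, mul_zero]
  rw [Ideal.Quotient.algebraMap_quotient_map_quotient, hφalg, map_sub, φ.commutes, map_sub,
    hy, ← map_sub, Ideal.Quotient.eq_zero_iff_mem] at h4
  have h5 : (Ideal.span {f'}).map (algebraMap A' B) = Ideal.span {f} := by
    rw [Ideal.map_span, Set.image_singleton, hφalg, hφf]
  rw [h5] at h4
  exact h4

end Main

end Groth.Agent.Lib.Helper83.ZarLaur
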