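import Mathlib
import Groth.Agent.Lib.Helper83.ZarLaur3

set_option autoImplicit false

namespace Groth.Agent.Lib.Helper83.ZarLaur

open Polynomial IsLocalRing Groth.Agent.Lib.Helper58.PairHens Groth.Agent.Lib.Helper58.HenselPair

universe u

section WP

variable {R : Type u} [CommRing R] [HenselianLocalRing R]
variable {B : Type u} [CommRing B] [Algebra R[X] B]
  (hB : Hens2.IsPairHenselization R[X] (Ideal.span {(X : R[X])}) B)

include hB in
theorem pow_facts (k : ℕ) :
    (∀ a : R[X], algebraMap R[X] B a ∈ Ideal.span {algebraMap R[X] B (X ^ k)} →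
      a ∈ Ideal.span {(X : R[X]) ^ k}) ∧
    ∀ w : B, ∃ a : R[X], w - algebraMap R[X] B a ∈ Ideal.span {algebraMap R[X] B (X ^ k)} := by
  have h := quotMap_bijective_iff.1 (quotientMap_pow_bijective hB k)
  rw [Ideal.span_singleton_pow, Ideal.map_span, Set.image_singleton] at h
  exact h

include hB in
theorem exists_poly_of_mem_mB (k : ℕ) (y : B)
    (hy : y ∈ ((maximalIdeal R).map (C : R →+* R[X])).map (algebraMap R[X] B)) :
    ∃ q ∈ (maximalIdeal R).map (C : R →+* R[X]),
      y - algebraMap R[X] B q ∈ Ideal.span {algebraMap R[X] B (X ^ k)} := by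
  refine Submodule.span_induction (p := fun y _ => ∃ q ∈ (maximalIdeal R).map (C : R →+* R[X]),
      y - algebraMap R[X] B q ∈ Ideal.span {algebraMap R[X] B (X ^ k)}) ?_ ?_ ?_ ?_ hy
  · rintro _ ⟨μ, hμ, rfl⟩
    exact ⟨μ, hμ, by rw [sub_self]; exact Ideal.zero_mem _⟩
  · exact ⟨0, Ideal.zero_mem _, by simp⟩
  · rintro x y _ _ ⟨q, hq, h1⟩ ⟨q', hq', h2⟩
    refine ⟨q + q', Ideal.add_mem _ hq hq', ?_⟩
    have : x + y - algebraMap R[X] B (q + q') =
        (x - algebraMap R[X] B q) + (y - algebraMap R[X] B q') := by rw [map_add]; ring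
    rw [this]; exact Ideal.add_mem _ h1 h2
  · rintro b x _ ⟨q, hq, h1⟩
    obtain ⟨qb, hqb⟩ := (pow_facts hB k).2 b
    refine ⟨qb * q, Ideal.mul_mem_left _ _ hq, ?_⟩
    have : b • x - algebraMap R[X] B (qb * q) =
        b * (x - algebraMap R[X] B q) + (b - algebraMap R[X] B qb) * algebraMap R[X] B q := by
      rw [map_mul, smul_eq_mul]; ring
    rw [this]
    exact Ideal.add_mem _ (Ideal.mul_mem_left _ _ h1) (Ideal.mul_mem_right _ _ hqb)

include hB in
theorem coeff_mem_of_alg_mem (k : ℕ) (p : R[X]) (hp : p ∈ degreeLT R k)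
    (h : algebraMap R[X] B p ∈ ((maximalIdeal R).map (C : R →+* R[X])).map (algebraMap R[X] B) ⊔
      Ideal.span {algebraMap R[X] B (X ^ k)}) :
    p ∈ (maximalIdeal R).map (C : R →+* R[X]) := by
  obtain ⟨y, hy, z, hz, e⟩ := Submodule.mem_sup.mp h
  obtain ⟨q, hq, h1⟩ := exists_poly_of_mem_mB hB k y hy
  have h2 : algebraMap R[X] B (p - q) ∈ Ideal.span {algebraMap R[X] B (X ^ k)} := by
    have : algebraMap R[X] B (p - q) = (y - algebraMap R[X] B q) + z := by
      rw [map_sub, ← e]; ring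
    rw [this]; exact Ideal.add_mem _ h1 hz
  have h3 := (pow_facts hB k).1 _ h2
  obtain ⟨c, hc⟩ := Ideal.mem_span_singleton.mp h3
  rw [Ideal.mem_map_C_iff] at hq ⊢
  intro n
  by_cases hn : n < k
  · have h4 : (p - q).coeff n = 0 := by
      rw [hc, coeff_X_pow_mul']
      simp [Nat.not_le.mpr hn]
    rw [coeff_sub, sub_eq_zero] at h4
    rw [h4]; exact hq n
  · rw [Polynomial.mem_degreeLT] at hp
    have : p.coeff n = 0 := coeff_eq_zero_of_degree_lt (lt_of_lt_of_le hp (by exact_mod_cast Nat.not_lt.mp hn))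
    rw [this]; exact Ideal.zero_mem _


include hB in
/-- `t^k` is regular on `B / mB`. -/
theorem mem_of_pow_mul_mem (k : ℕ) (v : B)
    (h : algebraMap R[X] B (X ^ k) * v ∈
      ((maximalIdeal R).map (C : R →+* R[X])).map (algebraMap R[X] B)) :
    v ∈ ((maximalIdeal R).map (C : R →+* R[X])).map (algebraMap R[X] B) := by
  set K : Ideal R[X] := (maximalIdeal R).map (C : R →+* R[X]) with hK
  have hq := isPairHenselization_quotient hB K
  have hflat : Module.Flat (R[X] ⧸ K) (B ⧸ K.map (algebraMap R[X] B)) :=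
    flat_of_isPairHenselization hq
  have hreg : IsSMulRegular (R[X] ⧸ K) (Ideal.Quotient.mk K (X ^ k)) := by
    intro a b hab
    obtain ⟨a, rfl⟩ := Ideal.Quotient.mk_surjective a
    obtain ⟨b, rfl⟩ := Ideal.Quotient.mk_surjective b
    simp only [smul_eq_mul] at hab
    rw [← map_mul, ← map_mul, Ideal.Quotient.eq, ← mul_sub] at hab
    rw [Ideal.Quotient.eq]
    rw [hK, Ideal.mem_map_C_iff] at hab ⊢
    intro n
    have := hab (n + k)
    rwa [coeff_X_pow_mul] at this
  have h2 := IsSMulRegular.of_flat (S := B ⧸ K.map (algebraMap R[X] B)) hreg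
  rw [Ideal.Quotient.algebraMap_quotient_map_quotient] at h2
  have h3 : Ideal.Quotient.mk (K.map (algebraMap R[X] B)) v = 0 := by
    apply h2
    simp only [smul_eq_mul, mul_zero]
    rw [← map_mul, Ideal.Quotient.eq_zero_iff_mem]
    exact h
  exact Ideal.Quotient.eq_zero_iff_mem.mp h3

variable [Algebra R B] [IsScalarTower R R[X] B]

theorem map_algebraMap_eq :
    (maximalIdeal R).map (algebraMap R B) =
      ((maximalIdeal R).map (C : R →+* R[X])).map (algebraMap R[X] B) := by
  rw [Ideal.map_map]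
  congr 1
  ext a
  rw [IsScalarTower.algebraMap_apply R R[X] B, Polynomial.algebraMap_eq]; rfl

include hB in
/-- **Weierstrass preparation** in `R{t}` for `f ≡ t^k mod m`. -/
theorem weierstrass_special (f : B) (k : ℕ)
    (hf : f - algebraMap R[X] B (X ^ k) ∈ (maximalIdeal R).map (algebraMap R B)) :
    ∃ P : R[X], P.Monic ∧ P.natDegree = k ∧ P - X ^ k ∈ (maximalIdeal R).map (C : R →+* R[X]) ∧
      ∃ u : Bˣ, f = algebraMap R[X] B P * (u : B) := by
  have hjac := map_maximalIdeal_le_jacobson' hB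
  obtain ⟨p, hp, hpf⟩ := exists_poly_congr hB f k hf (algebraMap R[X] B (X ^ k))
  obtain ⟨v, hv⟩ := Ideal.mem_span_singleton'.mp hpf
  rw [map_algebraMap_eq] at hf hjac
  have hdeg : p.degree < (X ^ k : R[X]).degree := by
    rw [degree_X_pow]; exact Polynomial.mem_degreeLT.mp hp
  have hPm : (X ^ k - p).Monic := (monic_X_pow k).sub_of_left hdeg
  have hPd : (X ^ k - p).natDegree = k := by
    apply natDegree_eq_of_degree_eq_some
    rw [degree_sub_eq_left_of_degree_lt hdeg, degree_X_pow]
  have hPalg : algebraMap R[X] B (X ^ k - p) = v * f := by rw [map_sub]; exact hv.symm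
  -- p has coefficients in m
  have hpm : p ∈ (maximalIdeal R).map (C : R →+* R[X]) := by
    apply coeff_mem_of_alg_mem hB k p hp
    have : algebraMap R[X] B p = (-(v * (f - algebraMap R[X] B (X ^ k)))) +
        (1 - v) * algebraMap R[X] B (X ^ k) := by
      have := hPalg
      rw [map_sub] at this
      linear_combination -this
    rw [this]
    exact Submodule.add_mem_sup (Ideal.neg_mem_iff _ |>.mpr (Ideal.mul_mem_left _ _ hf))
      (Ideal.mul_mem_left _ _ (Ideal.mem_span_singleton_self _))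
  -- v is a unit
  have hv1 : v - 1 ∈ ((maximalIdeal R).map (C : R →+* R[X])).map (algebraMap R[X] B) := by
    apply mem_of_pow_mul_mem hB k
    have : algebraMap R[X] B (X ^ k) * (v - 1) =
        - algebraMap R[X] B p - v * (f - algebraMap R[X] B (X ^ k)) := by
      have := hPalg
      rw [map_sub] at this
      linear_combination -this
    rw [this]
    exact Ideal.sub_mem _ (Ideal.neg_mem_iff _ |>.mpr (Ideal.mem_map_of_mem _ hpm))
      (Ideal.mul_mem_left _ _ hf)
  have hvu : IsUnit v := isUnit_of_sub_one_mem hjac hv1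
  obtain ⟨u, rfl⟩ := hvu
  refine ⟨X ^ k - p, hPm, hPd, ?_, u⁻¹, ?_⟩
  · rw [sub_sub_cancel_left]; exact Ideal.neg_mem_iff _ |>.mpr hpm
  · rw [hPalg, mul_comm (u : B) f, mul_assoc, Units.mul_inv, mul_one]

end WP

end Groth.Agent.Lib.Helper83.ZarLaur
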