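import Mathlib
import Groth.Agent.Lib.Helper83.ZarLaur4
import Groth.Agent.Lib.Helper58.PairHensNoeth

set_option autoImplicit false

namespace Groth.Agent.Lib.Helper83.ZarLaur

open Polynomial IsLocalRing Groth.Agent.Lib.Helper58.PairHens Groth.Agent.Lib.Helper58.HenselPair

universe u

section WPG

variable {R : Type u} [CommRing R] [HenselianLocalRing R]
variable {B : Type u} [CommRing B] [Algebra R[X] B]
  (hB : Hens2.IsPairHenselization R[X] (Ideal.span {(X : R[X])}) B)

include hB in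
theorem exists_const_congr (ev0 : B →+* R)
    (hev : ∀ p : R[X], ev0 (algebraMap R[X] B p) = p.eval 0) (b : B) :
    b - algebraMap R[X] B (C (ev0 b)) ∈ (Ideal.span {(X : R[X])}).map (algebraMap R[X] B) := by
  obtain ⟨p, hp⟩ := (quotMap_bijective_iff.1 (quotientMap_bijective_one _ hB)).2 b
  have hp2 : b - algebraMap R[X] B (C (p.coeff 0)) ∈
      (Ideal.span {(X : R[X])}).map (algebraMap R[X] B) := by
    have h1 : b - algebraMap R[X] B (C (p.coeff 0)) =
        (b - algebraMap R[X] B p) + algebraMap R[X] B (X * p.divX) := by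
      have h0 : algebraMap R[X] B p = algebraMap R[X] B (X * p.divX) +
          algebraMap R[X] B (C (p.coeff 0)) := by
        rw [← map_add, Polynomial.X_mul_divX_add p]
      rw [h0]; ring
    rw [h1]
    refine Ideal.add_mem _ hp (Ideal.mem_map_of_mem _ ?_)
    exact Ideal.mul_mem_right _ _ (Ideal.mem_span_singleton_self X)
  have hev0 : ev0 b = p.coeff 0 := by
    have h2 : ev0 (b - algebraMap R[X] B (C (p.coeff 0))) = 0 := by
      have hle : (Ideal.span {(X : R[X])}).map (algebraMap R[X] B) ≤ RingHom.ker ev0 := by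
        rw [Ideal.map_span, Set.image_singleton, Ideal.span_singleton_le_iff_mem, RingHom.mem_ker,
          hev]
        simp
      exact hle hp2
    rw [map_sub, hev, eval_C, sub_eq_zero] at h2
    exact h2
  rw [hev0]; exact hp2

variable [Algebra R B] [IsScalarTower R R[X] B]

include hB in
/-- **Weierstrass preparation** in `R{t}`: existence. -/
theorem weierstrass_exists (f : B) (hf : f ∉ (maximalIdeal R).map (algebraMap R B)) :
    ∃ P : R[X], P.Monic ∧ P - X ^ P.natDegree ∈ (maximalIdeal R).map (C : R →+* R[X]) ∧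
      ∃ u : Bˣ, f = algebraMap R[X] B P * (u : B) := by
  classical
  rw [map_algebraMap_eq] at hf
  set K : Ideal R[X] := (maximalIdeal R).map (C : R →+* R[X]) with hK
  have hq := isPairHenselization_quotient hB K
  have hNoeth0 : IsNoetherianRing (R[X] ⧸ K) := by
    let _ : Field (R ⧸ maximalIdeal R) := Ideal.Quotient.field (maximalIdeal R)
    have hF : IsNoetherianRing (R ⧸ maximalIdeal R) := inferInstance
    have hFX : IsNoetherianRing (R ⧸ maximalIdeal R)[X] := Polynomial.isNoetherianRing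
    exact isNoetherianRing_of_ringEquiv _
      (Ideal.polynomialQuotientEquivQuotientPolynomial (maximalIdeal R))
  have hNoeth : IsNoetherianRing (B ⧸ K.map (algebraMap R[X] B)) :=
    isNoetherianRing_of_isPairHenselization hq
  set tb : B ⧸ K.map (algebraMap R[X] B) :=
    Ideal.Quotient.mk _ (algebraMap R[X] B X) with htb
  have hjacT : Ideal.span {tb} ≤ Ideal.jacobson (⊥ : Ideal (B ⧸ K.map (algebraMap R[X] B))) := by
    have := hq.1.jac
    rw [Ideal.map_span, Set.image_singleton, Ideal.map_span, Set.image_singleton,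
      Ideal.Quotient.algebraMap_quotient_map_quotient] at this
    exact this
  have hkrull := Ideal.iInf_pow_smul_eq_bot_of_le_jacobson (Ideal.span {tb})
    (M := B ⧸ K.map (algebraMap R[X] B)) hjacT
  have hfb : Ideal.Quotient.mk (K.map (algebraMap R[X] B)) f ≠ 0 := by
    rw [Ne, Ideal.Quotient.eq_zero_iff_mem]; exact hf
  have hex : ∃ n : ℕ, Ideal.Quotient.mk (K.map (algebraMap R[X] B)) f ∉ Ideal.span {tb ^ n} := by
    by_contra hcon
    push Not at hcon
    apply hfb
    have : Ideal.Quotient.mk (K.map (algebraMap R[X] B)) f ∈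
        (⨅ i : ℕ, (Ideal.span {tb}) ^ i • ⊤ : Submodule (B ⧸ K.map (algebraMap R[X] B))
          (B ⧸ K.map (algebraMap R[X] B))) := by
      rw [Submodule.mem_iInf]
      intro i
      rw [smul_eq_mul, Ideal.mul_top, Ideal.span_singleton_pow]
      exact hcon i
    rw [hkrull] at this
    exact this
  have hn0 : Nat.find hex ≠ 0 := by
    intro h0
    have := Nat.find_spec hex
    rw [h0, pow_zero, Ideal.span_singleton_one] at this
    exact this trivial
  obtain ⟨N, hN⟩ := Nat.exists_eq_succ_of_ne_zero hn0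
  have hN1 : Ideal.Quotient.mk (K.map (algebraMap R[X] B)) f ∈ Ideal.span {tb ^ N} := by
    have := Nat.find_min hex (m := N) (by omega)
    exact not_not.mp this
  have hN2 : Ideal.Quotient.mk (K.map (algebraMap R[X] B)) f ∉ Ideal.span {tb ^ (N + 1)} := by
    have := Nat.find_spec hex
    rwa [hN] at this
  obtain ⟨cb, hcb⟩ := Ideal.mem_span_singleton'.mp hN1
  obtain ⟨b, rfl⟩ := Ideal.Quotient.mk_surjective cb
  have hfb' : f - b * algebraMap R[X] B (X ^ N) ∈ K.map (algebraMap R[X] B) := by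
    rw [← Ideal.Quotient.eq, map_mul, ← hcb, htb, map_pow, map_pow]
  obtain ⟨ev0, hev⟩ := exists_ev0 hB
  have hbu : IsUnit b := by
    apply isUnit_of_isUnit_ev0 hB ev0 hev
    by_contra hnu
    have hr : ev0 b ∈ maximalIdeal R := (mem_maximalIdeal _).mpr hnu
    apply hN2
    have h1 := exists_const_congr hB ev0 hev b
    rw [Ideal.map_span, Set.image_singleton] at h1
    obtain ⟨b', hb'⟩ := Ideal.mem_span_singleton'.mp h1
    have h2 : Ideal.Quotient.mk (K.map (algebraMap R[X] B)) b = Ideal.Quotient.mk _ b' * tb := by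
      have h3 : Ideal.Quotient.mk (K.map (algebraMap R[X] B)) (algebraMap R[X] B (C (ev0 b))) = 0 := by
        rw [Ideal.Quotient.eq_zero_iff_mem]
        exact Ideal.mem_map_of_mem _ (Ideal.mem_map_of_mem _ hr)
      rw [htb, ← map_mul, hb', map_sub, h3, sub_zero]
    rw [← hcb, h2, Ideal.mem_span_singleton']
    exact ⟨Ideal.Quotient.mk _ b', by ring⟩
  obtain ⟨ub, rfl⟩ := hbu
  have hspec : f * ↑ub⁻¹ - algebraMap R[X] B (X ^ N) ∈ (maximalIdeal R).map (algebraMap R B) := by
    rw [map_algebraMap_eq]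
    have : f * ↑ub⁻¹ - algebraMap R[X] B (X ^ N) =
        ↑ub⁻¹ * (f - ↑ub * algebraMap R[X] B (X ^ N)) := by
      rw [mul_sub, ← mul_assoc, Units.inv_mul, one_mul]; ring
    rw [this]
    exact Ideal.mul_mem_left _ _ hfb'
  obtain ⟨P, hPm, hPd, hPk, u, hu⟩ := weierstrass_special hB _ N hspec
  refine ⟨P, hPm, by rw [hPd]; exact hPk, u * ub, ?_⟩
  rw [Units.val_mul, ← mul_assoc, ← hu, mul_assoc, Units.inv_mul, mul_one]


omit [HenselianLocalRing R] in
theorem dist_iff [IsLocalRing R] (P : R[X]) (hP : P.Monic) :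
    (∀ i : ℕ, i < P.natDegree → P.coeff i ∈ maximalIdeal R) ↔
      P - X ^ P.natDegree ∈ (maximalIdeal R).map (C : R →+* R[X]) := by
  rw [Ideal.mem_map_C_iff]
  constructor
  · intro h n
    rw [coeff_sub, coeff_X_pow]
    rcases lt_trichotomy n P.natDegree with hn | hn | hn
    · rw [if_neg (ne_of_lt hn), sub_zero]; exact h n hn
    · rw [if_pos hn, hn, hP.coeff_natDegree, sub_self]; exact Ideal.zero_mem _
    · rw [if_neg (ne_of_gt hn), coeff_eq_zero_of_natDegree_lt hn, sub_zero]; exact Ideal.zero_mem _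
  · intro h i hi
    have := h i
    rwa [coeff_sub, coeff_X_pow, if_neg (ne_of_lt hi), sub_zero] at this

include hB in
theorem main_S15752 (f : B) (hf : f ∉ (IsLocalRing.maximalIdeal R).map (algebraMap R B)) :
    (∃! Pu : R[X] × Bˣ, Pu.1.Monic ∧
        (∀ i : ℕ, i < Pu.1.natDegree → Pu.1.coeff i ∈ IsLocalRing.maximalIdeal R) ∧
        f = algebraMap R[X] B Pu.1 * (Pu.2 : B)) ∧
    (∀ (P : R[X]) (u : Bˣ), P.Monic →
        (∀ i : ℕ, i < P.natDegree → P.coeff i ∈ IsLocalRing.maximalIdeal R) →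
        f = algebraMap R[X] B P * (u : B) →
      (∀ b : B, ∃ q : R[X], algebraMap R[X] B q - b ∈ Ideal.span {f}) ∧
      (∀ q : R[X], algebraMap R[X] B q ∈ Ideal.span {f} → q ∈ Ideal.span {P})) := by
  have hpart2 : ∀ (P : R[X]) (u : Bˣ), P.Monic →
        (∀ i : ℕ, i < P.natDegree → P.coeff i ∈ IsLocalRing.maximalIdeal R) →
        f = algebraMap R[X] B P * (u : B) →
      (∀ b : B, ∃ q : R[X], algebraMap R[X] B q - b ∈ Ideal.span {f}) ∧
      (∀ q : R[X], algebraMap R[X] B q ∈ Ideal.span {f} → q ∈ Ideal.span {P}) := by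
    intro P u hP hPc hfu
    have hPk := (dist_iff P hP).mp hPc
    have hspan : Ideal.span {f} = Ideal.span {algebraMap R[X] B P} := by
      rw [hfu]; exact Ideal.span_singleton_mul_right_unit u.isUnit _
    rw [hspan]
    exact ⟨fun b => W1 hB P hP _ hPk b, fun q hq => W2 hB P hP _ hPk q hq⟩
  refine ⟨?_, hpart2⟩
  obtain ⟨P, hPm, hPk, u, hu⟩ := weierstrass_exists hB f hf
  refine ⟨(P, u), ⟨hPm, (dist_iff P hPm).mpr hPk, hu⟩, ?_⟩
  rintro ⟨P', u'⟩ ⟨hP'm, hP'c, hu'⟩
  simp only at hP'm hP'c hu'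
  have hdvd : ∀ (P₁ P₂ : R[X]) (u₁ u₂ : Bˣ), P₁.Monic →
      (∀ i : ℕ, i < P₁.natDegree → P₁.coeff i ∈ IsLocalRing.maximalIdeal R) →
      f = algebraMap R[X] B P₁ * (u₁ : B) → f = algebraMap R[X] B P₂ * (u₂ : B) → P₁ ∣ P₂ := by
    intro P₁ P₂ u₁ u₂ h1 h1c hf1 hf2
    have h3 := (hpart2 P₁ u₁ h1 h1c hf1).2 P₂ ?_
    · exact Ideal.mem_span_singleton.mp h3
    · rw [Ideal.mem_span_singleton']
      refine ⟨↑u₂⁻¹, ?_⟩
      rw [hf2, mul_comm, mul_assoc, Units.mul_inv, mul_one]
  have h1 := hdvd P P' u u' hPm ((dist_iff P hPm).mpr hPk) hu hu'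
  have h2 := hdvd P' P u' u hP'm hP'c hu' hu
  have hPP : P' = P := by
    apply eq_of_monic_of_dvd_of_natDegree_le hPm hP'm h1
    obtain ⟨c, hc⟩ := h2
    have hc0 : c ≠ 0 := by
      intro h0; rw [h0, mul_zero] at hc; exact hPm.ne_zero hc
    rw [hc, hP'm.natDegree_mul' hc0]
    omega
  subst hPP
  have hflat : Module.Flat R[X] B := flat_of_isPairHenselization hB
  have hreg : IsSMulRegular B (algebraMap R[X] B P') :=
    IsSMulRegular.of_flat (hP'm.isRegular.left.isSMulRegular)
  have huu : (u' : B) = u := by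
    apply hreg
    simp only [smul_eq_mul]
    rw [← hu', ← hu]
  rw [Prod.mk.injEq]
  exact ⟨rfl, Units.ext huu⟩

end WPG

end Groth.Agent.Lib.Helper83.ZarLaur
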