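import Mathlib
import Groth.Agent.Lib.Helper83.ZarLaur1
import Groth.Agent.Lib.Helper83.ZarLaur5

set_option autoImplicit false

namespace Groth.Agent.Lib.Helper83.ZarLaur

open Polynomial IsLocalRing Groth.Agent.Lib.Helper58.PairHens Groth.Agent.Lib.Helper58.HenselPair

universe u

section HL

variable {R : Type u} [CommRing R] [HenselianLocalRing R]
variable {B : Type u} [CommRing B] [Algebra R[X] B]
  (hB : Hens2.IsPairHenselization R[X] (Ideal.span {(X : R[X])}) B)
variable {L : Type u} [CommRing L] [Algebra B L] [IsLocalization.Away (algebraMap R[X] B X) L]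
  [Algebra R[X] L] [IsScalarTower R[X] B L] [Algebra R L] [IsScalarTower R R[X] L]
  (ψ : R[X] →ₐ[R] L) (hψ : ψ X * algebraMap R[X] L X = 1)

include hB hψ in
/-- every element of `L` is congruent to an element of `ψ(R[s])` modulo `P`. -/
theorem La (P : R[X]) (hP : P.Monic) (n : ℕ) (hPd : P.natDegree = n)
    (hPk : P - X ^ n ∈ (maximalIdeal R).map (C : R →+* R[X])) (l : L) :
    ∃ (y : R[X]) (l' : L), l = ψ y + algebraMap R[X] L P * l' := by
  set G := reflect n P with hG
  have hL0 : ψ G * (algebraMap R[X] L X) ^ n = algebraMap R[X] L P := key ψ hψ n P hPd.le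
  have hσT : ∀ j : ℕ, ψ X ^ j * (algebraMap R[X] L X) ^ j = 1 := by
    intro j; rw [← mul_pow, hψ, one_pow]
  have hG0 : G.coeff 0 = 1 := by
    rw [hG, coeff_reflect, revAt_le (Nat.zero_le _), Nat.sub_zero, ← hPd, hP.coeff_natDegree]
  set w : R[X] := - divX G with hw
  have hXw : X * w - 1 = - G := by
    have := Polynomial.X_mul_divX_add G
    rw [hG0, C_1] at this
    rw [hw]; linear_combination -this
  set π := Ideal.Quotient.mk (Ideal.span {algebraMap R[X] L P}) with hπ
  have hπP : π (algebraMap R[X] L P) = 0 :=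
    Ideal.Quotient.eq_zero_iff_mem.mpr (Ideal.mem_span_singleton_self _)
  have hπG : π (ψ G) = 0 := by
    have : ψ G = algebraMap R[X] L P * ψ X ^ n := by
      rw [← hL0, mul_assoc, mul_comm ((algebraMap R[X] L X) ^ n), hσT, mul_one]
    rw [this, map_mul, hπP, zero_mul]
  have hπT : π (algebraMap R[X] L X) = π (ψ w) := by
    have h1 : π (ψ X) * π (ψ w) = 1 := by
      have := congrArg (fun q => π (ψ q)) hXw
      simp only [map_sub, map_mul, map_one, map_neg, hπG, neg_zero] at this
      exact sub_eq_zero.mp this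
    have h2 : π (ψ X) * π (algebraMap R[X] L X) = 1 := by rw [← map_mul, hψ, map_one]
    calc π (algebraMap R[X] L X) = π (algebraMap R[X] L X) * (π (ψ X) * π (ψ w)) := by
          rw [h1, mul_one]
      _ = (π (ψ X) * π (algebraMap R[X] L X)) * π (ψ w) := by ring
      _ = π (ψ w) := by rw [h2, one_mul]
  have hcomp : ∀ q : R[X], π (algebraMap R[X] L q) = π (ψ (q.comp w)) := by
    have : π.comp (algebraMap R[X] L) = (π.comp (ψ : R[X] →+* L)).comp (compRingHom w) := by
      apply Polynomial.ringHom_ext
      · intro a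
        simp only [RingHom.comp_apply, coe_compRingHom_apply, C_comp]
        congr 1
        rw [← Polynomial.algebraMap_eq, ← IsScalarTower.algebraMap_apply]
        exact (ψ.commutes a).symm
      · simp only [RingHom.comp_apply, coe_compRingHom_apply, X_comp]
        exact hπT
    intro q
    exact congrArg (fun ρ : R[X] →+* _ => ρ q) this
  obtain ⟨j, b, hjb⟩ := IsLocalization.Away.surj (algebraMap R[X] B X) l
  obtain ⟨q, hq⟩ := W1 hB P hP n hPk b
  obtain ⟨c, hc⟩ := Ideal.mem_span_singleton'.mp hq
  have hb : π (algebraMap B L b) = π (ψ (q.comp w)) := by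
    rw [← hcomp]
    have h1 : algebraMap B L b = algebraMap R[X] L q - algebraMap B L c * algebraMap R[X] L P := by
      rw [IsScalarTower.algebraMap_apply R[X] B L, IsScalarTower.algebraMap_apply R[X] B L,
        ← map_mul, hc, map_sub]; ring
    rw [h1, map_sub, map_mul, hπP, mul_zero, sub_zero]
  have hl : l = algebraMap B L b * ψ X ^ j := by
    rw [← hjb, ← IsScalarTower.algebraMap_apply R[X] B L, mul_assoc,
      mul_comm ((algebraMap R[X] L X) ^ j), hσT, mul_one]
  have h3 : π l = π (ψ (q.comp w * X ^ j)) := by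
    rw [hl, map_mul, hb, map_mul ψ, map_mul π, map_pow ψ]
  rw [← sub_eq_zero, ← map_sub, hπ, Ideal.Quotient.eq_zero_iff_mem, Ideal.mem_span_singleton'] at h3
  obtain ⟨l', hl'⟩ := h3
  exact ⟨q.comp w * X ^ j, l', by linear_combination -hl'⟩


include hB hψ in
/-- the kernel of `R[s] → L / P L` is generated by the reflection of `P`. -/
theorem Lb (P : R[X]) (hP : P.Monic) (n : ℕ) (hPd : P.natDegree = n)
    (hPk : P - X ^ n ∈ (maximalIdeal R).map (C : R →+* R[X])) (z : R[X])
    (hz : ψ z ∈ Ideal.span {algebraMap R[X] L P}) : reflect n P ∣ z := by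
  obtain ⟨l, hl⟩ := Ideal.mem_span_singleton'.mp hz
  obtain ⟨j, b, hjb⟩ := IsLocalization.Away.surj (algebraMap R[X] B X) l
  set d := z.natDegree with hd
  have h1 := key' ψ hψ d z le_rfl
  -- equality in L
  have h2 : algebraMap B L (algebraMap R[X] B (reflect d z * X ^ j)) =
      algebraMap B L (algebraMap R[X] B (P * X ^ d) * b) := by
    rw [map_mul (algebraMap B L), ← hjb, ← IsScalarTower.algebraMap_apply R[X] B L,
      ← IsScalarTower.algebraMap_apply R[X] B L, ← IsScalarTower.algebraMap_apply R[X] B L,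
      map_mul, map_mul, ← h1, map_pow, map_pow, ← hl]
    ring
  obtain ⟨⟨c, i, rfl⟩, hc⟩ := IsLocalization.exists_of_eq
    (M := Submonoid.powers (algebraMap R[X] B X)) h2
  simp only at hc
  have h3 : algebraMap R[X] B (X ^ (i + j) * reflect d z) ∈
      Ideal.span {algebraMap R[X] B P} := by
    rw [Ideal.mem_span_singleton']
    refine ⟨algebraMap R[X] B (X ^ (i + d)) * b, ?_⟩
    have e1 : algebraMap R[X] B (X ^ (i + j) * reflect d z) =
        algebraMap R[X] B X ^ i * algebraMap R[X] B (reflect d z * X ^ j) := by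
      rw [← map_pow, ← map_mul]; congr 1; ring
    rw [e1, hc, map_mul, map_pow, map_pow]
    ring
  have h4 := W2 hB P hP n hPk _ h3
  obtain ⟨h, hh⟩ := Ideal.mem_span_singleton.mp h4
  set e := i + j with he
  by_cases h0 : h = 0
  · rw [h0, mul_zero] at hh
    have : reflect d z = 0 := by
      have hreg := (monic_X_pow (R := R) e).isRegular.left
      apply hreg
      simp only [mul_zero]
      exact hh
    rw [reflect_eq_zero_iff] at this
    rw [this]; exact dvd_zero _
  · have hdeg1 : (X ^ e * reflect d z).natDegree ≤ e + d := by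
      refine natDegree_mul_le.trans (add_le_add (natDegree_X_pow_le e) ?_)
      refine natDegree_reflect_le.trans ?_
      simp [hd]
    have hdeg2 : (P * h).natDegree = n + h.natDegree := by
      rw [hP.natDegree_mul' h0, hPd]
    rw [hh, hdeg2] at hdeg1
    have hm : n + (e + d - n) = e + d := by omega
    have hhd : h.natDegree ≤ e + d - n := by omega
    have hzr : (reflect d z).natDegree ≤ d := by
      refine natDegree_reflect_le.trans ?_
      simp [hd]
    have r1 : reflect (e + d) (X ^ e * reflect d z) = z := by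
      rw [reflect_mul _ _ (natDegree_X_pow_le e) hzr, reflect_monomial, revAt_le le_rfl,
        Nat.sub_self, pow_zero, one_mul, reflect_reflect]
    have r2 : reflect (n + (e + d - n)) (P * h) = reflect n P * reflect (e + d - n) h :=
      reflect_mul _ _ hPd.le hhd
    rw [hm, ← hh, r1] at r2
    exact ⟨_, r2⟩


omit [HenselianLocalRing R] in
theorem exists_dist_of_sup_eq_top [IsLocalRing R] (I : Ideal R[X])
    (hI : I ⊔ (maximalIdeal R).map (C : R →+* R[X]) = ⊤) :
    ∃ (P : R[X]) (n : ℕ), P.Monic ∧ P.natDegree = n ∧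
      P - X ^ n ∈ (maximalIdeal R).map (C : R →+* R[X]) ∧ reflect n P ∈ I := by
  have h1 : (1 : R[X]) ∈ I ⊔ (maximalIdeal R).map (C : R →+* R[X]) := by rw [hI]; trivial
  obtain ⟨G₀, hG₀, μ, hμ, e⟩ := Submodule.mem_sup.mp h1
  rw [Ideal.mem_map_C_iff] at hμ
  have hG₀c : ∀ i, G₀.coeff i = (if i = 0 then 1 else 0) - μ.coeff i := by
    intro i
    have : G₀ = 1 - μ := by linear_combination e
    rw [this, coeff_sub, coeff_one]
  have hu : IsUnit (G₀.coeff 0) := by
    rw [hG₀c 0, if_pos rfl]
    by_contra hnu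
    have h2 : 1 - μ.coeff 0 ∈ maximalIdeal R := (mem_maximalIdeal _).mpr hnu
    have h3 : (1 : R) ∈ maximalIdeal R := by
      have := Ideal.add_mem _ h2 (hμ 0)
      rwa [sub_add_cancel] at this
    exact (Ideal.ne_top_iff_one _).mp (maximalIdeal.isMaximal R).ne_top h3
  obtain ⟨u, hu⟩ := hu
  set n := G₀.natDegree with hn
  set G := C (↑u⁻¹ : R) * G₀ with hG
  have hGI : G ∈ I := I.mul_mem_left _ hG₀
  have hGc0 : G.coeff 0 = 1 := by rw [hG, coeff_C_mul, ← hu, Units.inv_mul]
  have hGci : ∀ i, i ≠ 0 → G.coeff i ∈ maximalIdeal R := by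
    intro i hi
    rw [hG, coeff_C_mul, hG₀c i, if_neg hi, zero_sub]
    exact Ideal.mul_mem_left _ _ (Ideal.neg_mem_iff _ |>.mpr (hμ i))
  have hGd : G.natDegree ≤ n := (natDegree_C_mul_le _ _).trans le_rfl
  set P := reflect n G with hPdef
  have hPn : P.natDegree ≤ n := by
    refine natDegree_reflect_le.trans ?_
    simp [hGd]
  have hPc : P.coeff n = 1 := by
    rw [hPdef, coeff_reflect, revAt_le le_rfl, Nat.sub_self, hGc0]
  have hPm : P.Monic := monic_of_natDegree_le_of_coeff_eq_one n hPn hPc
  have hPd : P.natDegree = n := natDegree_eq_of_le_of_coeff_ne_zero hPn (by rw [hPc]; exact one_ne_zero)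
  refine ⟨P, n, hPm, hPd, ?_, ?_⟩
  · have := (dist_iff P hPm).mp ?_
    · rwa [hPd] at this
    · intro i hi
      rw [hPd] at hi
      rw [hPdef, coeff_reflect, revAt_le hi.le]
      exact hGci _ (by omega)
  · rw [hPdef, reflect_reflect]; exact hGI


include hB hψ in
theorem main_abs [Algebra R B] [IsScalarTower R R[X] B] [IsScalarTower R B L] :
    (∀ I : Ideal R[X], I ⊔ (maximalIdeal R).map (algebraMap R R[X]) = ⊤ →
        (I.map ψ.toRingHom).comap ψ.toRingHom = I ∧
        I.map ψ.toRingHom ⊔ (maximalIdeal R).map (algebraMap R L) = ⊤ ∧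
        Function.Bijective
          (Ideal.quotientMap (I.map ψ.toRingHom) ψ.toRingHom Ideal.le_comap_map)) ∧
    (∀ J : Ideal L, J ⊔ (maximalIdeal R).map (algebraMap R L) = ⊤ →
        (J.comap ψ.toRingHom).map ψ.toRingHom = J ∧
        J.comap ψ.toRingHom ⊔ (maximalIdeal R).map (algebraMap R R[X]) = ⊤) := by
  have hcomp : ψ.toRingHom.comp (C : R →+* R[X]) = algebraMap R L := by
    ext a
    have : ψ (C a) = algebraMap R L a := by
      rw [← Polynomial.algebraMap_eq]; exact ψ.commutes a
    exact this
  have hm : (maximalIdeal R).map (algebraMap R L) =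
      ((maximalIdeal R).map (C : R →+* R[X])).map ψ.toRingHom := by
    rw [Ideal.map_map, hcomp]
  have hσT : ∀ j : ℕ, ψ X ^ j * (algebraMap R[X] L X) ^ j = 1 := by
    intro j; rw [← mul_pow, hψ, one_pow]
  -- alg P lies in the extension of any ideal containing reflect n P
  have hPmem : ∀ (P : R[X]) (n : ℕ), P.natDegree = n → ∀ I : Ideal R[X], reflect n P ∈ I →
      algebraMap R[X] L P ∈ I.map ψ.toRingHom := by
    intro P n hPd I hG
    rw [← key ψ hψ n P hPd.le]
    exact Ideal.mul_mem_right _ _ (Ideal.mem_map_of_mem _ hG)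
  refine ⟨fun I hI => ?_, fun J hJ => ?_⟩
  · rw [Polynomial.algebraMap_eq] at hI
    obtain ⟨P, n, hPm, hPd, hPk, hG⟩ := exists_dist_of_sup_eq_top I hI
    have hPI := hPmem P n hPd I hG
    have hdecomp : ∀ x ∈ I.map ψ.toRingHom, ∃ i ∈ I, ∃ l' : L,
        x = ψ i + algebraMap R[X] L P * l' := by
      intro x hx
      refine Submodule.span_induction (p := fun x _ => ∃ i ∈ I, ∃ l' : L,
        x = ψ i + algebraMap R[X] L P * l') ?_ ?_ ?_ ?_ hx
      · rintro _ ⟨i, hi, rfl⟩
        exact ⟨i, hi, 0, by simp⟩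
      · exact ⟨0, I.zero_mem, 0, by simp⟩
      · rintro x y _ _ ⟨i, hi, l', e1⟩ ⟨i', hi', l'', e2⟩
        exact ⟨i + i', I.add_mem hi hi', l' + l'', by rw [e1, e2, map_add]; ring⟩
      · rintro l x _ ⟨i, hi, l', e1⟩
        obtain ⟨y, l'', e2⟩ := La hB ψ hψ P hPm n hPd hPk l
        refine ⟨y * i, I.mul_mem_left _ hi, l'' * ψ i + l * l', ?_⟩
        rw [smul_eq_mul, e1, map_mul]
        conv_lhs => rw [mul_add, e2]
        rw [e2]; ring
    have hcm : (I.map ψ.toRingHom).comap ψ.toRingHom = I := by
      apply le_antisymm _ Ideal.le_comap_map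
      intro q hq
      rw [Ideal.mem_comap] at hq
      obtain ⟨i, hi, l', e1⟩ := hdecomp _ hq
      have h1 : ψ (q - i) ∈ Ideal.span {algebraMap R[X] L P} := by
        rw [Ideal.mem_span_singleton']
        refine ⟨l', ?_⟩
        have : ψ.toRingHom q = ψ q := rfl
        rw [map_sub, ← this, e1]; ring
      obtain ⟨c, hc⟩ := Lb hB ψ hψ P hPm n hPd hPk _ h1
      have : q = i + reflect n P * c := by rw [← hc]; ring
      rw [this]
      exact I.add_mem hi (I.mul_mem_right _ hG)
    refine ⟨hcm, ?_, ?_⟩
    · have := congrArg (Ideal.map ψ.toRingHom) hI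
      rw [Ideal.map_sup, Ideal.map_top, ← hm] at this
      exact this
    · constructor
      · rw [injective_iff_map_eq_zero]
        intro x hx
        obtain ⟨q, rfl⟩ := Ideal.Quotient.mk_surjective x
        rw [Ideal.quotientMap_mk, Ideal.Quotient.eq_zero_iff_mem] at hx
        rw [Ideal.Quotient.eq_zero_iff_mem, ← hcm]
        exact hx
      · intro y
        obtain ⟨l, rfl⟩ := Ideal.Quotient.mk_surjective y
        obtain ⟨y, l', e⟩ := La hB ψ hψ P hPm n hPd hPk l
        refine ⟨Ideal.Quotient.mk I y, ?_⟩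
        rw [Ideal.quotientMap_mk, Ideal.Quotient.eq]
        have : ψ.toRingHom y - l = - (algebraMap R[X] L P * l') := by
          have : ψ.toRingHom y = ψ y := rfl
          rw [this, e]; ring
        rw [this]
        exact Ideal.neg_mem_iff _ |>.mpr (Ideal.mul_mem_right _ _ hPI)
  · -- second part
    have h1 : (1 : L) ∈ J ⊔ (maximalIdeal R).map (algebraMap R L) := by rw [hJ]; trivial
    obtain ⟨j, hj, μ, hμ, e⟩ := Submodule.mem_sup.mp h1
    have hmB : (maximalIdeal R).map (algebraMap R L) =
        ((maximalIdeal R).map (algebraMap R B)).map (algebraMap B L) := by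
      rw [Ideal.map_map, ← IsScalarTower.algebraMap_eq]
    rw [hmB, IsLocalization.mem_map_algebraMap_iff
      (Submonoid.powers (algebraMap R[X] B X)) L] at hμ
    obtain ⟨⟨⟨a, ha⟩, ⟨_, k, rfl⟩⟩, hak⟩ := hμ
    simp only at hak
    set f : B := algebraMap R[X] B (X ^ k) - a with hf
    have hfJ : algebraMap B L f ∈ J := by
      have : algebraMap B L f = j * algebraMap B L (algebraMap R[X] B X ^ k) := by
        rw [hf, map_sub, ← hak, map_pow (algebraMap R[X] B)]
        have : j = 1 - μ := by linear_combination e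
        rw [this]; ring
      rw [this]; exact J.mul_mem_right _ hj
    have hfk : f - algebraMap R[X] B (X ^ k) ∈ (maximalIdeal R).map (algebraMap R B) := by
      rw [hf, sub_sub_cancel_left]; exact Ideal.neg_mem_iff _ |>.mpr ha
    obtain ⟨P, hPm, hPd, hPk, u, hu⟩ := weierstrass_special hB f k hfk
    have hPJ : algebraMap R[X] L P ∈ J := by
      have : algebraMap R[X] L P = algebraMap B L f * algebraMap B L ↑u⁻¹ := by
        rw [IsScalarTower.algebraMap_apply R[X] B L, ← map_mul, hu, mul_assoc, Units.mul_inv,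
          mul_one]
      rw [this]; exact J.mul_mem_right _ hfJ
    have hGJ : reflect k P ∈ J.comap ψ.toRingHom := by
      rw [Ideal.mem_comap]
      have h2 := key ψ hψ k P hPd.le
      have : ψ.toRingHom (reflect k P) = algebraMap R[X] L P * ψ X ^ k := by
        show ψ (reflect k P) = _
        rw [← h2, mul_assoc, mul_comm ((algebraMap R[X] L X) ^ k), hσT, mul_one]
      rw [this]; exact J.mul_mem_right _ hPJ
    refine ⟨?_, ?_⟩
    · apply le_antisymm Ideal.map_comap_le
      intro l hl
      obtain ⟨y, l', e2⟩ := La hB ψ hψ P hPm k hPd hPk l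
      have hy : y ∈ J.comap ψ.toRingHom := by
        rw [Ideal.mem_comap]
        have : ψ.toRingHom y = l - algebraMap R[X] L P * l' := by
          show ψ y = _
          rw [e2]; ring
        rw [this]; exact J.sub_mem hl (J.mul_mem_right _ hPJ)
      rw [e2]
      exact Ideal.add_mem _ (Ideal.mem_map_of_mem _ hy)
        (Ideal.mul_mem_right _ _ (hPmem P k hPd _ hGJ))
    · rw [Polynomial.algebraMap_eq, Ideal.eq_top_iff_one]
      have hG1 : reflect k P - 1 ∈ (maximalIdeal R).map (C : R →+* R[X]) := by
        rw [Ideal.mem_map_C_iff]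
        intro i
        rw [coeff_sub, coeff_one, coeff_reflect]
        have hPc := (dist_iff P hPm).mpr (by rw [hPd]; exact hPk)
        rcases Nat.eq_zero_or_pos i with h0 | h0
        · rw [h0, if_pos rfl, revAt_le (Nat.zero_le _), Nat.sub_zero, ← hPd,
            hPm.coeff_natDegree, sub_self]
          exact Ideal.zero_mem _
        · rw [if_neg (by omega), sub_zero]
          by_cases hik : i ≤ k
          · rw [revAt_le hik]
            exact hPc _ (by omega)
          · have : revAt k i = i := by
              rw [← revAtFun_eq, revAtFun, if_neg hik]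
            rw [this, coeff_eq_zero_of_natDegree_lt (by omega)]
            exact Ideal.zero_mem _
      have : (1 : R[X]) = reflect k P - (reflect k P - 1) := by ring
      rw [this]
      exact Ideal.sub_mem _ (Ideal.mem_sup_left hGJ) (Ideal.mem_sup_right hG1)

end HL


theorem main_S15773 (R : Type u) [CommRing R]
    [HenselianLocalRing R] (B : Type u) [CommRing B] [Algebra R B] [Algebra R[X] B]
    [IsScalarTower R R[X] B]
    (hB : Hens2.IsPairHenselization R[X] (Ideal.span {(X : R[X])}) B)
    (ψ : R[X] →ₐ[R] Localization.Away (algebraMap R[X] B X))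
    (hψ : ψ X * algebraMap B (Localization.Away (algebraMap R[X] B X)) (algebraMap R[X] B X) = 1) :
    (∀ I : Ideal R[X], I ⊔ (IsLocalRing.maximalIdeal R).map (algebraMap R R[X]) = ⊤ →
        (I.map ψ.toRingHom).comap ψ.toRingHom = I ∧
        I.map ψ.toRingHom ⊔ (IsLocalRing.maximalIdeal R).map
          (algebraMap R (Localization.Away (algebraMap R[X] B X))) = ⊤ ∧
        Function.Bijective (Ideal.quotientMap (I.map ψ.toRingHom) ψ.toRingHom Ideal.le_comap_map)) ∧
    (∀ J : Ideal (Localization.Away (algebraMap R[X] B X)),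
        J ⊔ (IsLocalRing.maximalIdeal R).map (algebraMap R (Localization.Away (algebraMap R[X] B X))) = ⊤ →
        (J.comap ψ.toRingHom).map ψ.toRingHom = J ∧
        J.comap ψ.toRingHom ⊔ (IsLocalRing.maximalIdeal R).map (algebraMap R R[X]) = ⊤) := by
  have _ : IsScalarTower R R[X] (Localization.Away (algebraMap R[X] B X)) :=
    IsScalarTower.of_algebraMap_eq (fun a => by
      rw [IsScalarTower.algebraMap_apply R B (Localization.Away (algebraMap R[X] B X)),
        IsScalarTower.algebraMap_apply R R[X] B,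
        ← IsScalarTower.algebraMap_apply R[X] B (Localization.Away (algebraMap R[X] B X))])
  exact main_abs hB ψ (by
    rw [IsScalarTower.algebraMap_apply R[X] B (Localization.Away (algebraMap R[X] B X))]
    exact hψ)

end Groth.Agent.Lib.Helper83.ZarLaur
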