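import Mathlib
import Groth.Agent.Lib.Helper83.PicLaur2
import Groth.Agent.Lib.Helper83.ZarLaur6

set_option autoImplicit false

namespace Groth.Agent.Lib.Helper83.PicLaur

open TensorProduct CommRing Polynomial IsLocalRing Groth.Agent.Lib.Helper83.ZarLaur
  Groth.Agent.Lib.Helper58.PairHens Groth.Agent.Lib.Helper58.HenselPair

universe u

section Concrete

variable {R : Type u} [CommRing R] [HenselianLocalRing R]
variable {B : Type u} [CommRing B] [Algebra R[X] B]
  (hB : Hens2.IsPairHenselization R[X] (Ideal.span {(X : R[X])}) B)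
variable {L : Type u} [CommRing L] [Algebra B L] [IsLocalization.Away (algebraMap R[X] B X) L]
  [Algebra R[X] L] [IsScalarTower R[X] B L] [Algebra R L] [IsScalarTower R R[X] L]
  (ψ : R[X] →ₐ[R] L) (hψ : ψ X * algebraMap R[X] L X = 1)
  [Algebra R B] [IsScalarTower R R[X] B] [IsScalarTower R B L]

omit [HenselianLocalRing R] [IsLocalization.Away (algebraMap R[X] B X) L] [IsScalarTower R[X] B L]
  [Algebra R B] [IsScalarTower R R[X] B] [IsScalarTower R B L] [Algebra R[X] L]
  [IsScalarTower R R[X] L] in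
theorem map_max_eq [IsLocalRing R] : (maximalIdeal R).map (algebraMap R L) =
    ((maximalIdeal R).map (C : R →+* R[X])).map ψ.toRingHom := by
  have hcomp : ψ.toRingHom.comp (C : R →+* R[X]) = algebraMap R L := by
    ext a
    have : ψ (C a) = algebraMap R L a := by
      rw [← Polynomial.algebraMap_eq]; exact ψ.commutes a
    exact this
  rw [Ideal.map_map, hcomp]

omit [HenselianLocalRing R] [IsLocalization.Away (algebraMap R[X] B X) L] [IsScalarTower R[X] B L]
  [IsScalarTower R R[X] L] [IsScalarTower R R[X] B] [Algebra R[X] B] [Algebra R[X] L] in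
theorem map_max_eq' [IsLocalRing R] : (maximalIdeal R).map (algebraMap R L) =
    ((maximalIdeal R).map (algebraMap R B)).map (algebraMap B L) := by
  rw [Ideal.map_map, ← IsScalarTower.algebraMap_eq]

omit [IsScalarTower R[X] B L] [Algebra R[X] L] [IsScalarTower R R[X] L] in
include hB in
theorem c_ne_top : ((maximalIdeal R).map (C : R →+* R[X])).map ψ.toRingHom ≠ ⊤ := by
  intro htop
  rw [← map_max_eq ψ, map_max_eq' (B := B), Ideal.eq_top_iff_one,
    IsLocalization.mem_map_algebraMap_iff (Submonoid.powers (algebraMap R[X] B X)) L] at htop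
  obtain ⟨⟨⟨a, ha⟩, ⟨_, k, rfl⟩⟩, hak⟩ := htop
  simp only [one_mul] at hak
  obtain ⟨⟨c, i, rfl⟩, hc⟩ := IsLocalization.exists_of_eq
    (M := Submonoid.powers (algebraMap R[X] B X)) hak
  simp only at hc
  rw [map_algebraMap_eq] at ha
  have h1 : algebraMap R[X] B (X ^ (i + k)) * 1 ∈
      ((maximalIdeal R).map (C : R →+* R[X])).map (algebraMap R[X] B) := by
    rw [mul_one, map_pow, pow_add, hc]
    exact Ideal.mul_mem_left _ _ ha
  have h2 := mem_of_pow_mul_mem hB (i + k) 1 h1
  rw [← map_algebraMap_eq] at h2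
  have h3 := map_maximalIdeal_le_jacobson' hB h2
  rw [Ideal.mem_jacobson_bot] at h3
  have h4 := h3 (-1)
  rw [one_mul, neg_add_cancel, isUnit_zero_iff] at h4
  obtain ⟨ev0, -⟩ := exists_ev0 hB
  have := congrArg ev0 h4
  rw [map_zero, map_one] at this
  exact zero_ne_one this

include hB hψ in
theorem c_prep (x : L) (hx : x ∉ ((maximalIdeal R).map (C : R →+* R[X])).map ψ.toRingHom) :
    ∃ G : R[X], G.coeff 0 = 1 ∧ G - 1 ∈ (maximalIdeal R).map (C : R →+* R[X]) ∧
      ψ.toRingHom G ∈ nonZeroDivisors L ∧ ∃ v : Lˣ, x = ψ.toRingHom G * v := by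
  have hσT : ∀ j : ℕ, ψ X ^ j * (algebraMap R[X] L X) ^ j = 1 := by
    intro j; rw [← mul_pow, hψ, one_pow]
  have hTu : IsUnit (algebraMap R[X] L X) := IsUnit.of_mul_eq_one_right _ hψ
  have hσu : IsUnit (ψ X) := IsUnit.of_mul_eq_one _ hψ
  obtain ⟨j, b, hjb⟩ := IsLocalization.Away.surj (algebraMap R[X] B X) x
  have hxl : x = algebraMap B L b * ψ X ^ j := by
    rw [← hjb, ← IsScalarTower.algebraMap_apply R[X] B L, mul_assoc,
      mul_comm ((algebraMap R[X] L X) ^ j), hσT, mul_one]
  have hb : b ∉ (maximalIdeal R).map (algebraMap R B) := by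
    intro hb
    apply hx
    rw [← map_max_eq ψ, map_max_eq' (B := B), hxl]
    exact Ideal.mul_mem_right _ _ (Ideal.mem_map_of_mem _ hb)
  obtain ⟨P, hPm, hPk, u, hu⟩ := weierstrass_exists hB b hb
  set n := P.natDegree with hn
  have hkey := key ψ hψ n P le_rfl
  set G := reflect n P with hG
  have hG0 : G.coeff 0 = 1 := by
    rw [hG, coeff_reflect, revAt_le (Nat.zero_le _), Nat.sub_zero, hn, hPm.coeff_natDegree]
  have hG1 : G - 1 ∈ (maximalIdeal R).map (C : R →+* R[X]) := by
    rw [Ideal.mem_map_C_iff]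
    intro i
    rw [coeff_sub, coeff_one, hG, coeff_reflect]
    have hPc := (dist_iff P hPm).mpr hPk
    rcases Nat.eq_zero_or_pos i with h0 | h0
    · rw [h0, if_pos rfl, revAt_le (Nat.zero_le _), Nat.sub_zero, hn,
        hPm.coeff_natDegree, sub_self]
      exact Ideal.zero_mem _
    · rw [if_neg (by omega), sub_zero]
      by_cases hik : i ≤ n
      · rw [revAt_le hik]
        exact hPc _ (by omega)
      · have : revAt n i = i := by
          rw [← revAtFun_eq, revAtFun, if_neg hik]
        rw [this, coeff_eq_zero_of_natDegree_lt (by omega)]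
        exact Ideal.zero_mem _
  have hPnz : algebraMap R[X] B P ∈ nonZeroDivisors B := by
    have hflat : Module.Flat R[X] B := flat_of_isPairHenselization hB
    have hreg : IsSMulRegular B P := Module.Flat.isSMulRegular_of_isRegular hPm.isRegular
    rw [mem_nonZeroDivisors_iff_right]
    intro z hz
    apply hreg
    simp only [smul_zero]
    rw [Algebra.smul_def, mul_comm]; exact hz
  have hPnzL : algebraMap R[X] L P ∈ nonZeroDivisors L := by
    rw [IsScalarTower.algebraMap_apply R[X] B L]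
    exact IsLocalization.map_nonZeroDivisors_le (Submonoid.powers (algebraMap R[X] B X)) L
      (Submonoid.mem_map_of_mem _ hPnz)
  have hψG : ψ G = algebraMap R[X] L P * ψ X ^ n := by
    rw [← hkey, mul_assoc, mul_comm ((algebraMap R[X] L X) ^ n), hσT, mul_one]
  refine ⟨G, hG0, hG1, ?_, ?_⟩
  · show ψ G ∈ nonZeroDivisors L
    rw [hψG]
    exact mul_mem hPnzL (IsUnit.mem_nonZeroDivisors (hσu.pow n))
  · have hv : IsUnit ((algebraMap R[X] L X) ^ n * algebraMap B L (u : B) * ψ X ^ j) :=
      ((hTu.pow n).mul (u.isUnit.map (algebraMap B L))).mul (hσu.pow j)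
    refine ⟨hv.unit, ?_⟩
    show x = ψ G * _
    rw [IsUnit.unit_spec, hxl, hu, map_mul, ← IsScalarTower.algebraMap_apply R[X] B L, ← hkey]
    ring

include hB hψ in
theorem hyp_concrete : @Hyp R _ _ L _ ψ.toRingHom.toAlgebra := by
  have hmain := main_abs hB ψ hψ
  refine @Hyp.mk R _ _ L _ ψ.toRingHom.toAlgebra (c_ne_top hB ψ) ?_ ?_ (c_prep hB ψ hψ)
  · intro I hI
    rw [← Polynomial.algebraMap_eq] at hI
    exact (hmain.1 I hI).1
  · intro J hJ
    have hJ' : J ⊔ (maximalIdeal R).map (algebraMap R L) = ⊤ := by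
      rw [map_max_eq ψ]; exact hJ
    have := hmain.2 J hJ'
    rw [Polynomial.algebraMap_eq] at this
    exact this

include hB hψ in
theorem bijective_concrete : Function.Bijective (Pic.mapRingHom ψ.toRingHom) :=
  @Hyp.bijective R _ _ L _ ψ.toRingHom.toAlgebra (hyp_concrete hB ψ hψ)

end Concrete

end Groth.Agent.Lib.Helper83.PicLaur
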