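import Groth.Agent.Lib.Helper83.ProjHens4
import Groth.Agent.Lib.Helper83.IdemPS1
import Groth.Agent.Lib.Helper58.PairHensProps

set_option autoImplicit false

namespace Groth.Agent.Lib.Helper83.ProjLaur

universe u

open Polynomial TensorProduct

theorem main_S19779 (R : Type u) [CommRing R]
    (B : Type u) [CommRing B] [Algebra R[X] B] (hB : Hens2.IsPairHenselization R[X] (Ideal.span {(X : R[X])}) B)
    (ψ : B →ₐ[R[X]] PowerSeries R)
    (L' : Type u) [CommRing L'] [Algebra (Localization.Away (algebraMap R[X] B X)) L'] (e : L' ≃+* LaurentSeries R)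
    (he : ∀ b : B, e (algebraMap (Localization.Away (algebraMap R[X] B X)) L' (algebraMap B (Localization.Away (algebraMap R[X] B X)) b)) =
      HahnSeries.ofPowerSeries ℤ R (ψ b)) :
    (∀ (M N : Type u) [AddCommGroup M] [Module (Localization.Away (algebraMap R[X] B X)) M] [Module.Finite (Localization.Away (algebraMap R[X] B X)) M] [Module.Projective (Localization.Away (algebraMap R[X] B X)) M]
        [AddCommGroup N] [Module (Localization.Away (algebraMap R[X] B X)) N] [Module.Finite (Localization.Away (algebraMap R[X] B X)) N] [Module.Projective (Localization.Away (algebraMap R[X] B X)) N],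
        Nonempty (L' ⊗[Localization.Away (algebraMap R[X] B X)] M ≃ₗ[L'] L' ⊗[Localization.Away (algebraMap R[X] B X)] N) → Nonempty (M ≃ₗ[Localization.Away (algebraMap R[X] B X)] N)) ∧
    (∀ (M' : Type u) [AddCommGroup M'] [Module L' M'] [Module.Finite L' M'] [Module.Projective L' M'],
        ∃ (M : Type u) (_ : AddCommGroup M) (_ : Module (Localization.Away (algebraMap R[X] B X)) M),
          Module.Finite (Localization.Away (algebraMap R[X] B X)) M ∧ Module.Projective (Localization.Away (algebraMap R[X] B X)) M ∧
          Nonempty (L' ⊗[Localization.Away (algebraMap R[X] B X)] M ≃ₗ[L'] M')) := by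
  -- Henselian
  have hmapI : (Ideal.span {(X : R[X])}).map (algebraMap R[X] B)
      = Ideal.span {algebraMap R[X] B X} := by
    rw [Ideal.map_span, Set.image_singleton]
  have hH : HenselianRing B (Ideal.span {algebraMap R[X] B X}) := by
    rw [← hmapI]; exact hB.1
  -- algebra structures
  let _ : Algebra B (PowerSeries R) := ψ.toRingHom.toAlgebra
  have hψp : ∀ p : R[X], algebraMap B (PowerSeries R) (algebraMap R[X] B p) = (p : PowerSeries R) := by
    intro p
    change ψ (algebraMap R[X] B p) = _
    rw [ψ.commutes]
    rfl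
  have hτ : algebraMap B (PowerSeries R) (algebraMap R[X] B X) = PowerSeries.X := by
    rw [hψp, Polynomial.coe_X]
  let _ : Algebra (PowerSeries R) L' :=
    ((e.symm : LaurentSeries R →+* L').comp (algebraMap (PowerSeries R) (LaurentSeries R))).toAlgebra
  have hA1 : IsLocalization.Away (PowerSeries.X : PowerSeries R) L' :=
    IsLocalization.isLocalization_of_algEquiv (Submonoid.powers (PowerSeries.X : PowerSeries R))
      (AlgEquiv.ofRingEquiv (f := e.symm) (fun x => rfl))
  have _ : IsLocalization.Away (algebraMap B (PowerSeries R) (algebraMap R[X] B X)) L' := hτ ▸ hA1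
  have hφ : ∀ x : B, algebraMap (Localization.Away (algebraMap R[X] B X)) L'
      (algebraMap B (Localization.Away (algebraMap R[X] B X)) x)
      = algebraMap (PowerSeries R) L' (algebraMap B (PowerSeries R) x) := by
    intro x
    apply e.injective
    rw [he x]
    change _ = e (e.symm _)
    rw [RingEquiv.apply_symm_apply]
    rfl
  have hdense : ∀ (N : ℕ) (a : PowerSeries R), ∃ (a' : B) (y : PowerSeries R),
      a - algebraMap B (PowerSeries R) a'
        = algebraMap B (PowerSeries R) (algebraMap R[X] B X) ^ N * y := by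
    intro N a
    refine ⟨algebraMap R[X] B (PowerSeries.trunc N a),
      PowerSeries.mk (fun i => PowerSeries.coeff (i + N) a), ?_⟩
    rw [hψp, hτ]
    have := IdemPS.decomp a N
    linear_combination this
  have hinj : ∀ (N : ℕ) (x : B) (y : PowerSeries R), algebraMap B (PowerSeries R) x
        = algebraMap B (PowerSeries R) (algebraMap R[X] B X) ^ N * y →
      ∃ c : B, x = (algebraMap R[X] B X) ^ N * c := by
    intro N x y hxy
    rw [hτ] at hxy
    have hb := (Groth.Agent.Lib.Helper58.PairHens.quotientMap_pow_bijective hB N).2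
    obtain ⟨pbar, hp⟩ := hb (Ideal.Quotient.mk _ x)
    obtain ⟨p, rfl⟩ := Ideal.Quotient.mk_surjective pbar
    rw [Ideal.quotientMap_mk, Ideal.Quotient.eq, Ideal.span_singleton_pow, Ideal.map_span,
      Set.image_singleton, map_pow, Ideal.mem_span_singleton'] at hp
    obtain ⟨b, hb'⟩ := hp
    have hx : x = algebraMap R[X] B p - b * algebraMap R[X] B X ^ N := by rw [hb']; ring
    have hdvd : (X : R[X]) ^ N ∣ p := by
      rw [Polynomial.X_pow_dvd_iff]
      intro d hd
      have h1 : (p : PowerSeries R)
          = PowerSeries.X ^ N * (y + algebraMap B (PowerSeries R) b) := by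
        have := congrArg (algebraMap B (PowerSeries R)) hx
        rw [map_sub, map_mul, map_pow, hψp, hτ, hxy] at this
        linear_combination -this
      have h2 := congrArg (PowerSeries.coeff d) h1
      rw [Polynomial.coeff_coe, PowerSeries.coeff_X_pow_mul', if_neg (by omega)] at h2
      exact h2
    obtain ⟨p', rfl⟩ := hdvd
    refine ⟨algebraMap R[X] B p' - b, ?_⟩
    rw [hx, map_mul, map_pow]; ring
  have hJ : ∀ y : B, IsUnit (1 + algebraMap R[X] B X * y) := by
    intro y
    have h1 : algebraMap R[X] B X ∈ (⊥ : Ideal B).jacobson :=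
      hH.jac (Ideal.mem_span_singleton_self _)
    have := (Ideal.mem_jacobson_bot.mp h1) y
    rwa [add_comm] at this
  have hJh : ∀ y : PowerSeries R,
      IsUnit (1 + algebraMap B (PowerSeries R) (algebraMap R[X] B X) * y) := by
    intro y
    rw [hτ, PowerSeries.isUnit_iff_constantCoeff, map_add, map_one, map_mul,
      PowerSeries.constantCoeff_X, zero_mul, add_zero]
    exact isUnit_one
  have hbd : ∃ N : ℕ, ∀ a : B, (∃ m : ℕ, (algebraMap R[X] B X) ^ m * a = 0) →
      (algebraMap R[X] B X) ^ N * a = 0 := by
    refine ⟨0, ?_⟩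
    rintro a ⟨m, hm⟩
    have hflat : Module.Flat R[X] B :=
      Groth.Agent.Lib.Helper58.PairHens.flat_of_isPairHenselization hB
    have hreg : IsSMulRegular B ((X : R[X]) ^ m) :=
      Module.Flat.isSMulRegular_of_isRegular (Polynomial.isRegular_X.pow m)
    have h0 : ((X : R[X]) ^ m) • a = ((X : R[X]) ^ m) • (0 : B) := by
      rw [smul_zero, Algebra.smul_def, map_pow]; exact hm
    have := hreg h0
    rw [this, mul_zero]
  refine ⟨?_, ?_⟩
  · intro M N _ _ _ _ _ _ _ _ ⟨Φ⟩
    exact ProjApprox.iso_of_baseChange_iso (algebraMap R[X] B X) hφ hdense hinj hJ M N Φ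
  · intro M' _ _ _ _
    exact ProjHens.projective_descent (algebraMap R[X] B X) hφ hbd hdense hinj hJh M'

end Groth.Agent.Lib.Helper83.ProjLaur
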