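import Mathlib
import Groth.Agent.Lib.Helper83.PicLaur3
import Groth.Agent.Lib.Helper83.ProjLaur3
import Groth.Agent.Lib.Helper58.PairHensUP

set_option autoImplicit false

namespace Groth.Agent.Lib.Helper83.PicLaur

open TensorProduct CommRing Polynomial IsLocalRing Groth.Agent.Lib.Helper83.ZarLaur
  Groth.Agent.Lib.Helper58.PairHens

universe u

section General

variable {A A' : Type u} [CommRing A] [CommRing A'] [Algebra A A']

/-- bijectivity on finite projective modules implies bijectivity on Picard groups. -/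
theorem pic_bijective_of_proj
    (h1 : ∀ (M N : Type u) [AddCommGroup M] [Module A M] [Module.Finite A M]
      [Module.Projective A M] [AddCommGroup N] [Module A N] [Module.Finite A N]
      [Module.Projective A N],
      Nonempty (A' ⊗[A] M ≃ₗ[A'] A' ⊗[A] N) → Nonempty (M ≃ₗ[A] N))
    (h2 : ∀ (M' : Type u) [AddCommGroup M'] [Module A' M'] [Module.Finite A' M']
      [Module.Projective A' M'],
      ∃ (M : Type u) (_ : AddCommGroup M) (_ : Module A M), Module.Finite A M ∧
        Module.Projective A M ∧ Nonempty (A' ⊗[A] M ≃ₗ[A'] M')) :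
    Function.Bijective (Pic.mapAlgebra A A') := by
  constructor
  · rw [injective_iff_map_eq_one]
    intro y hy
    rw [Pic.mapAlgebra_apply] at hy
    obtain ⟨ε⟩ := Pic.mk_eq_one_iff.mp hy
    obtain ⟨ε'⟩ := h1 y A ⟨ε ≪≫ₗ (TensorProduct.AlgebraTensorModule.rid A A' A').symm⟩
    rw [← Pic.mk_eq_self (M := y)]
    exact Pic.mk_eq_one_iff.mpr ⟨ε'⟩
  · intro z
    obtain ⟨M₁, i1, i2, hfin1, hproj1, ⟨ε₁⟩⟩ := h2 z
    obtain ⟨M₂, j1, j2, hfin2, hproj2, ⟨ε₂⟩⟩ := h2 (Module.Dual A' z)
    let e1 : A' ⊗[A] (M₁ ⊗[A] M₂) ≃ₗ[A'] A' ⊗[A] A :=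
      TensorProduct.AlgebraTensorModule.distribBaseChange A A' M₁ M₂ ≪≫ₗ
        TensorProduct.congr ε₁ ε₂ ≪≫ₗ TensorProduct.comm A' _ _ ≪≫ₗ
        Module.Invertible.linearEquiv A' z ≪≫ₗ
        (TensorProduct.AlgebraTensorModule.rid A A' A').symm
    obtain ⟨e2⟩ := h1 (M₁ ⊗[A] M₂) A ⟨e1⟩
    have _ : Module.Invertible A M₁ := Module.Invertible.left e2
    refine ⟨Pic.mk A M₁, ?_⟩
    rw [mapAlgebra_mk, ← Pic.mk_eq_self (M := z), Pic.mk_eq_mk_iff]
    exact ⟨ε₁⟩

theorem of_bijective (hb : Function.Bijective (Pic.mapAlgebra A A')) :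
    (∀ (M : Type u) [AddCommGroup M] [Module A M] [Module.Invertible A M],
        Module.Free A' (A' ⊗[A] M) → Module.Free A M) ∧
    (∀ (L : Type u) [AddCommGroup L] [Module A' L] [Module.Invertible A' L],
        ∃ (M : Type u) (_ : AddCommGroup M) (_ : Module A M), Module.Invertible A M ∧
          Nonempty (L ≃ₗ[A'] A' ⊗[A] M)) := by
  constructor
  · intro M _ _ _ hfree
    have h1 : Pic.mapAlgebra A A' (Pic.mk A M) = 1 := by
      rw [mapAlgebra_mk]; exact Pic.mk_eq_one_iff_free.mpr hfree
    have h2 : Pic.mk A M = 1 := hb.1 (by rw [h1, map_one])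
    exact Pic.mk_eq_one_iff_free.mp h2
  · intro L _ _ _
    obtain ⟨y, hy⟩ := hb.2 (Pic.mk A' L)
    rw [Pic.mapAlgebra_apply, Pic.mk_eq_mk_iff] at hy
    obtain ⟨ε⟩ := hy
    exact ⟨y, inferInstance, inferInstance, inferInstance, ⟨ε.symm⟩⟩

end General

section Main

variable (R : Type u) [CommRing R] [HenselianLocalRing R]
variable (B : Type u) [CommRing B] [Algebra R[X] B] [Algebra R B] [IsScalarTower R R[X] B]
  (hB : Hens2.IsPairHenselization R[X] (Ideal.span {(X : R[X])}) B)

include hB in
theorem main_aux [Algebra R[X] (LaurentSeries R)]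
    (halg : algebraMap R[X] (LaurentSeries R) =
      Polynomial.eval₂RingHom (HahnSeries.C) (HahnSeries.single (-1 : ℤ) (1 : R))) :
    Function.Bijective (Pic.mapAlgebra R[X] (LaurentSeries R)) := by
  have _ : IsScalarTower R R[X] (Localization.Away (algebraMap R[X] B X)) :=
    IsScalarTower.of_algebraMap_eq (fun a => by
      rw [IsScalarTower.algebraMap_apply R B (Localization.Away (algebraMap R[X] B X)),
        IsScalarTower.algebraMap_apply R R[X] B,
        ← IsScalarTower.algebraMap_apply R[X] B (Localization.Away (algebraMap R[X] B X))])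
  -- ψ : R[s] → L₁
  set ψ : R[X] →ₐ[R] Localization.Away (algebraMap R[X] B X) :=
    Polynomial.aeval (IsLocalization.Away.invSelf (algebraMap R[X] B X)) with hψdef
  have hψX : ψ X = IsLocalization.Away.invSelf (algebraMap R[X] B X) := by
    rw [hψdef, aeval_X]
  have hψ : ψ X * algebraMap R[X] (Localization.Away (algebraMap R[X] B X)) X = 1 := by
    rw [hψX, IsScalarTower.algebraMap_apply R[X] B (Localization.Away (algebraMap R[X] B X)),
      mul_comm]
    exact IsLocalization.Away.mul_invSelf (algebraMap R[X] B X)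
  have hbijψ := bijective_concrete hB ψ hψ
  -- ψB : B → R[[t]]
  have hIJ : (Ideal.span {(X : R[X])}).map (algebraMap R[X] (PowerSeries R)) ≤
      Ideal.span {(PowerSeries.X : PowerSeries R)} := by
    rw [Ideal.map_span, Set.image_singleton]
    have : algebraMap R[X] (PowerSeries R) X = PowerSeries.X := Polynomial.coe_X
    rw [this]
  obtain ⟨ψB, -⟩ := exists_algHom_of_isPairHenselization hB (PowerSeries R)
    (Ideal.span {(PowerSeries.X : PowerSeries R)}) (IsAdicComplete.henselianRing _ _) hIJ
  have hψBp : ∀ p : R[X], ψB (algebraMap R[X] B p) = (p : PowerSeries R) := by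
    intro p
    rw [ψB.commutes]; rfl
  set g : B →+* LaurentSeries R := (HahnSeries.ofPowerSeries ℤ R).comp ψB.toRingHom with hg
  have hgX : g (algebraMap R[X] B X) = HahnSeries.single (1 : ℤ) (1 : R) := by
    rw [hg, RingHom.comp_apply]
    show HahnSeries.ofPowerSeries ℤ R (ψB (algebraMap R[X] B X)) = _
    rw [hψBp, Polynomial.coe_X, HahnSeries.ofPowerSeries_X]
  have hss : HahnSeries.single (1 : ℤ) (1 : R) * HahnSeries.single (-1 : ℤ) (1 : R) = 1 := by
    rw [HahnSeries.single_mul_single]; simp
  have hgu : IsUnit (g (algebraMap R[X] B X)) := by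
    rw [hgX]; exact IsUnit.of_mul_eq_one _ hss
  set χ : Localization.Away (algebraMap R[X] B X) →+* LaurentSeries R :=
    IsLocalization.Away.lift (algebraMap R[X] B X) hgu with hχ
  have hχB : ∀ b : B, χ (algebraMap B (Localization.Away (algebraMap R[X] B X)) b) = g b :=
    fun b => IsLocalization.Away.lift_eq (algebraMap R[X] B X) hgu b
  have hχinv : χ (IsLocalization.Away.invSelf (algebraMap R[X] B X)) =
      HahnSeries.single (-1 : ℤ) (1 : R) := by
    have h1 : χ (algebraMap B (Localization.Away (algebraMap R[X] B X)) (algebraMap R[X] B X)) *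
        χ (IsLocalization.Away.invSelf (algebraMap R[X] B X)) = 1 := by
      rw [← map_mul, IsLocalization.Away.mul_invSelf, map_one]
    rw [hχB, hgX] at h1
    calc χ (IsLocalization.Away.invSelf (algebraMap R[X] B X))
        = (HahnSeries.single (-1 : ℤ) (1 : R) * HahnSeries.single (1 : ℤ) (1 : R)) *
            χ (IsLocalization.Away.invSelf (algebraMap R[X] B X)) := by
          rw [mul_comm (HahnSeries.single (-1 : ℤ) (1 : R)), hss, one_mul]
      _ = HahnSeries.single (-1 : ℤ) (1 : R) := by rw [mul_assoc, h1, mul_one]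
  have hcomp : χ.comp ψ.toRingHom = algebraMap R[X] (LaurentSeries R) := by
    rw [halg]
    apply Polynomial.ringHom_ext
    · intro a
      have h1 : ψ (C a) = algebraMap B (Localization.Away (algebraMap R[X] B X))
          (algebraMap R[X] B (C a)) := by
        rw [← Polynomial.algebraMap_eq, ψ.commutes,
          IsScalarTower.algebraMap_apply R B (Localization.Away (algebraMap R[X] B X)),
          IsScalarTower.algebraMap_apply R R[X] B]
      show χ (ψ (C a)) = _
      rw [h1, hχB, hg, RingHom.comp_apply]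
      show HahnSeries.ofPowerSeries ℤ R (ψB (algebraMap R[X] B (C a))) = _
      rw [hψBp, Polynomial.coe_C, HahnSeries.ofPowerSeries_C]
      simp
    · show χ (ψ X) = _
      rw [hψX, hχinv]
      simp
  -- χ-part
  have hbijχ : Function.Bijective (Pic.mapRingHom χ) := by
    let _ : Algebra (Localization.Away (algebraMap R[X] B X)) (LaurentSeries R) := χ.toAlgebra
    have hmain := Groth.Agent.Lib.Helper83.ProjLaur.main_S19779 R B hB ψB (LaurentSeries R)
      (RingEquiv.refl _) (fun b => hχB b)
    exact pic_bijective_of_proj hmain.1 hmain.2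
  rw [← Pic.mapRingHom_algebraMap, ← hcomp, ← Pic.mapRingHom_comp_mapRingHom]
  exact hbijχ.comp hbijψ

end Main

theorem main_S15753 (R : Type u) [CommRing R]
    [HenselianLocalRing R] [Algebra R[X] (LaurentSeries R)]
    (halg : algebraMap R[X] (LaurentSeries R) =
      Polynomial.eval₂RingHom (HahnSeries.C) (HahnSeries.single (-1 : ℤ) (1 : R))) :
    (∀ (M : Type u) [AddCommGroup M] [Module R[X] M] [Module.Invertible R[X] M],
        Module.Free (LaurentSeries R) (LaurentSeries R ⊗[R[X]] M) → Module.Free R[X] M) ∧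
    (∀ (L : Type u) [AddCommGroup L] [Module (LaurentSeries R) L] [Module.Invertible (LaurentSeries R) L],
        ∃ (M : Type u) (_ : AddCommGroup M) (_ : Module R[X] M), Module.Invertible R[X] M ∧
          Nonempty (L ≃ₗ[LaurentSeries R] LaurentSeries R ⊗[R[X]] M)) := by
  apply of_bijective
  let _ : Algebra R (Hp R[X] (Ideal.span {(X : R[X])})) :=
    ((algebraMap R[X] (Hp R[X] (Ideal.span {(X : R[X])}))).comp C).toAlgebra
  have _ : IsScalarTower R R[X] (Hp R[X] (Ideal.span {(X : R[X])})) :=
    IsScalarTower.of_algebraMap_eq (fun a => rfl)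
  exact main_aux R (Hp R[X] (Ideal.span {(X : R[X])})) (Hp.isPairHenselization _ _) halg

end Groth.Agent.Lib.Helper83.PicLaur
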