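import Groth.Agent.Lib.Helper83.PosInv
import Mathlib

set_option autoImplicit false
universe u

namespace Groth.Agent.Lib.Helper83.PosInv

open Polynomial Groth.Agent.Lib.Helper83.HankelPos

theorem Lam_comp_mulX (l : ℚ[X] →ₗ[ℚ] ℚ) (h : ℝ[X]) :
    Lam (l ∘ₗ LinearMap.mulLeft ℚ (X : ℚ[X])) h = Lam l (X * h) := by
  induction h using Polynomial.induction_on' with
  | add p q hp hq => rw [map_add, hp, hq, mul_add, map_add]
  | monomial k c =>
    rw [Lam_monomial, Polynomial.X_mul_monomial, Lam_monomial, LinearMap.comp_apply,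
      LinearMap.mulLeft_apply, pow_succ']

variable {R : Type u} [Ring R] [Algebra ℚ R] [Module.Finite ℚ R] [StarRing R] [StarModule ℚ R]
  (σ : R →ₗ[ℚ] ℚ) (hpos : ∀ x : R, x ≠ 0 → 0 < σ (x * star x))

include hpos in
omit [Module.Finite ℚ R] [StarModule ℚ R] in
theorem sigma_nonneg (z : R) : 0 ≤ σ (z * star z) := by
  by_cases hz : z = 0
  · rw [hz, zero_mul, map_zero]
  · exact (hpos z hz).le

include hpos in
/-- Step B: the real roots of the minimal polynomial of `t * star t`, `t` normal, are `≥ 0`. -/
theorem nonneg_of_root {t : R} (ht : Commute t (star t)) (r : ℝ)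
    (hr : aeval (r : ℂ) (minpoly ℚ (t * star t)) = 0) : 0 ≤ r := by
  by_contra hneg
  push Not at hneg
  set u := t * star t with hu_def
  have hu : star u = u := by rw [hu_def, star_mul, star_star]
  set m := minpoly ℚ u with hm
  set mR := m.map (algebraMap ℚ ℝ) with hmR
  have hm0 : m ≠ 0 := minpoly.ne_zero (Algebra.IsIntegral.isIntegral u)
  have hmR0 : mR ≠ 0 := (Polynomial.map_ne_zero_iff (algebraMap ℚ ℝ).injective).2 hm0
  have hroot : mR.IsRoot r := by
    rw [Polynomial.IsRoot.def, hmR, Polynomial.eval_map_algebraMap]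
    have h1 : ((aeval r m : ℝ) : ℂ) = aeval (r : ℂ) m := by
      have := Polynomial.aeval_algebraMap_apply ℂ r m
      simpa using this.symm
    have : ((aeval r m : ℝ) : ℂ) = 0 := by rw [h1]; exact hr
    exact_mod_cast this
  set w := mR /ₘ (X - C r) with hw
  have hfac : (X - C r) * w = mR := Polynomial.mul_divByMonic_eq_iff_isRoot.2 hroot
  have hw0 : w ≠ 0 := by
    intro h; rw [h, mul_zero] at hfac; exact hmR0 hfac.symm
  have hmRdeg : mR.natDegree = m.natDegree := Polynomial.natDegree_map _
  have hdeg : mR.natDegree = 1 + w.natDegree := by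
    rw [← hfac, Polynomial.natDegree_mul (Polynomial.X_sub_C_ne_zero r) hw0,
      Polynomial.natDegree_X_sub_C]
  have hwdeg : w.degree < (m.natDegree : ℕ) := by
    rw [Polynomial.degree_eq_natDegree hw0]
    exact_mod_cast (by omega : w.natDegree < m.natDegree)
  have hid : X * (w * w) = r • (w * w) + mR * w := by
    rw [← hfac, Polynomial.smul_eq_C_mul]; ring
  -- positivity of the shifted functional
  have hcomm : Commute (star t) u := by
    rw [hu_def]
    change star t * (t * star t) = t * star t * star t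
    rw [← mul_assoc, ← ht.eq]
  have hpsd : ∀ a : ℚ[X], a.degree < (m.natDegree : ℕ) →
      0 ≤ (lam σ u ∘ₗ LinearMap.mulLeft ℚ (X : ℚ[X])) (a * a) := by
    intro a _
    rw [LinearMap.comp_apply, LinearMap.mulLeft_apply, lam_apply, map_mul (aeval u), aeval_X,
      map_mul (aeval u)]
    set y := aeval u a with hy
    have hsy : star y = y := star_aeval hu a
    have hcy : Commute (star t) y :=
      Algebra.commute_of_mem_adjoin_singleton_of_commute
        (Polynomial.aeval_mem_adjoin_singleton ℚ u) hcomm
    have : u * (y * y) = (t * y) * star (t * y) := by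
      rw [star_mul, hsy, hu_def]
      calc t * star t * (y * y) = t * ((star t * y) * y) := by noncomm_ring
        _ = t * ((y * star t) * y) := by rw [hcy.eq]
        _ = t * (y * (star t * y)) := by noncomm_ring
        _ = t * (y * (y * star t)) := by rw [hcy.eq]
        _ = t * y * (y * star t) := by noncomm_ring
    rw [this]
    exact sigma_nonneg σ hpos _
  have h1 := Lam_sq_nonneg _ m.natDegree hpsd w hwdeg
  rw [Lam_comp_mulX, hid, map_add, map_smul, smul_eq_mul, Lam_minpoly_mul, add_zero] at h1
  have h2 := Lam_sq_pos (lam σ u) m.natDegree (fun a ha ha0 => lam_sq_pos σ hpos hu a ha ha0)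
    w hwdeg hw0
  nlinarith

include hpos in
omit [StarModule ℚ R] in
/-- if `α * star α` is rational then `star α` is a polynomial in `α` -/
theorem star_mem_adjoin {α : R} {q : ℚ} (hα : α * star α = algebraMap ℚ R q) :
    star α ∈ Algebra.adjoin ℚ ({α} : Set R) := by
  by_cases hα0 : α = 0
  · rw [hα0, star_zero]; exact Subalgebra.zero_mem _
  have hq : q ≠ 0 := by
    rintro rfl
    have := hpos α hα0
    rw [hα, map_zero, map_zero] at this
    exact lt_irrefl _ this
  set β : R := q⁻¹ • star α with hβ
  have hαβ : α * β = 1 := by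
    rw [hβ, mul_smul_comm, hα, Algebra.algebraMap_eq_smul_one, smul_smul, inv_mul_cancel₀ hq,
      one_smul]
  set m := minpoly ℚ α with hm
  have hm0 : m ≠ 0 := minpoly.ne_zero (Algebra.IsIntegral.isIntegral α)
  have hdecomp : m.divX * X + C (m.coeff 0) = m := Polynomial.divX_mul_X_add m
  have hev : aeval α m.divX * α + algebraMap ℚ R (m.coeff 0) = 0 := by
    have := congrArg (aeval α) hdecomp
    rw [map_add, map_mul, aeval_X, aeval_C, hm, minpoly.aeval] at this
    exact this
  have hβ' : aeval α m.divX + (m.coeff 0) • β = 0 := by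
    have := congrArg (· * β) hev
    simp only [add_mul, zero_mul, mul_assoc, hαβ, mul_one] at this
    rw [Algebra.algebraMap_eq_smul_one, smul_mul_assoc, one_mul] at this
    exact this
  have hc0 : m.coeff 0 ≠ 0 := by
    intro h0
    rw [h0, zero_smul, add_zero] at hβ'
    have hd0 : m.divX ≠ 0 := by
      intro h
      rw [h, zero_mul, h0, map_zero, add_zero] at hdecomp
      exact hm0 hdecomp.symm
    have h1 := minpoly.degree_le_of_ne_zero ℚ α hd0 hβ'
    have h2 : m.divX.natDegree = m.natDegree - 1 := Polynomial.natDegree_divX_eq_natDegree_tsub_one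
    have : Nontrivial R := ⟨⟨α, 0, hα0⟩⟩
    have h3 : 0 < m.natDegree := minpoly.natDegree_pos (Algebra.IsIntegral.isIntegral α)
    rw [← hm, Polynomial.degree_eq_natDegree hm0, Polynomial.degree_eq_natDegree hd0] at h1
    have : m.natDegree ≤ m.divX.natDegree := by exact_mod_cast h1
    omega
  have hβmem : β ∈ Algebra.adjoin ℚ ({α} : Set R) := by
    have : β = -((m.coeff 0)⁻¹ • aeval α m.divX) := by
      have h := eq_neg_of_add_eq_zero_right hβ'
      rw [← smul_neg, ← h, smul_smul, inv_mul_cancel₀ hc0, one_smul]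
    rw [this]
    exact Subalgebra.neg_mem _ (Subalgebra.smul_mem _ (Polynomial.aeval_mem_adjoin_singleton ℚ α) _)
  have : star α = q • β := by rw [hβ, smul_smul, mul_inv_cancel₀ hq, one_smul]
  rw [this]
  exact Subalgebra.smul_mem _ hβmem _

omit [Module.Finite ℚ R] [StarRing R] [StarModule ℚ R] in
/-- characters send elements to roots of their minimal polynomials -/
theorem aeval_char_minpoly (B : Subalgebra ℚ R) (ρ : B →ₐ[ℚ] ℂ) (b : B) :
    aeval (ρ b) (minpoly ℚ (b : R)) = 0 := by
  rw [Polynomial.aeval_algHom_apply]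
  have h1 : (aeval b (minpoly ℚ (b : R)) : B) = 0 := by
    apply Subtype.ext
    have := Polynomial.aeval_algHom_apply B.val b (minpoly ℚ (b : R))
    rw [Subalgebra.coe_zero, ← Subalgebra.val_apply, ← this, Subalgebra.val_apply, minpoly.aeval]
  rw [h1, map_zero]

include hpos in
/-- S19356 -/
theorem char_star {α : R} {q : ℚ} (hα : α * star α = algebraMap ℚ R q) :
    ∃ hmem : star α ∈ Algebra.adjoin ℚ ({α} : Set R),
      ∀ ρ : Algebra.adjoin ℚ ({α} : Set R) →ₐ[ℚ] ℂ,
        ρ ⟨star α, hmem⟩ = starRingEnd ℂ (ρ ⟨α, Algebra.self_mem_adjoin_singleton ℚ α⟩) ∧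
          ‖ρ ⟨α, Algebra.self_mem_adjoin_singleton ℚ α⟩‖ ^ 2 = (q : ℝ) := by
  have hmem := star_mem_adjoin σ hpos hα
  refine ⟨hmem, fun ρ => ?_⟩
  set a : Algebra.adjoin ℚ ({α} : Set R) := ⟨α, Algebra.self_mem_adjoin_singleton ℚ α⟩ with ha
  set a' : Algebra.adjoin ℚ ({α} : Set R) := ⟨star α, hmem⟩ with ha'
  set z := ρ a with hz
  set z' := ρ a' with hz'
  have hcomm : Commute α (star α) :=
    Algebra.commute_of_mem_adjoin_singleton_of_commute hmem (Commute.refl α)
  -- z * z' = q
  have hzz' : z * z' = (q : ℂ) := by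
    rw [hz, hz', ← map_mul]
    have : a * a' = algebraMap ℚ (Algebra.adjoin ℚ ({α} : Set R)) q := by
      apply Subtype.ext
      exact hα
    rw [this, AlgHom.commutes]
    rfl
  -- z + z' real
  have hsum : (z + z').im = 0 := by
    have hs : star (α + star α) = α + star α := by rw [star_add, star_star, add_comm]
    have h1 := aeval_char_minpoly _ ρ (a + a')
    have h2 : ((a + a' : Algebra.adjoin ℚ ({α} : Set R)) : R) = α + star α := rfl
    rw [h2, map_add] at h1
    exact im_eq_zero_of_root σ hpos hs _ h1
  -- -(z - z')^2 real and ≥ 0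
  set t : R := α - star α with ht
  have hst : star t = -t := by rw [ht, star_sub, star_star, neg_sub]
  have htn : Commute t (star t) := by rw [hst]; exact (Commute.refl t).neg_right
  have hsu : star (t * star t) = t * star t := by rw [star_mul, star_star]
  have h3 := aeval_char_minpoly _ ρ ((a - a') * (a' - a))
  have h4 : (((a - a') * (a' - a) : Algebra.adjoin ℚ ({α} : Set R)) : R) = t * star t := by
    rw [hst, ht, neg_sub]; rfl
  rw [h4, map_mul, map_sub, map_sub] at h3
  have him := im_eq_zero_of_root σ hpos hsu _ h3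
  set v : ℂ := (z - z') * (z' - z) with hv
  have hvr : v = ((v.re : ℝ) : ℂ) := Complex.ext rfl (by simpa using him)
  rw [hvr] at h3
  have hnn := nonneg_of_root σ hpos htn v.re h3
  -- conclude
  have hre : (z - z').re = 0 := by
    by_contra hne
    have h5 : v.im = -(2 * (z - z').re * (z - z').im) := by
      rw [hv]; simp [Complex.mul_im]; ring
    have h6 : (z - z').im = 0 := by
      have : 2 * (z - z').re * (z - z').im = 0 := by rw [him] at h5; linarith
      rcases mul_eq_zero.1 this with h | h
      · exact absurd (by linarith : (z - z').re = 0) hne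
      · exact h
    have h7 : v.re = -((z - z').re ^ 2) := by
      rw [hv]; simp [Complex.mul_re] at h6 ⊢; nlinarith
    have : 0 < (z - z').re ^ 2 := by positivity
    linarith
  have hconj : z' = starRingEnd ℂ z := by
    apply Complex.ext
    · simp only [Complex.conj_re]
      simp only [Complex.sub_re] at hre
      linarith
    · simp only [Complex.conj_im]
      simp only [Complex.add_im] at hsum
      linarith
  refine ⟨hconj, ?_⟩
  have h8 : ((‖z‖ ^ 2 : ℝ) : ℂ) = (q : ℂ) := by
    rw [Complex.sq_norm, ← Complex.mul_conj, ← hconj, hzz']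
  exact_mod_cast h8

end Groth.Agent.Lib.Helper83.PosInv
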