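import Mathlib

namespace Groth.Agent.Lib.Helper83.PowBasis
open Polynomial

universe u

/-- field-level key lemma -/
theorem eq_zero_of_dvd_expand {κ : Type u} [Field κ] (p : ℕ) [Fact p.Prime] [CharP κ p]
    (g : κ[X]) (hsep : g.Separable) (s : ℕ) (h : κ[X])
    (hdeg : h.natDegree < g.natDegree) (hdvd : g ∣ expand κ (p ^ s) h) : h = 0 := by
  classical
  let L := AlgebraicClosure κ
  let ι := algebraMap κ L
  have hcp : CharP L p := charP_of_injective_algebraMap ι.injective p
  have hg0 : g ≠ 0 := hsep.ne_zero
  set g' := g.map ι with hg'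
  have hcard : g'.roots.card = g.natDegree := by
    rw [IsAlgClosed.card_roots_eq_natDegree, hg', natDegree_map]
  have hnodup : g'.roots.Nodup := nodup_roots hsep.map
  have hS : g'.roots.toFinset.card = g.natDegree := by
    rw [Multiset.toFinset_card_of_nodup hnodup, hcard]
  have hinj : Function.Injective (fun x : L => x ^ p ^ s) := by
    have := (iterateFrobenius L p s).injective
    intro x y hxy
    apply this
    rw [iterateFrobenius_def, iterateFrobenius_def]
    exact hxy
  have hT : (g'.roots.toFinset.image (fun x : L => x ^ p ^ s)).card = g.natDegree := by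
    rw [Finset.card_image_of_injective _ hinj, hS]
  have hvan : ∀ b ∈ g'.roots.toFinset.image (fun x : L => x ^ p ^ s), (h.map ι).eval b = 0 := by
    intro b hb
    obtain ⟨a, ha, rfl⟩ := Finset.mem_image.1 hb
    rw [Multiset.mem_toFinset, mem_roots (map_ne_zero hg0)] at ha
    have h1 : g' ∣ (expand κ (p ^ s) h).map ι := Polynomial.map_dvd ι hdvd
    rw [map_expand] at h1
    have h2 := eval_eq_zero_of_dvd_of_eval_eq_zero h1 ha
    rwa [expand_eval] at h2
  have h0 : h.map ι = 0 := by
    apply eq_zero_of_natDegree_lt_card_of_eval_eq_zero' (h.map ι) _ hvan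
    rw [hT, natDegree_map]
    exact hdeg
  exact (Polynomial.map_eq_zero ι).1 h0

theorem main {A : Type u} [CommRing A] [IsLocalRing A] (p : ℕ) [Fact p.Prime]
    [CharP (IsLocalRing.ResidueField A) p] (g : Polynomial A) (hg : g.Monic) (hsep : g.Separable)
    (s : ℕ) :
    ∃ b : Module.Basis (Fin g.natDegree) A (AdjoinRoot g),
      ∀ i : Fin g.natDegree, b i = AdjoinRoot.root g ^ (p ^ s * (i : ℕ)) := by
  classical
  let κ := IsLocalRing.ResidueField A
  let res : A →+* κ := IsLocalRing.residue A
  let e := AdjoinRoot.powerBasisAux' hg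
  let v : Fin g.natDegree → AdjoinRoot g := fun i => AdjoinRoot.root g ^ (p ^ s * (i : ℕ))
  set gb : κ[X] := g.map res with hgb
  have hgbm : gb.Monic := hg.map res
  have hgbdeg : gb.natDegree = g.natDegree := hg.natDegree_map res
  have hM : ∀ i j : Fin g.natDegree, res (e.toMatrix v i j) =
      ((X : κ[X]) ^ (p ^ s * (j : ℕ)) %ₘ gb).coeff i := by
    intro i j
    have h1 : e.toMatrix v i j = ((X : A[X]) ^ (p ^ s * (j : ℕ)) %ₘ g).coeff i := by
      rw [Module.Basis.toMatrix_apply, AdjoinRoot.powerBasisAux'_repr_apply_to_fun]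
      change (AdjoinRoot.modByMonicHom hg (AdjoinRoot.root g ^ (p ^ s * (j : ℕ)))).coeff i = _
      rw [← AdjoinRoot.mk_X, ← map_pow, AdjoinRoot.modByMonicHom_mk]
    rw [h1, ← coeff_map, map_modByMonic _ hg, Polynomial.map_pow, map_X]
  have hdet : IsUnit (e.det v) := by
    by_contra hnu
    have h0 : res (e.det v) = 0 := by
      by_contra hne
      exact hnu ((IsLocalRing.residue_ne_zero_iff_isUnit _).1 hne)
    rw [Module.Basis.det_apply, RingHom.map_det] at h0
    obtain ⟨c, hc, hc0⟩ := Matrix.exists_mulVec_eq_zero_iff.2 h0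
    apply hc
    set h : κ[X] := ∑ j : Fin g.natDegree, C (c j) * X ^ (j : ℕ) with hh
    have hexp : expand κ (p ^ s) h = ∑ j : Fin g.natDegree, c j • (X : κ[X]) ^ (p ^ s * (j : ℕ)) := by
      rw [hh, map_sum]
      refine Finset.sum_congr rfl fun j _ => ?_
      rw [map_mul, expand_C, map_pow, expand_X, ← pow_mul, smul_eq_C_mul]
    have hmod : expand κ (p ^ s) h %ₘ gb = 0 := by
      ext i
      rw [coeff_zero]
      by_cases hi : i < g.natDegree
      · have := congrFun hc0 ⟨i, hi⟩
        rw [Matrix.mulVec, dotProduct] at this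
        simp only [Pi.zero_apply] at this
        rw [hexp, ← Polynomial.modByMonicHom_apply, map_sum, finsetSum_coeff]
        rw [← this]
        refine Finset.sum_congr rfl fun j _ => ?_
        rw [map_smul, coeff_smul, Polynomial.modByMonicHom_apply, smul_eq_mul, mul_comm,
          RingHom.mapMatrix_apply, Matrix.map_apply, hM]
      · apply coeff_eq_zero_of_degree_lt
        refine lt_of_lt_of_le (degree_modByMonic_lt _ hgbm) ?_
        rw [degree_eq_natDegree hgbm.ne_zero, hgbdeg]
        exact_mod_cast not_lt.1 hi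
    have hdvd : gb ∣ expand κ (p ^ s) h := (modByMonic_eq_zero_iff_dvd hgbm).1 hmod
    have hh0 : h = 0 := by
      by_contra hne
      have hdeg : h.natDegree < gb.natDegree := by
        rw [natDegree_lt_iff_degree_lt hne, hgbdeg]
        exact degree_sum_fin_lt c
      exact hne (eq_zero_of_dvd_expand p gb hsep.map s h hdeg hdvd)
    funext j
    have := congrArg (fun f => f.coeff (j : ℕ)) hh0
    simp only [hh, finsetSum_coeff, coeff_C_mul, coeff_X_pow, coeff_zero] at this
    rw [Finset.sum_eq_single j] at this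
    · simpa using this
    · intro k _ hkj
      rw [if_neg, mul_zero]
      exact fun h' => hkj (Fin.ext h'.symm)
    · intro hj; exact absurd (Finset.mem_univ j) hj
  obtain ⟨hli, hsp⟩ := (e.is_basis_iff_det).2 hdet
  exact ⟨Module.Basis.mk hli hsp.ge, fun i => by rw [Module.Basis.mk_apply]⟩

end Groth.Agent.Lib.Helper83.PowBasis
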