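import Mathlib

set_option autoImplicit false

namespace Groth.Agent.Lib.Helper83.ProjApprox

universe u

variable {A Ah S Sh : Type u} [CommRing A] [CommRing Ah] [CommRing S] [CommRing Sh]
  [Algebra A Ah] [Algebra A S] [Algebra Ah Sh] [Algebra S Sh]

/-- the filtration `τ^K · im(Ah)` of `Sh`, `K ∈ ℤ`. -/
def Fil (u : Shˣ) (K : ℤ) : Set Sh := {x | ∃ y : Ah, x = ((u ^ K : Shˣ) : Sh) * algebraMap Ah Sh y}

variable (u : Shˣ)

theorem Fil.zero_mem (K : ℤ) : (0 : Sh) ∈ Fil (Ah := Ah) u K := ⟨0, by simp⟩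

theorem Fil.add {K : ℤ} {x y : Sh} (hx : x ∈ Fil (Ah := Ah) u K) (hy : y ∈ Fil (Ah := Ah) u K) :
    x + y ∈ Fil (Ah := Ah) u K := by
  obtain ⟨a, rfl⟩ := hx
  obtain ⟨b, rfl⟩ := hy
  exact ⟨a + b, by rw [map_add]; ring⟩

theorem Fil.neg {K : ℤ} {x : Sh} (hx : x ∈ Fil (Ah := Ah) u K) : -x ∈ Fil (Ah := Ah) u K := by
  obtain ⟨a, rfl⟩ := hx
  exact ⟨-a, by rw [map_neg]; ring⟩

theorem Fil.sub {K : ℤ} {x y : Sh} (hx : x ∈ Fil (Ah := Ah) u K) (hy : y ∈ Fil (Ah := Ah) u K) :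
    x - y ∈ Fil (Ah := Ah) u K := by
  rw [sub_eq_add_neg]; exact Fil.add u hx (Fil.neg u hy)

theorem Fil.mul {K L : ℤ} {x y : Sh} (hx : x ∈ Fil (Ah := Ah) u K) (hy : y ∈ Fil (Ah := Ah) u L) :
    x * y ∈ Fil (Ah := Ah) u (K + L) := by
  obtain ⟨a, rfl⟩ := hx
  obtain ⟨b, rfl⟩ := hy
  exact ⟨a * b, by rw [map_mul, zpow_add, Units.val_mul]; ring⟩

theorem Fil.sum {K : ℤ} {ι : Type*} (s : Finset ι) (f : ι → Sh)
    (h : ∀ i ∈ s, f i ∈ Fil (Ah := Ah) u K) : ∑ i ∈ s, f i ∈ Fil (Ah := Ah) u K := by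
  classical
  induction s using Finset.induction_on with
  | empty => simpa using Fil.zero_mem u K
  | insert a s ha ih =>
    rw [Finset.sum_insert ha]
    exact Fil.add u (h a (Finset.mem_insert_self a s))
      (ih (fun i hi => h i (Finset.mem_insert_of_mem hi)))

theorem Fil.alg_mem (y : Ah) : algebraMap Ah Sh y ∈ Fil (Ah := Ah) u 0 := ⟨y, by simp⟩

theorem Fil.one_mem : (1 : Sh) ∈ Fil (Ah := Ah) u 0 := ⟨1, by simp⟩

variable {u} in
theorem Fil.mono (τ : Ah) (hu : (u : Sh) = algebraMap Ah Sh τ) {K L : ℤ} (hLK : L ≤ K) {x : Sh}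
    (hx : x ∈ Fil (Ah := Ah) u K) : x ∈ Fil (Ah := Ah) u L := by
  obtain ⟨a, rfl⟩ := hx
  obtain ⟨d, hd⟩ := Int.le.dest hLK
  refine ⟨τ ^ d * a, ?_⟩
  rw [← hd, zpow_add, Units.val_mul, map_mul, map_pow, ← hu, zpow_natCast, Units.val_pow_eq_pow_val]
  ring

/-- matrices with entries in `Fil K` -/
def MFil (u : Shˣ) (K : ℤ) {m n : Type} (Z : Matrix m n Sh) : Prop :=
  ∀ i j, Z i j ∈ Fil (Ah := Ah) u K

theorem MFil.add {K : ℤ} {m n : Type} {X Y : Matrix m n Sh} (hX : MFil (Ah := Ah) u K X)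
    (hY : MFil (Ah := Ah) u K Y) : MFil (Ah := Ah) u K (X + Y) :=
  fun i j => Fil.add u (hX i j) (hY i j)

theorem MFil.sub {K : ℤ} {m n : Type} {X Y : Matrix m n Sh} (hX : MFil (Ah := Ah) u K X)
    (hY : MFil (Ah := Ah) u K Y) : MFil (Ah := Ah) u K (X - Y) :=
  fun i j => Fil.sub u (hX i j) (hY i j)

theorem MFil.neg {K : ℤ} {m n : Type} {X : Matrix m n Sh} (hX : MFil (Ah := Ah) u K X) :
    MFil (Ah := Ah) u K (-X) :=
  fun i j => Fil.neg u (hX i j)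

theorem MFil.mul {K L : ℤ} {m n p : Type} [Fintype n] {X : Matrix m n Sh} {Y : Matrix n p Sh}
    (hX : MFil (Ah := Ah) u K X) (hY : MFil (Ah := Ah) u L Y) : MFil (Ah := Ah) u (K + L) (X * Y) := by
  intro i j
  rw [Matrix.mul_apply]
  exact Fil.sum u _ _ (fun k _ => Fil.mul u (hX i k) (hY k j))

theorem MFil.one {n : Type} [DecidableEq n] : MFil (Ah := Ah) u 0 (1 : Matrix n n Sh) := by
  intro i j
  by_cases h : i = j
  · rw [h, Matrix.one_apply_eq]; exact Fil.one_mem u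
  · rw [Matrix.one_apply_ne h]; exact Fil.zero_mem u 0

variable {u} in
theorem MFil.mono (τ : Ah) (hu : (u : Sh) = algebraMap Ah Sh τ) {K L : ℤ} (hLK : L ≤ K)
    {m n : Type} {X : Matrix m n Sh} (hX : MFil (Ah := Ah) u K X) : MFil (Ah := Ah) u L X :=
  fun i j => Fil.mono τ hu hLK (hX i j)

theorem MFil.map_alg {m n : Type} (E : Matrix m n Ah) :
    MFil (Ah := Ah) u 0 (E.map (algebraMap Ah Sh)) :=
  fun i j => Fil.alg_mem u (E i j)

/-- a matrix in `MFil K` is `u^K • (matrix over Ah)` -/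
theorem MFil.exists_eq {K : ℤ} {m n : Type} {X : Matrix m n Sh} (hX : MFil (Ah := Ah) u K X) :
    ∃ E : Matrix m n Ah, X = ((u ^ K : Shˣ) : Sh) • E.map (algebraMap Ah Sh) := by
  choose E hE using hX
  refine ⟨Matrix.of E, ?_⟩
  ext i j
  rw [Matrix.smul_apply, Matrix.map_apply, Matrix.of_apply, smul_eq_mul]
  exact hE i j

end Groth.Agent.Lib.Helper83.ProjApprox
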