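import Groth.Agent.Lib.Helper83.ProjApprox1

set_option autoImplicit false

namespace Groth.Agent.Lib.Helper83.ProjApprox

universe u

variable {A Ah S Sh : Type u} [CommRing A] [CommRing Ah] [CommRing S] [CommRing Sh]
  [Algebra A Ah] [Algebra A S] [Algebra Ah Sh] [Algebra S Sh]
  (t : A) [IsLocalization.Away t S] [IsLocalization.Away (algebraMap A Ah t) Sh]
  (hφ : ∀ x : A, algebraMap S Sh (algebraMap A S x) = algebraMap Ah Sh (algebraMap A Ah x))
  (u : Shˣ) (hu : (u : Sh) = algebraMap Ah Sh (algebraMap A Ah t))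

include hu in
theorem exists_fil (x : Sh) : ∃ k : ℕ, x ∈ Fil (Ah := Ah) u (-(k : ℤ)) := by
  obtain ⟨k, a, hk⟩ := IsLocalization.Away.surj (algebraMap A Ah t) x
  refine ⟨k, a, ?_⟩
  rw [← hk, ← hu, zpow_neg, zpow_natCast, ← Units.val_pow_eq_pow_val, mul_comm x, ← mul_assoc,
    ← Units.val_mul, inv_mul_cancel, Units.val_one, one_mul]

include hu in
theorem exists_mfil {m n : Type} [Fintype m] [Fintype n] (X : Matrix m n Sh) :
    ∃ k : ℕ, MFil (Ah := Ah) u (-(k : ℤ)) X := by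
  choose kf hkf using fun i j => exists_fil t u hu (X i j)
  refine ⟨∑ i, ∑ j, kf i j, fun i j => ?_⟩
  refine Fil.mono (algebraMap A Ah t) hu ?_ (hkf i j)
  have h1 : kf i j ≤ ∑ j', kf i j' := Finset.single_le_sum (f := fun j' => kf i j')
    (fun _ _ => Nat.zero_le _) (Finset.mem_univ j)
  have h2 : ∑ j', kf i j' ≤ ∑ i', ∑ j', kf i' j' := Finset.single_le_sum
    (f := fun i' => ∑ j', kf i' j') (fun _ _ => Nat.zero_le _) (Finset.mem_univ i)
  have := h1.trans h2
  omega

include hφ hu in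
/-- density -/
theorem approx
    (hdense : ∀ (N : ℕ) (a : Ah), ∃ (a' : A) (y : Ah),
      a - algebraMap A Ah a' = algebraMap A Ah t ^ N * y)
    (x : Sh) (K : ℤ) : ∃ s : S, x - algebraMap S Sh s ∈ Fil (Ah := Ah) u K := by
  obtain ⟨k, a, hk⟩ := IsLocalization.Away.surj (algebraMap A Ah t) x
  obtain ⟨a', y, hy⟩ := hdense (K + k).toNat a
  have htu : IsUnit (algebraMap A S t) := IsLocalization.Away.algebraMap_isUnit t
  obtain ⟨v, hv⟩ := htu
  refine ⟨algebraMap A S a' * ((v⁻¹ : Sˣ) : S) ^ k, ?_⟩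
  have hle : K ≤ ((K + k).toNat : ℤ) - k := by
    have := Int.self_le_toNat (K + k); omega
  refine Fil.mono (algebraMap A Ah t) hu hle ⟨y, ?_⟩
  have hvv : algebraMap S Sh (algebraMap A S t) * algebraMap S Sh ((v⁻¹ : Sˣ) : S) = 1 := by
    rw [← map_mul, ← hv, ← Units.val_mul, mul_inv_cancel, Units.val_one, map_one]
  have hvu : algebraMap S Sh ((v⁻¹ : Sˣ) : S) = ((u⁻¹ : Shˣ) : Sh) := by
    rw [hφ, ← hu] at hvv
    calc algebraMap S Sh ((v⁻¹ : Sˣ) : S)
        = ((u⁻¹ : Shˣ) : Sh) * ((u : Sh) * algebraMap S Sh ((v⁻¹ : Sˣ) : S)) := by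
          rw [← mul_assoc, ← Units.val_mul, inv_mul_cancel, Units.val_one, one_mul]
      _ = ((u⁻¹ : Shˣ) : Sh) := by rw [hvv, mul_one]
  have hx : x = algebraMap Ah Sh a * ((u⁻¹ : Shˣ) : Sh) ^ k := by
    rw [← hk, ← hu, mul_assoc, ← mul_pow, ← Units.val_mul, mul_inv_cancel, Units.val_one, one_pow,
      mul_one]
  have ha : algebraMap Ah Sh a = algebraMap Ah Sh (algebraMap A Ah a')
      + (u : Sh) ^ (K + k).toNat * algebraMap Ah Sh y := by
    rw [hu, ← map_pow, ← map_mul, ← hy, ← map_add]; congr 1; ring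
  rw [hx, map_mul, map_pow, hφ, hvu, ha, zpow_sub, zpow_natCast, zpow_natCast, Units.val_mul,
    Units.val_pow_eq_pow_val, ← inv_pow, Units.val_pow_eq_pow_val]
  ring

include hφ hu in
theorem approxM
    (hdense : ∀ (N : ℕ) (a : Ah), ∃ (a' : A) (y : Ah),
      a - algebraMap A Ah a' = algebraMap A Ah t ^ N * y)
    {m n : Type} (X : Matrix m n Sh) (K : ℤ) :
    ∃ X₀ : Matrix m n S, MFil (Ah := Ah) u K (X - X₀.map (algebraMap S Sh)) := by
  choose f hf using fun i j => approx t hφ u hu hdense (X i j) K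
  exact ⟨Matrix.of f, fun i j => hf i j⟩

include hφ hu in
/-- scalar key lemma: elements of `S` that are small in `Sh` are multiples of `t`. -/
theorem key_S
    (hinj : ∀ (N : ℕ) (x : A) (y : Ah), algebraMap A Ah x = algebraMap A Ah t ^ N * y →
      ∃ c : A, x = t ^ N * c)
    (s : S) (hs : algebraMap S Sh s ∈ Fil (Ah := Ah) u 1) :
    ∃ c : A, s = algebraMap A S t * algebraMap A S c := by
  obtain ⟨y, hy⟩ := hs
  obtain ⟨k, a, hk⟩ := IsLocalization.Away.surj t s
  have h1 : algebraMap Ah Sh (algebraMap A Ah a)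
      = algebraMap Ah Sh (algebraMap A Ah t ^ (k + 1) * y) := by
    rw [← hφ, ← hk, map_mul, hy, map_pow, hφ, zpow_one, hu, map_mul, map_pow, pow_succ]; ring
  obtain ⟨j, hj⟩ := IsLocalization.Away.exists_of_eq (algebraMap A Ah t) h1
  have h2 : algebraMap A Ah (t ^ j * a) = algebraMap A Ah t ^ (j + (k + 1)) * y := by
    rw [map_mul, map_pow, hj, pow_add]; ring
  obtain ⟨c, hc⟩ := hinj _ _ _ h2
  refine ⟨c, ?_⟩
  have htu : IsUnit (algebraMap A S t) := IsLocalization.Away.algebraMap_isUnit t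
  apply (htu.pow (j + k)).mul_right_cancel
  have h3 := congrArg (algebraMap A S) hc
  rw [map_mul, map_pow, map_mul, map_pow] at h3
  calc s * algebraMap A S t ^ (j + k)
      = algebraMap A S t ^ j * (s * algebraMap A S t ^ k) := by rw [pow_add]; ring
    _ = algebraMap A S t ^ j * algebraMap A S a := by rw [hk]
    _ = algebraMap A S t ^ (j + (k + 1)) * algebraMap A S c := h3
    _ = algebraMap A S t * algebraMap A S c * algebraMap A S t ^ (j + k) := by
        rw [pow_add, pow_add, pow_add, pow_one]; ring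

end Groth.Agent.Lib.Helper83.ProjApprox
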