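import Groth.Agent.Lib.Helper83.ProjApprox2

set_option autoImplicit false

namespace Groth.Agent.Lib.Helper83.ProjApprox

universe u

/-- `1 + r • E` is invertible when `1 + r y` is a unit for all `y`. -/
theorem isUnit_one_add_smul {R : Type u} [CommRing R] (r : R) (hr : ∀ y : R, IsUnit (1 + r * y))
    {n : Type} [Fintype n] [DecidableEq n] (E : Matrix n n R) : IsUnit (1 + r • E) := by
  rw [Matrix.isUnit_iff_isUnit_det]
  have h1 : Ideal.Quotient.mk (Ideal.span {r}) ((1 + r • E).det) = 1 := by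
    rw [RingHom.map_det]
    have : (Ideal.Quotient.mk (Ideal.span {r})).mapMatrix (1 + r • E) = 1 := by
      ext i j
      rw [RingHom.mapMatrix_apply, Matrix.map_apply, Matrix.add_apply, Matrix.smul_apply, map_add,
        smul_eq_mul, map_mul]
      have : Ideal.Quotient.mk (Ideal.span {r}) r = 0 :=
        Ideal.Quotient.eq_zero_iff_mem.mpr (Ideal.mem_span_singleton_self r)
      rw [this, zero_mul, add_zero]
      by_cases h : i = j
      · rw [h, Matrix.one_apply_eq, Matrix.one_apply_eq, map_one]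
      · rw [Matrix.one_apply_ne h, Matrix.one_apply_ne h, map_zero]
    rw [this, Matrix.det_one]
  have h2 : (1 + r • E).det - 1 ∈ Ideal.span {r} := by
    rw [← Ideal.Quotient.eq_zero_iff_mem, map_sub, h1, map_one, sub_self]
  obtain ⟨y, hy⟩ := Ideal.mem_span_singleton'.mp h2
  have := hr y
  convert this using 1
  linear_combination -hy

variable {A Ah S Sh : Type u} [CommRing A] [CommRing Ah] [CommRing S] [CommRing Sh]
  [Algebra A Ah] [Algebra A S] [Algebra Ah Sh] [Algebra S Sh]
  (t : A) [IsLocalization.Away t S] [IsLocalization.Away (algebraMap A Ah t) Sh]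
  (hφ : ∀ x : A, algebraMap S Sh (algebraMap A S x) = algebraMap Ah Sh (algebraMap A Ah x))
  (u : Shˣ) (hu : (u : Sh) = algebraMap Ah Sh (algebraMap A Ah t))

include hφ hu in
/-- Lemma B: a matrix over `S` which is `1 + small` over `Sh` is invertible. -/
theorem isUnit_of_small
    (hinj : ∀ (N : ℕ) (x : A) (y : Ah), algebraMap A Ah x = algebraMap A Ah t ^ N * y →
      ∃ c : A, x = t ^ N * c)
    (hJ : ∀ y : A, IsUnit (1 + t * y))
    {n : Type} [Fintype n] [DecidableEq n] (E : Matrix n n S)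
    (hE : MFil (Ah := Ah) u 1 (E.map (algebraMap S Sh))) : IsUnit (1 + E) := by
  choose E₀ hE₀ using fun i j => key_S t hφ u hu hinj (E i j) (hE i j)
  have h1 : 1 + E = (algebraMap A S).mapMatrix (1 + t • Matrix.of E₀) := by
    ext i j
    rw [RingHom.mapMatrix_apply, Matrix.map_apply, Matrix.add_apply, Matrix.add_apply,
      Matrix.smul_apply, Matrix.of_apply, map_add, smul_eq_mul, map_mul, ← hE₀ i j]
    by_cases h : i = j
    · rw [h, Matrix.one_apply_eq, Matrix.one_apply_eq, map_one]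
    · rw [Matrix.one_apply_ne h, Matrix.one_apply_ne h, map_zero]
  rw [h1]
  exact (isUnit_one_add_smul t hJ (Matrix.of E₀)).map _

include hu in
/-- Lemma B̂: `1 + small` over `Sh` is invertible with inverse in `MFil 0`. -/
theorem exists_inv_of_small
    (hJh : ∀ y : Ah, IsUnit (1 + algebraMap A Ah t * y))
    {n : Type} [Fintype n] [DecidableEq n] (Z : Matrix n n Sh)
    (hZ : MFil (Ah := Ah) u 1 Z) :
    ∃ W : Matrix n n Sh, W * (1 + Z) = 1 ∧ (1 + Z) * W = 1 ∧ MFil (Ah := Ah) u 0 W := by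
  obtain ⟨E, hE⟩ := MFil.exists_eq u hZ
  have h1 : 1 + Z = (algebraMap Ah Sh).mapMatrix (1 + algebraMap A Ah t • E) := by
    rw [hE]
    ext i j
    rw [RingHom.mapMatrix_apply, Matrix.map_apply, Matrix.add_apply, Matrix.add_apply,
      Matrix.smul_apply, Matrix.smul_apply, Matrix.map_apply, map_add, smul_eq_mul, smul_eq_mul,
      map_mul, zpow_one, hu]
    by_cases h : i = j
    · rw [h, Matrix.one_apply_eq, Matrix.one_apply_eq, map_one]
    · rw [Matrix.one_apply_ne h, Matrix.one_apply_ne h, map_zero]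
  obtain ⟨v, hv⟩ := isUnit_one_add_smul (algebraMap A Ah t) hJh E
  refine ⟨(algebraMap Ah Sh).mapMatrix ((v⁻¹ : (Matrix n n Ah)ˣ) : Matrix n n Ah), ?_, ?_, ?_⟩
  · rw [h1, ← hv, ← map_mul, ← Units.val_mul, inv_mul_cancel, Units.val_one, map_one]
  · rw [h1, ← hv, ← map_mul, ← Units.val_mul, mul_inv_cancel, Units.val_one, map_one]
  · exact MFil.map_alg u _

/-- congruence of products -/
theorem MFil.mul_congr {K : ℤ} {c : ℤ} {m n p : Type} [Fintype n]
    {X X' : Matrix m n Sh} {Y Y' : Matrix n p Sh}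
    (hX : MFil (Ah := Ah) u K (X - X')) (hY : MFil (Ah := Ah) u K (Y - Y'))
    (hX' : MFil (Ah := Ah) u (-c) X') (hY' : MFil (Ah := Ah) u (-c) Y) :
    MFil (Ah := Ah) u (K - c) (X * Y - X' * Y') := by
  have h : X * Y - X' * Y' = (X - X') * Y + X' * (Y - Y') := by
    rw [Matrix.sub_mul, Matrix.mul_sub]; abel
  rw [h]
  have h1 := MFil.mul u hX hY'
  have h2 := MFil.mul u hX' hY
  rw [← sub_eq_add_neg] at h1
  rw [neg_add_eq_sub] at h2
  exact MFil.add u h1 h2

end Groth.Agent.Lib.Helper83.ProjApprox
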