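import Groth.Agent.Lib.Helper83.ProjMat2
import Groth.Agent.Lib.Helper83.ProjApprox3

set_option autoImplicit false

namespace Groth.Agent.Lib.Helper83.ProjApprox

universe u

open Groth.Agent.Lib.Helper83.ProjMat

variable {A Ah S Sh : Type u} [CommRing A] [CommRing Ah] [CommRing S] [CommRing Sh]
  [Algebra A Ah] [Algebra A S] [Algebra Ah Sh] [Algebra S Sh]
  (t : A) [IsLocalization.Away t S] [IsLocalization.Away (algebraMap A Ah t) Sh]
  (hφ : ∀ x : A, algebraMap S Sh (algebraMap A S x) = algebraMap Ah Sh (algebraMap A Ah x))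
  (u : Shˣ) (hu : (u : Sh) = algebraMap Ah Sh (algebraMap A Ah t))

theorem MFil.mul_left {K c : ℤ} {m n p : Type} [Fintype n] {Z : Matrix m n Sh} {X : Matrix n p Sh}
    (hZ : MFil (Ah := Ah) u (-c) Z) (hX : MFil (Ah := Ah) u K X) :
    MFil (Ah := Ah) u (K - c) (Z * X) := by
  have := MFil.mul u hZ hX
  rwa [neg_add_eq_sub] at this

theorem MFil.mul_right {K c : ℤ} {m n p : Type} [Fintype n] {X : Matrix m n Sh} {Z : Matrix n p Sh}
    (hX : MFil (Ah := Ah) u K X) (hZ : MFil (Ah := Ah) u (-c) Z) :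
    MFil (Ah := Ah) u (K - c) (X * Z) := by
  have := MFil.mul u hX hZ
  rwa [← sub_eq_add_neg] at this

include hu in
/-- a common bound for four matrices -/
theorem exists_mfil4 {m₁ n₁ m₂ n₂ m₃ n₃ m₄ n₄ : Type} [Fintype m₁] [Fintype n₁] [Fintype m₂]
    [Fintype n₂] [Fintype m₃] [Fintype n₃] [Fintype m₄] [Fintype n₄]
    (X₁ : Matrix m₁ n₁ Sh) (X₂ : Matrix m₂ n₂ Sh) (X₃ : Matrix m₃ n₃ Sh) (X₄ : Matrix m₄ n₄ Sh) :
    ∃ c : ℕ, MFil (Ah := Ah) u (-(c : ℤ)) X₁ ∧ MFil (Ah := Ah) u (-(c : ℤ)) X₂ ∧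
      MFil (Ah := Ah) u (-(c : ℤ)) X₃ ∧ MFil (Ah := Ah) u (-(c : ℤ)) X₄ := by
  obtain ⟨c₁, h₁⟩ := exists_mfil t u hu X₁
  obtain ⟨c₂, h₂⟩ := exists_mfil t u hu X₂
  obtain ⟨c₃, h₃⟩ := exists_mfil t u hu X₃
  obtain ⟨c₄, h₄⟩ := exists_mfil t u hu X₄
  refine ⟨c₁ + c₂ + c₃ + c₄, ?_, ?_, ?_, ?_⟩
  · exact MFil.mono _ hu (by push_cast; omega) h₁
  · exact MFil.mono _ hu (by push_cast; omega) h₂
  · exact MFil.mono _ hu (by push_cast; omega) h₃
  · exact MFil.mono _ hu (by push_cast; omega) h₄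

include hφ hu in
/-- (1') descent of isomorphisms between ranges of idempotent matrices. -/
theorem iso_descent
    (hdense : ∀ (N : ℕ) (a : Ah), ∃ (a' : A) (y : Ah),
      a - algebraMap A Ah a' = algebraMap A Ah t ^ N * y)
    (hinj : ∀ (N : ℕ) (x : A) (y : Ah), algebraMap A Ah x = algebraMap A Ah t ^ N * y →
      ∃ c : A, x = t ^ N * c)
    (hJ : ∀ y : A, IsUnit (1 + t * y))
    {n n' : ℕ} (P : Matrix (Fin n) (Fin n) S) (Q : Matrix (Fin n') (Fin n') S)
    (hP : P * P = P) (hQ : Q * Q = Q)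
    (Ψ : LinearMap.range (P.map (algebraMap S Sh)).mulVecLin ≃ₗ[Sh]
      LinearMap.range (Q.map (algebraMap S Sh)).mulVecLin) :
    Nonempty (LinearMap.range P.mulVecLin ≃ₗ[S] LinearMap.range Q.mulVecLin) := by
  set Ph := P.map (algebraMap S Sh) with hPh
  set Qh := Q.map (algebraMap S Sh) with hQh
  have hPh2 : Ph * Ph = Ph := by rw [hPh, ← Matrix.map_mul, hP]
  have hQh2 : Qh * Qh = Qh := by rw [hQh, ← Matrix.map_mul, hQ]
  -- the matrices of Ψ and its inverse
  let Xl : (Fin n → Sh) →ₗ[Sh] (Fin n' → Sh) :=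
    (LinearMap.range Qh.mulVecLin).subtype ∘ₗ Ψ.toLinearMap ∘ₗ
      LinearMap.codRestrict _ Ph.mulVecLin (fun v => LinearMap.mem_range_self _ v)
  let Yl : (Fin n' → Sh) →ₗ[Sh] (Fin n → Sh) :=
    (LinearMap.range Ph.mulVecLin).subtype ∘ₗ Ψ.symm.toLinearMap ∘ₗ
      LinearMap.codRestrict _ Qh.mulVecLin (fun v => LinearMap.mem_range_self _ v)
  have hPv : ∀ v ∈ LinearMap.range Ph.mulVecLin, Ph.mulVec v = v := by
    rintro _ ⟨v, rfl⟩
    simp only [Matrix.mulVecLin_apply, Matrix.mulVec_mulVec, hPh2]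
  have hQw : ∀ w ∈ LinearMap.range Qh.mulVecLin, Qh.mulVec w = w := by
    rintro _ ⟨v, rfl⟩
    simp only [Matrix.mulVecLin_apply, Matrix.mulVec_mulVec, hQh2]
  set Xh := LinearMap.toMatrix' Xl with hXh
  set Yh := LinearMap.toMatrix' Yl with hYh
  have hQXl : Matrix.toLin' Qh ∘ₗ Xl = Xl := by
    apply LinearMap.ext
    intro v
    change Qh.mulVec (Xl v) = Xl v
    exact hQw _ (Ψ _).2
  have hPYl : Matrix.toLin' Ph ∘ₗ Yl = Yl := by
    apply LinearMap.ext
    intro v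
    change Ph.mulVec (Yl v) = Yl v
    exact hPv _ (Ψ.symm _).2
  have hYXl : Yl ∘ₗ Xl = Matrix.toLin' Ph := by
    apply LinearMap.ext
    intro v
    have h1 : (LinearMap.codRestrict (LinearMap.range Qh.mulVecLin) Qh.mulVecLin
        (fun v => LinearMap.mem_range_self _ v)) ((LinearMap.range Qh.mulVecLin).subtype
          (Ψ (LinearMap.codRestrict _ Ph.mulVecLin (fun v => LinearMap.mem_range_self _ v) v)))
        = Ψ (LinearMap.codRestrict _ Ph.mulVecLin (fun v => LinearMap.mem_range_self _ v) v) := by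
      apply Subtype.ext
      exact hQw _ (Ψ _).2
    change (LinearMap.range Ph.mulVecLin).subtype (Ψ.symm ((LinearMap.codRestrict
      (LinearMap.range Qh.mulVecLin) Qh.mulVecLin (fun v => LinearMap.mem_range_self _ v))
      ((LinearMap.range Qh.mulVecLin).subtype (Ψ (LinearMap.codRestrict _ Ph.mulVecLin
        (fun v => LinearMap.mem_range_self _ v) v))))) = _
    rw [h1, LinearEquiv.symm_apply_apply]
    rfl
  have hXYl : Xl ∘ₗ Yl = Matrix.toLin' Qh := by
    apply LinearMap.ext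
    intro v
    have h1 : (LinearMap.codRestrict (LinearMap.range Ph.mulVecLin) Ph.mulVecLin
        (fun v => LinearMap.mem_range_self _ v)) ((LinearMap.range Ph.mulVecLin).subtype
          (Ψ.symm (LinearMap.codRestrict _ Qh.mulVecLin (fun v => LinearMap.mem_range_self _ v) v)))
        = Ψ.symm (LinearMap.codRestrict _ Qh.mulVecLin
          (fun v => LinearMap.mem_range_self _ v) v) := by
      apply Subtype.ext
      exact hPv _ (Ψ.symm _).2
    change (LinearMap.range Qh.mulVecLin).subtype (Ψ ((LinearMap.codRestrict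
      (LinearMap.range Ph.mulVecLin) Ph.mulVecLin (fun v => LinearMap.mem_range_self _ v))
      ((LinearMap.range Ph.mulVecLin).subtype (Ψ.symm (LinearMap.codRestrict _ Qh.mulVecLin
        (fun v => LinearMap.mem_range_self _ v) v))))) = _
    rw [h1, LinearEquiv.apply_symm_apply]
    rfl
  have hQX : Qh * Xh = Xh := by
    rw [hXh, ← LinearMap.toMatrix'_toLin' Qh, ← LinearMap.toMatrix'_comp, hQXl]
  have hPY : Ph * Yh = Yh := by
    rw [hYh, ← LinearMap.toMatrix'_toLin' Ph, ← LinearMap.toMatrix'_comp, hPYl]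
  have hYX : Yh * Xh = Ph := by
    rw [hXh, hYh, ← LinearMap.toMatrix'_comp, hYXl, LinearMap.toMatrix'_toLin']
  have hXY : Xh * Yh = Qh := by
    rw [hXh, hYh, ← LinearMap.toMatrix'_comp, hXYl, LinearMap.toMatrix'_toLin']
  -- bounds and approximations
  obtain ⟨c, hcP, hcQ, hcX, hcY⟩ := exists_mfil4 t u hu Ph Qh Xh Yh
  obtain ⟨X₀, hX₀⟩ := approxM t hφ u hu hdense Xh (4 * c + 1)
  obtain ⟨Y₀, hY₀⟩ := approxM t hφ u hu hdense Yh (4 * c + 1)
  have hmono : ∀ {m n : Type} {Z : Matrix m n Sh}, MFil (Ah := Ah) u (4 * c + 1) Z →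
      MFil (Ah := Ah) u (-(c : ℤ)) Z := fun h => MFil.mono _ hu (by omega) h
  have hcX₀ : MFil (Ah := Ah) u (-(c : ℤ)) (X₀.map (algebraMap S Sh)) := by
    have : X₀.map (algebraMap S Sh) = Xh - (Xh - X₀.map (algebraMap S Sh)) := by abel
    rw [this]; exact MFil.sub u hcX (hmono hX₀)
  have hcY₀ : MFil (Ah := Ah) u (-(c : ℤ)) (Y₀.map (algebraMap S Sh)) := by
    have : Y₀.map (algebraMap S Sh) = Yh - (Yh - Y₀.map (algebraMap S Sh)) := by abel
    rw [this]; exact MFil.sub u hcY (hmono hY₀)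
  set X := Q * X₀ * P with hX
  set Y := P * Y₀ * Q with hY
  have hXm : X.map (algebraMap S Sh) = Qh * X₀.map (algebraMap S Sh) * Ph := by
    rw [hX, Matrix.map_mul, Matrix.map_mul]
  have hYm : Y.map (algebraMap S Sh) = Ph * Y₀.map (algebraMap S Sh) * Qh := by
    rw [hY, Matrix.map_mul, Matrix.map_mul]
  -- E := YX - P
  have hE1 : MFil (Ah := Ah) u 1 ((Y * X - P).map (algebraMap S Sh)) := by
    have e1 : (Y * X - P).map (algebraMap S Sh)
        = Ph * ((Y₀.map (algebraMap S Sh) - Yh) * Qh * X₀.map (algebraMap S Sh)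
            + Yh * Qh * (X₀.map (algebraMap S Sh) - Xh)) * Ph := by
      have e0' : Ph * (Yh * (Qh * (Xh * Ph))) = Ph := by
        rw [← Matrix.mul_assoc Qh, hQX, ← Matrix.mul_assoc Yh, hYX, ← Matrix.mul_assoc, hPh2, hPh2]
      have hQQ' : ∀ Z : Matrix (Fin n') (Fin n) Sh, Qh * (Qh * Z) = Qh * Z := fun Z => by
        rw [← Matrix.mul_assoc, hQh2]
      rw [Matrix.map_sub _ (map_sub (algebraMap S Sh)), Matrix.map_mul, hYm, hXm, ← hPh]
      simp only [Matrix.mul_add, Matrix.add_mul, Matrix.mul_sub, Matrix.sub_mul, Matrix.mul_assoc,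
        hQQ', e0']
      abel
    rw [e1]
    have h1 : MFil (Ah := Ah) u (4 * c + 1 - c - c)
        ((Y₀.map (algebraMap S Sh) - Yh) * Qh * X₀.map (algebraMap S Sh)) := by
      have : MFil (Ah := Ah) u (4 * c + 1) (Y₀.map (algebraMap S Sh) - Yh) := by
        have := MFil.neg u hY₀
        rwa [neg_sub] at this
      exact MFil.mul_right u (MFil.mul_right u this hcQ) hcX₀
    have h2 : MFil (Ah := Ah) u (4 * c + 1 - c - c)
        (Yh * Qh * (X₀.map (algebraMap S Sh) - Xh)) := by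
      have : MFil (Ah := Ah) u (4 * c + 1) (X₀.map (algebraMap S Sh) - Xh) := by
        have := MFil.neg u hX₀
        rwa [neg_sub] at this
      rw [Matrix.mul_assoc]
      have h3 := MFil.mul_left u hcY (MFil.mul_left u hcQ this)
      exact h3
    have h4 := MFil.mul_right u (MFil.mul_left u hcP (MFil.add u h1 h2)) hcP
    exact MFil.mono _ hu (by omega) h4
  have hE2 : MFil (Ah := Ah) u 1 ((X * Y - Q).map (algebraMap S Sh)) := by
    have e1 : (X * Y - Q).map (algebraMap S Sh)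
        = Qh * ((X₀.map (algebraMap S Sh) - Xh) * Ph * Y₀.map (algebraMap S Sh)
            + Xh * Ph * (Y₀.map (algebraMap S Sh) - Yh)) * Qh := by
      have e0' : Qh * (Xh * (Ph * (Yh * Qh))) = Qh := by
        rw [← Matrix.mul_assoc Ph, hPY, ← Matrix.mul_assoc Xh, hXY, ← Matrix.mul_assoc, hQh2, hQh2]
      have hPP' : ∀ Z : Matrix (Fin n) (Fin n') Sh, Ph * (Ph * Z) = Ph * Z := fun Z => by
        rw [← Matrix.mul_assoc, hPh2]
      rw [Matrix.map_sub _ (map_sub (algebraMap S Sh)), Matrix.map_mul, hYm, hXm, ← hQh]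
      simp only [Matrix.mul_add, Matrix.add_mul, Matrix.mul_sub, Matrix.sub_mul, Matrix.mul_assoc,
        hPP', e0']
      abel
    rw [e1]
    have h1 : MFil (Ah := Ah) u (4 * c + 1 - c - c)
        ((X₀.map (algebraMap S Sh) - Xh) * Ph * Y₀.map (algebraMap S Sh)) := by
      have : MFil (Ah := Ah) u (4 * c + 1) (X₀.map (algebraMap S Sh) - Xh) := by
        have := MFil.neg u hX₀
        rwa [neg_sub] at this
      exact MFil.mul_right u (MFil.mul_right u this hcP) hcY₀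
    have h2 : MFil (Ah := Ah) u (4 * c + 1 - c - c)
        (Xh * Ph * (Y₀.map (algebraMap S Sh) - Yh)) := by
      have : MFil (Ah := Ah) u (4 * c + 1) (Y₀.map (algebraMap S Sh) - Yh) := by
        have := MFil.neg u hY₀
        rwa [neg_sub] at this
      rw [Matrix.mul_assoc]
      exact MFil.mul_left u hcX (MFil.mul_left u hcP this)
    have h4 := MFil.mul_right u (MFil.mul_left u hcQ (MFil.add u h1 h2)) hcQ
    exact MFil.mono _ hu (by omega) h4
  obtain ⟨v, hv⟩ := isUnit_of_small t hφ u hu hinj hJ (Y * X - P) hE1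
  obtain ⟨v', hv'⟩ := isUnit_of_small t hφ u hu hinj hJ (X * Y - Q) hE2
  have hθ : Y * X + 1 - P = (v : Matrix (Fin n) (Fin n) S) := by rw [hv]; abel
  have hθ' : X * Y + 1 - Q = (v' : Matrix (Fin n') (Fin n') S) := by rw [hv']; abel
  apply nonempty_range_equiv_of_approx P Q X Y hP hQ ?_ ?_
    ((v⁻¹ : (Matrix (Fin n) (Fin n) S)ˣ) : Matrix (Fin n) (Fin n) S) ?_
    ((v'⁻¹ : (Matrix (Fin n') (Fin n') S)ˣ) : Matrix (Fin n') (Fin n') S) ?_ ?_ ?_
  · rw [hX, ← Matrix.mul_assoc, ← Matrix.mul_assoc, hQ]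
  · rw [hY, ← Matrix.mul_assoc, ← Matrix.mul_assoc, hP]
  · rw [hθ, ← Units.val_mul, inv_mul_cancel, Units.val_one]
  · rw [hθ', ← Units.val_mul, inv_mul_cancel, Units.val_one]
  · rw [hθ', ← Units.val_mul, mul_inv_cancel, Units.val_one]
  · rw [hY, Matrix.mul_assoc, hQ]

end Groth.Agent.Lib.Helper83.ProjApprox
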