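import Groth.Agent.Lib.Helper83.ProjApprox4

set_option autoImplicit false

namespace Groth.Agent.Lib.Helper83.ProjApprox

universe u

open Groth.Agent.Lib.Helper83.ProjMat

variable {A Ah S Sh : Type u} [CommRing A] [CommRing Ah] [CommRing S] [CommRing Sh]
  [Algebra A Ah] [Algebra A S] [Algebra Ah Sh] [Algebra S Sh]
  (t : A) [IsLocalization.Away t S] [IsLocalization.Away (algebraMap A Ah t) Sh]
  (hφ : ∀ x : A, algebraMap S Sh (algebraMap A S x) = algebraMap Ah Sh (algebraMap A Ah x))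
  (u : Shˣ) (hu : (u : Sh) = algebraMap Ah Sh (algebraMap A Ah t))

include hu in
/-- (E) close idempotent matrices over `Sh` have isomorphic ranges. -/
theorem range_equiv_of_close
    (hJh : ∀ y : Ah, IsUnit (1 + algebraMap A Ah t * y))
    {m : Type} [Fintype m] [DecidableEq m] (P₁ P₂ : Matrix m m Sh) (h1 : P₁ * P₁ = P₁)
    (h2 : P₂ * P₂ = P₂) (c : ℕ) (hc1 : MFil (Ah := Ah) u (-(c : ℤ)) P₁)
    (hc2 : MFil (Ah := Ah) u (-(c : ℤ)) P₂) (hd : MFil (Ah := Ah) u ((c : ℤ) + 1) (P₁ - P₂)) :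
    Nonempty (LinearMap.range P₂.mulVecLin ≃ₗ[Sh] LinearMap.range P₁.mulVecLin) := by
  set Z := P₁ * (P₂ - P₁) + (P₁ - P₂) * P₂ with hZ
  have hZs : MFil (Ah := Ah) u 1 Z := by
    have hd' : MFil (Ah := Ah) u ((c : ℤ) + 1) (P₂ - P₁) := by
      have := MFil.neg u hd
      rwa [neg_sub] at this
    have e1 := MFil.mul_left u hc1 hd'
    have e2 := MFil.mul_right u hd hc2
    have := MFil.add u e1 e2
    rw [add_sub_cancel_left] at this
    exact this
  obtain ⟨W', hW1, hW2, -⟩ := exists_inv_of_small t u hu hJh Z hZs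
  have hW : 1 + Z = P₁ * P₂ + (1 - P₁) * (1 - P₂) := by
    rw [hZ]
    simp only [Matrix.mul_sub, Matrix.sub_mul, Matrix.mul_one, Matrix.one_mul, h1, h2]
    abel
  apply nonempty_range_equiv_of_conj P₁ P₂ (1 + Z) W' ?_ hW2 hW1
  rw [hW]
  simp only [Matrix.mul_add, Matrix.add_mul, Matrix.mul_sub, Matrix.sub_mul, Matrix.mul_one,
    Matrix.one_mul, ← Matrix.mul_assoc, h1]
  simp only [Matrix.mul_assoc, h2]
  abel

include hφ hu in
/-- (2') approximation of a split surjection. -/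
theorem split_descent
    (hdense : ∀ (N : ℕ) (a : Ah), ∃ (a' : A) (y : Ah),
      a - algebraMap A Ah a' = algebraMap A Ah t ^ N * y)
    (hinj : ∀ (N : ℕ) (x : A) (y : Ah), algebraMap A Ah x = algebraMap A Ah t ^ N * y →
      ∃ c : A, x = t ^ N * c)
    (hJ : ∀ y : A, IsUnit (1 + t * y))
    (hJh : ∀ y : Ah, IsUnit (1 + algebraMap A Ah t * y))
    {n m : ℕ} (Ch : Matrix (Fin n) (Fin m) Sh) (Dh : Matrix (Fin m) (Fin n) Sh)
    (hCD : Ch * Dh = 1) :
    ∃ (C : Matrix (Fin n) (Fin m) S) (D : Matrix (Fin m) (Fin n) S), C * D = 1 ∧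
      Nonempty (LinearMap.range ((1 - D * C).map (algebraMap S Sh)).mulVecLin ≃ₗ[Sh]
        LinearMap.range (1 - Dh * Ch).mulVecLin) := by
  obtain ⟨c, hcC, hcD, -, -⟩ := exists_mfil4 t u hu Ch Dh Ch Dh
  obtain ⟨C₀, hC₀⟩ := approxM t hφ u hu hdense Ch (5 * c + 1)
  obtain ⟨D₀, hD₀⟩ := approxM t hφ u hu hdense Dh (5 * c + 1)
  set C₀h := C₀.map (algebraMap S Sh) with hC₀h
  set D₀h := D₀.map (algebraMap S Sh) with hD₀h
  have hδC : MFil (Ah := Ah) u (5 * c + 1) (C₀h - Ch) := by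
    have := MFil.neg u hC₀
    rwa [neg_sub] at this
  have hδD : MFil (Ah := Ah) u (5 * c + 1) (D₀h - Dh) := by
    have := MFil.neg u hD₀
    rwa [neg_sub] at this
  have hmono : ∀ {m n : Type} {Z : Matrix m n Sh}, MFil (Ah := Ah) u (5 * c + 1) Z →
      MFil (Ah := Ah) u (-(c : ℤ)) Z := fun h => MFil.mono _ hu (by omega) h
  have hcC₀ : MFil (Ah := Ah) u (-(c : ℤ)) C₀h := by
    have : C₀h = Ch + (C₀h - Ch) := by abel
    rw [this]; exact MFil.add u hcC (hmono hδC)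
  have hcD₀ : MFil (Ah := Ah) u (-(c : ℤ)) D₀h := by
    have : D₀h = Dh + (D₀h - Dh) := by abel
    rw [this]; exact MFil.add u hcD (hmono hδD)
  -- U = C₀ D₀
  set s := (C₀h - Ch) * D₀h + Ch * (D₀h - Dh) with hs
  have hs4 : MFil (Ah := Ah) u (4 * c + 1) s := by
    have e1 := MFil.mul_right u hδC hcD₀
    have e2 := MFil.mul_left u hcC hδD
    have := MFil.add u e1 e2
    exact MFil.mono _ hu (by omega) this
  have hUh : (C₀ * D₀).map (algebraMap S Sh) = 1 + s := by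
    rw [Matrix.map_mul, ← hC₀h, ← hD₀h, hs, ← hCD]
    simp only [Matrix.mul_sub, Matrix.sub_mul]
    abel
  have hE : MFil (Ah := Ah) u 1 ((C₀ * D₀ - 1).map (algebraMap S Sh)) := by
    rw [Matrix.map_sub _ (map_sub (algebraMap S Sh)), hUh]
    have h1 : (1 : Matrix (Fin n) (Fin n) S).map (algebraMap S Sh) = 1 := by
      rw [Matrix.map_one _ (map_zero _) (map_one _)]
    rw [h1, add_sub_cancel_left]
    exact MFil.mono _ hu (by omega) hs4
  obtain ⟨v, hv⟩ := isUnit_of_small t hφ u hu hinj hJ (C₀ * D₀ - 1) hE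
  have hvU : (v : Matrix (Fin n) (Fin n) S) = C₀ * D₀ := by rw [hv]; abel
  set V : Matrix (Fin n) (Fin n) S := Units.val (v⁻¹ : (Matrix (Fin n) (Fin n) S)ˣ) with hV
  have hVU : V * (C₀ * D₀) = 1 := by rw [← hvU, hV, ← Units.val_mul, inv_mul_cancel, Units.val_one]
  set Vh := V.map (algebraMap S Sh) with hVh
  have hVh1 : Vh * (1 + s) = 1 := by
    rw [← hUh, hVh, ← Matrix.map_mul, hVU, Matrix.map_one _ (map_zero _) (map_one _)]
  obtain ⟨W, hW1, hW2, hW0⟩ := exists_inv_of_small t u hu hJh s (MFil.mono _ hu (by omega) hs4)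
  have hVW : Vh = W := by
    calc Vh = Vh * ((1 + s) * W) := by rw [hW2, Matrix.mul_one]
      _ = (Vh * (1 + s)) * W := by rw [Matrix.mul_assoc]
      _ = W := by rw [hVh1, Matrix.one_mul]
  have hV0 : MFil (Ah := Ah) u 0 Vh := hVW ▸ hW0
  have hV1 : MFil (Ah := Ah) u (4 * c + 1) (Vh - 1) := by
    have : Vh - 1 = -(Vh * s) := by
      have := hVh1
      rw [Matrix.mul_add, Matrix.mul_one] at this
      rw [← this]; abel
    rw [this]
    have := MFil.mul u hV0 hs4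
    rw [zero_add] at this
    exact MFil.neg u this
  refine ⟨V * C₀, D₀, by rw [Matrix.mul_assoc, hVU], ?_⟩
  -- compare idempotents
  have hP2 : (1 - Dh * Ch) * (1 - Dh * Ch) = 1 - Dh * Ch := by
    have : Dh * Ch * (Dh * Ch) = Dh * Ch := by
      rw [Matrix.mul_assoc, ← Matrix.mul_assoc Ch, hCD, Matrix.one_mul]
    simp only [Matrix.mul_sub, Matrix.sub_mul, Matrix.mul_one, Matrix.one_mul, this]
    abel
  have hP1' : (1 - D₀ * (V * C₀)) * (1 - D₀ * (V * C₀)) = 1 - D₀ * (V * C₀) := by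
    have : D₀ * (V * C₀) * (D₀ * (V * C₀)) = D₀ * (V * C₀) := by
      calc D₀ * (V * C₀) * (D₀ * (V * C₀)) = D₀ * (V * (C₀ * D₀)) * (V * C₀) := by
            simp only [Matrix.mul_assoc]
        _ = D₀ * (V * C₀) := by rw [hVU, Matrix.mul_one]
    simp only [Matrix.mul_sub, Matrix.sub_mul, Matrix.mul_one, Matrix.one_mul, this]
    abel
  have hP1 : ((1 - D₀ * (V * C₀)).map (algebraMap S Sh)) * ((1 - D₀ * (V * C₀)).map (algebraMap S Sh))
      = (1 - D₀ * (V * C₀)).map (algebraMap S Sh) := by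
    rw [← Matrix.map_mul, hP1']
  have hmap : (1 - D₀ * (V * C₀)).map (algebraMap S Sh) = 1 - D₀h * (Vh * C₀h) := by
    rw [Matrix.map_sub _ (map_sub (algebraMap S Sh)), Matrix.map_one _ (map_zero _) (map_one _),
      Matrix.map_mul, Matrix.map_mul]
  have hdiff : MFil (Ah := Ah) u (2 * c + 1)
      ((1 - D₀h * (Vh * C₀h)) - (1 - Dh * Ch)) := by
    have e : (1 - D₀h * (Vh * C₀h)) - (1 - Dh * Ch)
        = -((D₀h - Dh) * (Vh * C₀h) + Dh * ((Vh - 1) * C₀h) + Dh * (C₀h - Ch)) := by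
      simp only [Matrix.mul_sub, Matrix.sub_mul, Matrix.mul_one, Matrix.one_mul]
      abel
    rw [e]
    have hVC : MFil (Ah := Ah) u (-(c : ℤ)) (Vh * C₀h) := by
      have := MFil.mul u hV0 hcC₀
      rwa [zero_add] at this
    have e1 := MFil.mul_right u hδD hVC
    have e2 := MFil.mul_left u hcD (MFil.mul_right u hV1 hcC₀)
    have e3 := MFil.mul_left u hcD hδC
    have e1' : MFil (Ah := Ah) u (2 * c + 1) ((D₀h - Dh) * (Vh * C₀h)) :=
      MFil.mono _ hu (by omega) e1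
    have e2' : MFil (Ah := Ah) u (2 * c + 1) (Dh * ((Vh - 1) * C₀h)) :=
      MFil.mono _ hu (by omega) e2
    have e3' : MFil (Ah := Ah) u (2 * c + 1) (Dh * (C₀h - Ch)) :=
      MFil.mono _ hu (by omega) e3
    exact MFil.neg u (MFil.add u (MFil.add u e1' e2') e3')
  have hb2 : MFil (Ah := Ah) u (-((2 * c : ℕ) : ℤ)) (1 - Dh * Ch) := by
    have h1 : MFil (Ah := Ah) u (-((2 * c : ℕ) : ℤ)) (1 : Matrix (Fin m) (Fin m) Sh) :=
      MFil.mono _ hu (by push_cast; omega) (MFil.one u)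
    have h2 := MFil.mul u hcD hcC
    have h2' : MFil (Ah := Ah) u (-((2 * c : ℕ) : ℤ)) (Dh * Ch) :=
      MFil.mono _ hu (by push_cast; omega) h2
    exact MFil.sub u h1 h2'
  have hb1 : MFil (Ah := Ah) u (-((2 * c : ℕ) : ℤ)) (1 - D₀h * (Vh * C₀h)) := by
    have : 1 - D₀h * (Vh * C₀h) = (1 - Dh * Ch) + ((1 - D₀h * (Vh * C₀h)) - (1 - Dh * Ch)) := by
      abel
    rw [this]
    exact MFil.add u hb2 (MFil.mono _ hu (by push_cast; omega) hdiff)
  rw [hmap]
  have hd' : MFil (Ah := Ah) u ((((2 * c : ℕ) : ℤ)) + 1)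
      ((1 - Dh * Ch) - (1 - D₀h * (Vh * C₀h))) := by
    have := MFil.neg u hdiff
    rw [neg_sub] at this
    exact MFil.mono _ hu (by push_cast; omega) this
  exact range_equiv_of_close t u hu hJh (1 - Dh * Ch) (1 - D₀h * (Vh * C₀h)) hP2
    (hmap ▸ hP1) (2 * c) hb2 hb1 hd'

end Groth.Agent.Lib.Helper83.ProjApprox
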