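import Groth.Agent.Lib.Helper83.ProjApprox5

set_option autoImplicit false

namespace Groth.Agent.Lib.Helper83.ProjApprox

universe u

open Groth.Agent.Lib.Helper83.ProjMat TensorProduct

variable {A Ah S Sh : Type u} [CommRing A] [CommRing Ah] [CommRing S] [CommRing Sh]
  [Algebra A Ah] [Algebra A S] [Algebra Ah Sh] [Algebra S Sh]
  (t : A) [IsLocalization.Away t S] [IsLocalization.Away (algebraMap A Ah t) Sh]
  (hφ : ∀ x : A, algebraMap S Sh (algebraMap A S x) = algebraMap Ah Sh (algebraMap A Ah x))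

include hφ in
/-- abstract (1): f.g. projective modules isomorphic after base change are isomorphic. -/
theorem iso_of_baseChange_iso
    (hdense : ∀ (N : ℕ) (a : Ah), ∃ (a' : A) (y : Ah),
      a - algebraMap A Ah a' = algebraMap A Ah t ^ N * y)
    (hinj : ∀ (N : ℕ) (x : A) (y : Ah), algebraMap A Ah x = algebraMap A Ah t ^ N * y →
      ∃ c : A, x = t ^ N * c)
    (hJ : ∀ y : A, IsUnit (1 + t * y))
    (M N : Type u) [AddCommGroup M] [Module S M] [Module.Finite S M] [Module.Projective S M]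
    [AddCommGroup N] [Module S N] [Module.Finite S N] [Module.Projective S N]
    (Φ : Sh ⊗[S] M ≃ₗ[Sh] Sh ⊗[S] N) : Nonempty (M ≃ₗ[S] N) := by
  obtain ⟨u, hu⟩ := IsLocalization.Away.algebraMap_isUnit (S := Sh) (algebraMap A Ah t)
  obtain ⟨n, P, hP, ⟨eM⟩⟩ := exists_idem_matrix S M
  obtain ⟨n', Q, hQ, ⟨eN⟩⟩ := exists_idem_matrix S N
  obtain ⟨bM⟩ := nonempty_baseChange_range S Sh P hP
  obtain ⟨bN⟩ := nonempty_baseChange_range S Sh Q hQ
  let Ψ := (bM.symm.trans ((eM.baseChange S Sh _ _).symm.trans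
    (Φ.trans ((eN.baseChange S Sh _ _).trans bN))))
  obtain ⟨r⟩ := iso_descent t hφ u hu hdense hinj hJ P Q hP hQ Ψ
  exact ⟨eM.trans (r.trans eN.symm)⟩

include hφ in
/-- abstract (2): stably free modules descend. -/
theorem stablyFree_descent
    (hdense : ∀ (N : ℕ) (a : Ah), ∃ (a' : A) (y : Ah),
      a - algebraMap A Ah a' = algebraMap A Ah t ^ N * y)
    (hinj : ∀ (N : ℕ) (x : A) (y : Ah), algebraMap A Ah x = algebraMap A Ah t ^ N * y →
      ∃ c : A, x = t ^ N * c)
    (hJ : ∀ y : A, IsUnit (1 + t * y))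
    (hJh : ∀ y : Ah, IsUnit (1 + algebraMap A Ah t * y))
    (M' : Type u) [AddCommGroup M'] [Module Sh M'] (n m : ℕ)
    (e : (M' × (Fin n → Sh)) ≃ₗ[Sh] (Fin m → Sh)) :
    ∃ (M : Type u) (_ : AddCommGroup M) (_ : Module S M), Module.Finite S M ∧
      (∃ n m : ℕ, Nonempty ((M × (Fin n → S)) ≃ₗ[S] (Fin m → S))) ∧
      Nonempty (Sh ⊗[S] M ≃ₗ[Sh] M') := by
  obtain ⟨u, hu⟩ := IsLocalization.Away.algebraMap_isUnit (S := Sh) (algebraMap A Ah t)
  let Cl : (Fin m → Sh) →ₗ[Sh] (Fin n → Sh) := LinearMap.snd Sh M' (Fin n → Sh) ∘ₗ e.symm.toLinearMap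
  let Dl : (Fin n → Sh) →ₗ[Sh] (Fin m → Sh) := e.toLinearMap ∘ₗ LinearMap.inr Sh M' (Fin n → Sh)
  have hCDl : Cl ∘ₗ Dl = LinearMap.id := by
    apply LinearMap.ext
    intro w
    simp [Cl, Dl]
  have hCD : LinearMap.toMatrix' Cl * LinearMap.toMatrix' Dl = 1 := by
    rw [← LinearMap.toMatrix'_comp, hCDl, LinearMap.toMatrix'_id]
  obtain ⟨C, D, hCD', ⟨r⟩⟩ := split_descent t hφ u hu hdense hinj hJ hJh _ _ hCD
  have hidem : (1 - D * C) * (1 - D * C) = 1 - D * C := by
    have : D * C * (D * C) = D * C := by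
      rw [Matrix.mul_assoc, ← Matrix.mul_assoc C, hCD', Matrix.one_mul]
    simp only [Matrix.mul_sub, Matrix.sub_mul, Matrix.mul_one, Matrix.one_mul, this]
    abel
  refine ⟨LinearMap.range (1 - D * C).mulVecLin, inferInstance, inferInstance, ?_, ?_, ?_⟩
  · exact Module.Finite.range _
  · -- stably free
    refine ⟨n, m, ?_⟩
    have hPv : ∀ v ∈ LinearMap.range (1 - D * C).mulVecLin, (1 - D * C).mulVec v = v := by
      rintro _ ⟨v, rfl⟩
      simp only [Matrix.mulVecLin_apply, Matrix.mulVec_mulVec, hidem]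
    have hCP : C * (1 - D * C) = 0 := by
      rw [Matrix.mul_sub, Matrix.mul_one, ← Matrix.mul_assoc, hCD', Matrix.one_mul, sub_self]
    have hPD : (1 - D * C) * D = 0 := by
      rw [Matrix.sub_mul, Matrix.one_mul, Matrix.mul_assoc, hCD', Matrix.mul_one, sub_self]
    let F : (LinearMap.range (1 - D * C).mulVecLin × (Fin n → S)) →ₗ[S] (Fin m → S) :=
      LinearMap.coprod (LinearMap.range (1 - D * C).mulVecLin).subtype D.mulVecLin
    let G : (Fin m → S) →ₗ[S] (LinearMap.range (1 - D * C).mulVecLin × (Fin n → S)) :=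
      LinearMap.prod (LinearMap.codRestrict _ (1 - D * C).mulVecLin
        (fun v => LinearMap.mem_range_self _ v)) C.mulVecLin
    refine ⟨LinearEquiv.ofLinearMap F G ?_ ?_⟩
    · apply LinearMap.ext
      intro x
      change (1 - D * C).mulVec x + D.mulVec (C.mulVec x) = x
      rw [Matrix.mulVec_mulVec, ← Matrix.add_mulVec, sub_add_cancel, Matrix.one_mulVec]
    · apply LinearMap.ext
      rintro ⟨⟨v, hv⟩, w⟩
      apply Prod.ext
      · apply Subtype.ext
        change (1 - D * C).mulVec (v + D.mulVec w) = v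
        rw [Matrix.mulVec_add, hPv v hv, Matrix.mulVec_mulVec, hPD, Matrix.zero_mulVec, add_zero]
      · change C.mulVec (v + D.mulVec w) = w
        rw [Matrix.mulVec_add, ← hPv v hv, Matrix.mulVec_mulVec, hCP, Matrix.zero_mulVec,
          Matrix.mulVec_mulVec, hCD', Matrix.one_mulVec, zero_add]
  · obtain ⟨b⟩ := nonempty_baseChange_range S Sh (1 - D * C) hidem
    -- M' ≃ range (1 - Dh Ch)
    have hπ : (1 - LinearMap.toMatrix' Dl * LinearMap.toMatrix' Cl).mulVecLin
        = LinearMap.id - Dl ∘ₗ Cl := by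
      rw [← Matrix.toLin'_apply', map_sub, Matrix.toLin'_one, Matrix.toLin'_mul,
        Matrix.toLin'_toMatrix', Matrix.toLin'_toMatrix']
    let F : M' →ₗ[Sh] LinearMap.range (1 - LinearMap.toMatrix' Dl * LinearMap.toMatrix' Cl).mulVecLin :=
      LinearMap.codRestrict _ (e.toLinearMap ∘ₗ LinearMap.inl Sh M' (Fin n → Sh)) (by
        intro x
        rw [hπ]
        refine ⟨e (x, 0), ?_⟩
        simp [Cl, Dl])
    have hF : Function.Bijective F := by
      constructor
      · intro x y hxy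
        have h1 := congrArg Subtype.val hxy
        change e (x, 0) = e (y, 0) at h1
        have h2 := e.injective h1
        exact (Prod.ext_iff.mp h2).1
      · rintro ⟨_, y, rfl⟩
        refine ⟨(e.symm y).1, ?_⟩
        apply Subtype.ext
        change e ((e.symm y).1, 0) = (1 - LinearMap.toMatrix' Dl * LinearMap.toMatrix' Cl).mulVecLin y
        rw [hπ]
        simp only [LinearMap.sub_apply, LinearMap.id_apply, LinearMap.comp_apply, Cl, Dl,
          LinearEquiv.coe_coe, LinearMap.snd_apply, LinearMap.inr_apply]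
        have : y = e ((e.symm y).1, (e.symm y).2) := by simp
        conv_rhs => rw [this]
        rw [← map_sub]
        congr 1
        apply Prod.ext
        · simp
        · simp
    exact ⟨b.trans (r.trans (LinearEquiv.ofBijective F hF).symm)⟩

end Groth.Agent.Lib.Helper83.ProjApprox
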