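import Groth.Agent.Lib.Helper83.ProjApprox6
import Groth.Agent.Lib.Helper83.IdemAway3

set_option autoImplicit false

namespace Groth.Agent.Lib.Helper83.ProjApprox

universe u

open TensorProduct

theorem main_S15778 (A : Type u) [CommRing A]
    (t : A) (ht : t ∈ (⊥ : Ideal A).jacobson)
    [Algebra (Localization.Away t) (Localization.Away (algebraMap A (AdicCompletion (Ideal.span {t}) A) t))]
    (halg : algebraMap (Localization.Away t) (Localization.Away (algebraMap A (AdicCompletion (Ideal.span {t}) A) t)) = Localization.awayMap (algebraMap A (AdicCompletion (Ideal.span {t}) A)) t) :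
    (∀ (M N : Type u) [AddCommGroup M] [Module (Localization.Away t) M] [Module.Finite (Localization.Away t) M] [Module.Projective (Localization.Away t) M]
        [AddCommGroup N] [Module (Localization.Away t) N] [Module.Finite (Localization.Away t) N] [Module.Projective (Localization.Away t) N],
        Nonempty ((Localization.Away (algebraMap A (AdicCompletion (Ideal.span {t}) A) t)) ⊗[Localization.Away t] M ≃ₗ[Localization.Away (algebraMap A (AdicCompletion (Ideal.span {t}) A) t)] (Localization.Away (algebraMap A (AdicCompletion (Ideal.span {t}) A) t)) ⊗[Localization.Away t] N) → Nonempty (M ≃ₗ[Localization.Away t] N)) ∧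
    (∀ (M' : Type u) [AddCommGroup M'] [Module (Localization.Away (algebraMap A (AdicCompletion (Ideal.span {t}) A) t)) M'] [Module.Finite (Localization.Away (algebraMap A (AdicCompletion (Ideal.span {t}) A) t)) M'],
        (∃ n m : ℕ, Nonempty ((M' × (Fin n → Localization.Away (algebraMap A (AdicCompletion (Ideal.span {t}) A) t))) ≃ₗ[Localization.Away (algebraMap A (AdicCompletion (Ideal.span {t}) A) t)] (Fin m → Localization.Away (algebraMap A (AdicCompletion (Ideal.span {t}) A) t)))) →
        ∃ (M : Type u) (_ : AddCommGroup M) (_ : Module (Localization.Away t) M), Module.Finite (Localization.Away t) M ∧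
          (∃ n m : ℕ, Nonempty ((M × (Fin n → Localization.Away t)) ≃ₗ[Localization.Away t] (Fin m → Localization.Away t))) ∧
          Nonempty ((Localization.Away (algebraMap A (AdicCompletion (Ideal.span {t}) A) t)) ⊗[Localization.Away t] M ≃ₗ[Localization.Away (algebraMap A (AdicCompletion (Ideal.span {t}) A) t)] M')) := by
  have hφ : ∀ x : A, algebraMap (Localization.Away t)
      (Localization.Away (algebraMap A (AdicCompletion (Ideal.span {t}) A) t))
      (algebraMap A (Localization.Away t) x)
      = algebraMap (AdicCompletion (Ideal.span {t}) A)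
        (Localization.Away (algebraMap A (AdicCompletion (Ideal.span {t}) A) t))
        (algebraMap A (AdicCompletion (Ideal.span {t}) A) x) := by
    intro x
    rw [halg]
    exact IsLocalization.map_eq _ x
  have hJ : ∀ y : A, IsUnit (1 + t * y) := by
    intro y
    have := (Ideal.mem_jacobson_bot.mp ht) y
    rwa [add_comm] at this
  have hJh : ∀ y : AdicCompletion (Ideal.span {t}) A,
      IsUnit (1 + algebraMap A (AdicCompletion (Ideal.span {t}) A) t * y) := by
    intro y
    have := IdemAway.isUnit_one_sub A t (-y)
    convert this using 1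
    ring
  refine ⟨?_, ?_⟩
  · intro M N _ _ _ _ _ _ _ _ ⟨Φ⟩
    exact iso_of_baseChange_iso t hφ (IdemAway.hdense_adic A t) (IdemAway.hinj_adic A t) hJ M N Φ
  · intro M' _ _ _ ⟨n, m, ⟨e⟩⟩
    exact stablyFree_descent t hφ (IdemAway.hdense_adic A t) (IdemAway.hinj_adic A t) hJ hJh M' n m e

end Groth.Agent.Lib.Helper83.ProjApprox
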