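import Mathlib
import Groth.Agent.Lib.Helper58.HenselPairIdem

set_option autoImplicit false

namespace Groth.Agent.Lib.Helper83.ProjHens

open Polynomial

universe u

/-- Hensel step with extra precision `k`. -/
theorem exists_root_k (A : Type u) [CommRing A] (t : A) [HenselianRing A (Ideal.span {t})]
    (n k : ℕ) (a' c : A) (hc : a' ^ 2 - t ^ n * a' = t ^ (3 * n + 1 + k) * c) :
    ∃ a'' y : A, a'' ^ 2 = t ^ n * a'' ∧ a'' - a' = t ^ (n + 1 + k) * y := by
  have hjac : Ideal.span {t} ≤ (⊥ : Ideal A).jacobson := HenselianRing.jac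
  have htj : ∀ x : A, IsUnit (t * x + 1) := by
    intro x
    have h1 : t ∈ (⊥ : Ideal A).jacobson := hjac (Ideal.mem_span_singleton_self t)
    exact (Ideal.mem_jacobson_bot.mp h1) x
  have hv : IsUnit (1 + 4 * t ^ (n + 1 + k) * c) := by
    have := htj (4 * t ^ (n + k) * c)
    convert this using 1
    ring
  obtain ⟨v, hv'⟩ := hv
  set w : A := ((v⁻¹ : Aˣ) : A) with hw
  have hvw : (1 + 4 * t ^ (n + 1 + k) * c) * w = 1 := by
    rw [← hv', hw]; exact Units.mul_inv v
  set r : A := w * t ^ (n + 1 + k) * c with hr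
  let g : A[X] := X ^ 2 + (X + C r)
  have hgm : g.Monic := by
    apply Polynomial.monic_X_pow_add
    calc (X + C r : A[X]).degree ≤ 1 := by
          refine (Polynomial.degree_add_le _ _).trans ?_
          rw [max_le_iff]
          exact ⟨Polynomial.degree_X_le, (Polynomial.degree_C_le).trans (by norm_num)⟩
      _ < ((2 : ℕ) : WithBot ℕ) := by norm_num
  have hg0 : g.eval 0 ∈ Ideal.span {t} := by
    simp only [g, eval_add, eval_pow, eval_X, eval_C]
    rw [Ideal.mem_span_singleton']
    refine ⟨w * t ^ (n + k) * c, ?_⟩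
    rw [hr]; ring
  have hg1 : IsUnit (Ideal.Quotient.mk (Ideal.span {t}) (g.derivative.eval 0)) := by
    have : g.derivative.eval 0 = 1 := by
      simp [g, derivative_add, derivative_pow]
    rw [this, map_one]; exact isUnit_one
  obtain ⟨z, hz, hz0⟩ := HenselianRing.is_henselian g hgm 0 hg0 hg1
  rw [sub_zero] at hz0
  have hzr : z ^ 2 + (z + r) = 0 := by
    have := hz
    simp only [g, IsRoot.def, eval_add, eval_pow, eval_X, eval_C] at this
    exact this
  obtain ⟨z1, hz1⟩ := Ideal.mem_span_singleton'.mp hz0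
  have hu : IsUnit (z + 1) := by
    have := htj z1
    rw [← hz1]; convert this using 1; ring
  obtain ⟨u, hu'⟩ := hu
  set ui : A := ((u⁻¹ : Aˣ) : A) with hui
  have huu : (z + 1) * ui = 1 := by rw [← hu', hui]; exact Units.mul_inv u
  have hzz : z = -(r * ui) := by
    have h1 : z * (z + 1) = -r := by linear_combination hzr
    calc z = z * ((z + 1) * ui) := by rw [huu, mul_one]
      _ = (z * (z + 1)) * ui := by ring
      _ = -(r * ui) := by rw [h1]; ring
  set d : A := 2 * a' - t ^ n with hd
  have hd2 : d ^ 2 = t ^ (2 * n) * (1 + 4 * t ^ (n + 1 + k) * c) := by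
    rw [hd]
    have e : t ^ (2 * n) * (4 * t ^ (n + 1 + k) * c) = 4 * (t ^ (3 * n + 1 + k) * c) := by
      rw [show 3 * n + 1 + k = 2 * n + (n + 1 + k) by ring, pow_add]; ring
    linear_combination 4 * hc - e
  refine ⟨a' + d * z, d * (-(w * c * ui)), ?_, ?_⟩
  · have key : (a' + d * z) ^ 2 - t ^ n * (a' + d * z)
        = (a' ^ 2 - t ^ n * a') + d ^ 2 * (z ^ 2 + z) := by rw [hd]; ring
    have hz2 : z ^ 2 + z = -r := by linear_combination hzr
    have : (a' + d * z) ^ 2 - t ^ n * (a' + d * z) = 0 := by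
      rw [key, hc, hd2, hz2, hr]
      have e : t ^ (3 * n + 1 + k) = t ^ (2 * n) * t ^ (n + 1 + k) := by
        rw [← pow_add]; congr 1; ring
      rw [e]
      linear_combination (-(t ^ (2 * n) * t ^ (n + 1 + k) * c)) * hvw
    exact sub_eq_zero.mp this
  · rw [hzz, hr]; ring

end Groth.Agent.Lib.Helper83.ProjHens

namespace Groth.Agent.Lib.Helper83.ProjHens

universe u

open scoped IsMulCommutative in
/-- noncommutative Hensel step inside the commutative subalgebra generated by `a'` and `c`. -/
theorem exists_root_nc (A : Type u) [CommRing A] (t : A) [HenselianRing A (Ideal.span {t})]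
    (E : Type u) [Ring E] [Algebra A E] (hint : ∀ x : E, IsIntegral A x)
    (n k : ℕ) (a' c : E) (hcomm : a' * c = c * a')
    (hc : a' ^ 2 - algebraMap A E (t ^ n) * a' = algebraMap A E (t ^ (3 * n + 1 + k)) * c) :
    ∃ a'' y : E, a'' ^ 2 = algebraMap A E (t ^ n) * a'' ∧
      a'' - a' = algebraMap A E (t ^ (n + 1 + k)) * y := by
  have hs : ∀ x ∈ ({a', c} : Set E), ∀ y ∈ ({a', c} : Set E), x * y = y * x := by
    intro x hx y hy
    rcases hx with rfl | rfl <;> rcases hy with rfl | rfl
    · rfl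
    · exact hcomm
    · exact hcomm.symm
    · rfl
  have hmc : IsMulCommutative (Algebra.adjoin A ({a', c} : Set E)) :=
    Algebra.isMulCommutative_adjoin A hs
  have hintB : Algebra.IsIntegral A (Algebra.adjoin A ({a', c} : Set E)) := by
    constructor
    intro x
    exact (isIntegral_algHom_iff (Algebra.adjoin A ({a', c} : Set E)).val
      Subtype.val_injective).mp (hint x)
  have hH := Groth.Agent.Lib.Helper58.HenselPair.henselian_of_isIntegral (A := A)
    (I := Ideal.span {t}) (Algebra.adjoin A ({a', c} : Set E))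
  rw [Ideal.map_span, Set.image_singleton] at hH
  have ha'm : a' ∈ Algebra.adjoin A ({a', c} : Set E) :=
    Algebra.subset_adjoin (Set.mem_insert _ _)
  have hcm : c ∈ Algebra.adjoin A ({a', c} : Set E) :=
    Algebra.subset_adjoin (Set.mem_insert_of_mem _ rfl)
  have hcB : (⟨a', ha'm⟩ : Algebra.adjoin A ({a', c} : Set E)) ^ 2
      - (algebraMap A (Algebra.adjoin A ({a', c} : Set E)) t) ^ n * ⟨a', ha'm⟩
      = (algebraMap A (Algebra.adjoin A ({a', c} : Set E)) t) ^ (3 * n + 1 + k) * ⟨c, hcm⟩ := by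
    apply Subtype.ext
    simp only [Subalgebra.coe_sub, Subalgebra.coe_pow, Subalgebra.coe_mul,
      Subalgebra.coe_algebraMap]
    rw [← map_pow, ← map_pow]
    exact hc
  obtain ⟨a'', y, h1, h2⟩ := exists_root_k (Algebra.adjoin A ({a', c} : Set E))
    (algebraMap A (Algebra.adjoin A ({a', c} : Set E)) t) n k ⟨a', ha'm⟩ ⟨c, hcm⟩ hcB
  refine ⟨a''.1, y.1, ?_, ?_⟩
  · have := congrArg Subtype.val h1
    simp only [Subalgebra.coe_pow, Subalgebra.coe_mul, Subalgebra.coe_algebraMap] at this
    rw [map_pow]; exact this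
  · have := congrArg Subtype.val h2
    simp only [Subalgebra.coe_sub, Subalgebra.coe_pow, Subalgebra.coe_mul,
      Subalgebra.coe_algebraMap] at this
    rw [map_pow]; exact this

end Groth.Agent.Lib.Helper83.ProjHens
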