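import Groth.Agent.Lib.Helper83.ProjHens1
import Groth.Agent.Lib.Helper83.ProjApprox6

set_option autoImplicit false

namespace Groth.Agent.Lib.Helper83.ProjHens

open Groth.Agent.Lib.Helper83.ProjApprox Groth.Agent.Lib.Helper83.ProjMat

universe u

variable {A Ah S Sh : Type u} [CommRing A] [CommRing Ah] [CommRing S] [CommRing Sh]
  [Algebra A Ah] [Algebra A S] [Algebra Ah Sh] [Algebra S Sh]
  (t : A) [IsLocalization.Away t S] [IsLocalization.Away (algebraMap A Ah t) Sh]
  (hφ : ∀ x : A, algebraMap S Sh (algebraMap A S x) = algebraMap Ah Sh (algebraMap A Ah x))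
  (u : Shˣ) (hu : (u : Sh) = algebraMap Ah Sh (algebraMap A Ah t))

include hu in
/-- I1: exact representation of an idempotent matrix over `Sh`. -/
theorem exists_exact_rep {m : ℕ} (Ph : Matrix (Fin m) (Fin m) Sh) (hP : Ph * Ph = Ph) :
    ∃ (n : ℕ) (A₁ : Matrix (Fin m) (Fin m) Ah),
      A₁ * A₁ = (algebraMap A Ah t) ^ n • A₁ ∧
      Ph = (((u⁻¹ : Shˣ) : Sh) ^ n) • A₁.map (algebraMap Ah Sh) := by
  obtain ⟨c, hc⟩ := exists_mfil t u hu Ph
  obtain ⟨A₀, hA₀⟩ := MFil.exists_eq u hc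
  have huc : ((u ^ (-(c : ℤ)) : Shˣ) : Sh) = ((u⁻¹ : Shˣ) : Sh) ^ c := by
    rw [zpow_neg, zpow_natCast, ← inv_pow, Units.val_pow_eq_pow_val]
  rw [huc] at hA₀
  set ui : Sh := ((u⁻¹ : Shˣ) : Sh) with hui
  have huui : (u : Sh) * ui = 1 := by rw [hui, ← Units.val_mul, mul_inv_cancel, Units.val_one]
  set B := A₀.map (algebraMap Ah Sh) with hB
  have hBB : B * B = (u : Sh) ^ c • B := by
    have h1 : ui ^ c • B * (ui ^ c • B) = ui ^ c • B := by rw [← hA₀]; exact hP
    rw [Matrix.smul_mul, Matrix.mul_smul, smul_smul] at h1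
    have h2 := congrArg (fun M => ((u : Sh) ^ c * (u : Sh) ^ c) • M) h1
    simp only [smul_smul] at h2
    have e1 : (u : Sh) ^ c * (u : Sh) ^ c * (ui ^ c * ui ^ c) = 1 := by
      rw [← mul_pow, ← mul_pow, ← mul_pow, mul_mul_mul_comm, huui, one_mul, one_pow]
    have e2 : (u : Sh) ^ c * (u : Sh) ^ c * ui ^ c = (u : Sh) ^ c := by
      rw [mul_assoc, ← mul_pow, huui, one_pow, mul_one]
    rw [e1, e2, one_smul] at h2
    exact h2
  have hent : ∀ i k, algebraMap Ah Sh ((A₀ * A₀) i k)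
      = algebraMap Ah Sh (((algebraMap A Ah t) ^ c • A₀) i k) := by
    intro i k
    have h1 := congrFun (congrFun hBB i) k
    rw [hB, ← Matrix.map_mul, Matrix.map_apply] at h1
    rw [h1, Matrix.smul_apply, Matrix.smul_apply, Matrix.map_apply, smul_eq_mul, smul_eq_mul,
      map_mul, map_pow, hu]
  choose jf hjf using fun i k => IsLocalization.Away.exists_of_eq (algebraMap A Ah t) (hent i k)
  set j := ∑ i, ∑ k, jf i k with hj
  have hjle : ∀ i k, jf i k ≤ j := by
    intro i k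
    have h1 : jf i k ≤ ∑ k', jf i k' := Finset.single_le_sum (f := fun k' => jf i k')
      (fun _ _ => Nat.zero_le _) (Finset.mem_univ k)
    have h2 : ∑ k', jf i k' ≤ ∑ i', ∑ k', jf i' k' := Finset.single_le_sum
      (f := fun i' => ∑ k', jf i' k') (fun _ _ => Nat.zero_le _) (Finset.mem_univ i)
    exact h1.trans h2
  have hjj : ∀ i k, (algebraMap A Ah t) ^ j * (A₀ * A₀) i k
      = (algebraMap A Ah t) ^ j * ((algebraMap A Ah t) ^ c • A₀) i k := by
    intro i k
    obtain ⟨d, hd⟩ := Nat.exists_eq_add_of_le (hjle i k)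
    rw [hd, pow_add, mul_comm ((algebraMap A Ah t) ^ jf i k), mul_assoc, hjf i k, ← mul_assoc]
  refine ⟨c + j, (algebraMap A Ah t) ^ j • A₀, ?_, ?_⟩
  · ext i k
    rw [Matrix.smul_mul, Matrix.mul_smul, Matrix.smul_apply, Matrix.smul_apply, smul_eq_mul,
      smul_eq_mul, hjj i k, Matrix.smul_apply, Matrix.smul_apply, Matrix.smul_apply, smul_eq_mul,
      smul_eq_mul, smul_eq_mul, pow_add]
    ring
  · rw [hA₀, Matrix.map_smul' _ _ _ (map_mul _), map_pow, ← hu, smul_smul, pow_add, mul_assoc,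
      ← mul_pow, mul_comm ui, huui, one_pow, mul_one]

end Groth.Agent.Lib.Helper83.ProjHens
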