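import Groth.Agent.Lib.Helper83.ProjHens2

set_option autoImplicit false

namespace Groth.Agent.Lib.Helper83.ProjHens

open Groth.Agent.Lib.Helper83.ProjApprox Groth.Agent.Lib.Helper83.ProjMat

universe u

variable {A Ah : Type u} [CommRing A] [CommRing Ah] [Algebra A Ah] (t : A)

/-- I2: lift a `t^n`-idempotent matrix over `Ah` to one over `A`. -/
theorem exists_lift_idem [HenselianRing A (Ideal.span {t})]
    (hbd : ∃ N : ℕ, ∀ a : A, (∃ m : ℕ, t ^ m * a = 0) → t ^ N * a = 0)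
    (hdense : ∀ (N : ℕ) (a : Ah), ∃ (a' : A) (y : Ah),
      a - algebraMap A Ah a' = algebraMap A Ah t ^ N * y)
    (hinj : ∀ (N : ℕ) (x : A) (y : Ah), algebraMap A Ah x = algebraMap A Ah t ^ N * y →
      ∃ c : A, x = t ^ N * c)
    {m : ℕ} (n : ℕ) (A₁ : Matrix (Fin m) (Fin m) Ah)
    (hA₁ : A₁ * A₁ = (algebraMap A Ah t) ^ n • A₁) :
    ∃ (a'' : Matrix (Fin m) (Fin m) A) (Y : Matrix (Fin m) (Fin m) Ah),
      a'' * a'' = t ^ n • a'' ∧
      a''.map (algebraMap A Ah) - A₁ = (algebraMap A Ah t) ^ (2 * n + 1) • Y := by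
  obtain ⟨N₀, hN₀⟩ := hbd
  set τ := algebraMap A Ah t with hτ
  set N := 4 * n + 1 + N₀ with hN
  choose a' Y₁ ha' using fun i k => hdense N (A₁ i k)
  set a'M : Matrix (Fin m) (Fin m) A := Matrix.of a' with ha'M
  set Y₁M : Matrix (Fin m) (Fin m) Ah := Matrix.of Y₁ with hY₁M
  have hap : a'M.map (algebraMap A Ah) = A₁ - τ ^ N • Y₁M := by
    ext i k
    rw [Matrix.map_apply, Matrix.sub_apply, Matrix.smul_apply, smul_eq_mul, ha'M, hY₁M,
      Matrix.of_apply, Matrix.of_apply, ← ha' i k]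
    ring
  set ρ := a'M * a'M - t ^ n • a'M with hρ
  have hρmap : ρ.map (algebraMap A Ah)
      = τ ^ N • (-(A₁ * Y₁M) - Y₁M * A₁ + τ ^ N • (Y₁M * Y₁M) + τ ^ n • Y₁M) := by
    rw [hρ, Matrix.map_sub _ (map_sub (algebraMap A Ah)), Matrix.map_mul,
      Matrix.map_smul' _ _ _ (map_mul _), map_pow, ← hτ, hap]
    simp only [Matrix.sub_mul, Matrix.mul_sub, Matrix.smul_mul, Matrix.mul_smul, hA₁]
    module
  have hent : ∀ i k, ∃ c : A, ρ i k = t ^ N * c := by
    intro i k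
    apply hinj N (ρ i k)
      ((-(A₁ * Y₁M) - Y₁M * A₁ + τ ^ N • (Y₁M * Y₁M) + τ ^ n • Y₁M) i k)
    have := congrFun (congrFun hρmap i) k
    rw [Matrix.map_apply, Matrix.smul_apply, smul_eq_mul] at this
    exact this
  choose C' hC' using hent
  set C'M : Matrix (Fin m) (Fin m) A := Matrix.of C' with hC'M
  have hρC : ρ = t ^ N • C'M := by
    ext i k
    rw [Matrix.smul_apply, smul_eq_mul, hC'M, Matrix.of_apply, hC' i k]
  have hcommρ : a'M * ρ = ρ * a'M := by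
    rw [hρ]
    simp only [Matrix.sub_mul, Matrix.mul_sub, Matrix.smul_mul, Matrix.mul_smul, Matrix.mul_assoc]
  have hz : ∀ i k, t ^ N₀ * (a'M * C'M - C'M * a'M) i k = 0 := by
    intro i k
    apply hN₀
    refine ⟨N, ?_⟩
    have h1 : t ^ N • (a'M * C'M - C'M * a'M) = 0 := by
      rw [smul_sub, ← Matrix.mul_smul, ← Matrix.smul_mul, ← hρC, hcommρ, sub_self]
    have := congrFun (congrFun h1 i) k
    rw [Matrix.smul_apply, smul_eq_mul] at this
    exact this
  set C'' := t ^ N₀ • C'M with hC''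
  have hcomm : a'M * C'' = C'' * a'M := by
    rw [hC'', Matrix.mul_smul, Matrix.smul_mul]
    have h1 : t ^ N₀ • (a'M * C'M - C'M * a'M) = 0 := by
      ext i k
      rw [Matrix.smul_apply, smul_eq_mul, hz i k]; rfl
    rw [smul_sub, sub_eq_zero] at h1
    exact h1
  have hρC'' : ρ = t ^ (4 * n + 1) • C'' := by
    rw [hρC, hC'', smul_smul, hN, pow_add]
  have hc : a'M ^ 2 - algebraMap A (Matrix (Fin m) (Fin m) A) (t ^ n) * a'M
      = algebraMap A (Matrix (Fin m) (Fin m) A) (t ^ (3 * n + 1 + n)) * C'' := by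
    rw [pow_two, ← Algebra.smul_def, ← Algebra.smul_def, ← hρ, hρC'']
    congr 2; ring
  obtain ⟨a'', y, h1, h2⟩ := exists_root_nc A t (Matrix (Fin m) (Fin m) A)
    (fun x => Matrix.isIntegral x) n n a'M C'' hcomm hc
  rw [pow_two, ← Algebra.smul_def] at h1
  rw [← Algebra.smul_def] at h2
  have hNle : 2 * n + 1 ≤ N := by omega
  obtain ⟨d, hd⟩ := Nat.exists_eq_add_of_le hNle
  refine ⟨a'', y.map (algebraMap A Ah) - τ ^ d • Y₁M, h1, ?_⟩
  have h3 : a'' = a'M + t ^ (n + 1 + n) • y := by rw [← h2]; abel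
  rw [h3, Matrix.map_add _ (map_add (algebraMap A Ah)), hap, Matrix.map_smul' _ _ _ (map_mul _),
    map_pow, ← hτ, hd, pow_add, show n + 1 + n = 2 * n + 1 by ring]
  module

end Groth.Agent.Lib.Helper83.ProjHens
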