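import Groth.Agent.Lib.Helper83.ProjHens3

set_option autoImplicit false

namespace Groth.Agent.Lib.Helper83.ProjHens

open Groth.Agent.Lib.Helper83.ProjApprox Groth.Agent.Lib.Helper83.ProjMat TensorProduct

universe u

variable {A Ah S Sh : Type u} [CommRing A] [CommRing Ah] [CommRing S] [CommRing Sh]
  [Algebra A Ah] [Algebra A S] [Algebra Ah Sh] [Algebra S Sh]
  (t : A) [IsLocalization.Away t S] [IsLocalization.Away (algebraMap A Ah t) Sh]
  (hφ : ∀ x : A, algebraMap S Sh (algebraMap A S x) = algebraMap Ah Sh (algebraMap A Ah x))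
  (u : Shˣ) (hu : (u : Sh) = algebraMap Ah Sh (algebraMap A Ah t))

include hφ hu in
/-- I3: every idempotent matrix over `Sh` is close to (hence has range isomorphic to) the image
of an idempotent matrix over `S`. -/
theorem idem_descent [HenselianRing A (Ideal.span {t})]
    (hbd : ∃ N : ℕ, ∀ a : A, (∃ m : ℕ, t ^ m * a = 0) → t ^ N * a = 0)
    (hdense : ∀ (N : ℕ) (a : Ah), ∃ (a' : A) (y : Ah),
      a - algebraMap A Ah a' = algebraMap A Ah t ^ N * y)
    (hinj : ∀ (N : ℕ) (x : A) (y : Ah), algebraMap A Ah x = algebraMap A Ah t ^ N * y →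
      ∃ c : A, x = t ^ N * c)
    (hJh : ∀ y : Ah, IsUnit (1 + algebraMap A Ah t * y))
    {m : ℕ} (Ph : Matrix (Fin m) (Fin m) Sh) (hP : Ph * Ph = Ph) :
    ∃ P : Matrix (Fin m) (Fin m) S, P * P = P ∧
      Nonempty (LinearMap.range (P.map (algebraMap S Sh)).mulVecLin ≃ₗ[Sh]
        LinearMap.range Ph.mulVecLin) := by
  obtain ⟨n, A₁, hA₁, hPh⟩ := exists_exact_rep t u hu Ph hP
  obtain ⟨a'', Y, h1, h2⟩ := exists_lift_idem t hbd hdense hinj n A₁ hA₁
  obtain ⟨v, hv⟩ := IsLocalization.Away.algebraMap_isUnit (S := S) t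
  set vi : S := ((v⁻¹ : Sˣ) : S) with hvi
  set ui : Sh := ((u⁻¹ : Shˣ) : Sh) with hui
  have hvvi : algebraMap A S t * vi = 1 := by
    rw [← hv, hvi, ← Units.val_mul, mul_inv_cancel, Units.val_one]
  have huui : (u : Sh) * ui = 1 := by rw [hui, ← Units.val_mul, mul_inv_cancel, Units.val_one]
  have hφvi : algebraMap S Sh vi = ui := by
    have h3 : (u : Sh) * algebraMap S Sh vi = 1 := by
      rw [hu, ← hφ, ← map_mul, hvvi, map_one]
    calc algebraMap S Sh vi = ui * ((u : Sh) * algebraMap S Sh vi) := by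
          rw [← mul_assoc, mul_comm ui, huui, one_mul]
      _ = ui := by rw [h3, mul_one]
  set P : Matrix (Fin m) (Fin m) S := vi ^ n • a''.map (algebraMap A S) with hPdef
  have hPP : P * P = P := by
    rw [hPdef, Matrix.smul_mul, Matrix.mul_smul, ← Matrix.map_mul, h1,
      Matrix.map_smul' _ _ _ (map_mul _), map_pow, smul_smul, smul_smul]
    congr 1
    calc vi ^ n * vi ^ n * algebraMap A S t ^ n = vi ^ n * (algebraMap A S t * vi) ^ n := by
          rw [mul_pow]; ring
      _ = vi ^ n := by rw [hvvi, one_pow, mul_one]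
  have hmapmap : (a''.map (algebraMap A S)).map (algebraMap S Sh)
      = (a''.map (algebraMap A Ah)).map (algebraMap Ah Sh) := by
    ext i k
    simp only [Matrix.map_apply, hφ]
  have hPmap : P.map (algebraMap S Sh)
      = ui ^ n • (a''.map (algebraMap A Ah)).map (algebraMap Ah Sh) := by
    rw [hPdef, Matrix.map_smul' _ _ _ (map_mul _), map_pow, hφvi, hmapmap]
  have hdiff : P.map (algebraMap S Sh) - Ph
      = (u : Sh) ^ (n + 1) • Y.map (algebraMap Ah Sh) := by
    rw [hPmap, hPh, ← smul_sub, ← Matrix.map_sub _ (map_sub (algebraMap Ah Sh)), h2,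
      Matrix.map_smul' _ _ _ (map_mul _), map_pow, ← hu, smul_smul]
    congr 1
    calc ui ^ n * (u : Sh) ^ (2 * n + 1) = ((u : Sh) * ui) ^ n * (u : Sh) ^ (n + 1) := by
          rw [mul_pow, show 2 * n + 1 = n + (n + 1) by ring, pow_add]; ring
      _ = (u : Sh) ^ (n + 1) := by rw [huui, one_pow, one_mul]
  have hd : MFil (Ah := Ah) u ((n : ℤ) + 1) (P.map (algebraMap S Sh) - Ph) := by
    rw [hdiff]
    intro i k
    refine ⟨Y i k, ?_⟩
    rw [Matrix.smul_apply, Matrix.map_apply, smul_eq_mul,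
      show ((n : ℤ) + 1) = ((n + 1 : ℕ) : ℤ) by push_cast; ring, zpow_natCast,
      Units.val_pow_eq_pow_val]
  have hc2 : MFil (Ah := Ah) u (-(n : ℤ)) Ph := by
    rw [hPh]
    intro i k
    refine ⟨A₁ i k, ?_⟩
    rw [Matrix.smul_apply, Matrix.map_apply, smul_eq_mul]
    congr 1
    rw [zpow_neg, zpow_natCast, ← inv_pow, Units.val_pow_eq_pow_val]
  have hc1 : MFil (Ah := Ah) u (-(n : ℤ)) (P.map (algebraMap S Sh)) := by
    have : P.map (algebraMap S Sh) = Ph + (P.map (algebraMap S Sh) - Ph) := by abel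
    rw [this]
    exact MFil.add u hc2 (MFil.mono _ hu (by omega) hd)
  have hP1 : P.map (algebraMap S Sh) * P.map (algebraMap S Sh) = P.map (algebraMap S Sh) := by
    rw [← Matrix.map_mul, hPP]
  obtain ⟨r⟩ := range_equiv_of_close t u hu hJh (P.map (algebraMap S Sh)) Ph hP1 hP n hc1 hc2 hd
  exact ⟨P, hPP, ⟨r.symm⟩⟩

include hφ in
/-- module form: every f.g. projective `Sh`-module descends to `S`. -/
theorem projective_descent [HenselianRing A (Ideal.span {t})]
    (hbd : ∃ N : ℕ, ∀ a : A, (∃ m : ℕ, t ^ m * a = 0) → t ^ N * a = 0)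
    (hdense : ∀ (N : ℕ) (a : Ah), ∃ (a' : A) (y : Ah),
      a - algebraMap A Ah a' = algebraMap A Ah t ^ N * y)
    (hinj : ∀ (N : ℕ) (x : A) (y : Ah), algebraMap A Ah x = algebraMap A Ah t ^ N * y →
      ∃ c : A, x = t ^ N * c)
    (hJh : ∀ y : Ah, IsUnit (1 + algebraMap A Ah t * y))
    (M' : Type u) [AddCommGroup M'] [Module Sh M'] [Module.Finite Sh M'] [Module.Projective Sh M'] :
    ∃ (M : Type u) (_ : AddCommGroup M) (_ : Module S M),
      Module.Finite S M ∧ Module.Projective S M ∧ Nonempty (Sh ⊗[S] M ≃ₗ[Sh] M') := by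
  obtain ⟨u, hu⟩ := IsLocalization.Away.algebraMap_isUnit (S := Sh) (algebraMap A Ah t)
  obtain ⟨m, Ph, hPh, ⟨eM'⟩⟩ := exists_idem_matrix Sh M'
  obtain ⟨P, hPP, ⟨r⟩⟩ := idem_descent t hφ u hu hbd hdense hinj hJh Ph hPh
  obtain ⟨b⟩ := nonempty_baseChange_range S Sh P hPP
  refine ⟨LinearMap.range P.mulVecLin, inferInstance, inferInstance, Module.Finite.range _, ?_,
    ⟨b.trans (r.trans eM'.symm)⟩⟩
  -- projectivity of the range of an idempotent
  have hpi : (LinearMap.codRestrict (LinearMap.range P.mulVecLin) P.mulVecLin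
      (fun v => LinearMap.mem_range_self _ v)) ∘ₗ (LinearMap.range P.mulVecLin).subtype
      = LinearMap.id := by
    apply LinearMap.ext
    rintro ⟨_, w, rfl⟩
    apply Subtype.ext
    change P.mulVec (P.mulVec w) = P.mulVec w
    rw [Matrix.mulVec_mulVec, hPP]
  exact Module.Projective.of_split _ _ hpi

end Groth.Agent.Lib.Helper83.ProjHens
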