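import Groth.Agent.Lib.Helper83.ProjHens4
import Groth.Agent.Lib.Helper83.IdemAway3

set_option autoImplicit false

namespace Groth.Agent.Lib.Helper83.ProjHens

universe u

open TensorProduct

theorem main_S19778 (A : Type u) [CommRing A]
    (t : A) [HenselianRing A (Ideal.span {t})]
    (hbd : ∃ N : ℕ, ∀ a : A, (∃ m : ℕ, t ^ m * a = 0) → t ^ N * a = 0)
    [Algebra (Localization.Away t) (Localization.Away (algebraMap A (AdicCompletion (Ideal.span {t}) A) t))]
    (halg : algebraMap (Localization.Away t) (Localization.Away (algebraMap A (AdicCompletion (Ideal.span {t}) A) t)) = Localization.awayMap (algebraMap A (AdicCompletion (Ideal.span {t}) A)) t)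
    (M' : Type u) [AddCommGroup M'] [Module (Localization.Away (algebraMap A (AdicCompletion (Ideal.span {t}) A) t)) M']
    [Module.Finite (Localization.Away (algebraMap A (AdicCompletion (Ideal.span {t}) A) t)) M'] [Module.Projective (Localization.Away (algebraMap A (AdicCompletion (Ideal.span {t}) A) t)) M'] :
    ∃ (M : Type u) (_ : AddCommGroup M) (_ : Module (Localization.Away t) M),
      Module.Finite (Localization.Away t) M ∧ Module.Projective (Localization.Away t) M ∧
      Nonempty ((Localization.Away (algebraMap A (AdicCompletion (Ideal.span {t}) A) t)) ⊗[Localization.Away t] M ≃ₗ[Localization.Away (algebraMap A (AdicCompletion (Ideal.span {t}) A) t)] M') := by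
  have hφ : ∀ x : A, algebraMap (Localization.Away t)
      (Localization.Away (algebraMap A (AdicCompletion (Ideal.span {t}) A) t))
      (algebraMap A (Localization.Away t) x)
      = algebraMap (AdicCompletion (Ideal.span {t}) A)
        (Localization.Away (algebraMap A (AdicCompletion (Ideal.span {t}) A) t))
        (algebraMap A (AdicCompletion (Ideal.span {t}) A) x) := by
    intro x
    rw [halg]
    exact IsLocalization.map_eq _ x
  have hJh : ∀ y : AdicCompletion (Ideal.span {t}) A,
      IsUnit (1 + algebraMap A (AdicCompletion (Ideal.span {t}) A) t * y) := by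
    intro y
    have := IdemAway.isUnit_one_sub A t (-y)
    convert this using 1
    ring
  exact projective_descent t hφ hbd (IdemAway.hdense_adic A t) (IdemAway.hinj_adic A t) hJh M'

end Groth.Agent.Lib.Helper83.ProjHens
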