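import Mathlib

set_option autoImplicit false

namespace Groth.Agent.Lib.Helper83.ProjLaur

universe u

theorem mem_closure_union_singleton {R₀ : Type u} [CommRing R₀] (W : Submonoid R₀) (x : R₀)
    (n : R₀) (hn : n ∈ Submonoid.closure ((W : Set R₀) ∪ {x})) :
    ∃ w ∈ W, ∃ k : ℕ, n = w * x ^ k := by
  induction hn using Submonoid.closure_induction with
  | mem y hy =>
    rcases hy with hy | hy
    · exact ⟨y, hy, 0, by simp⟩
    · rw [Set.mem_singleton_iff] at hy
      exact ⟨1, W.one_mem, 1, by simp [hy]⟩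
  | one => exact ⟨1, W.one_mem, 0, by simp⟩
  | mul a b _ _ ha hb =>
    obtain ⟨w₁, hw₁, k₁, rfl⟩ := ha
    obtain ⟨w₂, hw₂, k₂, rfl⟩ := hb
    exact ⟨w₁ * w₂, W.mul_mem hw₁ hw₂, k₁ + k₂, by rw [pow_add]; ring⟩

theorem away_of_closure {R₀ : Type u} [CommRing R₀] (W : Submonoid R₀) (x : R₀)
    (L : Type u) [CommRing L] [Algebra R₀ L]
    [IsLocalization (Submonoid.closure ((W : Set R₀) ∪ {x})) L]
    (A : Type u) [CommRing A] [Algebra R₀ A] [IsLocalization W A] [Algebra A L]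
    [IsScalarTower R₀ A L] : IsLocalization.Away (algebraMap R₀ A x) L := by
  have hle : W ≤ Submonoid.closure ((W : Set R₀) ∪ {x}) := fun w hw =>
    Submonoid.subset_closure (Or.inl hw)
  have hxN : x ∈ Submonoid.closure ((W : Set R₀) ∪ {x}) :=
    Submonoid.subset_closure (Or.inr rfl)
  have hloc := IsLocalization.isLocalization_of_submonoid_le A L W
    (Submonoid.closure ((W : Set R₀) ∪ {x})) hle
  have hform : ∀ n' ∈ (Submonoid.closure ((W : Set R₀) ∪ {x})).map (algebraMap R₀ A),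
      ∃ (v : Aˣ) (k : ℕ), n' = (v : A) * (algebraMap R₀ A x) ^ k := by
    rintro _ ⟨n, hn, rfl⟩
    obtain ⟨w, hw, k, rfl⟩ := mem_closure_union_singleton W x n hn
    obtain ⟨v, hv⟩ := IsLocalization.map_units A (⟨w, hw⟩ : W)
    exact ⟨v, k, by rw [map_mul, map_pow, hv]⟩
  apply IsLocalization.Away.mk
  · have := IsLocalization.map_units L (⟨x, hxN⟩ : Submonoid.closure ((W : Set R₀) ∪ {x}))
    rwa [IsScalarTower.algebraMap_apply R₀ A L] at this
  · intro z
    obtain ⟨⟨a₀, ⟨n', hn'⟩⟩, hz⟩ := IsLocalization.surj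
      ((Submonoid.closure ((W : Set R₀) ∪ {x})).map (algebraMap R₀ A)) z
    obtain ⟨v, k, hvk⟩ := hform n' hn'
    refine ⟨k, a₀ * ((v⁻¹ : Aˣ) : A), ?_⟩
    simp only at hz
    rw [hvk, map_mul, map_pow] at hz
    rw [map_mul, ← hz]
    have : algebraMap A L (v : A) * algebraMap A L ((v⁻¹ : Aˣ) : A) = 1 := by
      rw [← map_mul, ← Units.val_mul, mul_inv_cancel, Units.val_one, map_one]
    linear_combination (-(z * algebraMap A L (algebraMap R₀ A x) ^ k)) * this
  · intro a b hab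
    obtain ⟨⟨n', hn'⟩, hc⟩ := (IsLocalization.eq_iff_exists
      ((Submonoid.closure ((W : Set R₀) ∪ {x})).map (algebraMap R₀ A)) L).mp hab
    obtain ⟨v, k, hvk⟩ := hform n' hn'
    refine ⟨k, ?_⟩
    simp only at hc
    rw [hvk] at hc
    have h1 : ((v⁻¹ : Aˣ) : A) * ((v : A) * algebraMap R₀ A x ^ k * a)
        = ((v⁻¹ : Aˣ) : A) * ((v : A) * algebraMap R₀ A x ^ k * b) := by rw [hc]
    have h2 : ((v⁻¹ : Aˣ) : A) * (v : A) = 1 := by
      rw [← Units.val_mul, inv_mul_cancel, Units.val_one]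
    calc algebraMap R₀ A x ^ k * a
        = (((v⁻¹ : Aˣ) : A) * (v : A)) * (algebraMap R₀ A x ^ k * a) := by rw [h2, one_mul]
      _ = ((v⁻¹ : Aˣ) : A) * ((v : A) * algebraMap R₀ A x ^ k * a) := by ring
      _ = ((v⁻¹ : Aˣ) : A) * ((v : A) * algebraMap R₀ A x ^ k * b) := h1
      _ = (((v⁻¹ : Aˣ) : A) * (v : A)) * (algebraMap R₀ A x ^ k * b) := by ring
      _ = algebraMap R₀ A x ^ k * b := by rw [h2, one_mul]

end Groth.Agent.Lib.Helper83.ProjLaur
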