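import Groth.Agent.Lib.Helper83.ProjLaur1
import Groth.Agent.Lib.Helper83.ProjApprox6
import Groth.Agent.Lib.Helper83.IdemPS1

set_option autoImplicit false

namespace Groth.Agent.Lib.Helper83.ProjLaur

universe u

open Polynomial TensorProduct

/-- polynomials with constant coefficient one -/
def W (R : Type u) [CommRing R] : Submonoid R[X] where
  carrier := {f | f.coeff 0 = 1}
  one_mem' := by simp
  mul_mem' := by
    intro a b ha hb
    change a.coeff 0 = 1 at ha
    change b.coeff 0 = 1 at hb
    change (a * b).coeff 0 = 1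
    rw [Polynomial.mul_coeff_zero, ha, hb, one_mul]

theorem main_aux (R : Type u) [CommRing R] (A : Type u) [CommRing A] [Algebra R[X] A]
    [IsLocalization (W R) A]
    (L : Type u) [CommRing L] [Algebra R[X] L]
    [hL : IsLocalization (Submonoid.closure ({f : R[X] | f.coeff 0 = 1} ∪ {X})) L]
    (L' : Type u) [CommRing L'] [Algebra L L'] (e : L' ≃+* LaurentSeries R)
    (he : ∀ p : R[X], e (algebraMap L L' (algebraMap R[X] L p)) =
      HahnSeries.ofPowerSeries ℤ R (Polynomial.coeToPowerSeries.ringHom p)) :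
    (∀ (M N : Type u) [AddCommGroup M] [Module L M] [Module.Finite L M] [Module.Projective L M]
        [AddCommGroup N] [Module L N] [Module.Finite L N] [Module.Projective L N],
        Nonempty (L' ⊗[L] M ≃ₗ[L'] L' ⊗[L] N) → Nonempty (M ≃ₗ[L] N)) ∧
    (∀ (M' : Type u) [AddCommGroup M'] [Module L' M'] [Module.Finite L' M'],
        (∃ n m : ℕ, Nonempty ((M' × (Fin n → L')) ≃ₗ[L'] (Fin m → L'))) →
        ∃ (M : Type u) (_ : AddCommGroup M) (_ : Module L M), Module.Finite L M ∧
          (∃ n m : ℕ, Nonempty ((M × (Fin n → L)) ≃ₗ[L] (Fin m → L))) ∧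
          Nonempty (L' ⊗[L] M ≃ₗ[L'] M')) := by
  have hL2 : IsLocalization (Submonoid.closure (((W R : Submonoid R[X]) : Set R[X]) ∪ {X})) L := hL
  -- algebra structures
  have hgL : ∀ w : W R, IsUnit (algebraMap R[X] L w) := fun w =>
    IsLocalization.map_units L (⟨w.1, Submonoid.subset_closure (Or.inl w.2)⟩ :
      Submonoid.closure (((W R : Submonoid R[X]) : Set R[X]) ∪ {X}))
  let _ : Algebra (A) L := (IsLocalization.lift (M := W R) hgL).toAlgebra
  have _ : IsScalarTower R[X] (A) L :=
    IsScalarTower.of_algebraMap_eq (fun p => (IsLocalization.lift_eq hgL p).symm)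
  have hgP : ∀ w : W R, IsUnit ((Polynomial.coeToPowerSeries.ringHom (R := R)) w) := by
    intro w
    rw [Polynomial.coeToPowerSeries.ringHom_apply, PowerSeries.isUnit_iff_constantCoeff,
      ← PowerSeries.coeff_zero_eq_constantCoeff_apply, Polynomial.coeff_coe]
    have : (w : R[X]).coeff 0 = 1 := w.2
    rw [this]; exact isUnit_one
  let _ : Algebra (A) (PowerSeries R) :=
    (IsLocalization.lift (M := W R) hgP).toAlgebra
  have hι : ∀ p : R[X], algebraMap (A) (PowerSeries R)
      (algebraMap R[X] (A) p) = (p : PowerSeries R) := fun p =>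
    IsLocalization.lift_eq hgP p
  let _ : Algebra (PowerSeries R) L' :=
    ((e.symm : LaurentSeries R →+* L').comp (algebraMap (PowerSeries R) (LaurentSeries R))).toAlgebra
  have hτ : algebraMap (A) (PowerSeries R)
      (algebraMap R[X] (A) X) = PowerSeries.X := by
    rw [hι, Polynomial.coe_X]
  have _ : IsLocalization.Away (algebraMap R[X] (A) X) L :=
    away_of_closure (W R) X L (A)
  have hA1 : IsLocalization.Away (PowerSeries.X : PowerSeries R) L' :=
    IsLocalization.isLocalization_of_algEquiv (Submonoid.powers (PowerSeries.X : PowerSeries R))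
      (AlgEquiv.ofRingEquiv (f := e.symm) (fun x => rfl))
  have _ : IsLocalization.Away (algebraMap (A) (PowerSeries R)
      (algebraMap R[X] (A) X)) L' := hτ ▸ hA1
  -- compatibility
  have hφ : ∀ x : A, algebraMap L L' (algebraMap (A) L x)
      = algebraMap (PowerSeries R) L' (algebraMap (A) (PowerSeries R) x) := by
    have : ((algebraMap L L').comp (algebraMap (A) L))
        = ((algebraMap (PowerSeries R) L').comp
            (algebraMap (A) (PowerSeries R))) := by
      apply IsLocalization.ringHom_ext (W R)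
      apply RingHom.ext
      intro p
      change algebraMap L L' (algebraMap A L (algebraMap R[X] A p))
        = algebraMap (PowerSeries R) L' (algebraMap A (PowerSeries R) (algebraMap R[X] A p))
      rw [← IsScalarTower.algebraMap_apply R[X] A L, hι]
      apply e.injective
      rw [he p]
      change _ = e (e.symm _)
      rw [RingEquiv.apply_symm_apply]
      rfl
    intro x
    exact congrArg (fun f : A →+* L' => f x) this
  have hunitA : ∀ w : W R, IsUnit (algebraMap R[X] A w) := fun w => IsLocalization.map_units A w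
  have hdense : ∀ (N : ℕ) (a : PowerSeries R), ∃ (a' : A) (y : PowerSeries R),
      a - algebraMap A (PowerSeries R) a'
        = algebraMap A (PowerSeries R) (algebraMap R[X] A X) ^ N * y := by
    intro N a
    refine ⟨algebraMap R[X] A (PowerSeries.trunc N a),
      PowerSeries.mk (fun i => PowerSeries.coeff (i + N) a), ?_⟩
    rw [hι, hτ]
    have := IdemPS.decomp a N
    linear_combination this
  have hinj : ∀ (N : ℕ) (x : A) (y : PowerSeries R), algebraMap A (PowerSeries R) x
        = algebraMap A (PowerSeries R) (algebraMap R[X] A X) ^ N * y →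
      ∃ c : A, x = (algebraMap R[X] A X) ^ N * c := by
    intro N x y hxy
    rw [hτ] at hxy
    obtain ⟨⟨p, w⟩, hpw⟩ := IsLocalization.surj (W R) x
    simp only at hpw
    have h1 : (p : PowerSeries R) = PowerSeries.X ^ N * (y * ((w : R[X]) : PowerSeries R)) := by
      have := congrArg (algebraMap A (PowerSeries R)) hpw
      rw [map_mul, hι, hι, hxy] at this
      rw [← this]; ring
    have hdvd : (X : R[X]) ^ N ∣ p := by
      rw [Polynomial.X_pow_dvd_iff]
      intro d hd
      have h2 := congrArg (PowerSeries.coeff d) h1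
      rw [Polynomial.coeff_coe, PowerSeries.coeff_X_pow_mul', if_neg (by omega)] at h2
      exact h2
    obtain ⟨p', rfl⟩ := hdvd
    obtain ⟨v, hv⟩ := hunitA w
    refine ⟨algebraMap R[X] A p' * ((v⁻¹ : Aˣ) : A), ?_⟩
    have h3 : (v : A) * ((v⁻¹ : Aˣ) : A) = 1 := by
      rw [← Units.val_mul, mul_inv_cancel, Units.val_one]
    rw [map_mul, map_pow, ← hv] at hpw
    calc x = x * ((v : A) * ((v⁻¹ : Aˣ) : A)) := by rw [h3, mul_one]
      _ = (x * (v : A)) * ((v⁻¹ : Aˣ) : A) := by ring
      _ = (algebraMap R[X] A X ^ N * algebraMap R[X] A p') * ((v⁻¹ : Aˣ) : A) := by rw [hpw]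
      _ = algebraMap R[X] A X ^ N * (algebraMap R[X] A p' * ((v⁻¹ : Aˣ) : A)) := by ring
  have hJ : ∀ y : A, IsUnit (1 + algebraMap R[X] A X * y) := by
    intro y
    obtain ⟨⟨q, w⟩, hqw⟩ := IsLocalization.surj (W R) y
    simp only at hqw
    have hmem : (w : R[X]) + X * q ∈ W R := by
      change ((w : R[X]) + X * q).coeff 0 = 1
      rw [Polynomial.coeff_add, Polynomial.mul_coeff_zero, Polynomial.coeff_X_zero, zero_mul,
        add_zero]
      exact w.2
    have h1 : (1 + algebraMap R[X] A X * y) * algebraMap R[X] A w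
        = algebraMap R[X] A ((w : R[X]) + X * q) := by
      rw [map_add, map_mul, ← hqw]; ring
    have h2 : IsUnit ((1 + algebraMap R[X] A X * y) * algebraMap R[X] A w) := by
      rw [h1]; exact hunitA ⟨_, hmem⟩
    exact isUnit_of_mul_isUnit_left h2
  have hJh : ∀ y : PowerSeries R,
      IsUnit (1 + algebraMap A (PowerSeries R) (algebraMap R[X] A X) * y) := by
    intro y
    rw [hτ, PowerSeries.isUnit_iff_constantCoeff, map_add, map_one, map_mul,
      PowerSeries.constantCoeff_X, zero_mul, add_zero]
    exact isUnit_one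
  refine ⟨?_, ?_⟩
  · intro M N _ _ _ _ _ _ _ _ ⟨Φ⟩
    exact ProjApprox.iso_of_baseChange_iso (algebraMap R[X] A X) hφ hdense hinj hJ M N Φ
  · intro M' _ _ _ ⟨n, m, ⟨e'⟩⟩
    exact ProjApprox.stablyFree_descent (algebraMap R[X] A X) hφ hdense hinj hJ hJh M' n m e'

theorem main_S15759 (R : Type u) [CommRing R]
    (L : Type u) [CommRing L] [Algebra R[X] L]
    [hL : IsLocalization (Submonoid.closure ({f : R[X] | f.coeff 0 = 1} ∪ {X})) L]
    (L' : Type u) [CommRing L'] [Algebra L L'] (e : L' ≃+* LaurentSeries R)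
    (he : ∀ p : R[X], e (algebraMap L L' (algebraMap R[X] L p)) =
      HahnSeries.ofPowerSeries ℤ R (Polynomial.coeToPowerSeries.ringHom p)) :
    (∀ (M N : Type u) [AddCommGroup M] [Module L M] [Module.Finite L M] [Module.Projective L M]
        [AddCommGroup N] [Module L N] [Module.Finite L N] [Module.Projective L N],
        Nonempty (L' ⊗[L] M ≃ₗ[L'] L' ⊗[L] N) → Nonempty (M ≃ₗ[L] N)) ∧
    (∀ (M' : Type u) [AddCommGroup M'] [Module L' M'] [Module.Finite L' M'],
        (∃ n m : ℕ, Nonempty ((M' × (Fin n → L')) ≃ₗ[L'] (Fin m → L'))) →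
        ∃ (M : Type u) (_ : AddCommGroup M) (_ : Module L M), Module.Finite L M ∧
          (∃ n m : ℕ, Nonempty ((M × (Fin n → L)) ≃ₗ[L] (Fin m → L))) ∧
          Nonempty (L' ⊗[L] M ≃ₗ[L'] M')) :=
  main_aux R (Localization (W R)) L L' e he

end Groth.Agent.Lib.Helper83.ProjLaur
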