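import Mathlib

set_option autoImplicit false

namespace Groth.Agent.Lib.Helper83.ProjMat

universe u

open TensorProduct

section lin

variable {R : Type u} [CommRing R]

/-- `U ≅ range (i ∘ p)` when `p ∘ i = id`. -/
theorem nonempty_equiv_range_of_split {U V : Type*} [AddCommGroup U] [Module R U] [AddCommGroup V]
    [Module R V] (i : U →ₗ[R] V) (p : V →ₗ[R] U) (h : p ∘ₗ i = LinearMap.id) :
    Nonempty (U ≃ₗ[R] LinearMap.range (i ∘ₗ p)) := by
  have hpi : ∀ x, p (i x) = x := fun x => by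
    have := congrArg (fun f : U →ₗ[R] U => f x) h
    simpa using this
  let F : U →ₗ[R] LinearMap.range (i ∘ₗ p) :=
    LinearMap.codRestrict _ i (fun x => ⟨i x, by simp [hpi]⟩)
  refine ⟨LinearEquiv.ofBijective F ⟨?_, ?_⟩⟩
  · intro x y hxy
    have := congrArg (fun z : LinearMap.range (i ∘ₗ p) => p z.1) hxy
    change p (i x) = p (i y) at this
    rwa [hpi, hpi] at this
  · rintro ⟨_, v, rfl⟩
    refine ⟨p v, ?_⟩
    apply Subtype.ext
    rfl

/-- conjugate matrices have isomorphic ranges -/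
theorem nonempty_range_equiv_of_conj {m : Type} [Fintype m] [DecidableEq m]
    (P₁ P₂ W W' : Matrix m m R) (h : P₁ * W = W * P₂) (h1 : W * W' = 1) (h2 : W' * W = 1) :
    Nonempty (LinearMap.range P₂.mulVecLin ≃ₗ[R] LinearMap.range P₁.mulVecLin) := by
  have h' : W' * P₁ = P₂ * W' := by
    calc W' * P₁ = W' * P₁ * (W * W') := by rw [h1, Matrix.mul_one]
      _ = W' * (P₁ * W) * W' := by simp only [Matrix.mul_assoc]
      _ = W' * (W * P₂) * W' := by rw [h]
      _ = (W' * W) * P₂ * W' := by simp only [Matrix.mul_assoc]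
      _ = P₂ * W' := by rw [h2, Matrix.one_mul]
  let F : LinearMap.range P₂.mulVecLin →ₗ[R] LinearMap.range P₁.mulVecLin :=
    LinearMap.codRestrict _ (W.mulVecLin ∘ₗ (LinearMap.range P₂.mulVecLin).subtype) (by
      rintro ⟨_, v, rfl⟩
      refine ⟨W.mulVec v, ?_⟩
      simp only [Matrix.mulVecLin_apply, LinearMap.comp_apply, Submodule.subtype_apply,
        Matrix.mulVec_mulVec, h])
  let G : LinearMap.range P₁.mulVecLin →ₗ[R] LinearMap.range P₂.mulVecLin :=
    LinearMap.codRestrict _ (W'.mulVecLin ∘ₗ (LinearMap.range P₁.mulVecLin).subtype) (by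
      rintro ⟨_, v, rfl⟩
      refine ⟨W'.mulVec v, ?_⟩
      simp only [Matrix.mulVecLin_apply, LinearMap.comp_apply, Submodule.subtype_apply,
        Matrix.mulVec_mulVec, h'])
  refine ⟨LinearEquiv.ofLinearMap F G ?_ ?_⟩
  · ext ⟨x, hx⟩ : 2
    simp [F, G, Matrix.mulVec_mulVec, h1]
  · ext ⟨x, hx⟩ : 2
    simp [F, G, Matrix.mulVec_mulVec, h2]

/-- (L3) -/
theorem nonempty_range_equiv_of_approx {n n' : Type} [Fintype n] [DecidableEq n] [Fintype n']
    [DecidableEq n'] (P : Matrix n n R) (Q : Matrix n' n' R) (X : Matrix n' n R) (Y : Matrix n n' R)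
    (hP : P * P = P) (hQ : Q * Q = Q) (hQX : Q * X = X) (hPY : P * Y = Y)
    (Z : Matrix n n R) (hZ : Z * (Y * X + 1 - P) = 1)
    (Z' : Matrix n' n' R) (hZ'1 : Z' * (X * Y + 1 - Q) = 1) (hZ'2 : (X * Y + 1 - Q) * Z' = 1)
    (hYQ : Y * Q = Y) :
    Nonempty (LinearMap.range P.mulVecLin ≃ₗ[R] LinearMap.range Q.mulVecLin) := by
  let F : LinearMap.range P.mulVecLin →ₗ[R] LinearMap.range Q.mulVecLin :=
    LinearMap.codRestrict _ (X.mulVecLin ∘ₗ (LinearMap.range P.mulVecLin).subtype) (by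
      rintro ⟨v, hv⟩
      refine ⟨X.mulVec v, ?_⟩
      simp only [Matrix.mulVecLin_apply, LinearMap.comp_apply, Submodule.subtype_apply,
        Matrix.mulVec_mulVec, hQX])
  have hPv : ∀ v ∈ LinearMap.range P.mulVecLin, P.mulVec v = v := by
    rintro _ ⟨v, rfl⟩
    simp only [Matrix.mulVecLin_apply, Matrix.mulVec_mulVec, hP]
  have hQw : ∀ w ∈ LinearMap.range Q.mulVecLin, Q.mulVec w = w := by
    rintro _ ⟨v, rfl⟩
    simp only [Matrix.mulVecLin_apply, Matrix.mulVec_mulVec, hQ]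
  refine ⟨LinearEquiv.ofBijective F ⟨?_, ?_⟩⟩
  · rw [← LinearMap.ker_eq_bot, LinearMap.ker_eq_bot']
    rintro ⟨v, hv⟩ hFv
    have h0 : X.mulVec v = 0 := by
      have := congrArg Subtype.val hFv
      simpa [F] using this
    have h1 : (Y * X + 1 - P).mulVec v = 0 := by
      rw [Matrix.sub_mulVec, Matrix.add_mulVec, ← Matrix.mulVec_mulVec, h0, Matrix.mulVec_zero,
        Matrix.one_mulVec, hPv v hv, zero_add, sub_self]
    have h2 : v = 0 := by
      have := congrArg (fun w => Z.mulVec w) h1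
      simp only [Matrix.mulVec_mulVec, hZ, Matrix.one_mulVec, Matrix.mulVec_zero] at this
      exact this
    exact Subtype.ext h2
  · rintro ⟨w, hw⟩
    have hcomm : Z' * Q = Q * Z' := by
      have e1 : (X * Y + 1 - Q) * Q = Q * (X * Y + 1 - Q) := by
        rw [Matrix.sub_mul, Matrix.add_mul, Matrix.mul_sub, Matrix.mul_add, Matrix.one_mul,
          Matrix.mul_one, Matrix.mul_assoc, hYQ, ← Matrix.mul_assoc, hQX]
      calc Z' * Q = Z' * Q * ((X * Y + 1 - Q) * Z') := by rw [hZ'2, Matrix.mul_one]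
        _ = Z' * (Q * (X * Y + 1 - Q)) * Z' := by simp only [Matrix.mul_assoc]
        _ = Z' * ((X * Y + 1 - Q) * Q) * Z' := by rw [e1]
        _ = (Z' * (X * Y + 1 - Q)) * Q * Z' := by simp only [Matrix.mul_assoc]
        _ = Q * Z' := by rw [hZ'1, Matrix.one_mul]
    have hw' : w = X.mulVec ((Y * Z').mulVec w) := by
      have e2 : (X * Y + 1 - Q) * Z' = X * (Y * Z') + Z' - Z' * Q := by
        rw [Matrix.sub_mul, Matrix.add_mul, Matrix.one_mul, Matrix.mul_assoc, hcomm]
      have := congrArg (fun M : Matrix n' n' R => M.mulVec w) hZ'2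
      simp only [Matrix.one_mulVec] at this
      rw [e2, Matrix.sub_mulVec, Matrix.add_mulVec, ← Matrix.mulVec_mulVec w Z' Q, hQw w hw,
        add_sub_cancel_right, ← Matrix.mulVec_mulVec] at this
      exact this.symm
    refine ⟨⟨(Y * Z').mulVec w, ⟨(Y * Z').mulVec w, ?_⟩⟩, ?_⟩
    · simp only [Matrix.mulVecLin_apply, Matrix.mulVec_mulVec, ← Matrix.mul_assoc, hPY]
    · apply Subtype.ext
      simp only [F, LinearMap.codRestrict_apply, LinearMap.comp_apply, Submodule.subtype_apply,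
        Matrix.mulVecLin_apply]
      exact hw'.symm

end lin

end Groth.Agent.Lib.Helper83.ProjMat
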