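import Groth.Agent.Lib.Helper83.ProjMat1

set_option autoImplicit false

namespace Groth.Agent.Lib.Helper83.ProjMat

universe u

open TensorProduct

theorem exists_idem_matrix (S : Type u) [CommRing S] (M : Type u) [AddCommGroup M] [Module S M]
    [Module.Finite S M] [Module.Projective S M] :
    ∃ (n : ℕ) (P : Matrix (Fin n) (Fin n) S), P * P = P ∧
      Nonempty (M ≃ₗ[S] LinearMap.range P.mulVecLin) := by
  obtain ⟨n, f, g, -, -, hfg⟩ := Module.Finite.exists_comp_eq_id_of_projective S M
  refine ⟨n, LinearMap.toMatrix' (g ∘ₗ f), ?_, ?_⟩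
  · rw [← LinearMap.toMatrix'_comp]
    congr 1
    calc (g ∘ₗ f) ∘ₗ (g ∘ₗ f) = g ∘ₗ (f ∘ₗ g) ∘ₗ f := by simp only [LinearMap.comp_assoc]
      _ = g ∘ₗ f := by rw [hfg, LinearMap.id_comp]
  · have h1 : (LinearMap.toMatrix' (g ∘ₗ f)).mulVecLin = g ∘ₗ f := by
      rw [← Matrix.toLin'_apply', Matrix.toLin'_toMatrix']
    rw [h1]
    exact nonempty_equiv_range_of_split g f hfg

theorem nonempty_range_equiv_of_comm {R : Type u} [CommRing R] {V V' : Type u} [AddCommGroup V]
    [Module R V] [AddCommGroup V'] [Module R V'] (e : V ≃ₗ[R] V') (f : V →ₗ[R] V)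
    (f' : V' →ₗ[R] V') (h : e.toLinearMap ∘ₗ f = f' ∘ₗ e.toLinearMap) :
    Nonempty (LinearMap.range f ≃ₗ[R] LinearMap.range f') := by
  have h1 : (LinearMap.range f).map e.toLinearMap = LinearMap.range f' := by
    rw [← LinearMap.range_comp, h, LinearMap.range_comp_of_range_eq_top]
    exact LinearEquiv.range e
  exact ⟨(e.submoduleMap (LinearMap.range f)).trans (LinearEquiv.ofEq _ _ h1)⟩

theorem nonempty_baseChange_range (S Sh : Type u) [CommRing S] [CommRing Sh] [Algebra S Sh]
    {n : ℕ} (P : Matrix (Fin n) (Fin n) S) (hP : P * P = P) :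
    Nonempty (Sh ⊗[S] LinearMap.range P.mulVecLin ≃ₗ[Sh]
      LinearMap.range (P.map (algebraMap S Sh)).mulVecLin) := by
  set π := P.mulVecLin with hπ
  let i : LinearMap.range π →ₗ[S] (Fin n → S) := (LinearMap.range π).subtype
  let p : (Fin n → S) →ₗ[S] LinearMap.range π :=
    LinearMap.codRestrict _ π (fun v => LinearMap.mem_range_self π v)
  have hpi : p ∘ₗ i = LinearMap.id := by
    ext ⟨v, w, rfl⟩ : 2
    change π (π w) = π w
    rw [hπ, Matrix.mulVecLin_apply, Matrix.mulVecLin_apply, Matrix.mulVec_mulVec, hP]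
  have hip : i ∘ₗ p = π := by
    ext v : 1
    rfl
  have hpi' : p.baseChange Sh ∘ₗ i.baseChange Sh = LinearMap.id := by
    rw [← LinearMap.baseChange_comp, hpi, LinearMap.baseChange_id]
  obtain ⟨e1⟩ := nonempty_equiv_range_of_split (i.baseChange Sh) (p.baseChange Sh) hpi'
  rw [← LinearMap.baseChange_comp, hip] at e1
  have hcomm : (TensorProduct.piScalarRight S Sh Sh (Fin n)).toLinearMap ∘ₗ π.baseChange Sh
      = (P.map (algebraMap S Sh)).mulVecLin ∘ₗ
        (TensorProduct.piScalarRight S Sh Sh (Fin n)).toLinearMap := by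
    apply TensorProduct.AlgebraTensorModule.ext
    intro s v
    simp only [LinearMap.comp_apply, LinearEquiv.coe_coe, LinearMap.baseChange_tmul,
      TensorProduct.piScalarRight_apply, TensorProduct.piScalarRightHom_tmul]
    ext j
    simp only [hπ, Matrix.mulVecLin_apply, Matrix.mulVec, dotProduct, Matrix.map_apply,
      Algebra.smul_def, map_sum, map_mul, Finset.sum_mul]
    apply Finset.sum_congr rfl
    intro k _
    ring
  obtain ⟨e2⟩ := nonempty_range_equiv_of_comm (TensorProduct.piScalarRight S Sh Sh (Fin n))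
    (π.baseChange Sh) (P.map (algebraMap S Sh)).mulVecLin hcomm
  exact ⟨e1.trans e2⟩

end Groth.Agent.Lib.Helper83.ProjMat
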