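import Groth.Prelude.Def_W4c6instabfans3FanCvx
import Groth.Agent.Lib.Helper83.FanSeq
import Groth.Agent.Lib.Helper83.ConeCara
import Mathlib

/-!
# The fan of a family of rational polyhedral cones: realization embeds in the sphere (helper83)
Part A: integer linear maps into `ℤ^N`, fibre products, rays.
-/

set_option autoImplicit false
open CategoryTheory Opposite Instab Limits Filter Topology
open Instab Instab.Fan

namespace Groth.Agent.Lib.Helper83.RFanA

open Groth.Agent.Lib.Helper83.FanSub Groth.Agent.Lib.Helper83.FanCone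
  Groth.Agent.Lib.Helper83.FanClosed

variable {N : ℕ}

/-- real extension of an integer linear map `ℤ^n → ℤ^N`. -/
def rmap {n : ICone} (L : (Fin n.dim → ℤ) →ₗ[ℤ] (Fin N → ℤ)) (v : Fin n.dim → ℝ) : Fin N → ℝ :=
  fun j => ∑ i, (L (Pi.single i 1) j : ℝ) * v i

theorem rmap_apply {n : ICone} (L : (Fin n.dim → ℤ) →ₗ[ℤ] (Fin N → ℤ)) (v : Fin n.dim → ℝ)
    (j : Fin N) : rmap L v j = ∑ i, (L (Pi.single i 1) j : ℝ) * v i := rfl

theorem lin_apply {n : ICone} (L : (Fin n.dim → ℤ) →ₗ[ℤ] (Fin N → ℤ)) (w : Fin n.dim → ℤ)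
    (j : Fin N) : L w j = ∑ i, w i * L (Pi.single i 1) j := by
  have h := LinearMap.pi_apply_eq_sum_univ L w
  have h2 : ∀ i : Fin n.dim, (fun j => if i = j then (1 : ℤ) else 0) = Pi.single i 1 := by
    intro i; funext j
    by_cases hij : i = j
    · subst hij; simp
    · simp [hij, Ne.symm hij]
  rw [h]
  simp only [h2, Finset.sum_apply, Pi.smul_apply, smul_eq_mul]

theorem rmap_comp {l n : ICone} (α : l ⟶ n) (L : (Fin n.dim → ℤ) →ₗ[ℤ] (Fin N → ℤ))
    (v : Fin l.dim → ℝ) : rmap (L.comp α.toLin) v = rmap L (α.realMap v) := by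
  funext j
  simp only [rmap_apply, realMap_apply, LinearMap.comp_apply]
  have h1 : ∀ s : Fin l.dim, ((L (α.toLin (Pi.single s 1)) j : ℤ) : ℝ)
      = ∑ i, ((α.toLin (Pi.single s 1) i : ℤ) : ℝ) * ((L (Pi.single i 1) j : ℤ) : ℝ) := by
    intro s
    rw [lin_apply L]
    push_cast
    rfl
  simp_rw [h1, Finset.sum_mul, Finset.mul_sum]
  rw [Finset.sum_comm]
  refine Finset.sum_congr rfl fun i _ => Finset.sum_congr rfl fun s _ => by ring

theorem rmap_smul {n : ICone} (L : (Fin n.dim → ℤ) →ₗ[ℤ] (Fin N → ℤ)) (a : ℝ)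
    (v : Fin n.dim → ℝ) : rmap L (a • v) = a • rmap L v := by
  funext j
  simp only [rmap_apply, Pi.smul_apply, smul_eq_mul, Finset.mul_sum]
  refine Finset.sum_congr rfl fun i _ => by ring

theorem rmap_int {n : ICone} (L : (Fin n.dim → ℤ) →ₗ[ℤ] (Fin N → ℤ)) (z : Fin n.dim → ℤ) :
    rmap L (fun i => (z i : ℝ)) = fun j => (L z j : ℝ) := by
  funext j
  rw [rmap_apply, lin_apply L z j]
  push_cast
  exact Finset.sum_congr rfl fun i _ => mul_comm _ _

/-- `rmap` as a linear map. -/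
def rlin {n : ICone} (L : (Fin n.dim → ℤ) →ₗ[ℤ] (Fin N → ℤ)) : (Fin n.dim → ℝ) →ₗ[ℝ] (Fin N → ℝ) where
  toFun := rmap L
  map_add' v w := by
    funext j
    simp only [rmap_apply, Pi.add_apply, mul_add, Finset.sum_add_distrib]
  map_smul' a v := by simpa using rmap_smul L a v

@[simp] theorem rlin_apply {n : ICone} (L : (Fin n.dim → ℤ) →ₗ[ℤ] (Fin N → ℤ))
    (v : Fin n.dim → ℝ) : rlin L v = rmap L v := rfl

theorem rlin_injective {n : ICone} (L : (Fin n.dim → ℤ) →ₗ[ℤ] (Fin N → ℤ))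
    (hL : Function.Injective L) : Function.Injective (rlin L) := by
  rw [← LinearMap.ker_eq_bot, LinearMap.ker_eq_bot']
  intro p hp
  by_contra hne
  obtain ⟨i, hi⟩ : ∃ i, p i ≠ 0 := by
    by_contra h
    push Not at h
    exact hne (funext h)
  obtain ⟨p', hp', hp'i⟩ : ∃ p' : Fin n.dim → ℝ, rlin L p' = 0 ∧ 0 < p' i := by
    rcases lt_or_gt_of_ne hi with h | h
    · exact ⟨-p, by rw [map_neg, hp, neg_zero], by simpa using h⟩
    · exact ⟨p, hp, h⟩
  obtain ⟨w, hw1, hw2, hw3⟩ := RatCara.exists_int_same_support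
    (fun i j => L (Pi.single i 1) j) p' (fun j => by
      have := congrFun hp' j
      rw [rlin_apply, rmap_apply] at this
      exact this)
  have hw0 : L w = 0 := by
    funext j
    rw [lin_apply]
    have := hw3 j
    simp only [Pi.zero_apply]
    rw [← this]
    exact Finset.sum_congr rfl fun i _ => mul_comm _ _
  have hw : w = 0 := hL (by rw [hw0, map_zero])
  have := hw1 i hp'i
  rw [hw] at this
  simp at this

theorem rmap_injective {n : ICone} (L : (Fin n.dim → ℤ) →ₗ[ℤ] (Fin N → ℤ))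
    (hL : Function.Injective L) : Function.Injective (rmap L) := rlin_injective L hL

theorem rmap_ne_zero {n : ICone} (L : (Fin n.dim → ℤ) →ₗ[ℤ] (Fin N → ℤ))
    (hL : Function.Injective L) (v : Fan.Orth n) : rmap L v.1 ≠ 0 := by
  intro h
  apply v.2.2
  apply rmap_injective L hL
  rw [h]
  exact ((rlin L).map_zero).symm

theorem continuous_rmap {n : ICone} (L : (Fin n.dim → ℤ) →ₗ[ℤ] (Fin N → ℤ)) :
    Continuous (rmap L) := LinearMap.continuous_of_finiteDimensional (rlin L)

/-- Build the two legs of the fibre product from linearly independent integer solutions. -/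
theorem buildL {k k' L : ICone} (A : (Fin k.dim → ℤ) →ₗ[ℤ] (Fin N → ℤ))
    (B : (Fin k'.dim → ℤ) →ₗ[ℤ] (Fin N → ℤ)) (hA : Function.Injective A)
    (hB : Function.Injective B)
    (q : Fin L.dim → (Fin k.dim ⊕ Fin k'.dim) → ℤ)
    (hq1 : ∀ s i, 0 ≤ q s i)
    (hq2 : ∀ s j, ∑ i, (Sum.elim (fun i j => A (Pi.single i 1) j)
      (fun i j => - B (Pi.single i 1) j) i j) * q s i = 0)
    (hind : ∀ m : Fin L.dim → ℤ, (∀ i, ∑ s, m s * q s i = 0) → m = 0) :
    ∃ (α : L ⟶ k) (α' : L ⟶ k'), A.comp α.toLin = B.comp α'.toLin ∧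
      (∀ s i, α.toLin (Pi.single s 1) i = q s (Sum.inl i)) ∧
      (∀ s i, α'.toLin (Pi.single s 1) i = q s (Sum.inr i)) := by
  classical
  let a : Fin L.dim → (Fin k.dim → ℤ) := fun s i => q s (Sum.inl i)
  let b : Fin L.dim → (Fin k'.dim → ℤ) := fun s i => q s (Sum.inr i)
  let αl : (Fin L.dim → ℤ) →ₗ[ℤ] (Fin k.dim → ℤ) := Fintype.linearCombination ℤ a
  let βl : (Fin L.dim → ℤ) →ₗ[ℤ] (Fin k'.dim → ℤ) := Fintype.linearCombination ℤ b
  have hαl : ∀ m i, αl m i = ∑ s, m s * q s (Sum.inl i) := by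
    intro m i
    simp only [αl, Fintype.linearCombination_apply, Finset.sum_apply, Pi.smul_apply, smul_eq_mul, a]
  have hβl : ∀ m i, βl m i = ∑ s, m s * q s (Sum.inr i) := by
    intro m i
    simp only [βl, Fintype.linearCombination_apply, Finset.sum_apply, Pi.smul_apply, smul_eq_mul, b]
  have hab : ∀ s, A (a s) = B (b s) := by
    intro s
    funext j
    rw [lin_apply A, lin_apply B]
    have h := hq2 s j
    rw [Fintype.sum_sum_type] at h
    simp only [Sum.elim_inl, Sum.elim_inr] at h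
    have e1 : ∑ i, a s i * A (Pi.single i 1) j
        = ∑ i, A (Pi.single i 1) j * q s (Sum.inl i) :=
      Finset.sum_congr rfl fun i _ => mul_comm _ _
    have e2 : ∑ i, b s i * B (Pi.single i 1) j
        = - ∑ i, (- B (Pi.single i 1) j) * q s (Sum.inr i) := by
      rw [← Finset.sum_neg_distrib]
      exact Finset.sum_congr rfl fun i _ => by simp only [b]; ring
    rw [e1, e2]; linarith
  have key : ∀ m, A (αl m) = B (βl m) := by
    intro m
    simp only [αl, βl, Fintype.linearCombination_apply, map_sum, map_smul, hab]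
  have hαinj : Function.Injective αl := by
    refine (injective_iff_map_eq_zero αl).2 fun m hm => hind m ?_
    have hm' : βl m = 0 := by
      apply hB
      rw [← key m, hm, map_zero, map_zero]
    rintro (i | i)
    · rw [← hαl, hm]; rfl
    · rw [← hβl, hm']; rfl
  have hβinj : Function.Injective βl := by
    refine (injective_iff_map_eq_zero βl).2 fun m hm => hind m ?_
    have hm' : αl m = 0 := by
      apply hA
      rw [key m, hm, map_zero, map_zero]
    rintro (i | i)
    · rw [← hαl, hm']; rfl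
    · rw [← hβl, hm]; rfl
  refine ⟨⟨αl, hαinj, ?_⟩, ⟨βl, hβinj, ?_⟩, ?_, ?_, ?_⟩
  · intro v hv j
    rw [hαl]
    exact Finset.sum_nonneg fun s _ => mul_nonneg (hv s) (hq1 s _)
  · intro v hv j
    rw [hβl]
    exact Finset.sum_nonneg fun s _ => mul_nonneg (hv s) (hq1 s _)
  · exact LinearMap.ext key
  · intro s i
    change αl (Pi.single s 1) i = _
    rw [hαl, Finset.sum_eq_single s]
    · simp
    · intro t _ hts
      simp [hts]
    · intro h; exact absurd (Finset.mem_univ s) h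
  · intro s i
    change βl (Pi.single s 1) i = _
    rw [hβl, Finset.sum_eq_single s]
    · simp
    · intro t _ hts
      simp [hts]
    · intro h; exact absurd (Finset.mem_univ s) h

theorem exists_fiberL {k k' : ICone} (A : (Fin k.dim → ℤ) →ₗ[ℤ] (Fin N → ℤ))
    (B : (Fin k'.dim → ℤ) →ₗ[ℤ] (Fin N → ℤ)) (hA : Function.Injective A)
    (hB : Function.Injective B) (y : Fan.Orth k) (y' : Fan.Orth k')
    (c : ℝ) (hc : 0 < c) (h : c • rmap A y.1 = rmap B y'.1) :
    ∃ (l : ICone) (α : l ⟶ k) (α' : l ⟶ k') (z : Fan.Orth l),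
      A.comp α.toLin = B.comp α'.toLin ∧ c • y.1 = α.realMap z.1 ∧ y'.1 = α'.realMap z.1 := by
  classical
  let M : (Fin k.dim ⊕ Fin k'.dim) → Fin N → ℤ :=
    Sum.elim (fun i j => A (Pi.single i 1) j) (fun i j => - B (Pi.single i 1) j)
  let p : (Fin k.dim ⊕ Fin k'.dim) → ℝ := Sum.elim (c • y.1) (y'.1)
  have hM : ∀ j, ∑ i, (M i j : ℝ) * p i = 0 := by
    intro j
    have hj := congrFun h j
    simp only [Pi.smul_apply, smul_eq_mul, rmap_apply] at hj
    rw [Fintype.sum_sum_type]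
    simp only [M, p, Sum.elim_inl, Sum.elim_inr, Pi.smul_apply, smul_eq_mul, Int.cast_neg]
    have h1 : ∑ i, ((A (Pi.single i 1) j : ℤ) : ℝ) * (c * y.1 i)
        = c * ∑ i, ((A (Pi.single i 1) j : ℤ) : ℝ) * y.1 i := by
      rw [Finset.mul_sum]; exact Finset.sum_congr rfl fun i _ => by ring
    have h2 : ∑ i, -((B (Pi.single i 1) j : ℤ) : ℝ) * (y'.1 i)
        = - (∑ i, ((B (Pi.single i 1) j : ℤ) : ℝ) * y'.1 i) := by
      rw [← Finset.sum_neg_distrib]; exact Finset.sum_congr rfl fun i _ => by ring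
    rw [h1, h2, hj]; ring
  have hp : ∀ i, 0 ≤ p i := by
    rintro (i | i)
    · exact mul_nonneg hc.le (y.2.1 i)
    · exact y'.2.1 i
  obtain ⟨l, q, z, hq1, hq2, hz, hpz, hind⟩ := RatCara.caratheodory M _ p rfl hp hM
  rcases l with _ | l
  · exfalso
    apply y.2.2
    funext i
    have h1 := hpz (Sum.inl i)
    simp only [p, Sum.elim_inl, Pi.smul_apply, smul_eq_mul, Finset.univ_eq_empty,
      Finset.sum_empty] at h1
    rcases mul_eq_zero.1 h1 with h2 | h2
    · exact absurd h2 hc.ne'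
    · exact h2
  · let L : ICone := ⟨⟨l + 1, Nat.succ_pos l⟩⟩
    obtain ⟨α, α', hcomm, hα, hα'⟩ := buildL (L := L) A B hA hB q hq1 hq2 hind
    let z' : Fan.Orth L := ⟨z, fun s => (hz s).le, fun h0 => (hz 0).ne' (congrFun h0 0)⟩
    refine ⟨L, α, α', z', hcomm, ?_, ?_⟩
    · funext i
      rw [realMap_apply]
      simp_rw [hα]
      have h1 := hpz (Sum.inl i)
      simp only [p, Sum.elim_inl] at h1
      rw [h1]
      exact Finset.sum_congr rfl fun s _ => mul_comm _ _
    · funext i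
      rw [realMap_apply]
      simp_rw [hα']
      have h1 := hpz (Sum.inr i)
      simp only [p, Sum.elim_inr] at h1
      rw [h1]
      exact Finset.sum_congr rfl fun s _ => mul_comm _ _

end Groth.Agent.Lib.Helper83.RFanA
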