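import Groth.Prelude.Def_W4c6instabfans3FanCvx
import Groth.Agent.Lib.Helper83.RFanA
import Mathlib

/-!
# The fan of a family of rational polyhedral cones: realization embeds in the sphere (helper83)
Part B: rays, the map `g`, injectivity, continuity.
-/

set_option autoImplicit false
open CategoryTheory Opposite Instab Limits Filter Topology
open Instab Instab.Fan

namespace Groth.Agent.Lib.Helper83.RFanB

open Groth.Agent.Lib.Helper83.FanSub Groth.Agent.Lib.Helper83.FanMap Groth.Agent.Lib.Helper83.FanCone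
  Groth.Agent.Lib.Helper83.FanClosed Groth.Agent.Lib.Helper83.RFanA

variable {N : ℕ}

/-- the relation defining rays. -/
def rayRel (N : ℕ) (v w : {v : Fin N → ℝ // v ≠ 0}) : Prop := ∃ c : ℝ, 0 < c ∧ w.1 = c • v.1

theorem rayRel_equiv : Equivalence (rayRel N) where
  refl v := ⟨1, one_pos, by rw [one_smul]⟩
  symm := by
    rintro v w ⟨c, hc, h⟩
    exact ⟨c⁻¹, inv_pos.2 hc, by rw [h, smul_smul, inv_mul_cancel₀ hc.ne', one_smul]⟩
  trans := by
    rintro u v w ⟨c, hc, h⟩ ⟨d, hd, h'⟩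
    exact ⟨d * c, mul_pos hd hc, by rw [h', h, smul_smul]⟩

/-- the ray of a nonzero vector. -/
def ray (w : {v : Fin N → ℝ // v ≠ 0}) : Fan.Rays N := Quot.mk _ w

theorem ray_eq_iff (v w : {v : Fin N → ℝ // v ≠ 0}) :
    ray v = ray w ↔ ∃ c : ℝ, 0 < c ∧ w.1 = c • v.1 := by
  constructor
  · intro h
    have h1 : Relation.EqvGen (rayRel N) v w := Quot.eqvGen_exact h
    exact (rayRel_equiv (N := N)).eqvGen_iff.1 h1
  · intro h
    exact Quot.sound h

theorem continuous_ray : Continuous (ray (N := N)) := continuous_quot_mk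

/-- ℓ¹ size. -/
def sz (w : Fin N → ℝ) : ℝ := ∑ j, |w j|

theorem sz_pos {w : Fin N → ℝ} (hw : w ≠ 0) : 0 < sz w := by
  obtain ⟨i, hi⟩ : ∃ i, w i ≠ 0 := by
    by_contra h
    push Not at h
    exact hw (funext h)
  exact Finset.sum_pos' (fun j _ => abs_nonneg _) ⟨i, Finset.mem_univ i, abs_pos.2 hi⟩

theorem sz_smul (c : ℝ) (hc : 0 < c) (w : Fin N → ℝ) : sz (c • w) = c * sz w := by
  unfold sz
  rw [Finset.mul_sum]
  refine Finset.sum_congr rfl fun j _ => ?_
  rw [Pi.smul_apply, smul_eq_mul, abs_mul, abs_of_pos hc]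

theorem continuous_sz : Continuous (sz (N := N)) := by
  unfold sz
  exact continuous_finsetSum _ fun j _ => (continuous_apply j).abs

/-- normalization of rays. -/
noncomputable def nu : Fan.Rays N → (Fin N → ℝ) :=
  Quot.lift (fun w : {v : Fin N → ℝ // v ≠ 0} => (sz w.1)⁻¹ • w.1) (by
    rintro v w ⟨c, hc, h⟩
    rw [h, sz_smul c hc, smul_smul, mul_inv, mul_assoc, mul_comm (sz v.1)⁻¹, ← mul_assoc,
      inv_mul_cancel₀ hc.ne', one_mul])

theorem continuous_nu : Continuous (nu (N := N)) := by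
  apply continuous_quot_lift
  exact ((continuous_sz.comp continuous_subtype_val).inv₀ fun w => (sz_pos w.2).ne').smul
    continuous_subtype_val

theorem nu_injective : Function.Injective (nu (N := N)) := by
  intro r r' h
  induction r using Quot.ind with
  | mk v =>
  induction r' using Quot.ind with
  | mk w =>
  change (sz v.1)⁻¹ • v.1 = (sz w.1)⁻¹ • w.1 at h
  apply Quot.sound
  refine ⟨sz w.1 * (sz v.1)⁻¹, mul_pos (sz_pos w.2) (inv_pos.2 (sz_pos v.2)), ?_⟩
  rw [mul_smul, h, smul_smul, mul_inv_cancel₀ (sz_pos w.2).ne', one_smul]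

instance : T2Space (Fan.Rays N) := T2Space.of_injective_continuous nu_injective continuous_nu

variable {ι : Type} (K : ι → Set (Fin N → ℝ))

theorem toVec_eq (n : ICone) (φ : RFan.Cone K n) (v : Fin n.dim → ℝ) :
    RFan.toVec K n φ v = rmap φ.1 v := rfl

theorem toVec_ne_zero (n : ICone) (φ : RFan.Cone K n) (v : Fan.Orth n) :
    RFan.toVec K n φ v.1 ≠ 0 := rmap_ne_zero φ.1 φ.2.1 v

theorem map_val {n k : ICone} (ψ : k ⟶ n) (ξ : (RFan K).obj (op n)) :
    ((RFan K).map ψ.op ξ).1 = ξ.1.comp ψ.toLin := rfl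

/-- the map on points of the disjoint union. -/
def g₀ (p : Fan.Pt (RFan K)) : Fan.Rays N :=
  ray ⟨RFan.toVec K p.1.1 p.1.2 p.2.1, toVec_ne_zero K p.1.1 p.1.2 p.2⟩

/-- the canonical map to rays. -/
def g : Fan.P (RFan K) → Fan.Rays N :=
  Quot.lift (g₀ K) (by
    rintro _ _ ⟨ψ, ξ, v, w, c, hc, h⟩
    unfold g₀
    rw [ray_eq_iff]
    refine ⟨c, hc, ?_⟩
    change RFan.toVec K _ ξ w.1 = c • RFan.toVec K _ ((RFan K).map ψ.op ξ) v.1
    rw [toVec_eq, toVec_eq, map_val, rmap_comp, h, rmap_smul])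

theorem g_mk {n : ICone} (φ : (RFan K).obj (op n)) (v : Fan.Orth n) :
    g K (Fan.P.mk φ v) = ray ⟨RFan.toVec K n φ v.1, toVec_ne_zero K n φ v⟩ := rfl

theorem continuous_g : Continuous (g K) := by
  apply continuous_quot_lift
  refine (continuous_sigma_iff (f := fun p : (Σ e : (Σ n : ICone, (RFan K).obj (op n)), Fan.Orth e.1) =>
    g₀ K p)).2 ?_
  rintro ⟨n, φ⟩
  refine continuous_ray.comp (Continuous.subtype_mk ?_ _)
  exact (continuous_rmap φ.1).comp continuous_subtype_val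

theorem g_injective : Function.Injective (g K) := by
  intro x x' h
  obtain ⟨n, φ, v, rfl⟩ := exists_mk x
  obtain ⟨n', φ', v', rfl⟩ := exists_mk x'
  rw [g_mk, g_mk, ray_eq_iff] at h
  obtain ⟨c, hc, hcv⟩ := h
  change RFan.toVec K n' φ' v'.1 = c • RFan.toVec K n φ v.1 at hcv
  rw [toVec_eq, toVec_eq] at hcv
  obtain ⟨l, α, α', z, hcomm, hz, hz'⟩ := exists_fiberL φ.1 φ'.1 φ.2.1 φ'.2.1 v v' c hc hcv.symm
  have e : (RFan K).map α.op φ = (RFan K).map α'.op φ' := Subtype.ext hcomm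
  rw [← mk_glue α φ z v c⁻¹ (inv_pos.2 hc) (by
      rw [← hz, smul_smul, inv_mul_cancel₀ hc.ne', one_smul]),
    ← mk_glue α' φ' z v' 1 one_pos (by rw [one_smul]; exact hz'), e]

end Groth.Agent.Lib.Helper83.RFanB
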