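import Groth.Prelude.Def_W4c6instabfans3FanCvx
import Groth.Agent.Lib.Helper83.RFanB
import Mathlib

/-!
# The fan of a family of rational polyhedral cones: realization embeds in the sphere (helper83)
Part C: image and compactness; main theorem.
-/

set_option autoImplicit false
open CategoryTheory Opposite Instab Limits Filter Topology
open Instab Instab.Fan

namespace Groth.Agent.Lib.Helper83.RFanC

open Groth.Agent.Lib.Helper83.FanSub Groth.Agent.Lib.Helper83.FanMap Groth.Agent.Lib.Helper83.FanCone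
  Groth.Agent.Lib.Helper83.FanClosed Groth.Agent.Lib.Helper83.FanTop Groth.Agent.Lib.Helper83.FanInj
  Groth.Agent.Lib.Helper83.FanSeq
  Groth.Agent.Lib.Helper83.RFanA Groth.Agent.Lib.Helper83.RFanB Groth.Agent.Lib.Helper83.ConeCara

variable {N : ℕ}

/-- integer vector as a real vector. -/
def castV (g : Fin N → ℤ) : Fin N → ℝ := fun j => (g j : ℝ)

/-- dimension cone of a nonempty finite set. -/
def dimJ (J : Finset (Fin N → ℤ)) (hne : J.Nonempty) : ICone := ⟨⟨J.card, Finset.card_pos.2 hne⟩⟩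

/-- enumeration equivalence. -/
noncomputable def eqv (J : Finset (Fin N → ℤ)) (hne : J.Nonempty) : J ≃ Fin (dimJ J hne).dim :=
  J.equivFin

/-- enumeration of a finite set of integer vectors. -/
noncomputable def vecJ (J : Finset (Fin N → ℤ)) (hne : J.Nonempty) (i : Fin (dimJ J hne).dim) :
    Fin N → ℤ :=
  ((eqv J hne).symm i).1

theorem vecJ_mem (J : Finset (Fin N → ℤ)) (hne : J.Nonempty) (i : Fin (dimJ J hne).dim) :
    vecJ J hne i ∈ J := ((eqv J hne).symm i).2

theorem sum_vecJ {V : Type*} [AddCommMonoid V] (J : Finset (Fin N → ℤ)) (hne : J.Nonempty)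
    (F : (Fin N → ℤ) → V) : ∑ i, F (vecJ J hne i) = ∑ g ∈ J, F g := by
  rw [← Finset.sum_coe_sort J F]
  exact Equiv.sum_comp (eqv J hne).symm (fun g : J => F g.1)

/-- coefficient function on vectors from a coefficient function on indices. -/
noncomputable def lamOf (J : Finset (Fin N → ℤ)) (hne : J.Nonempty) (r : Fin (dimJ J hne).dim → ℝ)
    (g : Fin N → ℤ) : ℝ :=
  if h : g ∈ J then r (eqv J hne ⟨g, h⟩) else 0

theorem lamOf_vecJ (J : Finset (Fin N → ℤ)) (hne : J.Nonempty) (r : Fin (dimJ J hne).dim → ℝ)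
    (i : Fin (dimJ J hne).dim) : lamOf J hne r (vecJ J hne i) = r i := by
  unfold lamOf
  rw [dif_pos (vecJ_mem J hne i)]
  congr 1
  exact (eqv J hne).apply_symm_apply i

theorem lamOf_nonneg (J : Finset (Fin N → ℤ)) (hne : J.Nonempty) (r : Fin (dimJ J hne).dim → ℝ)
    (hr : ∀ i, 0 ≤ r i) (g : Fin N → ℤ) : 0 ≤ lamOf J hne r g := by
  unfold lamOf
  split_ifs
  · exact hr _
  · exact le_rfl

/-- the integer linear map with columns the vectors of `J`. -/
noncomputable def linJ (J : Finset (Fin N → ℤ)) (hne : J.Nonempty) :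
    (Fin (dimJ J hne).dim → ℤ) →ₗ[ℤ] (Fin N → ℤ) :=
  Fintype.linearCombination ℤ (fun i : Fin (dimJ J hne).dim => vecJ J hne i)

theorem linJ_single (J : Finset (Fin N → ℤ)) (hne : J.Nonempty) (i : Fin (dimJ J hne).dim) :
    linJ J hne (Pi.single i 1) = vecJ J hne i := by
  classical
  unfold linJ
  rw [Fintype.linearCombination_apply_single, one_smul]

theorem rmap_linJ (J : Finset (Fin N → ℤ)) (hne : J.Nonempty) (r : Fin (dimJ J hne).dim → ℝ) :
    rmap (linJ J hne) r = ∑ g ∈ J, lamOf J hne r g • castV g := by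
  rw [← sum_vecJ J hne (fun g => lamOf J hne r g • castV g)]
  funext j
  rw [rmap_apply, Finset.sum_apply]
  refine Finset.sum_congr rfl fun i _ => ?_
  rw [linJ_single, lamOf_vecJ, Pi.smul_apply, smul_eq_mul, mul_comm]
  rfl

theorem linJ_injective (J : Finset (Fin N → ℤ)) (hne : J.Nonempty) (hind : Indep castV J) :
    Function.Injective (linJ J hne) := by
  refine (injective_iff_map_eq_zero (linJ J hne)).2 fun z hz => ?_
  have h1 : rmap (linJ J hne) (fun i => (z i : ℝ)) = 0 := by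
    rw [rmap_int, hz]
    funext j
    simp
  rw [rmap_linJ] at h1
  have h2 := hind _ h1
  funext i
  have h3 := h2 (vecJ J hne i) (vecJ_mem J hne i)
  rw [lamOf_vecJ] at h3
  simpa using h3

variable {ι : Type} (K : ι → Set (Fin N → ℝ)) (m : ι → ℕ)
  (gen : ∀ a, Fin (m a) → Finset (Fin N → ℤ))
  (hgen : ∀ a, K a = ⋃ l, cone castV (gen a l))

include hgen in
theorem isClosed_K (a : ι) : IsClosed (K a) := by
  classical
  rw [hgen a]
  exact isClosed_iUnion_of_finite fun l => isClosed_cone castV (gen a l)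

include hgen in
theorem smul_mem_K (a : ι) {x : Fin N → ℝ} (hx : x ∈ K a) {t : ℝ} (ht : 0 ≤ t) : t • x ∈ K a := by
  rw [hgen a] at hx ⊢
  obtain ⟨l, hl⟩ := Set.mem_iUnion.1 hx
  exact Set.mem_iUnion.2 ⟨l, smul_mem_cone castV _ hl ht⟩

include hgen in
theorem rmap_mem_K {n : ICone} (φ : RFan.Cone K n) (a : ι)
    (ha : ∀ v : Fin n.dim → ℤ, (∀ i, 0 ≤ v i) → (fun j => (φ.1 v j : ℝ)) ∈ K a) (v : Fan.Orth n) :
    rmap φ.1 v.1 ∈ K a := by
  have hcl : IsClosed {v : Fan.Orth n | rmap φ.1 v.1 ∈ K a} :=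
    (isClosed_K K m gen hgen a).preimage ((continuous_rmap φ.1).comp continuous_val)
  refine eq_univ_of_int _ hcl ?_ ?_ v
  · intro v w hv c hc hw
    change rmap φ.1 w.1 ∈ K a
    rw [hw, rmap_smul]
    exact smul_mem_K K m gen hgen a hv hc.le
  · intro z hz hz0
    change rmap φ.1 (fun i => (z i : ℝ)) ∈ K a
    rw [rmap_int]
    exact ha z hz

include hgen in
/-- the simplicial cone of `R(K)` spanned by a linearly independent subset of generators. -/
noncomputable def coneJ (a : ι) (l : Fin (m a)) (J : Finset (Fin N → ℤ)) (hJ : J ⊆ gen a l)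
    (hne : J.Nonempty) (hind : Indep castV J) : (RFan K).obj (op (dimJ J hne)) :=
  ⟨linJ J hne, linJ_injective J hne hind, a, fun v hv => by
    classical
    have h1 : (fun j => (linJ J hne v j : ℝ)) = rmap (linJ J hne) (fun i => (v i : ℝ)) :=
      (rmap_int _ v).symm
    rw [h1, rmap_linJ, hgen a]
    refine Set.mem_iUnion.2 ⟨l, cone_mono castV hJ ⟨lamOf J hne (fun i => (v i : ℝ)), ?_, rfl⟩⟩
    exact lamOf_nonneg J hne _ fun i => by exact_mod_cast hv i⟩

include hgen in
theorem exists_simplicial (a : ι) (w : Fin N → ℝ) (hw0 : w ≠ 0) (hw : w ∈ K a) :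
    ∃ (l : Fin (m a)) (J : Finset (Fin N → ℤ)) (_ : J ⊆ gen a l) (hne : J.Nonempty)
      (_ : Indep castV J) (v' : Fan.Orth (dimJ J hne)), rmap (linJ J hne) v'.1 = w := by
  classical
  rw [hgen a] at hw
  obtain ⟨l, c, hc, rfl⟩ := Set.mem_iUnion.1 hw
  obtain ⟨J, hJ, c', hc', hsum, hind⟩ := caratheodory castV (gen a l) c hc
  have hne : J.Nonempty := by
    rw [Finset.nonempty_iff_ne_empty]
    rintro rfl
    rw [Finset.sum_empty] at hsum
    exact hw0 hsum.symm
  have hpos : ∀ i : Fin (dimJ J hne).dim, 0 < c' (vecJ J hne i) := fun i => hc' _ (vecJ_mem J hne i)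
  let v' : Fan.Orth (dimJ J hne) := ⟨fun i => c' (vecJ J hne i), fun i => (hpos i).le, fun h0 => by
    have := congrFun h0 ⟨0, (dimJ J hne).dim.pos⟩
    exact (hpos _).ne' this⟩
  refine ⟨l, J, hJ, hne, hind, v', ?_⟩
  rw [← hsum, rmap_linJ]
  refine Finset.sum_congr rfl fun g hg => ?_
  have : lamOf J hne (fun i => c' (vecJ J hne i)) g = c' g := by
    unfold lamOf
    rw [dif_pos hg]
    change c' (vecJ J hne (eqv J hne ⟨g, hg⟩)) = c' g
    unfold vecJ
    rw [Equiv.symm_apply_apply]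
  change lamOf J hne (fun i => c' (vecJ J hne i)) g • castV g = _
  rw [this]

include hgen in
theorem range_g :
    Set.range (g K) = {r | ∃ w : {w : Fin N → ℝ // w ≠ 0}, r = Quot.mk _ w ∧ w.1 ∈ Set.iUnion K} := by
  ext r
  constructor
  · rintro ⟨x, rfl⟩
    obtain ⟨n, φ, v, rfl⟩ := exists_mk x
    obtain ⟨a, ha⟩ := φ.2.2
    refine ⟨⟨RFan.toVec K n φ v.1, toVec_ne_zero K n φ v⟩, rfl, Set.mem_iUnion.2 ⟨a, ?_⟩⟩
    exact rmap_mem_K K m gen hgen φ a ha v
  · rintro ⟨w, rfl, hw⟩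
    obtain ⟨a, ha⟩ := Set.mem_iUnion.1 hw
    obtain ⟨l, J, hJ, hne, hind, v', hv'⟩ := exists_simplicial K m gen hgen a w.1 w.2 ha
    refine ⟨Fan.P.mk (coneJ K m gen hgen a l J hJ hne hind) v', ?_⟩
    rw [g_mk]
    congr 1
    exact Subtype.ext hv'

theorem isCompact_cell {F : Fan.{0}} {n : ICone} (φ : F.obj (op n)) : IsCompact (Fan.P.cell φ) := by
  have h1 : IsCompact {v : Fan.Orth n | v.1 ∈ stdSimplex ℝ (Fin n.dim)} := by
    have hemb : Topology.IsEmbedding (fun v : Fan.Orth n => v.1) := Topology.IsEmbedding.subtypeVal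
    rw [hemb.isCompact_iff]
    have : (fun v : Fan.Orth n => v.1) '' {v : Fan.Orth n | v.1 ∈ stdSimplex ℝ (Fin n.dim)}
        = stdSimplex ℝ (Fin n.dim) := by
      ext w
      constructor
      · rintro ⟨v, hv, rfl⟩
        exact hv
      · intro hw
        have hw0 : w ≠ 0 := by
          rintro rfl
          have := hw.2
          simp at this
        exact ⟨⟨w, hw.1, hw0⟩, hw, rfl⟩
    rw [this]
    exact isCompact_stdSimplex ℝ (Fin n.dim)
  have h2 : Fan.P.cell φ = Fan.P.mk φ '' {v : Fan.Orth n | v.1 ∈ stdSimplex ℝ (Fin n.dim)} := by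
    ext x
    constructor
    · rintro ⟨v, rfl⟩
      exact ⟨nrm v, mem_stdSimplex_nrm v, mk_nrm φ v⟩
    · rintro ⟨v, _, rfl⟩
      exact ⟨v, rfl⟩
  rw [h2]
  exact h1.image (continuous_mk φ)

include hgen in
theorem compactSpace [Finite ι] : CompactSpace (Fan.P (RFan K)) := by
  classical
  let C : ∀ a : ι, Fin (m a) → Finset (Fin N → ℤ) → Set (Fan.P (RFan K)) := fun a l J =>
    {x | ∃ (hJ : J ⊆ gen a l) (hne : J.Nonempty) (hind : Indep castV J),
      x ∈ Fan.P.cell (coneJ K m gen hgen a l J hJ hne hind)}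
  have hC : ∀ a l J, IsCompact (C a l J) := by
    intro a l J
    by_cases h : J ⊆ gen a l ∧ J.Nonempty ∧ Indep castV J
    · obtain ⟨hJ, hne, hind⟩ := h
      have : C a l J = Fan.P.cell (coneJ K m gen hgen a l J hJ hne hind) := by
        ext x
        exact ⟨fun ⟨_, _, _, hx⟩ => hx, fun hx => ⟨hJ, hne, hind, hx⟩⟩
      rw [this]
      exact isCompact_cell _
    · have : C a l J = ∅ := by
        ext x
        simp only [C, Set.mem_ofPred_eq, Set.mem_empty_iff_false, iff_false]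
        rintro ⟨hJ, hne, hind, _⟩
        exact h ⟨hJ, hne, hind⟩
      rw [this]
      exact isCompact_empty
  have hcov : (Set.univ : Set (Fan.P (RFan K)))
      = ⋃ a, ⋃ l, ⋃ J ∈ (gen a l).powerset, C a l J := by
    symm
    rw [Set.eq_univ_iff_forall]
    intro x
    obtain ⟨n, φ, v, rfl⟩ := exists_mk x
    obtain ⟨a, ha⟩ := φ.2.2
    have hw := rmap_mem_K K m gen hgen φ a ha v
    obtain ⟨l, J, hJ, hne, hind, v', hv'⟩ :=
      exists_simplicial K m gen hgen a _ (rmap_ne_zero φ.1 φ.2.1 v) hw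
    simp only [Set.mem_iUnion]
    refine ⟨a, l, J, Finset.mem_powerset.2 hJ, hJ, hne, hind, v', ?_⟩
    apply g_injective K
    rw [g_mk, g_mk]
    congr 1
    exact Subtype.ext hv'
  refine ⟨?_⟩
  rw [hcov]
  exact isCompact_iUnion fun a => isCompact_iUnion fun l =>
    (gen a l).powerset.isCompact_biUnion fun J _ => hC a l J

/-- S19372 -/
theorem main {N : ℕ} {ι : Type} [Finite ι] (K : ι → Set (Fin N → ℝ))
    (hK : ∀ a, ∃ (m : ℕ) (gen : Fin m → Finset (Fin N → ℤ)),
      K a = Set.iUnion fun l => {x | ∃ c : (Fin N → ℤ) → ℝ, (∀ g, 0 ≤ c g) ∧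
        x = Finset.sum (gen l) fun g => c g • fun j => (g j : ℝ)}) :
    ∃ g : Fan.P (RFan K) → Fan.Rays N,
      (∀ (n : ICone) (φ : (RFan K).obj (op n)) (v : Fan.Orth n) (h : RFan.toVec K n φ v.1 ≠ 0),
        g (Fan.P.mk φ v) = Quot.mk _ ⟨RFan.toVec K n φ v.1, h⟩) ∧
      Topology.IsEmbedding g ∧
      Set.range g = {r | ∃ w : {w : Fin N → ℝ // w ≠ 0}, r = Quot.mk _ w ∧ w.1 ∈ Set.iUnion K} := by
  choose m gen hgen using hK
  have hgen' : ∀ a, K a = ⋃ l, cone castV (gen a l) := hgen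
  refine ⟨g K, fun n φ v h => rfl, ?_, range_g K m gen hgen'⟩
  have : CompactSpace (Fan.P (RFan K)) := compactSpace K m gen hgen'
  exact (Continuous.isClosedEmbedding (continuous_g K) (g_injective K)).isEmbedding

end Groth.Agent.Lib.Helper83.RFanC
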