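import Mathlib

namespace Groth.Agent.Lib.Helper83.RatFE

open Polynomial

section Homog
variable {k : Type*} [CommRing k]

/-- homogenised evaluation -/
noncomputable def H {S : Type*} [CommRing S] [Algebra k S] (Q : k[X]) (m : ℕ) (A B : S) : S :=
  ∑ i ∈ Finset.range (m+1), algebraMap k S (Q.coeff i) * A^i * B^(m-i)

lemma H_map {S S' : Type*} [CommRing S] [Algebra k S] [CommRing S'] [Algebra k S']
    (ψ : S →ₐ[k] S') (Q : k[X]) (m : ℕ) (A B : S) :
    ψ (H Q m A B) = H Q m (ψ A) (ψ B) := by
  simp [H, map_sum]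

lemma H_eq {L : Type*} [Field L] [Algebra k L] (Q : k[X]) (m : ℕ) (hm : Q.natDegree ≤ m)
    (A B : L) (hB : B ≠ 0) :
    H Q m A B = B^m * aeval (A/B) Q := by
  rw [aeval_eq_sum_range' (lt_of_le_of_lt hm (Nat.lt_succ_self m)), Finset.mul_sum, H]
  apply Finset.sum_congr rfl
  intro i hi
  have him : i ≤ m := Nat.lt_succ_iff.mp (Finset.mem_range.mp hi)
  rw [Algebra.smul_def, div_pow]
  have : B^m = B^i * B^(m-i) := by rw [← pow_add]; congr 1; omega
  rw [this]
  field_simp

end Homog

section Clear

variable {k : Type*} [Field k]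

local notation "R" => MvPolynomial (Fin 2) k
local notation "L" => FractionRing (MvPolynomial (Fin 2) k)

lemma aeval_X_injective (i : Fin 2) :
    Function.Injective (fun Q : k[X] => aeval (MvPolynomial.X i : R) Q) := by
  intro Q Q' h
  have h2 := congrArg (MvPolynomial.aeval (fun _ : Fin 2 => (Polynomial.X : k[X]))) h
  simpa [← Polynomial.aeval_algHom_apply] using h2

lemma aeval_X_ne_zero (i : Fin 2) {Q : k[X]} (hQ : Q ≠ 0) : aeval (MvPolynomial.X i : R) Q ≠ 0 := by
  intro h
  exact hQ (aeval_X_injective i (by simpa using h))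

/-- clearing denominators -/
theorem clear (N D : k[X]) (hN : N ≠ 0) (hD : D ≠ 0) (m : ℕ) (hNm : N.natDegree ≤ m)
    (hDm : D.natDegree ≤ m)
    (hFE : aeval (algebraMap R L (MvPolynomial.X 0) + algebraMap R L (MvPolynomial.X 1) *
        (aeval (algebraMap R L (MvPolynomial.X 0)) N / aeval (algebraMap R L (MvPolynomial.X 0)) D)) N /
      aeval (algebraMap R L (MvPolynomial.X 0) + algebraMap R L (MvPolynomial.X 1) *
        (aeval (algebraMap R L (MvPolynomial.X 0)) N / aeval (algebraMap R L (MvPolynomial.X 0)) D)) D =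
      (aeval (algebraMap R L (MvPolynomial.X 0)) N / aeval (algebraMap R L (MvPolynomial.X 0)) D) *
      (aeval (algebraMap R L (MvPolynomial.X 1)) N / aeval (algebraMap R L (MvPolynomial.X 1)) D)) :
    H N m (MvPolynomial.X 0 * aeval (MvPolynomial.X 0 : R) D + MvPolynomial.X 1 * aeval (MvPolynomial.X 0 : R) N)
        (aeval (MvPolynomial.X 0 : R) D) * aeval (MvPolynomial.X 0 : R) D * aeval (MvPolynomial.X 1 : R) D =
    H D m (MvPolynomial.X 0 * aeval (MvPolynomial.X 0 : R) D + MvPolynomial.X 1 * aeval (MvPolynomial.X 0 : R) N)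
        (aeval (MvPolynomial.X 0 : R) D) * aeval (MvPolynomial.X 0 : R) N * aeval (MvPolynomial.X 1 : R) N := by
  set Nx := aeval (MvPolynomial.X 0 : R) N with hNx
  set Dx := aeval (MvPolynomial.X 0 : R) D with hDx
  set Ny := aeval (MvPolynomial.X 1 : R) N with hNy
  set Dy := aeval (MvPolynomial.X 1 : R) D with hDy
  set P : R := MvPolynomial.X 0 * Dx + MvPolynomial.X 1 * Nx with hP
  have hinj : Function.Injective (algebraMap R L) := IsFractionRing.injective R L
  have hNx0 : algebraMap R L Nx ≠ 0 := fun h => aeval_X_ne_zero 0 hN (hinj (by simpa using h))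
  have hDx0 : algebraMap R L Dx ≠ 0 := fun h => aeval_X_ne_zero 0 hD (hinj (by simpa using h))
  have hNy0 : algebraMap R L Ny ≠ 0 := fun h => aeval_X_ne_zero 1 hN (hinj (by simpa using h))
  have hDy0 : algebraMap R L Dy ≠ 0 := fun h => aeval_X_ne_zero 1 hD (hinj (by simpa using h))
  rw [Polynomial.aeval_algebraMap_apply, Polynomial.aeval_algebraMap_apply,
    Polynomial.aeval_algebraMap_apply, Polynomial.aeval_algebraMap_apply] at hFE
  rw [← hNx, ← hDx, ← hNy, ← hDy] at hFE
  have hu : algebraMap R L (MvPolynomial.X 0) + algebraMap R L (MvPolynomial.X 1) *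
      (algebraMap R L Nx / algebraMap R L Dx) = algebraMap R L P / algebraMap R L Dx := by
    rw [hP, map_add, map_mul, map_mul]
    field_simp
  rw [hu] at hFE
  have hDu : aeval (algebraMap R L P / algebraMap R L Dx) D ≠ 0 := by
    intro h0
    rw [h0, div_zero] at hFE
    have : (algebraMap R L Nx / algebraMap R L Dx) * (algebraMap R L Ny / algebraMap R L Dy) ≠ 0 :=
      mul_ne_zero (div_ne_zero hNx0 hDx0) (div_ne_zero hNy0 hDy0)
    exact this hFE.symm
  apply hinj
  simp only [map_mul]
  have hHN : algebraMap R L (H N m P Dx) = H N m (algebraMap R L P) (algebraMap R L Dx) :=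
    H_map (IsScalarTower.toAlgHom k R L) N m P Dx
  have hHD : algebraMap R L (H D m P Dx) = H D m (algebraMap R L P) (algebraMap R L Dx) :=
    H_map (IsScalarTower.toAlgHom k R L) D m P Dx
  rw [hHN, hHD, H_eq N m hNm _ _ hDx0, H_eq D m hDm _ _ hDx0]
  rw [div_eq_iff hDu] at hFE
  rw [hFE]
  field_simp

end Clear

lemma mem_range_of_isIntegral {E K : Type*} [Field E] [IsAlgClosed E] [Field K] [Algebra E K]
    (t : K) (h : IsIntegral E t) : t ∈ (algebraMap E K).range := by
  apply minpoly.mem_range_of_degree_eq_one E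
  exact IsAlgClosed.degree_eq_one_of_irreducible E (minpoly.irreducible h)

section Denom

variable {k : Type*} [Field k]

local notation "R" => MvPolynomial (Fin 2) k

theorem denom_const (N D : k[X]) (hcop : IsCoprime N D) (hD0 : D.eval 0 ≠ 0) (_hN : N ≠ 0)
    (m : ℕ) (hDm : D.natDegree ≤ m)
    (hid : H N m (MvPolynomial.X 0 * aeval (MvPolynomial.X 0 : R) D +
          MvPolynomial.X 1 * aeval (MvPolynomial.X 0 : R) N)
        (aeval (MvPolynomial.X 0 : R) D) * aeval (MvPolynomial.X 0 : R) D *
          aeval (MvPolynomial.X 1 : R) D =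
      H D m (MvPolynomial.X 0 * aeval (MvPolynomial.X 0 : R) D +
          MvPolynomial.X 1 * aeval (MvPolynomial.X 0 : R) N)
        (aeval (MvPolynomial.X 0 : R) D) * aeval (MvPolynomial.X 0 : R) N *
          aeval (MvPolynomial.X 1 : R) N) :
    D.natDegree = 0 := by
  by_contra hdeg
  let E := AlgebraicClosure k
  set Dm : E[X] := D.map (algebraMap k E) with hDm'
  set Nm : E[X] := N.map (algebraMap k E) with hNm'
  have hDmdeg : Dm.degree ≠ 0 := by
    rw [hDm', Polynomial.degree_map]
    intro h
    exact hdeg (Polynomial.natDegree_eq_of_degree_eq_some h)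
  obtain ⟨β, hβ⟩ := IsAlgClosed.exists_root Dm hDmdeg
  have hβ0 : β ≠ 0 := by
    rintro rfl
    rw [Polynomial.IsRoot, hDm', Polynomial.eval_map, Polynomial.eval₂_at_zero] at hβ
    rw [Polynomial.coeff_zero_eq_eval_zero] at hβ
    exact hD0 ((map_eq_zero _).mp hβ)
  have hcopm : IsCoprime Nm Dm := hcop.map (Polynomial.mapRingHom (algebraMap k E))
  have hNβ : Nm.eval β ≠ 0 := by
    intro h
    obtain ⟨a, b, hab⟩ := hcopm
    have := congrArg (Polynomial.eval β) hab
    simp [h, hβ.eq_zero] at this
  let ψ : R →ₐ[k] E[X] := MvPolynomial.aeval ![Polynomial.X, Polynomial.C β]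
  have hψ0 : ψ (MvPolynomial.X 0) = Polynomial.X := by simp [ψ]
  have hψ1 : ψ (MvPolynomial.X 1) = Polynomial.C β := by simp [ψ]
  have hψx : ∀ Q : k[X], ψ (aeval (MvPolynomial.X 0 : R) Q) = Q.map (algebraMap k E) := by
    intro Q
    rw [← Polynomial.aeval_algHom_apply, hψ0]
    exact aeval_X_left_eq_map Q
  have hψy : ∀ Q : k[X], ψ (aeval (MvPolynomial.X 1 : R) Q) =
      Polynomial.C ((Q.map (algebraMap k E)).eval β) := by
    intro Q
    rw [← Polynomial.aeval_algHom_apply, hψ1]
    rw [Polynomial.eval_map, ← Polynomial.aeval_def]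
    have := Polynomial.aeval_algebraMap_apply (A := E) E[X] β Q
    simpa using this
  have h1 := congrArg ψ hid
  simp only [map_mul, H_map, map_add, hψx, hψy, hψ0, hψ1] at h1
  rw [← hDm', ← hNm', hβ.eq_zero, map_zero, mul_zero] at h1
  have hNm0 : Nm ≠ 0 := by
    intro h
    rw [h] at hNβ
    simp at hNβ
  have hDm0 : Dm ≠ 0 := by
    intro h
    rw [hDm', Polynomial.map_eq_zero] at h
    rw [h] at hD0
    simp at hD0
  have h2 : H D m (Polynomial.X * Dm + Polynomial.C β * Nm) Dm = 0 := by
    have := h1.symm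
    rw [mul_eq_zero, mul_eq_zero] at this
    rcases this with (h | h) | h
    · exact h
    · exact absurd h hNm0
    · exact absurd (Polynomial.C_eq_zero.mp h) hNβ
  -- pass to the field of rational functions
  let j : E[X] →ₐ[k] RatFunc E := IsScalarTower.toAlgHom k E[X] (RatFunc E)
  have hjinj : Function.Injective j := IsFractionRing.injective E[X] (RatFunc E)
  have h3 := congrArg j h2
  have hjDm0 : j Dm ≠ 0 := fun h => hDm0 (hjinj (by simpa using h))
  rw [H_map, map_zero, H_eq D m hDm _ _ hjDm0] at h3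
  have h4 : aeval (j (Polynomial.X * Dm + Polynomial.C β * Nm) / j Dm) D = 0 := by
    rcases mul_eq_zero.mp h3 with h | h
    · exact absurd h (pow_ne_zero m hjDm0)
    · exact h
  set t : RatFunc E := j (Polynomial.X * Dm + Polynomial.C β * Nm) / j Dm with ht
  have hint : IsIntegral E t := by
    rw [← isAlgebraic_iff_isIntegral]
    refine ⟨Dm, hDm0, ?_⟩
    rw [hDm', Polynomial.aeval_map_algebraMap]
    exact h4
  obtain ⟨γ, hγ⟩ := mem_range_of_isIntegral t hint
  have h5 : Polynomial.X * Dm + Polynomial.C β * Nm = Polynomial.C γ * Dm := by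
    apply hjinj
    rw [map_mul j (Polynomial.C γ)]
    have : j (Polynomial.C γ) = algebraMap E (RatFunc E) γ := by
      simp [j]
    rw [this, hγ, ht, div_mul_cancel₀ _ hjDm0]
  have h6 : Dm ∣ Polynomial.C β * Nm := by
    refine ⟨Polynomial.C γ - Polynomial.X, ?_⟩
    linear_combination h5
  have h7 : Dm ∣ Polynomial.C β := hcopm.symm.dvd_of_dvd_mul_right h6
  have h8 : Dm.natDegree = 0 := by
    have := Polynomial.natDegree_le_of_dvd h7 (by simpa using hβ0)
    simpa using this
  apply hdeg
  rw [hDm', Polynomial.natDegree_map] at h8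
  exact h8

end Denom

section PolyCase

variable {k : Type*} [Field k]

local notation "R" => MvPolynomial (Fin 2) k

theorem poly_case (N : k[X]) (hN : N ≠ 0)
    (h : aeval (MvPolynomial.X 0 + MvPolynomial.X 1 * aeval (MvPolynomial.X 0 : R) N) N =
      aeval (MvPolynomial.X 0 : R) N * aeval (MvPolynomial.X 1 : R) N) :
    N.natDegree ≤ 1 := by
  let ψ : R →ₐ[k] k[X][X] := MvPolynomial.aeval ![Polynomial.C Polynomial.X, Polynomial.X]
  have hψ0 : ψ (MvPolynomial.X 0) = Polynomial.C Polynomial.X := by simp [ψ]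
  have hψ1 : ψ (MvPolynomial.X 1) = Polynomial.X := by simp [ψ]
  have hψx : ψ (aeval (MvPolynomial.X 0 : R) N) = Polynomial.C N := by
    rw [← Polynomial.aeval_algHom_apply, hψ0]
    have := Polynomial.aeval_algebraMap_apply (A := k[X]) k[X][X] (Polynomial.X : k[X]) N
    simpa using this
  have hψy : ψ (aeval (MvPolynomial.X 1 : R) N) = N.map Polynomial.C := by
    rw [← Polynomial.aeval_algHom_apply, hψ1]
    exact aeval_X_left_eq_map N
  have h1 := congrArg ψ h
  rw [← Polynomial.aeval_algHom_apply, map_add, map_mul, map_mul, hψx, hψy, hψ0, hψ1] at h1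
  have h2 : aeval (Polynomial.C Polynomial.X + Polynomial.X * Polynomial.C N : k[X][X]) N =
      (N.map Polynomial.C).comp (Polynomial.C N * Polynomial.X + Polynomial.C Polynomial.X) := by
    rw [Polynomial.comp, Polynomial.eval₂_map, Polynomial.aeval_def]
    congr 1
    ring
  rw [h2] at h1
  have hq : (Polynomial.C N * Polynomial.X + Polynomial.C Polynomial.X : k[X][X]).natDegree = 1 :=
    Polynomial.natDegree_linear hN
  have h3 := congrArg Polynomial.leadingCoeff h1
  rw [Polynomial.leadingCoeff_comp (by rw [hq]; exact one_ne_zero), Polynomial.leadingCoeff_linear hN,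
    Polynomial.leadingCoeff_mul, Polynomial.leadingCoeff_C, Polynomial.leadingCoeff_map,
    Polynomial.natDegree_map] at h3
  have hlc : (Polynomial.C N.leadingCoeff : k[X]) ≠ 0 := by
    simpa using hN
  have h4 : N ^ N.natDegree = N := by
    apply mul_left_cancel₀ hlc
    rw [h3]; ring
  have h5 := congrArg Polynomial.natDegree h4
  rw [Polynomial.natDegree_pow] at h5
  nlinarith

end PolyCase

section Main

theorem main (k : Type) [Field k] (F : RatFunc k)
    (h0 : F.denom.eval 0 ≠ 0) (h1 : F.num.eval 0 = F.denom.eval 0)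
    (hFE : RatFunc.eval (algebraMap k (FractionRing (MvPolynomial (Fin 2) k)))
        (algebraMap (MvPolynomial (Fin 2) k) (FractionRing (MvPolynomial (Fin 2) k)) (MvPolynomial.X 0) +
          algebraMap (MvPolynomial (Fin 2) k) (FractionRing (MvPolynomial (Fin 2) k)) (MvPolynomial.X 1) *
            RatFunc.eval (algebraMap k (FractionRing (MvPolynomial (Fin 2) k)))
              (algebraMap (MvPolynomial (Fin 2) k) (FractionRing (MvPolynomial (Fin 2) k)) (MvPolynomial.X 0)) F) F =
      RatFunc.eval (algebraMap k (FractionRing (MvPolynomial (Fin 2) k)))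
          (algebraMap (MvPolynomial (Fin 2) k) (FractionRing (MvPolynomial (Fin 2) k)) (MvPolynomial.X 0)) F *
        RatFunc.eval (algebraMap k (FractionRing (MvPolynomial (Fin 2) k)))
          (algebraMap (MvPolynomial (Fin 2) k) (FractionRing (MvPolynomial (Fin 2) k)) (MvPolynomial.X 1)) F) :
    ∃ a : k, F = 1 + RatFunc.C a * RatFunc.X := by
  have hD : F.denom ≠ 0 := RatFunc.denom_ne_zero F
  have hN : F.num ≠ 0 := by
    intro h
    rw [h] at h1
    simp at h1
    exact h0 h1.symm
  have hcop : IsCoprime F.num F.denom := RatFunc.isCoprime_num_denom F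
  simp only [RatFunc.eval, ← Polynomial.aeval_def] at hFE
  have hid := clear F.num F.denom hN hD (max F.num.natDegree F.denom.natDegree)
    (le_max_left _ _) (le_max_right _ _) hFE
  have hdeg := denom_const F.num F.denom hcop h0 hN _ (le_max_right _ _) hid
  have hD1 : F.denom = 1 :=
    Polynomial.eq_one_of_monic_natDegree_zero (RatFunc.monic_denom F) hdeg
  rw [hD1] at hFE
  simp only [map_one, div_one] at hFE
  have hinj : Function.Injective (algebraMap (MvPolynomial (Fin 2) k)
    (FractionRing (MvPolynomial (Fin 2) k))) := IsFractionRing.injective _ _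
  have hpoly : aeval (MvPolynomial.X 0 + MvPolynomial.X 1 *
        aeval (MvPolynomial.X 0 : MvPolynomial (Fin 2) k) F.num) F.num =
      aeval (MvPolynomial.X 0 : MvPolynomial (Fin 2) k) F.num *
        aeval (MvPolynomial.X 1 : MvPolynomial (Fin 2) k) F.num := by
    apply hinj
    rw [← Polynomial.aeval_algebraMap_apply, map_add, map_mul, map_mul,
      ← Polynomial.aeval_algebraMap_apply, ← Polynomial.aeval_algebraMap_apply]
    exact hFE
  have hle := poly_case F.num hN hpoly
  have hNeq := Polynomial.eq_X_add_C_of_natDegree_le_one hle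
  have hc0 : F.num.coeff 0 = 1 := by
    rw [Polynomial.coeff_zero_eq_eval_zero, h1, hD1]
    simp
  obtain ⟨a, ha⟩ : ∃ a : k, F.num = Polynomial.C a * Polynomial.X + Polynomial.C 1 :=
    ⟨_, by rw [← hc0]; exact hNeq⟩
  refine ⟨a, ?_⟩
  have hF := RatFunc.num_div_denom F
  rw [hD1, map_one, div_one, ha] at hF
  rw [← hF]
  simp [add_comm]

end Main

end Groth.Agent.Lib.Helper83.RatFE
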