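import Mathlib

set_option autoImplicit false
universe u v

namespace Groth.Agent.Lib.Helper83.SigmaLin

variable {k : Type u} [Field k] {σ : k →+* k} {V : Type v} [AddCommGroup V] [Module k V]

theorem iter_smul (T : V →ₛₗ[σ] V) (m : ℕ) (c : k) (x : V) :
    (⇑T)^[m] (c • x) = (⇑σ)^[m] c • (⇑T)^[m] x := by
  induction m with
  | zero => simp
  | succ m ih =>
    rw [Function.iterate_succ_apply', Function.iterate_succ_apply', Function.iterate_succ_apply', ih,
      LinearMap.map_smulₛₗ]

theorem iter_add (T : V →ₛₗ[σ] V) (m : ℕ) (x y : V) :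
    (⇑T)^[m] (x + y) = (⇑T)^[m] x + (⇑T)^[m] y := by
  induction m with
  | zero => simp
  | succ m ih =>
    rw [Function.iterate_succ_apply', Function.iterate_succ_apply', Function.iterate_succ_apply', ih,
      map_add]

theorem iter_zero (T : V →ₛₗ[σ] V) (m : ℕ) : (⇑T)^[m] (0 : V) = 0 := by
  induction m with
  | zero => simp
  | succ m ih => rw [Function.iterate_succ_apply', ih, map_zero]

/-- kernel of the m-th iterate as a submodule -/
def kerIter (T : V →ₛₗ[σ] V) (m : ℕ) : Submodule k V where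
  carrier := {x | (⇑T)^[m] x = 0}
  add_mem' := by
    intro a b ha hb
    simp only [Set.mem_ofPred_eq] at ha hb ⊢
    rw [iter_add, ha, hb, add_zero]
  zero_mem' := iter_zero T m
  smul_mem' := by
    intro c x hx
    simp only [Set.mem_ofPred_eq] at hx ⊢
    rw [iter_smul, hx, smul_zero]

theorem mem_kerIter (T : V →ₛₗ[σ] V) (m : ℕ) (x : V) : x ∈ kerIter T m ↔ (⇑T)^[m] x = 0 :=
  Iff.rfl

theorem kerIter_mono (T : V →ₛₗ[σ] V) : Monotone (kerIter T) := by
  apply monotone_nat_of_le_succ
  intro m x hx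
  rw [mem_kerIter] at hx ⊢
  rw [Function.iterate_succ_apply', hx, map_zero]

theorem image_span_subset (T : V →ₛₗ[σ] V) (X : Set V) (x : V) (hx : x ∈ Submodule.span k X) :
    T x ∈ Submodule.span k (T '' X) := by
  induction hx using Submodule.span_induction with
  | mem y hy => exact Submodule.subset_span ⟨y, hy, rfl⟩
  | zero => rw [map_zero]; exact Submodule.zero_mem _
  | add y z _ _ hy hz => rw [map_add]; exact Submodule.add_mem _ hy hz
  | smul c y _ hy => rw [LinearMap.map_smulₛₗ]; exact Submodule.smul_mem _ _ hy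

theorem span_range_iter_eq_top (T : V →ₛₗ[σ] V) (h1 : Submodule.span k (Set.range ⇑T) = ⊤)
    (m : ℕ) : Submodule.span k (Set.range (⇑T)^[m]) = ⊤ := by
  induction m with
  | zero => simp
  | succ m ih =>
    rw [eq_top_iff, ← h1, Submodule.span_le]
    rintro _ ⟨x, rfl⟩
    have hx : x ∈ Submodule.span k (Set.range (⇑T)^[m]) := by rw [ih]; trivial
    have := image_span_subset T _ x hx
    refine Submodule.span_mono ?_ this
    rintro _ ⟨_, ⟨y, rfl⟩, rfl⟩
    exact ⟨y, Function.iterate_succ_apply' _ _ _⟩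

theorem exists_non_nilpotent [FiniteDimensional k V] [Nontrivial V] (T : V →ₛₗ[σ] V)
    (h1 : Submodule.span k (Set.range ⇑T) = ⊤) : ∃ e : V, ∀ m : ℕ, (⇑T)^[m] e ≠ 0 := by
  by_contra hcon
  push Not at hcon
  obtain ⟨n, hn⟩ := (monotone_stabilizes_iff_noetherian (R := k) (M := V)).mpr inferInstance
    ⟨kerIter T, kerIter_mono T⟩
  have htop : kerIter T n = ⊤ := by
    rw [eq_top_iff]
    intro x _
    obtain ⟨m, hm⟩ := hcon x
    by_cases hmn : m ≤ n
    · exact kerIter_mono T hmn hm
    · have := hn m (by omega)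
      simp only [OrderHom.coe_mk] at this
      rw [this]
      exact hm
  have h2 := span_range_iter_eq_top T h1 n
  have h3 : Set.range (⇑T)^[n] ⊆ {0} := by
    rintro _ ⟨x, rfl⟩
    have : x ∈ kerIter T n := by rw [htop]; trivial
    exact this
  have h4 : Submodule.span k (Set.range (⇑T)^[n]) = ⊥ := by
    rw [eq_bot_iff]
    calc Submodule.span k (Set.range (⇑T)^[n]) ≤ Submodule.span k {0} := Submodule.span_mono h3
      _ = ⊥ := by simp
  rw [h2] at h4
  exact top_ne_bot h4

/-- span of the fixed vectors -/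
def fixedSpan (T : V →ₛₗ[σ] V) : Submodule k V := Submodule.span k {x | T x = x}

theorem fixedSpan_le_comap (T : V →ₛₗ[σ] V) : fixedSpan T ≤ (fixedSpan T).comap T := by
  intro x hx
  rw [Submodule.mem_comap]
  have := image_span_subset T _ x hx
  refine Submodule.span_mono ?_ this
  rintro _ ⟨y, hy, rfl⟩
  have hy' : T y = y := hy
  show T (T y) = T y
  rw [hy', hy']

theorem sub_surj_on_fixedSpan (T : V →ₛₗ[σ] V) (h3 : ∀ c : k, ∃ y : k, σ y - y + c = 0)
    (x : V) (hx : x ∈ fixedSpan T) : ∀ c : k, ∃ z ∈ fixedSpan T, z - T z = c • x := by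
  induction hx using Submodule.span_induction with
  | mem f hf =>
    intro c
    obtain ⟨y, hy⟩ := h3 c
    have hf' : T f = f := hf
    refine ⟨y • f, Submodule.smul_mem _ _ (Submodule.subset_span hf), ?_⟩
    rw [LinearMap.map_smulₛₗ, hf', ← sub_smul]
    congr 1
    linear_combination (-1 : k) * hy
  | zero =>
    intro c
    exact ⟨0, Submodule.zero_mem _, by simp⟩
  | add a b _ _ ha hb =>
    intro c
    obtain ⟨z1, hz1, e1⟩ := ha c
    obtain ⟨z2, hz2, e2⟩ := hb c
    refine ⟨z1 + z2, Submodule.add_mem _ hz1 hz2, ?_⟩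
    rw [map_add, smul_add, ← e1, ← e2]
    abel
  | smul a b _ hb =>
    intro c
    obtain ⟨z, hz, e⟩ := hb (c * a)
    exact ⟨z, hz, by rw [e, mul_smul]⟩

theorem exists_fixed_of_sub_mem (T : V →ₛₗ[σ] V) (h3 : ∀ c : k, ∃ y : k, σ y - y + c = 0)
    (x : V) (hx : T x - x ∈ fixedSpan T) : ∃ x' : V, T x' = x' ∧ x' - x ∈ fixedSpan T := by
  obtain ⟨z, hz, e⟩ := sub_surj_on_fixedSpan T h3 _ hx 1
  refine ⟨x + z, ?_, by simpa using hz⟩
  rw [one_smul] at e
  rw [map_add]
  have : T x + T z - (x + z) = 0 := by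
    have : T x + T z - (x + z) = (T x - x) - (z - T z) := by abel
    rw [this, e, sub_self]
  exact sub_eq_zero.mp this

/-- span of the range of the n-th iterate -/
def spanIter (T : V →ₛₗ[σ] V) (n : ℕ) : Submodule k V := Submodule.span k (Set.range (⇑T)^[n])

theorem spanIter_anti (T : V →ₛₗ[σ] V) : Antitone (spanIter T) := by
  apply antitone_nat_of_succ_le
  intro n
  apply Submodule.span_mono
  rintro _ ⟨x, rfl⟩
  exact ⟨T x, (Function.iterate_succ_apply _ _ _).symm⟩

theorem map_mem_spanIter_succ (T : V →ₛₗ[σ] V) (n : ℕ) (x : V) (hx : x ∈ spanIter T n) :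
    T x ∈ spanIter T (n + 1) := by
  have := image_span_subset T _ x hx
  refine Submodule.span_mono ?_ this
  rintro _ ⟨_, ⟨y, rfl⟩, rfl⟩
  exact ⟨y, Function.iterate_succ_apply' _ _ _⟩

theorem exists_iInf_spanIter_eq [FiniteDimensional k V] (T : V →ₛₗ[σ] V) :
    ∃ N : ℕ, (⨅ n : ℕ, Submodule.span k (Set.range (⇑T)^[n])) = spanIter T N ∧
      spanIter T N = spanIter T (N + 1) := by
  obtain ⟨N, hN⟩ := IsArtinian.monotone_stabilizes (R := k) (M := V)
    ⟨fun n => OrderDual.toDual (spanIter T n), fun a b hab => spanIter_anti T hab⟩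
  refine ⟨N, ?_, ?_⟩
  · apply le_antisymm
    · exact iInf_le _ N
    · apply le_iInf
      intro m
      by_cases hm : N ≤ m
      · have := hN m hm
        simp only [OrderHom.coe_mk] at this
        have h2 : spanIter T N = spanIter T m := OrderDual.toDual.injective this
        rw [h2]; exact le_rfl
      · exact spanIter_anti T (by omega : m ≤ N)
  · have := hN (N + 1) (by omega)
    simp only [OrderHom.coe_mk] at this
    exact OrderDual.toDual.injective this

theorem telescope (T : V →ₛₗ[σ] V) (n : ℕ) (x : V) :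
    (∑ i ∈ Finset.range n, (⇑T)^[i] x) - T (∑ i ∈ Finset.range n, (⇑T)^[i] x) =
      x - (⇑T)^[n] x := by
  induction n with
  | zero => simp
  | succ n ih =>
    rw [Finset.sum_range_succ, map_add, Function.iterate_succ_apply']
    have : ∑ i ∈ Finset.range n, (⇑T)^[i] x + (⇑T)^[n] x -
        (T (∑ i ∈ Finset.range n, (⇑T)^[i] x) + T ((⇑T)^[n] x)) =
        (∑ i ∈ Finset.range n, (⇑T)^[i] x - T (∑ i ∈ Finset.range n, (⇑T)^[i] x)) +
        ((⇑T)^[n] x - T ((⇑T)^[n] x)) := by abel
    rw [this, ih]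
    abel

end Groth.Agent.Lib.Helper83.SigmaLin
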