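import Mathlib
import Groth.Prelude.Def_HopfRep
import Groth.Prelude.Def_W4c6stackyreslrsPsRefl

/-!
# The stabilizer ideal of a vector in a comodule is a Hopf ideal
-/

set_option linter.unusedSectionVars false

namespace Groth.Agent.Lib.Helper83.StabIdeal

open TensorProduct

section Slice

variable {k : Type*} [CommRing k] {V : Type*} [AddCommGroup V] [Module k V]

/-- slice of `V ⊗ B` by a functional on `V` -/
noncomputable def sl (B : Type*) [AddCommGroup B] [Module k B] (φ : V →ₗ[k] k) :
    V ⊗[k] B →ₗ[k] B :=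
  (TensorProduct.lid k B).toLinearMap ∘ₗ φ.rTensor B

@[simp] lemma sl_tmul {B : Type*} [AddCommGroup B] [Module k B] (φ : V →ₗ[k] k) (v : V) (b : B) :
    sl B φ (v ⊗ₜ b) = φ v • b := by
  simp [sl]

lemma sl_natural {B C : Type*} [AddCommGroup B] [Module k B] [AddCommGroup C] [Module k C]
    (g : B →ₗ[k] C) (φ : V →ₗ[k] k) (w : V ⊗[k] B) :
    g (sl B φ w) = sl C φ (g.lTensor V w) := by
  induction w using TensorProduct.induction_on with
  | zero => simp
  | tmul v b => simp
  | add x y hx hy => simp [hx, hy]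

end Slice

section Field

variable {k : Type*} [Field k] {V : Type*} [AddCommGroup V] [Module k V]

/-- over a field, an element of `V ⊗ B` all of whose slices vanish is zero -/
lemma eq_zero_of_sl {B : Type*} [AddCommGroup B] [Module k B] (w : V ⊗[k] B)
    (h : ∀ φ : V →ₗ[k] k, sl B φ w = 0) : w = 0 := by
  classical
  let b := Module.Basis.ofVectorSpace k V
  apply (TensorProduct.equivFinsuppOfBasisLeft (N := B) b).injective
  rw [map_zero]
  ext i
  rw [TensorProduct.equivFinsuppOfBasisLeft_apply]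
  exact h (b.coord i)

end Field

section Stab

variable {k : Type*} [Field k] {A : Type*} [CommRing A] [HopfAlgebra k A]
  {V : Type*} [AddCommGroup V] [Module k V] [HopfRep.Comod k A V]

/-- the coaction -/
noncomputable abbrev ρ : V →ₗ[k] V ⊗[k] A := HopfRep.Comod.coact (k := k) (A := A)

variable (k A) in
/-- `ρ f - f ⊗ 1` -/
noncomputable def zz (f : V) : V ⊗[k] A := ρ (k := k) (A := A) f - f ⊗ₜ[k] (1 : A)

variable (k A) in
/-- the stabilizer ideal of `f` -/
noncomputable def stab (f : V) : Ideal A :=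
  Ideal.span (Set.range fun φ : V →ₗ[k] k => sl A φ (zz k A f))

lemma sl_mem_stab (f : V) (φ : V →ₗ[k] k) : sl A φ (zz k A f) ∈ stab k A f :=
  Ideal.subset_span ⟨φ, rfl⟩

lemma mem_quotInvariants_iff_lTensor (J : Ideal A) (f : V) :
    f ∈ GLin.quotInvariants k A V J ↔
      (Ideal.Quotient.mkₐ k J).toLinearMap.lTensor V (zz k A f) = 0 := by
  rw [GLin.mem_quotInvariants_iff, zz, map_sub, sub_eq_zero, LinearMap.lTensor_tmul]
  simp

/-- `f` is invariant modulo `J` iff `J` contains the stabilizer ideal. -/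
theorem mem_quotInvariants_iff (J : Ideal A) (f : V) :
    f ∈ GLin.quotInvariants k A V J ↔ stab k A f ≤ J := by
  rw [mem_quotInvariants_iff_lTensor]
  constructor
  · intro h
    rw [stab, Ideal.span_le]
    rintro _ ⟨φ, rfl⟩
    have := sl_natural (Ideal.Quotient.mkₐ k J).toLinearMap φ (zz k A f)
    rw [h, map_zero] at this
    exact Ideal.Quotient.eq_zero_iff_mem.mp this
  · intro h
    apply eq_zero_of_sl
    intro φ
    rw [← sl_natural]
    exact Ideal.Quotient.eq_zero_iff_mem.mpr (h (sl_mem_stab f φ))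

lemma lTensor_counit_zz (f : V) :
    (Coalgebra.counit (R := k) (A := A)).lTensor V (zz k A f) = 0 := by
  have h := LinearMap.congr_fun (HopfRep.Comod.counit_comp (k := k) (A := A) (V := V)) f
  simp only [LinearMap.comp_apply, LinearMap.flip_apply, TensorProduct.mk_apply] at h
  rw [zz, map_sub, h, LinearMap.lTensor_tmul, Bialgebra.counit_one, sub_self]

lemma counit_eq_zero_of_mem_stab (f : V) {x : A} (hx : x ∈ stab k A f) :
    Coalgebra.counit (R := k) x = 0 := by
  have hle : stab k A f ≤ RingHom.ker (Bialgebra.counitAlgHom k A) := by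
    rw [stab, Ideal.span_le]
    rintro _ ⟨φ, rfl⟩
    change Coalgebra.counit (R := k) (sl A φ (zz k A f)) = 0
    rw [sl_natural, lTensor_counit_zz, map_zero]
  exact hle hx

end Stab

section Hopf

variable {k : Type*} [Field k] {A : Type*} [CommRing A] [HopfAlgebra k A]
  {V : Type*} [AddCommGroup V] [Module k V] [HopfRep.Comod k A V]

/-- `(id ⊗ Δ) z = assoc ((ρ ⊗ id) z) + assoc (z ⊗ 1)`. -/
lemma lTensor_comul_zz (f : V) :
    (Coalgebra.comul (R := k) (A := A)).lTensor V (zz k A f) =
      TensorProduct.assoc k V A A ((ρ (k := k) (A := A)).rTensor A (zz k A f)) +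
        TensorProduct.assoc k V A A (zz k A f ⊗ₜ[k] (1 : A)) := by
  have h := LinearMap.congr_fun (HopfRep.Comod.coassoc (k := k) (A := A) (V := V)) f
  simp only [LinearMap.comp_apply, LinearEquiv.coe_coe] at h
  have hρ : ρ (k := k) (A := A) f = zz k A f + f ⊗ₜ[k] (1 : A) := by rw [zz]; abel
  have h1 : (Coalgebra.comul (R := k) (A := A)).lTensor V (zz k A f) =
      TensorProduct.assoc k V A A ((ρ (k := k) (A := A)).rTensor A (ρ (k := k) (A := A) f)) -
        f ⊗ₜ[k] ((1 : A) ⊗ₜ[k] (1 : A)) := by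
    rw [h, zz, map_sub, LinearMap.lTensor_tmul, Bialgebra.comul_one, Algebra.TensorProduct.one_def]
  rw [h1]
  conv_lhs => rw [hρ, map_add, LinearMap.rTensor_tmul, hρ, TensorProduct.add_tmul, map_add, map_add,
    TensorProduct.assoc_tmul]
  abel

variable (J : Ideal A)

/-- `π` -/
noncomputable abbrev πJ : A →ₗ[k] A ⧸ J := (Ideal.Quotient.mkₐ k J).toLinearMap

lemma G1 (t : V ⊗[k] A) (a : A) :
    (TensorProduct.map (πJ (k := k) J) (πJ (k := k) J)).lTensor V
        (TensorProduct.assoc k V A A (t ⊗ₜ[k] a)) =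
      TensorProduct.assoc k V (A ⧸ J) (A ⧸ J)
        (((πJ (k := k) J).lTensor V t) ⊗ₜ[k] (πJ (k := k) J a)) := by
  induction t using TensorProduct.induction_on with
  | zero => simp
  | tmul v b => simp
  | add x y hx hy => simp only [TensorProduct.add_tmul, map_add, hx, hy]

lemma G2 (w : V ⊗[k] A) :
    (TensorProduct.map (πJ (k := k) J) (πJ (k := k) J)).lTensor V
        (TensorProduct.assoc k V A A ((ρ (k := k) (A := A)).rTensor A w)) =
      TensorProduct.assoc k V (A ⧸ J) (A ⧸ J)
        (((πJ (k := k) J).lTensor V ∘ₗ ρ (k := k) (A := A)).rTensor (A ⧸ J)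
          ((πJ (k := k) J).lTensor V w)) := by
  induction w using TensorProduct.induction_on with
  | zero => simp
  | tmul v b =>
    rw [LinearMap.rTensor_tmul, G1, LinearMap.lTensor_tmul, LinearMap.rTensor_tmul]
    rfl
  | add x y hx hy => simp only [map_add, hx, hy]

/-- the coideal property on generators -/
lemma lTensor_map_comul_zz (f : V)
    (hz : (πJ (k := k) J).lTensor V (zz k A f) = 0) :
    ((TensorProduct.map (πJ (k := k) J) (πJ (k := k) J)) ∘ₗ
      (Coalgebra.comul (R := k) (A := A))).lTensor V (zz k A f) = 0 := by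
  rw [LinearMap.lTensor_comp, LinearMap.comp_apply, lTensor_comul_zz, map_add, G2, G1, hz]
  simp

/-- `a' ⊗ a ↦ S a' * a` -/
noncomputable abbrev mS : A ⊗[k] A →ₗ[k] A :=
  LinearMap.mul' k A ∘ₗ (HopfAlgebra.antipode k (A := A)).rTensor A

/-- `a' ⊗ ā ↦ π (S a') * ā` -/
noncomputable abbrev mSbar : A ⊗[k] (A ⧸ J) →ₗ[k] (A ⧸ J) :=
  LinearMap.mul' k (A ⧸ J) ∘ₗ
    TensorProduct.map ((πJ (k := k) J) ∘ₗ HopfAlgebra.antipode k (A := A)) LinearMap.id

lemma G3 (t : V ⊗[k] A) :
    (mS (k := k) (A := A)).lTensor V (TensorProduct.assoc k V A A (t ⊗ₜ[k] (1 : A))) =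
      (HopfAlgebra.antipode k (A := A)).lTensor V t := by
  induction t using TensorProduct.induction_on with
  | zero => simp
  | tmul v b => simp
  | add x y hx hy => simp only [TensorProduct.add_tmul, map_add, hx, hy]

lemma G4' (t : V ⊗[k] A) (a : A) :
    (πJ (k := k) J).lTensor V
        ((mS (k := k) (A := A)).lTensor V (TensorProduct.assoc k V A A (t ⊗ₜ[k] a))) =
      (mSbar (k := k) J).lTensor V
        (TensorProduct.assoc k V A (A ⧸ J) (t ⊗ₜ[k] (πJ (k := k) J a))) := by
  induction t using TensorProduct.induction_on with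
  | zero => simp
  | tmul v b => simp
  | add x y hx hy => simp only [TensorProduct.add_tmul, map_add, hx, hy]

lemma G4 (w : V ⊗[k] A) :
    (πJ (k := k) J).lTensor V
        ((mS (k := k) (A := A)).lTensor V
          (TensorProduct.assoc k V A A ((ρ (k := k) (A := A)).rTensor A w))) =
      (mSbar (k := k) J).lTensor V
        (TensorProduct.assoc k V A (A ⧸ J)
          ((ρ (k := k) (A := A)).rTensor (A ⧸ J) ((πJ (k := k) J).lTensor V w))) := by
  induction w using TensorProduct.induction_on with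
  | zero => simp
  | tmul v b =>
    rw [LinearMap.rTensor_tmul, G4', LinearMap.lTensor_tmul, LinearMap.rTensor_tmul]
  | add x y hx hy => simp only [map_add, hx, hy]

lemma lTensor_antipode_zz (f : V)
    (hz : (πJ (k := k) J).lTensor V (zz k A f) = 0) :
    ((πJ (k := k) J) ∘ₗ HopfAlgebra.antipode k (A := A)).lTensor V (zz k A f) = 0 := by
  -- apply `id ⊗ m(S ⊗ id)` to `lTensor_comul_zz`
  have h1 := congrArg ((mS (k := k) (A := A)).lTensor V) (lTensor_comul_zz (k := k) (A := A) f)
  rw [← LinearMap.comp_apply, ← LinearMap.lTensor_comp] at h1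
  have h2 : mS (k := k) (A := A) ∘ₗ Coalgebra.comul (R := k) (A := A) =
      Algebra.linearMap k A ∘ₗ Coalgebra.counit (R := k) (A := A) := by
    rw [mS, LinearMap.comp_assoc]
    exact HopfAlgebra.mul_antipode_rTensor_comul
  rw [h2, LinearMap.lTensor_comp, LinearMap.comp_apply, lTensor_counit_zz, map_zero, map_add,
    G3] at h1
  -- now `0 = lTensor mS (assoc (rTensor ρ z)) + lTensor S z`
  have h3 := congrArg ((πJ (k := k) J).lTensor V) h1
  rw [map_zero, map_add, G4, hz] at h3
  simp only [map_zero, zero_add] at h3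
  rw [LinearMap.lTensor_comp, LinearMap.comp_apply]
  exact h3.symm

end Hopf

section Main

variable {k : Type*} [Field k] {A : Type*} [CommRing A] [HopfAlgebra k A]
  {V : Type*} [AddCommGroup V] [Module k V] [HopfRep.Comod k A V]

lemma lTensor_πJ_zz (f : V) : (πJ (k := k) (stab k A f)).lTensor V (zz k A f) = 0 :=
  (mem_quotInvariants_iff_lTensor (stab k A f) f).mp ((mem_quotInvariants_iff _ f).mpr le_rfl)

lemma map_comul_eq_zero_of_mem_stab_gen (J : Ideal A) (f : V)
    (hz : (πJ (k := k) J).lTensor V (zz k A f) = 0) {x : A} (hx : x ∈ stab k A f) :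
    TensorProduct.map (πJ (k := k) J) (πJ (k := k) J)
      (Coalgebra.comul (R := k) x) = 0 := by
  let Φ : A →ₐ[k] (A ⧸ J) ⊗[k] (A ⧸ J) :=
    (Algebra.TensorProduct.map (Ideal.Quotient.mkₐ k J) (Ideal.Quotient.mkₐ k J)).comp
      (Bialgebra.comulAlgHom k A)
  have hΦ : ∀ y : A, Φ y = TensorProduct.map (πJ (k := k) J) (πJ (k := k) J)
      (Coalgebra.comul (R := k) y) := fun y => rfl
  have hle : stab k A f ≤ RingHom.ker Φ := by
    unfold stab
    rw [Ideal.span_le]
    rintro _ ⟨φ, rfl⟩
    change Φ _ = 0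
    rw [hΦ, ← LinearMap.comp_apply, sl_natural, lTensor_map_comul_zz J f hz,
      map_zero]
  have := hle hx
  rw [RingHom.mem_ker, hΦ] at this
  exact this

lemma map_comul_eq_zero_of_mem_stab (f : V) {x : A} (hx : x ∈ stab k A f) :
    TensorProduct.map (πJ (k := k) (stab k A f)) (πJ (k := k) (stab k A f))
      (Coalgebra.comul (R := k) x) = 0 :=
  map_comul_eq_zero_of_mem_stab_gen (stab k A f) f (lTensor_πJ_zz f) hx

lemma antipode_mem_stab_gen (J : Ideal A) (f : V)
    (hz : (πJ (k := k) J).lTensor V (zz k A f) = 0) {x : A} (hx : x ∈ stab k A f) :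
    HopfAlgebra.antipode k x ∈ J := by
  have hle : stab k A f ≤ Ideal.comap (HopfAlgebra.antipodeAlgHom k A) J := by
    unfold stab
    rw [Ideal.span_le]
    rintro _ ⟨φ, rfl⟩
    change HopfAlgebra.antipode k (sl A φ (zz k A f)) ∈ J
    rw [← Ideal.Quotient.eq_zero_iff_mem]
    change ((πJ (k := k) J) ∘ₗ HopfAlgebra.antipode k (A := A)) (sl A φ (zz k A f)) = 0
    rw [sl_natural, lTensor_antipode_zz J f hz, map_zero]
  exact hle hx

lemma antipode_mem_stab (f : V) {x : A} (hx : x ∈ stab k A f) :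
    HopfAlgebra.antipode k x ∈ stab k A f :=
  antipode_mem_stab_gen (stab k A f) f (lTensor_πJ_zz f) hx

theorem stab_isHopfIdeal (f : V) : (stab k A f).IsHopfIdeal k where
  counit_eq_zero := fun _ hx => counit_eq_zero_of_mem_stab f hx
  map_mkQ_comul_eq_zero := fun _ hx => map_comul_eq_zero_of_mem_stab f hx
  antipode_mem := fun _ hx => antipode_mem_stab f hx

end Main

end Groth.Agent.Lib.Helper83.StabIdeal
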