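import Mathlib

set_option autoImplicit false

namespace Groth.Agent.Lib.Helper83.Swan

open Polynomial

universe u

/-- Atiyah–Macdonald 5.8 flavour: coefficients of a monic factor of (the image of) a monic
polynomial are integral. -/
theorem isIntegral_coeff_of_mul_eq {A B : Type u} [CommRing A] [CommRing B] [Algebra A B]
    (F₁ F₂ : B[X]) (hF₁ : F₁.Monic) (H : A[X]) (hH : H.Monic)
    (h : F₁ * F₂ = H.map (algebraMap A B)) (i : ℕ) : IsIntegral A (F₁.coeff i) := by
  rcases subsingleton_or_nontrivial B with hB | hB
  · have : F₁.coeff i = algebraMap A B 0 := Subsingleton.elim _ _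
    rw [this]; exact isIntegral_algebraMap
  obtain ⟨S, _, _, _, _, _, hsplit⟩ := hF₁.exists_splits_map
  let _ : Algebra A S := ((algebraMap B S).comp (algebraMap A B)).toAlgebra
  have _ : IsScalarTower A B S := IsScalarTower.of_algebraMap_eq (fun a => rfl)
  have hinj : Function.Injective (algebraMap B S) := FaithfulSMul.algebraMap_injective B S
  obtain ⟨m, hm⟩ := splits_iff_exists_multiset'.mp hsplit
  rw [(hF₁.map (algebraMap B S)).leadingCoeff, C_1, one_mul] at hm
  have hint : ∀ a ∈ m, IsIntegral A a := by
    intro a ha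
    have h1 : (F₁.map (algebraMap B S)).eval (-a) = 0 := by
      rw [hm, eval_multiset_prod]
      apply Multiset.prod_eq_zero
      rw [Multiset.mem_map]
      refine ⟨X + C a, Multiset.mem_map_of_mem _ ha, ?_⟩
      simp
    have h2 : (H.map (algebraMap A S)).eval (-a) = 0 := by
      have := congrArg (fun p : B[X] => (p.map (algebraMap B S)).eval (-a)) h
      simp only [Polynomial.map_mul, eval_mul, h1, zero_mul, Polynomial.map_map] at this
      rw [IsScalarTower.algebraMap_eq A B S]
      exact this.symm
    have h3 : IsIntegral A (-a) := ⟨H, hH, by rw [← eval_map]; exact h2⟩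
    have := h3.neg
    rwa [neg_neg] at this
  have hlift : F₁.map (algebraMap B S) ∈ Polynomial.lifts (algebraMap (integralClosure A S) S) := by
    rw [hm]
    apply Subsemiring.multiset_prod_mem
    intro p hp
    rw [Multiset.mem_map] at hp
    obtain ⟨a, ha, rfl⟩ := hp
    apply Subsemiring.add_mem _ (X_mem_lifts _)
    exact C_mem_lifts (algebraMap (integralClosure A S) S) ⟨a, hint a ha⟩
  rw [lifts_iff_coeff_lifts] at hlift
  obtain ⟨⟨c, hc⟩, hci⟩ := hlift i
  rw [coeff_map] at hci
  rw [← isIntegral_algebraMap_iff hinj, ← hci]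
  exact hc

/-- version for constant coefficient `1` (via reflection). -/
theorem isIntegral_coeff_of_mul_eq' {A B : Type u} [CommRing A] [CommRing B] [Algebra A B]
    (hinj : Function.Injective (algebraMap A B))
    (f g : B[X]) (hf : f.coeff 0 = 1) (hg : g.coeff 0 = 1) (G : A[X])
    (h : f * g = G.map (algebraMap A B)) (i : ℕ) : IsIntegral A (f.coeff i) := by
  set nf := f.natDegree with hnf
  set ng := g.natDegree with hng
  have hGdeg : G.natDegree ≤ nf + ng := by
    rw [← natDegree_map_eq_of_injective hinj G, ← h]
    exact natDegree_mul_le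
  have hG0 : G.coeff 0 = 1 := by
    apply hinj
    rw [← coeff_map, ← h, mul_coeff_zero, hf, hg, mul_one, map_one]
  have hF₁ : (reflect nf f).Monic := by
    apply monic_of_natDegree_le_of_coeff_eq_one nf
    · exact (natDegree_reflect_le).trans (by simp [hnf])
    · rw [coeff_reflect, revAt_le le_rfl, Nat.sub_self, hf]
  have hH : (reflect (nf + ng) G).Monic := by
    apply monic_of_natDegree_le_of_coeff_eq_one (nf + ng)
    · exact (natDegree_reflect_le).trans (by simp [hGdeg])
    · rw [coeff_reflect, revAt_le le_rfl, Nat.sub_self, hG0]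
  have hmul : reflect nf f * reflect ng g = (reflect (nf + ng) G).map (algebraMap A B) := by
    rw [← reflect_mul f g le_rfl le_rfl, h, reflect_map]
  by_cases hi : i ≤ nf
  · have := isIntegral_coeff_of_mul_eq (reflect nf f) (reflect ng g) hF₁ _ hH hmul (nf - i)
    rwa [coeff_reflect, revAt_le (Nat.sub_le _ _), Nat.sub_sub_self hi] at this
  · rw [coeff_eq_zero_of_natDegree_lt (by omega)]
    exact isIntegral_zero

end Groth.Agent.Lib.Helper83.Swan
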