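import Mathlib
import Groth.Prelude.Def_HTop2

set_option autoImplicit false

namespace Groth.Agent.Lib.Helper83.Swan

open Polynomial

universe u

section Coeff

variable {K : Type u} [CommRing K]

/-- division by a polynomial with constant coefficient `1` stays inside a subring. -/
theorem coeff_mem_of_mul_eq (S : Subring K) (G h a' : K[X]) (hG : ∀ k, G.coeff k ∈ S)
    (hh : ∀ k, h.coeff k ∈ S) (hG0 : G.coeff 0 = 1) (e : a' * G = h) (k : ℕ) :
    a'.coeff k ∈ S := by
  induction k using Nat.strong_induction_on with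
  | _ k ih =>
    have h1 := congrArg (fun p : K[X] => p.coeff k) e
    simp only [coeff_mul] at h1
    have hmem : (k, 0) ∈ Finset.HasAntidiagonal.antidiagonal k := by simp
    rw [← Finset.add_sum_erase _ _ hmem] at h1
    simp only [hG0, mul_one] at h1
    have h2 : a'.coeff k = h.coeff k -
        ∑ x ∈ (Finset.HasAntidiagonal.antidiagonal k).erase (k, 0), a'.coeff x.1 * G.coeff x.2 := by
      rw [← h1]; ring
    rw [h2]
    apply S.sub_mem (hh k)
    apply S.sum_mem
    intro x hx
    rw [Finset.mem_erase, Finset.HasAntidiagonal.mem_antidiagonal] at hx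
    have hlt : x.1 < k := by
      rcases hx with ⟨hne, hsum⟩
      by_contra hge
      have h0 : x.2 = 0 := by omega
      have h1' : x.1 = k := by omega
      exact hne (Prod.ext h1' h0)
    exact S.mul_mem (ih x.1 hlt) (hG x.2)

end Coeff

section Seminormal

variable {R : Type u} [CommRing R] {T : Type u} [CommRing T] [Algebra R T]

theorem isReduced_of_seminormal (hR : HTop.IsSeminormalRing R) : IsReduced R := by
  constructor
  intro b hb
  have key : ∀ c : R, c ^ 2 = 0 → c = 0 := by
    intro c hc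
    obtain ⟨a, -, hu⟩ := hR 0 0 (by simp)
    have h1 := hu c ⟨by rw [hc], by rw [pow_succ, hc, zero_mul]⟩
    have h2 := hu 0 ⟨by simp, by simp⟩
    rw [h1, h2]
  obtain ⟨n, hn⟩ := hb
  induction n using Nat.strong_induction_on generalizing b with
  | _ n ih =>
    rcases Nat.lt_or_ge n 2 with h | h
    · interval_cases n
      · rw [pow_zero] at hn
        have : b = b * 1 := (mul_one b).symm
        rw [this, hn, mul_zero]
      · rwa [pow_one] at hn
    · have h1 : (b ^ (n - 1)) ^ 2 = 0 := by
        rw [← pow_mul]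
        have : (n - 1) * 2 = n + (n - 2) := by omega
        rw [this, pow_add, hn, zero_mul]
      exact ih (n - 1) (by omega) b (key _ h1)

/-- a seminormal ring is seminormal in every reduced overring. -/
theorem seminormal_in (hR : HTop.IsSeminormalRing R) [IsReduced T]
    (hinj : Function.Injective (algebraMap R T)) (b : T)
    (h2 : b ^ 2 ∈ (algebraMap R T).range) (h3 : b ^ 3 ∈ (algebraMap R T).range) :
    b ∈ (algebraMap R T).range := by
  obtain ⟨x, hx⟩ := h2
  obtain ⟨y, hy⟩ := h3
  have hxy : x ^ 3 = y ^ 2 := by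
    apply hinj
    rw [map_pow, map_pow, hx, hy]; ring
  obtain ⟨a, ⟨ha2, ha3⟩, -⟩ := hR x y hxy
  refine ⟨a, ?_⟩
  have e2 : algebraMap R T a ^ 2 = b ^ 2 := by rw [← map_pow, ← ha2, hx]
  have e3 : algebraMap R T a ^ 3 = b ^ 3 := by rw [← map_pow, ← ha3, hy]
  have hnil : (algebraMap R T a - b) ^ 3 = 0 := by
    have h0 : (algebraMap R T a - b) ^ 3 = algebraMap R T a ^ 3 - 3 * (algebraMap R T a ^ 2) * b
        + 3 * algebraMap R T a * b ^ 2 - b ^ 3 := by ring
    have e4 : algebraMap R T a * b ^ 2 = b ^ 3 := by rw [← e2, ← pow_succ', e3]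
    rw [h0, e3, e2]
    linear_combination 3 * e4
  have := IsNilpotent.eq_zero ⟨3, hnil⟩
  exact sub_eq_zero.mp this

variable (R T) in
/-- the conductor of `R` in `T`, as an ideal of `T`. -/
def cond : Ideal T where
  carrier := {x | ∀ y : T, x * y ∈ (algebraMap R T).range}
  add_mem' := fun {a b} ha hb y => by rw [add_mul]; exact Subring.add_mem _ (ha y) (hb y)
  zero_mem' := fun y => by rw [zero_mul]; exact Subring.zero_mem _
  smul_mem' := fun c x hx y => by
    show (c * x) * y ∈ _
    have := hx (c * y)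
    have e : (c * x) * y = x * (c * y) := by ring
    rw [e]; exact this

theorem mem_cond {x : T} : x ∈ cond R T ↔ ∀ y : T, x * y ∈ (algebraMap R T).range := Iff.rfl

theorem cond_le_range {x : T} (hx : x ∈ cond R T) : x ∈ (algebraMap R T).range := by
  have := hx 1; rwa [mul_one] at this

/-- Traverso: the conductor of a seminormal extension is a radical ideal. -/
theorem traverso (hsn : ∀ b : T, b ^ 2 ∈ (algebraMap R T).range → b ^ 3 ∈ (algebraMap R T).range →
      b ∈ (algebraMap R T).range) (b : T) (hb : b ^ 2 ∈ cond R T) : b ∈ cond R T := by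
  intro y
  apply hsn
  · have := hb (y ^ 2)
    rwa [← mul_pow] at this
  · have := hb (b * y ^ 3)
    have e : b ^ 2 * (b * y ^ 3) = (b * y) ^ 3 := by ring
    rwa [e] at this

theorem traverso_pow (hsn : ∀ b : T, b ^ 2 ∈ (algebraMap R T).range →
      b ^ 3 ∈ (algebraMap R T).range → b ∈ (algebraMap R T).range) (n : ℕ) (hn : 1 ≤ n) (b : T)
    (hb : b ^ n ∈ cond R T) : b ∈ cond R T := by
  induction n using Nat.strong_induction_on generalizing b with
  | _ n ih =>
    rcases Nat.lt_or_ge n 2 with h | h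
    · have : n = 1 := by omega
      rw [this, pow_one] at hb; exact hb
    · have h1 : (b ^ (n - 1)) ^ 2 ∈ cond R T := by
        rw [← pow_mul]
        have : (n - 1) * 2 = n + (n - 2) := by omega
        rw [this, pow_add]
        exact Ideal.mul_mem_right _ _ hb
      exact ih (n - 1) (by omega) (by omega) b (traverso hsn _ h1)

end Seminormal

section MinPrime

variable {R : Type u} [CommRing R]

theorem exists_mul_pow_mem (I p : Ideal R) (hp : p ∈ I.minimalPrimes) (r : R) (hr : r ∈ p) :
    ∃ s : R, s ∉ p ∧ ∃ n : ℕ, s * r ^ n ∈ I := by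
  have hpp : p.IsPrime := hp.1.1
  let S : Submonoid R :=
    { carrier := {x | ∃ s : R, s ∉ p ∧ ∃ n : ℕ, x = s * r ^ n}
      mul_mem' := by
        rintro _ _ ⟨s, hs, n, rfl⟩ ⟨s', hs', n', rfl⟩
        refine ⟨s * s', fun h => ?_, n + n', by ring⟩
        rcases hpp.mem_or_mem h with h | h
        · exact hs h
        · exact hs' h
      one_mem' := ⟨1, fun h => hpp.ne_top ((Ideal.eq_top_iff_one _).mpr h), 0, by simp⟩ }
  by_contra hcon
  have hdisj : Disjoint (I : Set R) S := by
    rw [Set.disjoint_left]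
    rintro x hxI ⟨s, hs, n, rfl⟩
    exact hcon ⟨s, hs, n, hxI⟩
  obtain ⟨q, hq, hIq, hqS⟩ := Ideal.exists_le_prime_disjoint I S hdisj
  have hqp : q ≤ p := by
    intro x hx
    by_contra hxp
    exact Set.disjoint_left.mp hqS hx ⟨x, hxp, 0, by simp⟩
  have hpq : p ≤ q := hp.2 ⟨hq, hIq⟩ hqp
  exact Set.disjoint_left.mp hqS (hpq hr) ⟨1, fun h => hpp.ne_top ((Ideal.eq_top_iff_one _).mpr h),
    1, by simp⟩

end MinPrime

section Units

variable {T : Type u} [CommRing T] [IsReduced T]

theorem eq_C_of_isUnit (u : T[X]) (hu : IsUnit u) : u = C (u.coeff 0) ∧ IsUnit (u.coeff 0) := by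
  rw [isUnit_iff_coeff_isUnit_isNilpotent] at hu
  refine ⟨?_, hu.1⟩
  ext k
  rcases Nat.eq_zero_or_pos k with h | h
  · rw [h, coeff_C_zero]
  · rw [coeff_C, if_neg (by omega)]
    exact (hu.2 k (by omega)).eq_zero

end Units

end Groth.Agent.Lib.Helper83.Swan
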