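import Mathlib
import Groth.Agent.Lib.Helper83.Swan2
import Groth.Agent.Lib.Helper83.ZarLaur1

set_option autoImplicit false

namespace Groth.Agent.Lib.Helper83.Swan

open Polynomial IsLocalRing

universe u v

section SL

variable {κ : Type u} [Field κ] {Tb : Type u} [CommRing Tb] [IsReduced Tb] [Nontrivial Tb]
  (j : κ →+* Tb) {ι : Type v} [Fintype ι]

/-- over a field `κ ⊆ T̄` (reduced): if `f̄` (constant coefficient `1`) generates the extension of
an ideal of `κ[X]`, then `f̄ ∈ κ[X]`. -/
theorem coeff_mem_range_of_span (ab : ι → κ[X]) (a' b' : ι → Tb[X]) (fb : Tb[X])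
    (hf0 : fb.coeff 0 = 1) (ha : ∀ i, (ab i).map j = a' i * fb) (hab : ∑ i, a' i * b' i = 1)
    (k : ℕ) : fb.coeff k ∈ j.range := by
  set 𝔞 : Ideal κ[X] := Ideal.span (Set.range ab) with h𝔞
  set d := Submodule.IsPrincipal.generator 𝔞 with hd
  have h𝔞d : 𝔞 = Ideal.span {d} := (Ideal.span_singleton_generator 𝔞).symm
  -- d.map j = v * fb
  have hdmem : d ∈ Ideal.span (Set.range ab) := by
    rw [← h𝔞]; exact Submodule.IsPrincipal.generator_mem 𝔞
  obtain ⟨c, hc⟩ := (Ideal.mem_span_range_iff_exists_fun).mp hdmem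
  have h1 : d.map j = (∑ i, (c i).map j * a' i) * fb := by
    rw [← hc, Polynomial.map_sum, Finset.sum_mul]
    apply Finset.sum_congr rfl
    intro i _
    rw [Polynomial.map_mul, ha i]; ring
  -- fb = u * d.map j
  have he : ∀ i, ∃ e : κ[X], ab i = e * d := by
    intro i
    have : ab i ∈ 𝔞 := Ideal.subset_span ⟨i, rfl⟩
    rw [h𝔞d, Ideal.mem_span_singleton'] at this
    obtain ⟨e, he⟩ := this
    exact ⟨e, he.symm⟩
  choose e he using he
  have h2 : fb = (∑ i, b' i * (e i).map j) * d.map j := by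
    have : fb = (∑ i, a' i * b' i) * fb := by rw [hab, one_mul]
    conv_lhs => rw [this]
    rw [Finset.sum_mul, Finset.sum_mul]
    apply Finset.sum_congr rfl
    intro i _
    have := ha i
    rw [he i, Polynomial.map_mul] at this
    calc a' i * b' i * fb = b' i * (a' i * fb) := by ring
      _ = b' i * ((e i).map j * d.map j) := by rw [this]
      _ = _ := by ring
  set u := ∑ i, b' i * (e i).map j with hu
  set v := ∑ i, (c i).map j * a' i with hv
  have hnz : fb ∈ nonZeroDivisors Tb[X] :=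
    Groth.Agent.Lib.Helper83.ZarLaur.mem_nonZeroDivisors_of_coeff_zero hf0
  have huv : u * v = 1 := by
    have h3 : (u * v - 1) * fb = 0 := by
      have : u * v * fb = fb := by
        calc u * v * fb = u * (v * fb) := by ring
          _ = u * d.map j := by rw [← h1]
          _ = fb := h2.symm
      rw [sub_mul, this, one_mul, sub_self]
    have := mem_nonZeroDivisors_iff_right.mp hnz _ h3
    exact sub_eq_zero.mp this
  have huu : IsUnit u := IsUnit.of_mul_eq_one _ huv
  obtain ⟨huC, hu0⟩ := eq_C_of_isUnit u huu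
  have hcoeff : ∀ k, fb.coeff k = u.coeff 0 * j (d.coeff k) := by
    intro k
    conv_lhs => rw [h2, huC, coeff_C_mul, coeff_map]
  have h0 := hcoeff 0
  rw [hf0] at h0
  have hd0 : d.coeff 0 ≠ 0 := by
    intro hzero
    rw [hzero, map_zero, mul_zero] at h0
    exact one_ne_zero h0
  have hu0' : u.coeff 0 = j (d.coeff 0)⁻¹ := by
    calc u.coeff 0 = u.coeff 0 * (j (d.coeff 0) * j (d.coeff 0)⁻¹) := by
          rw [← map_mul, mul_inv_cancel₀ hd0, map_one, mul_one]
      _ = (u.coeff 0 * j (d.coeff 0)) * j (d.coeff 0)⁻¹ := by ring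
      _ = j (d.coeff 0)⁻¹ := by rw [← h0, one_mul]
  refine ⟨(d.coeff 0)⁻¹ * d.coeff k, ?_⟩
  rw [hcoeff k, hu0', map_mul]

end SL

section LL

variable {R' T' : Type u} [CommRing R'] [IsLocalRing R'] [CommRing T'] [Algebra R' T'] [IsReduced T']

omit [IsReduced T'] in
/-- the local lemma. -/
theorem local_lemma
    (hsn : ∀ b : T', b ^ 2 ∈ (algebraMap R' T').range → b ^ 3 ∈ (algebraMap R' T').range →
      b ∈ (algebraMap R' T').range)
    (hH : ∀ r ∈ maximalIdeal R', ∃ n : ℕ, 1 ≤ n ∧
      ∀ θ : T', algebraMap R' T' r ^ n * θ ∈ (algebraMap R' T').range)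
    {ι : Type v} [Fintype ι]
    (f g : T'[X]) (hf0 : f.coeff 0 = 1) (hg0 : g.coeff 0 = 1)
    (a b : ι → R'[X]) (a' b' : ι → T'[X])
    (ha : ∀ i, (a i).map (algebraMap R' T') = a' i * f)
    (hb : ∀ i, (b i).map (algebraMap R' T') = b' i * g)
    (hab : ∑ i, a' i * b' i = 1)
    (hgen : Algebra.adjoin R' ({θ | ∃ k, θ = f.coeff k} ∪ {θ | ∃ k, θ = g.coeff k}) = ⊤) :
    Function.Surjective (algebraMap R' T') := by
  have hm : ∀ r ∈ maximalIdeal R', algebraMap R' T' r ∈ cond R' T' := by
    intro r hr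
    obtain ⟨n, hn, h⟩ := hH r hr
    exact traverso_pow hsn n hn _ h
  by_cases h1 : (1 : T') ∈ cond R' T'
  · intro y
    have := h1 y
    rw [one_mul] at this
    exact this
  have hne : cond R' T' ≠ ⊤ := fun h => h1 (by rw [h]; trivial)
  have hrad : (cond R' T').IsRadical := by
    intro x hx
    obtain ⟨n, hn⟩ := hx
    rcases Nat.eq_zero_or_pos n with h0 | h0
    · rw [h0, pow_zero] at hn; exact absurd hn h1
    · exact traverso_pow hsn n h0 x hn
  have _ : IsReduced (T' ⧸ cond R' T') := (Ideal.isRadical_iff_quotient_reduced _).mp hrad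
  have _ : Nontrivial (T' ⧸ cond R' T') := Ideal.Quotient.nontrivial_iff.mpr hne
  let j : ResidueField R' →+* T' ⧸ cond R' T' :=
    Ideal.Quotient.lift (maximalIdeal R') ((Ideal.Quotient.mk (cond R' T')).comp (algebraMap R' T'))
      (fun r hr => by
        rw [RingHom.comp_apply, Ideal.Quotient.eq_zero_iff_mem]; exact hm r hr)
  have hj : ∀ r : R', j (residue R' r) = Ideal.Quotient.mk (cond R' T') (algebraMap R' T' r) :=
    fun r => rfl
  have hJ : ∀ p : R'[X], (p.map (residue R')).map j =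
      (p.map (algebraMap R' T')).map (Ideal.Quotient.mk (cond R' T')) := by
    intro p
    rw [Polynomial.map_map, Polynomial.map_map]
    congr 1
  set π := Ideal.Quotient.mk (cond R' T') with hπ
  have hab' : ∑ i, (a' i).map π * (b' i).map π = 1 := by
    have := congrArg (Polynomial.map π) hab
    simpa [Polynomial.map_sum] using this
  have hba' : ∑ i, (b' i).map π * (a' i).map π = 1 := by
    rw [← hab']; exact Finset.sum_congr rfl (fun i _ => mul_comm _ _)
  have hfrange : ∀ k, f.coeff k ∈ (algebraMap R' T').range := by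
    intro k
    have := coeff_mem_range_of_span j (fun i => (a i).map (residue R')) (fun i => (a' i).map π)
      (fun i => (b' i).map π) (f.map π) (by rw [coeff_map, hf0, map_one])
      (fun i => by rw [hJ, ha i, Polynomial.map_mul]) hab' k
    obtain ⟨xb, hxb⟩ := this
    obtain ⟨x, rfl⟩ := residue_surjective xb
    rw [hj, coeff_map] at hxb
    have h2 : f.coeff k - algebraMap R' T' x ∈ cond R' T' := by
      rw [← Ideal.Quotient.eq_zero_iff_mem, map_sub, ← hxb, sub_self]
    have h3 := cond_le_range h2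
    have : f.coeff k = (f.coeff k - algebraMap R' T' x) + algebraMap R' T' x := by ring
    rw [this]
    exact Subring.add_mem _ h3 ⟨x, rfl⟩
  have hgrange : ∀ k, g.coeff k ∈ (algebraMap R' T').range := by
    intro k
    have := coeff_mem_range_of_span j (fun i => (b i).map (residue R')) (fun i => (b' i).map π)
      (fun i => (a' i).map π) (g.map π) (by rw [coeff_map, hg0, map_one])
      (fun i => by rw [hJ, hb i, Polynomial.map_mul]) hba' k
    obtain ⟨xb, hxb⟩ := this
    obtain ⟨x, rfl⟩ := residue_surjective xb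
    rw [hj, coeff_map] at hxb
    have h2 : g.coeff k - algebraMap R' T' x ∈ cond R' T' := by
      rw [← Ideal.Quotient.eq_zero_iff_mem, map_sub, ← hxb, sub_self]
    have h3 := cond_le_range h2
    have : g.coeff k = (g.coeff k - algebraMap R' T' x) + algebraMap R' T' x := by ring
    rw [this]
    exact Subring.add_mem _ h3 ⟨x, rfl⟩
  have hle : Algebra.adjoin R' ({θ | ∃ k, θ = f.coeff k} ∪ {θ | ∃ k, θ = g.coeff k}) ≤
      (Algebra.ofId R' T').range := by
    rw [Algebra.adjoin_le_iff]
    rintro θ (⟨k, rfl⟩ | ⟨k, rfl⟩)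
    · obtain ⟨x, hx⟩ := hfrange k; exact ⟨x, hx⟩
    · obtain ⟨x, hx⟩ := hgrange k; exact ⟨x, hx⟩
  rw [hgen] at hle
  intro y
  obtain ⟨x, hx⟩ := hle (Algebra.mem_top : y ∈ ⊤)
  exact ⟨x, hx⟩

end LL

end Groth.Agent.Lib.Helper83.Swan
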