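import Mathlib
import Groth.Agent.Lib.Helper83.Swan3

set_option autoImplicit false

namespace Groth.Agent.Lib.Helper83.Swan

open Polynomial IsLocalRing

universe u v

section Loc

variable {R T : Type u} [CommRing R] [CommRing T] [Algebra R T] (p : Ideal R) [p.IsPrime]

local notation "R'" => Localization.AtPrime p
local notation "T'" => Localization (Algebra.algebraMapSubmonoid T p.primeCompl)

theorem psi_eq (r : R) : algebraMap R' T' (algebraMap R R' r) = algebraMap T T' (algebraMap R T r) := by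
  rw [← IsScalarTower.algebraMap_apply R R' T', ← IsScalarTower.algebraMap_apply R T T']

theorem isUnit_psi (s : R) (hs : s ∈ p.primeCompl) :
    IsUnit (algebraMap T T' (algebraMap R T s)) := by
  rw [← psi_eq]
  exact (IsLocalization.map_units R' ⟨s, hs⟩).map _

/-- description of the range of `R_p → T_p`. -/
theorem mem_range_iff (y : T') : y ∈ (algebraMap R' T').range ↔
    ∃ r : R, ∃ s ∈ p.primeCompl,
      y * algebraMap T T' (algebraMap R T s) = algebraMap T T' (algebraMap R T r) := by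
  constructor
  · rintro ⟨x, rfl⟩
    obtain ⟨⟨r, s⟩, hrs⟩ := IsLocalization.surj p.primeCompl x
    refine ⟨r, s.1, s.2, ?_⟩
    rw [← psi_eq, ← psi_eq, ← map_mul, hrs]
  · rintro ⟨r, s, hs, h⟩
    refine ⟨IsLocalization.mk' R' r ⟨s, hs⟩, ?_⟩
    apply (isUnit_psi p s hs).mul_left_injective
    simp only
    rw [h, ← psi_eq, ← map_mul, IsLocalization.mk'_spec, psi_eq]

theorem exists_rep (x : T') : ∃ t : T, ∃ s ∈ p.primeCompl,
    x * algebraMap T T' (algebraMap R T s) = algebraMap T T' t := by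
  obtain ⟨⟨t, m⟩, h⟩ := IsLocalization.surj (Algebra.algebraMapSubmonoid T p.primeCompl) x
  obtain ⟨s, hs, hsm⟩ := m.2
  refine ⟨t, s, hs, ?_⟩
  rw [hsm]; exact h

theorem exists_of_map_eq (x y : T) (h : algebraMap T T' x = algebraMap T T' y) :
    ∃ u ∈ p.primeCompl, algebraMap R T u * x = algebraMap R T u * y := by
  obtain ⟨c, hc⟩ := (IsLocalization.eq_iff_exists (Algebra.algebraMapSubmonoid T p.primeCompl) T').mp h
  obtain ⟨u, hu, huc⟩ := c.2
  exact ⟨u, hu, by rw [huc]; exact hc⟩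

/-- seminormality of an extension localizes. -/
theorem seminormal_loc
    (hsn : ∀ b : T, b ^ 2 ∈ (algebraMap R T).range → b ^ 3 ∈ (algebraMap R T).range →
      b ∈ (algebraMap R T).range)
    (b : T') (h2 : b ^ 2 ∈ (algebraMap R' T').range) (h3 : b ^ 3 ∈ (algebraMap R' T').range) :
    b ∈ (algebraMap R' T').range := by
  obtain ⟨t, s, hs, hb⟩ := exists_rep p b
  obtain ⟨r₂, s₂, hs₂, e2⟩ := (mem_range_iff p _).mp h2
  obtain ⟨r₃, s₃, hs₃, e3⟩ := (mem_range_iff p _).mp h3
  set ι := algebraMap R T with hι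
  set φ := algebraMap T T' with hφ
  -- equalities in T'
  have E2 : φ (t ^ 2 * ι s₂) = φ (ι r₂ * ι s ^ 2) := by
    rw [map_mul, map_pow, ← hb, map_mul, map_pow]
    calc (b * φ (ι s)) ^ 2 * φ (ι s₂) = (b ^ 2 * φ (ι s₂)) * φ (ι s) ^ 2 := by ring
      _ = φ (ι r₂) * φ (ι s) ^ 2 := by rw [e2]
  have E3 : φ (t ^ 3 * ι s₃) = φ (ι r₃ * ι s ^ 3) := by
    rw [map_mul, map_pow, ← hb, map_mul, map_pow]
    calc (b * φ (ι s)) ^ 3 * φ (ι s₃) = (b ^ 3 * φ (ι s₃)) * φ (ι s) ^ 3 := by ring
      _ = φ (ι r₃) * φ (ι s) ^ 3 := by rw [e3]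
  obtain ⟨u, hu, F2⟩ := exists_of_map_eq p _ _ E2
  obtain ⟨u', hu', F3⟩ := exists_of_map_eq p _ _ E3
  set w : R := u * s₂ * (u' * s₃) with hw
  have hwp : w ∈ p.primeCompl :=
    Submonoid.mul_mem _ (Submonoid.mul_mem _ hu hs₂) (Submonoid.mul_mem _ hu' hs₃)
  have hd2 : (ι w * t) ^ 2 ∈ (algebraMap R T).range := by
    refine ⟨(u' * s₃) ^ 2 * (u * s₂) * (u * r₂ * s ^ 2), ?_⟩
    simp only [map_mul, map_pow, hw]
    rw [← hι]
    have : ι u * (t ^ 2 * ι s₂) = ι u * (ι r₂ * ι s ^ 2) := F2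
    linear_combination (-(ι u' * ι s₃) ^ 2 * (ι u * ι s₂)) * this
  have hd3 : (ι w * t) ^ 3 ∈ (algebraMap R T).range := by
    refine ⟨(u * s₂) ^ 3 * (u' * s₃) ^ 2 * (u' * r₃ * s ^ 3), ?_⟩
    simp only [map_mul, map_pow, hw]
    rw [← hι]
    have : ι u' * (t ^ 3 * ι s₃) = ι u' * (ι r₃ * ι s ^ 3) := F3
    linear_combination (-(ι u * ι s₂) ^ 3 * (ι u' * ι s₃) ^ 2) * this
  obtain ⟨r₀, hr₀⟩ := hsn _ hd2 hd3
  rw [mem_range_iff]
  refine ⟨r₀, w * s, Submonoid.mul_mem _ hwp hs, ?_⟩
  rw [hr₀, map_mul (algebraMap R T), map_mul φ, map_mul φ, ← hb]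
  ring

end Loc

section Glob

variable {R T : Type u} [CommRing R] [CommRing T] [Algebra R T] [Module.Finite R T]

/-- the global lemma: a finite seminormal extension generated by the coefficients of a normalized
factorization is trivial. -/
theorem global_lemma
    (hsn : ∀ b : T, b ^ 2 ∈ (algebraMap R T).range → b ^ 3 ∈ (algebraMap R T).range →
      b ∈ (algebraMap R T).range)
    {ι : Type v} [Fintype ι]
    (f g : T[X]) (hf0 : f.coeff 0 = 1) (hg0 : g.coeff 0 = 1)
    (a b : ι → R[X]) (a' b' : ι → T[X])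
    (ha : ∀ i, (a i).map (algebraMap R T) = a' i * f)
    (hb : ∀ i, (b i).map (algebraMap R T) = b' i * g)
    (hab : ∑ i, a' i * b' i = 1)
    (hgen : Algebra.adjoin R ({θ | ∃ k, θ = f.coeff k} ∪ {θ | ∃ k, θ = g.coeff k}) = ⊤) :
    Function.Surjective (algebraMap R T) := by
  classical
  set 𝔠 : Ideal R := (cond R T).comap (algebraMap R T) with h𝔠
  by_cases htop : 𝔠 = ⊤
  · have h1 : (1 : R) ∈ 𝔠 := by rw [htop]; trivial
    rw [h𝔠, Ideal.mem_comap, map_one] at h1
    intro y
    have := h1 y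
    rwa [one_mul] at this
  exfalso
  obtain ⟨m, hm, h𝔠m⟩ := Ideal.exists_le_maximal 𝔠 htop
  have _ : m.IsPrime := hm.isPrime
  obtain ⟨p, hp, hpm⟩ := Ideal.exists_minimalPrimes_le h𝔠m
  have _ : p.IsPrime := hp.1.1
  have h𝔠p : 𝔠 ≤ p := hp.1.2
  set φ := algebraMap T (Localization (Algebra.algebraMapSubmonoid T p.primeCompl)) with hφ
  -- (H')
  have hH : ∀ r ∈ maximalIdeal (Localization.AtPrime p), ∃ n : ℕ, 1 ≤ n ∧
      ∀ θ : Localization (Algebra.algebraMapSubmonoid T p.primeCompl),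
        algebraMap (Localization.AtPrime p) _ r ^ n * θ ∈
          (algebraMap (Localization.AtPrime p)
            (Localization (Algebra.algebraMapSubmonoid T p.primeCompl))).range := by
    intro r' hr'
    obtain ⟨⟨r, s⟩, hrs⟩ := IsLocalization.surj p.primeCompl r'
    have hrp : r ∈ p := by
      have : algebraMap R (Localization.AtPrime p) r ∈ maximalIdeal (Localization.AtPrime p) := by
        rw [← hrs]; exact Ideal.mul_mem_right _ _ hr'
      exact (IsLocalization.AtPrime.to_map_mem_maximal_iff (Localization.AtPrime p) p r).mp this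
    obtain ⟨v, hv, n, hvn⟩ := exists_mul_pow_mem 𝔠 p hp r hrp
    refine ⟨n + 1, by omega, ?_⟩
    intro θ
    obtain ⟨t, s₁, hs₁, hθ⟩ := exists_rep p θ
    have hmem : v * r ^ (n + 1) ∈ 𝔠 := by
      rw [pow_succ, ← mul_assoc]; exact Ideal.mul_mem_right _ _ hvn
    rw [h𝔠, Ideal.mem_comap] at hmem
    obtain ⟨r₀, hr₀⟩ := hmem t
    rw [mem_range_iff]
    refine ⟨r₀, v * (s.1 ^ (n + 1) * s₁), Submonoid.mul_mem _ hv
      (Submonoid.mul_mem _ (Submonoid.pow_mem _ s.2 _) hs₁), ?_⟩
    rw [hr₀, map_mul φ, ← hθ]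
    have e1 : algebraMap (Localization.AtPrime p)
        (Localization (Algebra.algebraMapSubmonoid T p.primeCompl)) r' *
        φ (algebraMap R T s.1) = φ (algebraMap R T r) := by
      rw [← psi_eq, ← psi_eq, ← map_mul, hrs]
    simp only [map_mul, map_pow]
    rw [← hφ]
    calc algebraMap (Localization.AtPrime p) _ r' ^ (n + 1) * θ *
          (φ (algebraMap R T v) * (φ (algebraMap R T s.1) ^ (n + 1) * φ (algebraMap R T s₁)))
        = φ (algebraMap R T v) * (algebraMap (Localization.AtPrime p) _ r' *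
            φ (algebraMap R T s.1)) ^ (n + 1) * (θ * φ (algebraMap R T s₁)) := by ring
      _ = _ := by rw [e1]
  -- generation
  have hgen' : Algebra.adjoin (Localization.AtPrime p)
      ({θ | ∃ k, θ = (f.map φ).coeff k} ∪ {θ | ∃ k, θ = (g.map φ).coeff k}) = ⊤ := by
    rw [eq_top_iff]
    rintro x -
    obtain ⟨t, s, hs, hx⟩ := exists_rep p x
    have ht : φ t ∈ Algebra.adjoin (Localization.AtPrime p)
        ({θ | ∃ k, θ = (f.map φ).coeff k} ∪ {θ | ∃ k, θ = (g.map φ).coeff k}) := by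
      have htop : t ∈ Algebra.adjoin R
          ({θ | ∃ k, θ = f.coeff k} ∪ {θ | ∃ k, θ = g.coeff k}) := by rw [hgen]; trivial
      refine Algebra.adjoin_induction (p := fun t _ => φ t ∈ Algebra.adjoin (Localization.AtPrime p)
        ({θ | ∃ k, θ = (f.map φ).coeff k} ∪ {θ | ∃ k, θ = (g.map φ).coeff k})) ?_ ?_ ?_ ?_ htop
      · rintro θ (⟨k, rfl⟩ | ⟨k, rfl⟩)
        · exact Algebra.subset_adjoin (Or.inl ⟨k, by rw [coeff_map]⟩)
        · exact Algebra.subset_adjoin (Or.inr ⟨k, by rw [coeff_map]⟩)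
      · intro r
        rw [hφ, ← psi_eq]
        exact Subalgebra.algebraMap_mem _ _
      · intro x y _ _ hx hy
        rw [map_add]; exact Subalgebra.add_mem _ hx hy
      · intro x y _ _ hx hy
        rw [map_mul]; exact Subalgebra.mul_mem _ hx hy
    have hu := isUnit_psi (T := T) p s hs
    have : x = φ t * algebraMap (Localization.AtPrime p) _
        (IsLocalization.mk' (Localization.AtPrime p) (1 : R) ⟨s, hs⟩) := by
      apply hu.mul_left_injective
      simp only
      rw [hx, mul_assoc, ← psi_eq, ← map_mul, IsLocalization.mk'_spec, map_one, map_one, mul_one]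
    rw [this]
    exact Subalgebra.mul_mem _ ht (Subalgebra.algebraMap_mem _ _)
  have hmapR : ∀ q : R[X], (q.map (algebraMap R (Localization.AtPrime p))).map
      (algebraMap (Localization.AtPrime p)
        (Localization (Algebra.algebraMapSubmonoid T p.primeCompl))) =
      (q.map (algebraMap R T)).map φ := by
    intro q
    rw [Polynomial.map_map, Polynomial.map_map]
    congr 1
    ext r
    exact psi_eq p r
  have hsurj := local_lemma (R' := Localization.AtPrime p)
    (T' := Localization (Algebra.algebraMapSubmonoid T p.primeCompl))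
    (seminormal_loc p hsn) hH (f.map φ) (g.map φ)
    (by rw [coeff_map, hf0, map_one]) (by rw [coeff_map, hg0, map_one])
    (fun i => (a i).map (algebraMap R (Localization.AtPrime p)))
    (fun i => (b i).map (algebraMap R (Localization.AtPrime p)))
    (fun i => (a' i).map φ) (fun i => (b' i).map φ)
    (fun i => by rw [hmapR, ha i, Polynomial.map_mul])
    (fun i => by rw [hmapR, hb i, Polynomial.map_mul])
    (by
      have := congrArg (Polynomial.map φ) hab
      simpa [Polynomial.map_sum] using this)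
    hgen'
  -- contradiction
  obtain ⟨S, hS⟩ := (Module.Finite.fg_top : (⊤ : Submodule R T).FG)
  have hτ : ∀ τ : T, ∃ s ∈ p.primeCompl, algebraMap R T s * τ ∈ (algebraMap R T).range := by
    intro τ
    obtain ⟨x, hx⟩ := hsurj (φ τ)
    have : φ τ ∈ (algebraMap (Localization.AtPrime p)
        (Localization (Algebra.algebraMapSubmonoid T p.primeCompl))).range := ⟨x, hx⟩
    obtain ⟨r, s, hs, e⟩ := (mem_range_iff p _).mp this
    rw [← map_mul] at e
    obtain ⟨u, hu, F⟩ := exists_of_map_eq p _ _ e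
    refine ⟨u * s, Submonoid.mul_mem _ hu hs, u * r, ?_⟩
    rw [map_mul, map_mul, ← F]; ring
  choose sτ hsτ hsτ' using hτ
  set s := ∏ τ ∈ S, sτ τ with hs
  have hsp : s ∈ p.primeCompl := Submonoid.prod_mem _ (fun τ _ => hsτ τ)
  have hs𝔠 : s ∈ 𝔠 := by
    rw [h𝔠, Ideal.mem_comap]
    intro y
    have hy : y ∈ Submodule.span R (S : Set T) := by rw [hS]; trivial
    refine Submodule.span_induction (p := fun y _ => algebraMap R T s * y ∈ (algebraMap R T).range)
      ?_ ?_ ?_ ?_ hy
    · intro τ hτS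
      have hdvd : sτ τ ∣ s := Finset.dvd_prod_of_mem _ hτS
      obtain ⟨c, hc⟩ := hdvd
      obtain ⟨r, hr⟩ := hsτ' τ
      refine ⟨c * r, ?_⟩
      rw [map_mul, hr, hc, map_mul]; ring
    · rw [mul_zero]; exact Subring.zero_mem _
    · intro x y _ _ hx hy
      rw [mul_add]; exact Subring.add_mem _ hx hy
    · intro c x _ hx
      obtain ⟨r, hr⟩ := hx
      refine ⟨c * r, ?_⟩
      rw [map_mul, hr, Algebra.smul_def]; ring
  exact hsp (h𝔠p hs𝔠)

end Glob

end Groth.Agent.Lib.Helper83.Swan
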