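import Mathlib
import Groth.Agent.Lib.Helper83.Swan1
import Groth.Agent.Lib.Helper83.Swan4

set_option autoImplicit false

namespace Groth.Agent.Lib.Helper83.Swan

open Polynomial

universe u v

section PID

variable {k : Type u} [Field k]

theorem exists_gen (𝔞 : Ideal k[X]) (G : k[X]) (hG : G ∈ 𝔞) (hG0 : G.coeff 0 = 1) :
    ∃ f : k[X], f.coeff 0 = 1 ∧ 𝔞 = Ideal.span {f} := by
  set d := Submodule.IsPrincipal.generator 𝔞 with hd
  have h𝔞d : 𝔞 = Ideal.span {d} := (Ideal.span_singleton_generator 𝔞).symm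
  have hdvd : d ∣ G := by
    rw [h𝔞d, Ideal.mem_span_singleton] at hG; exact hG
  obtain ⟨c, hc⟩ := hdvd
  have hd0 : d.coeff 0 ≠ 0 := by
    intro h0
    have := congrArg (fun p : k[X] => p.coeff 0) hc
    simp only [mul_coeff_zero, h0, zero_mul, hG0] at this
    exact one_ne_zero this
  refine ⟨C (d.coeff 0)⁻¹ * d, by rw [coeff_C_mul, inv_mul_cancel₀ hd0], ?_⟩
  rw [h𝔞d, mul_comm]
  have hu : IsUnit (C (d.coeff 0)⁻¹ : k[X]) := (IsUnit.mk0 _ (inv_ne_zero hd0)).map C
  exact (Ideal.span_singleton_mul_right_unit hu d).symm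

theorem mul_eq_of_span_eq (f g G : k[X]) (hf0 : f.coeff 0 = 1) (hg0 : g.coeff 0 = 1)
    (hG0 : G.coeff 0 = 1) (h : Ideal.span {f} * Ideal.span {g} = Ideal.span {G}) : f * g = G := by
  rw [Ideal.span_singleton_mul_span_singleton, Ideal.span_singleton_eq_span_singleton] at h
  obtain ⟨u, hu⟩ := h
  obtain ⟨c, hc, hcu⟩ := Polynomial.isUnit_iff.mp u.isUnit
  rw [← hcu] at hu
  have := congrArg (fun p : k[X] => p.coeff 0) hu
  simp only [mul_coeff_zero, hf0, hg0, hG0, coeff_C_zero, one_mul] at this
  rw [← hu, this, C_1, mul_one]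

end PID

section Prod

variable (R : Type u) [CommRing R]

/-- the product of all residue fields. -/
abbrev KK : Type u := ∀ q : PrimeSpectrum R, q.asIdeal.ResidueField

variable {R}

/-- assemble a family of polynomials of bounded degree. -/
noncomputable def asm (N : ℕ) (F : ∀ q : PrimeSpectrum R, q.asIdeal.ResidueField[X]) : (KK R)[X] :=
  ∑ i ∈ Finset.range (N + 1), monomial i (fun q => (F q).coeff i)

theorem asm_map (N : ℕ) (F : ∀ q : PrimeSpectrum R, q.asIdeal.ResidueField[X])
    (q : PrimeSpectrum R) (hN : (F q).natDegree ≤ N) :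
    (asm N F).map (Pi.evalRingHom (fun q : PrimeSpectrum R => q.asIdeal.ResidueField) q) = F q := by
  ext k
  rw [asm, Polynomial.map_sum, finsetSum_coeff]
  simp only [map_monomial, coeff_monomial, Pi.evalRingHom_apply]
  rw [Finset.sum_ite_eq' (Finset.range (N + 1)) k]
  split_ifs with h
  · rfl
  · rw [Finset.mem_range] at h
    rw [coeff_eq_zero_of_natDegree_lt (by omega)]

theorem ext_KK (P Q : (KK R)[X])
    (h : ∀ q, P.map (Pi.evalRingHom (fun q : PrimeSpectrum R => q.asIdeal.ResidueField) q) =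
      Q.map (Pi.evalRingHom (fun q : PrimeSpectrum R => q.asIdeal.ResidueField) q)) : P = Q := by
  ext k q
  have := congrArg (fun p => p.coeff k) (h q)
  simpa [coeff_map] using this

theorem map_map_eval (p : R[X]) (q : PrimeSpectrum R) :
    (p.map (algebraMap R (KK R))).map
      (Pi.evalRingHom (fun q : PrimeSpectrum R => q.asIdeal.ResidueField) q) =
    p.map (algebraMap R q.asIdeal.ResidueField) := by
  rw [Polynomial.map_map]
  rfl

theorem algebraMap_KK_injective [IsReduced R] : Function.Injective (algebraMap R (KK R)) := by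
  rw [injective_iff_map_eq_zero]
  intro r hr
  have h1 : r ∈ nilradical R := by
    rw [nilradical_eq_sInf, Ideal.mem_sInf]
    intro q hq
    have _ : q.IsPrime := hq
    have := congrFun hr ⟨q, hq⟩
    exact (Ideal.algebraMap_residueField_eq_zero).mp this
  rw [nilradical_eq_zero] at h1
  exact h1

end Prod

section Core

variable {R : Type u} [CommRing R]

/-- the factorization over the product of residue fields. -/
theorem exists_factorization (J J₂ : Ideal R[X]) (G : R[X]) (hG0 : G.coeff 0 = 1)
    (hGJ : G ∈ J) (hGJ₂ : G ∈ J₂) (hJJ : J * J₂ = Ideal.span {G}) :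
    ∃ f g : (KK R)[X], f.coeff 0 = 1 ∧ g.coeff 0 = 1 ∧ f * g = G.map (algebraMap R (KK R)) ∧
      (∀ a ∈ J, ∃ a' : (KK R)[X], a.map (algebraMap R (KK R)) = a' * f) ∧
      (∀ b ∈ J₂, ∃ b' : (KK R)[X], b.map (algebraMap R (KK R)) = b' * g) := by
  have hq : ∀ q : PrimeSpectrum R, ∃ fq gq : q.asIdeal.ResidueField[X],
      fq.coeff 0 = 1 ∧ gq.coeff 0 = 1 ∧
      J.map (mapRingHom (algebraMap R q.asIdeal.ResidueField)) = Ideal.span {fq} ∧
      J₂.map (mapRingHom (algebraMap R q.asIdeal.ResidueField)) = Ideal.span {gq} ∧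
      fq * gq = G.map (algebraMap R q.asIdeal.ResidueField) := by
    intro q
    have hGq0 : (G.map (algebraMap R q.asIdeal.ResidueField)).coeff 0 = 1 := by
      rw [coeff_map, hG0, map_one]
    obtain ⟨fq, hf0, hfs⟩ := exists_gen (J.map (mapRingHom (algebraMap R q.asIdeal.ResidueField)))
      (G.map (algebraMap R q.asIdeal.ResidueField)) (Ideal.mem_map_of_mem _ hGJ) hGq0
    obtain ⟨gq, hg0, hgs⟩ := exists_gen (J₂.map (mapRingHom (algebraMap R q.asIdeal.ResidueField)))
      (G.map (algebraMap R q.asIdeal.ResidueField)) (Ideal.mem_map_of_mem _ hGJ₂) hGq0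
    refine ⟨fq, gq, hf0, hg0, hfs, hgs, ?_⟩
    apply mul_eq_of_span_eq fq gq _ hf0 hg0 hGq0
    rw [← hfs, ← hgs, ← Ideal.map_mul, hJJ, Ideal.map_span, Set.image_singleton]
    rfl
  choose fq gq hf0 hg0 hfs hgs hfg using hq
  set N := G.natDegree with hN
  have hGne : ∀ q : PrimeSpectrum R, G.map (algebraMap R q.asIdeal.ResidueField) ≠ 0 := by
    intro q h0
    have := congrArg (fun p => p.coeff 0) h0
    simp only [coeff_map, hG0, map_one, coeff_zero] at this
    exact one_ne_zero this
  have hfdeg : ∀ q, (fq q).natDegree ≤ N := by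
    intro q
    refine (natDegree_le_of_dvd ⟨gq q, (hfg q).symm⟩ (hGne q)).trans (natDegree_map_le)
  have hgdeg : ∀ q, (gq q).natDegree ≤ N := by
    intro q
    refine (natDegree_le_of_dvd ⟨fq q, by rw [mul_comm]; exact (hfg q).symm⟩ (hGne q)).trans
      (natDegree_map_le)
  refine ⟨asm N fq, asm N gq, ?_, ?_, ?_, ?_, ?_⟩
  · funext q
    have := congrArg (fun p => p.coeff 0) (asm_map N fq q (hfdeg q))
    simp only [coeff_map, Pi.evalRingHom_apply] at this
    rw [this, hf0]; rfl
  · funext q
    have := congrArg (fun p => p.coeff 0) (asm_map N gq q (hgdeg q))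
    simp only [coeff_map, Pi.evalRingHom_apply] at this
    rw [this, hg0]; rfl
  · apply ext_KK
    intro q
    rw [Polynomial.map_mul, asm_map N fq q (hfdeg q), asm_map N gq q (hgdeg q), map_map_eval, hfg]
  · intro a ha
    have hc : ∀ q : PrimeSpectrum R, ∃ c : q.asIdeal.ResidueField[X],
        a.map (algebraMap R q.asIdeal.ResidueField) = c * fq q ∧ c.natDegree ≤ a.natDegree := by
      intro q
      have hmem : a.map (algebraMap R q.asIdeal.ResidueField) ∈
          J.map (mapRingHom (algebraMap R q.asIdeal.ResidueField)) := Ideal.mem_map_of_mem _ ha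
      rw [hfs q, Ideal.mem_span_singleton'] at hmem
      obtain ⟨c, hc⟩ := hmem
      refine ⟨c, hc.symm, ?_⟩
      by_cases h0 : a.map (algebraMap R q.asIdeal.ResidueField) = 0
      · have hfne : fq q ≠ 0 := by
          intro h; have := hf0 q; rw [h, coeff_zero] at this; exact zero_ne_one this
        rw [h0] at hc
        rcases mul_eq_zero.mp hc with h | h
        · rw [h]; simp
        · exact absurd h hfne
      · exact (natDegree_le_of_dvd ⟨fq q, hc.symm⟩ h0).trans natDegree_map_le
    choose c hc hcdeg using hc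
    refine ⟨asm a.natDegree c, ?_⟩
    apply ext_KK
    intro q
    rw [Polynomial.map_mul, asm_map _ c q (hcdeg q), asm_map N fq q (hfdeg q), map_map_eval, hc]
  · intro b hb
    have hc : ∀ q : PrimeSpectrum R, ∃ c : q.asIdeal.ResidueField[X],
        b.map (algebraMap R q.asIdeal.ResidueField) = c * gq q ∧ c.natDegree ≤ b.natDegree := by
      intro q
      have hmem : b.map (algebraMap R q.asIdeal.ResidueField) ∈
          J₂.map (mapRingHom (algebraMap R q.asIdeal.ResidueField)) := Ideal.mem_map_of_mem _ hb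
      rw [hgs q, Ideal.mem_span_singleton'] at hmem
      obtain ⟨c, hc⟩ := hmem
      refine ⟨c, hc.symm, ?_⟩
      by_cases h0 : b.map (algebraMap R q.asIdeal.ResidueField) = 0
      · have hgne : gq q ≠ 0 := by
          intro h; have := hg0 q; rw [h, coeff_zero] at this; exact zero_ne_one this
        rw [h0] at hc
        rcases mul_eq_zero.mp hc with h | h
        · rw [h]; simp
        · exact absurd h hgne
      · exact (natDegree_le_of_dvd ⟨gq q, hc.symm⟩ h0).trans natDegree_map_le
    choose c hc hcdeg using hc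
    refine ⟨asm b.natDegree c, ?_⟩
    apply ext_KK
    intro q
    rw [Polynomial.map_mul, asm_map _ c q (hcdeg q), asm_map N gq q (hgdeg q), map_map_eval, hc]

end Core

end Groth.Agent.Lib.Helper83.Swan
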