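import Mathlib
import Groth.Agent.Lib.Helper83.Swan5

set_option autoImplicit false

namespace Groth.Agent.Lib.Helper83.Swan

open Polynomial

universe u v

section Lift

variable {A B : Type u} [CommRing A] [CommRing B] (φ : A →+* B)

theorem exists_lift_poly (p : B[X]) (h : ∀ k, p.coeff k ∈ φ.range) : ∃ q : A[X], q.map φ = p := by
  have : p ∈ Polynomial.lifts φ := by
    rw [lifts_iff_coeff_lifts]
    intro k
    obtain ⟨x, hx⟩ := h k
    exact ⟨x, hx⟩
  exact (Polynomial.mem_lifts p).mp this

end Lift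

section CoeffRange

variable {R : Type u} [CommRing R] (hR : HTop.IsSeminormalRing R)

include hR in
/-- the coefficients of a normalized factorization over the product of residue fields lie in `R`. -/
theorem coeff_mem_range {ι : Type v} [Fintype ι] (G : R[X]) (hG0 : G.coeff 0 = 1)
    (f g : (KK R)[X]) (hf0 : f.coeff 0 = 1) (hg0 : g.coeff 0 = 1)
    (hfg : f * g = G.map (algebraMap R (KK R)))
    (a b : ι → R[X]) (a' b' : ι → (KK R)[X])
    (ha : ∀ i, (a i).map (algebraMap R (KK R)) = a' i * f)
    (hb : ∀ i, (b i).map (algebraMap R (KK R)) = b' i * g)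
    (hab : ∑ i, a' i * b' i = 1) :
    (∀ k, f.coeff k ∈ (algebraMap R (KK R)).range) ∧
      (∀ k, g.coeff k ∈ (algebraMap R (KK R)).range) := by
  classical
  have _ : IsReduced R := isReduced_of_seminormal hR
  have hinj : Function.Injective (algebraMap R (KK R)) := algebraMap_KK_injective
  have hfint : ∀ k, IsIntegral R (f.coeff k) :=
    isIntegral_coeff_of_mul_eq' hinj f g hf0 hg0 G hfg
  have hgint : ∀ k, IsIntegral R (g.coeff k) :=
    isIntegral_coeff_of_mul_eq' hinj g f hg0 hf0 G (by rw [mul_comm]; exact hfg)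
  set N := max f.natDegree g.natDegree with hN
  set Θ : Finset (KK R) := (Finset.range (N + 1)).image f.coeff ∪ (Finset.range (N + 1)).image g.coeff
    with hΘ
  set T : Subalgebra R (KK R) := Algebra.adjoin R (Θ : Set (KK R)) with hT
  have hΘint : ∀ x ∈ (Θ : Set (KK R)), IsIntegral R x := by
    intro x hx
    rw [hΘ, Finset.coe_union, Finset.coe_image, Finset.coe_image] at hx
    rcases hx with ⟨k, -, rfl⟩ | ⟨k, -, rfl⟩
    · exact hfint k
    · exact hgint k
  have hfin : Module.Finite R T := by
    have := fg_adjoin_of_finite (Finset.finite_toSet Θ) hΘint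
    exact Module.Finite.iff_fg.mpr this
  have hfT : ∀ k, f.coeff k ∈ T := by
    intro k
    by_cases hk : k ≤ N
    · apply Algebra.subset_adjoin
      rw [hΘ, Finset.coe_union]
      exact Or.inl (Finset.mem_coe.mpr (Finset.mem_image_of_mem _ (Finset.mem_range.mpr (by omega))))
    · rw [coeff_eq_zero_of_natDegree_lt (by omega)]; exact T.zero_mem
  have hgT : ∀ k, g.coeff k ∈ T := by
    intro k
    by_cases hk : k ≤ N
    · apply Algebra.subset_adjoin
      rw [hΘ, Finset.coe_union]
      exact Or.inr (Finset.mem_coe.mpr (Finset.mem_image_of_mem _ (Finset.mem_range.mpr (by omega))))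
    · rw [coeff_eq_zero_of_natDegree_lt (by omega)]; exact T.zero_mem
  -- polynomials over T
  have hrange : ∀ x : KK R, x ∈ T → x ∈ (algebraMap T (KK R)).range := fun x hx => ⟨⟨x, hx⟩, rfl⟩
  obtain ⟨fT, hfT'⟩ := exists_lift_poly (algebraMap T (KK R)) f (fun k => hrange _ (hfT k))
  obtain ⟨gT, hgT'⟩ := exists_lift_poly (algebraMap T (KK R)) g (fun k => hrange _ (hgT k))
  have hvalinj : Function.Injective (algebraMap T (KK R)) := Subtype.val_injective
  have hmapinj : Function.Injective (Polynomial.map (algebraMap T (KK R))) :=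
    Polynomial.map_injective _ hvalinj
  have hcompmap : ∀ p : R[X], (p.map (algebraMap R T)).map (algebraMap T (KK R)) =
      p.map (algebraMap R (KK R)) := by
    intro p
    rw [Polynomial.map_map]
    rfl
  have hGK : ∀ k, (G.map (algebraMap R (KK R))).coeff k ∈ T.toSubring := by
    intro k
    rw [coeff_map]
    exact T.algebraMap_mem _
  have ha'T : ∀ i k, (a' i).coeff k ∈ T.toSubring := by
    intro i
    apply coeff_mem_of_mul_eq T.toSubring (G.map (algebraMap R (KK R)))
      ((a i).map (algebraMap R (KK R)) * g) (a' i) hGK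
    · intro k
      rw [← hcompmap, ← hgT', ← Polynomial.map_mul, coeff_map]
      exact (((a i).map (algebraMap R T) * gT).coeff k).2
    · rw [coeff_map, hG0, map_one]
    · rw [← hfg, ha i]; ring
  have hb'T : ∀ i k, (b' i).coeff k ∈ T.toSubring := by
    intro i
    apply coeff_mem_of_mul_eq T.toSubring (G.map (algebraMap R (KK R)))
      ((b i).map (algebraMap R (KK R)) * f) (b' i) hGK
    · intro k
      rw [← hcompmap, ← hfT', ← Polynomial.map_mul, coeff_map]
      exact (((b i).map (algebraMap R T) * fT).coeff k).2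
    · rw [coeff_map, hG0, map_one]
    · rw [← hfg, hb i]; ring
  have ha'T' : ∀ i, ∃ q : T[X], q.map (algebraMap T (KK R)) = a' i :=
    fun i => exists_lift_poly _ _ (fun k => hrange _ (ha'T i k))
  have hb'T' : ∀ i, ∃ q : T[X], q.map (algebraMap T (KK R)) = b' i :=
    fun i => exists_lift_poly _ _ (fun k => hrange _ (hb'T i k))
  choose a'T ha'T'' using ha'T'
  choose b'T hb'T'' using hb'T'
  have hfT0 : fT.coeff 0 = 1 := by
    apply hvalinj
    rw [← coeff_map, hfT', hf0, map_one]
  have hgT0 : gT.coeff 0 = 1 := by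
    apply hvalinj
    rw [← coeff_map, hgT', hg0, map_one]
  have haT : ∀ i, (a i).map (algebraMap R T) = a'T i * fT := by
    intro i
    apply hmapinj
    rw [hcompmap, Polynomial.map_mul, ha'T'', hfT', ha i]
  have hbT : ∀ i, (b i).map (algebraMap R T) = b'T i * gT := by
    intro i
    apply hmapinj
    rw [hcompmap, Polynomial.map_mul, hb'T'', hgT', hb i]
  have habT : ∑ i, a'T i * b'T i = 1 := by
    apply hmapinj
    rw [Polynomial.map_sum, Polynomial.map_one, ← hab]
    apply Finset.sum_congr rfl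
    intro i _
    rw [Polynomial.map_mul, ha'T'', hb'T'']
  have hgenT : Algebra.adjoin R ({θ : T | ∃ k, θ = fT.coeff k} ∪ {θ : T | ∃ k, θ = gT.coeff k}) = ⊤ := by
    rw [eq_top_iff]
    rintro ⟨x, hx⟩ -
    refine Algebra.adjoin_induction (p := fun y hy => (⟨y, hy⟩ : T) ∈
      Algebra.adjoin R ({θ : T | ∃ k, θ = fT.coeff k} ∪ {θ : T | ∃ k, θ = gT.coeff k}))
      ?_ ?_ ?_ ?_ hx
    · intro θ hθ
      apply Algebra.subset_adjoin
      rw [hΘ, Finset.coe_union, Finset.coe_image, Finset.coe_image] at hθ
      rcases hθ with ⟨k, -, hk⟩ | ⟨k, -, hk⟩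
      · left
        refine ⟨k, Subtype.ext ?_⟩
        show θ = algebraMap T (KK R) (fT.coeff k)
        rw [← coeff_map, hfT', hk]
      · right
        refine ⟨k, Subtype.ext ?_⟩
        show θ = algebraMap T (KK R) (gT.coeff k)
        rw [← coeff_map, hgT', hk]
    · intro r
      exact Subalgebra.algebraMap_mem _ r
    · intro x y hx hy hx' hy'
      exact Subalgebra.add_mem _ hx' hy'
    · intro x y hx hy hx' hy'
      exact Subalgebra.mul_mem _ hx' hy'
  have _ : IsReduced T := isReduced_of_injective (algebraMap T (KK R)) hvalinj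
  have hinjT : Function.Injective (algebraMap R T) := by
    intro x y hxy
    apply hinj
    have := congrArg (algebraMap T (KK R)) hxy
    exact this
  have hsurj := global_lemma (R := R) (T := T) (fun b => seminormal_in hR hinjT b)
    fT gT hfT0 hgT0 a b a'T b'T haT hbT habT hgenT
  constructor
  · intro k
    obtain ⟨r, hr⟩ := hsurj (fT.coeff k)
    refine ⟨r, ?_⟩
    have := congrArg (algebraMap T (KK R)) hr
    rw [← coeff_map, hfT'] at this
    exact this
  · intro k
    obtain ⟨r, hr⟩ := hsurj (gT.coeff k)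
    refine ⟨r, ?_⟩
    have := congrArg (algebraMap T (KK R)) hr
    rw [← coeff_map, hgT'] at this
    exact this

include hR in
/-- **Swan's theorem**, ideal-theoretic core: over a seminormal ring, an invertible ideal pair
`J * J₂ = (G)` with `G(0) = 1` consists of principal ideals. -/
theorem principal_of_mul_eq_span {ι : Type v} [Fintype ι] (J J₂ : Ideal R[X]) (G : R[X])
    (hG0 : G.coeff 0 = 1) (hGJ : G ∈ J) (hGJ₂ : G ∈ J₂) (hJJ : J * J₂ = Ideal.span {G})
    (a b : ι → R[X]) (ha : ∀ i, a i ∈ J) (hb : ∀ i, b i ∈ J₂) (hsum : ∑ i, a i * b i = G) :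
    ∃ gR : R[X], gR.coeff 0 = 1 ∧ J₂ = Ideal.span {gR} := by
  classical
  have _ : IsReduced R := isReduced_of_seminormal hR
  have hinj : Function.Injective (algebraMap R (KK R)) := algebraMap_KK_injective
  have hmapinj : Function.Injective (Polynomial.map (algebraMap R (KK R))) :=
    Polynomial.map_injective _ hinj
  obtain ⟨f, g, hf0, hg0, hfg, hJ, hJ₂⟩ := exists_factorization J J₂ G hG0 hGJ hGJ₂ hJJ
  have ha' : ∀ i, ∃ a' : (KK R)[X], (a i).map (algebraMap R (KK R)) = a' * f := fun i => hJ _ (ha i)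
  have hb' : ∀ i, ∃ b' : (KK R)[X], (b i).map (algebraMap R (KK R)) = b' * g := fun i => hJ₂ _ (hb i)
  choose a' ha' using ha'
  choose b' hb' using hb'
  have hGnz : G.map (algebraMap R (KK R)) ∈ nonZeroDivisors (KK R)[X] :=
    Groth.Agent.Lib.Helper83.ZarLaur.mem_nonZeroDivisors_of_coeff_zero
      (by rw [coeff_map, hG0, map_one])
  have hab : ∑ i, a' i * b' i = 1 := by
    have h1 : (∑ i, a' i * b' i - 1) * G.map (algebraMap R (KK R)) = 0 := by
      rw [sub_mul, one_mul, Finset.sum_mul]
      have : ∑ i, a' i * b' i * G.map (algebraMap R (KK R)) = G.map (algebraMap R (KK R)) := by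
        conv_rhs => rw [← hsum, Polynomial.map_sum]
        apply Finset.sum_congr rfl
        intro i _
        rw [Polynomial.map_mul, ha' i, hb' i, ← hfg]; ring
      rw [this, sub_self]
    exact sub_eq_zero.mp (mem_nonZeroDivisors_iff_right.mp hGnz _ h1)
  obtain ⟨hfR, hgR⟩ := coeff_mem_range hR G hG0 f g hf0 hg0 hfg a b a' b' ha' hb' hab
  obtain ⟨fR, hfR'⟩ := exists_lift_poly _ f hfR
  obtain ⟨gR, hgR'⟩ := exists_lift_poly _ g hgR
  have hGK : ∀ k, (G.map (algebraMap R (KK R))).coeff k ∈ (algebraMap R (KK R)).range := by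
    intro k; rw [coeff_map]; exact ⟨_, rfl⟩
  -- division inside R[X]
  have hdivb : ∀ (b₀ : R[X]) (b₀' : (KK R)[X]), b₀.map (algebraMap R (KK R)) = b₀' * g →
      ∃ q : R[X], q.map (algebraMap R (KK R)) = b₀' ∧ b₀ = q * gR := by
    intro b₀ b₀' h
    have hc : ∀ k, b₀'.coeff k ∈ (algebraMap R (KK R)).range := by
      apply coeff_mem_of_mul_eq (algebraMap R (KK R)).range (G.map (algebraMap R (KK R)))
        (b₀.map (algebraMap R (KK R)) * f) b₀' hGK
      · intro k
        rw [← hfR', ← Polynomial.map_mul, coeff_map]; exact ⟨_, rfl⟩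
      · rw [coeff_map, hG0, map_one]
      · rw [← hfg, h]; ring
    obtain ⟨q, hq⟩ := exists_lift_poly _ b₀' hc
    refine ⟨q, hq, ?_⟩
    apply hmapinj
    rw [Polynomial.map_mul, hq, hgR', h]
  have hdiva : ∀ (a₀ : R[X]) (a₀' : (KK R)[X]), a₀.map (algebraMap R (KK R)) = a₀' * f →
      ∃ q : R[X], q.map (algebraMap R (KK R)) = a₀' := by
    intro a₀ a₀' h
    have hc : ∀ k, a₀'.coeff k ∈ (algebraMap R (KK R)).range := by
      apply coeff_mem_of_mul_eq (algebraMap R (KK R)).range (G.map (algebraMap R (KK R)))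
        (a₀.map (algebraMap R (KK R)) * g) a₀' hGK
      · intro k
        rw [← hgR', ← Polynomial.map_mul, coeff_map]; exact ⟨_, rfl⟩
      · rw [coeff_map, hG0, map_one]
      · rw [← hfg, h]; ring
    exact exists_lift_poly _ a₀' hc
  refine ⟨gR, ?_, ?_⟩
  · apply hinj
    rw [← coeff_map, hgR', hg0, map_one]
  · apply le_antisymm
    · intro b₀ hb₀
      obtain ⟨b₀', hb₀'⟩ := hJ₂ b₀ hb₀
      obtain ⟨q, -, hq⟩ := hdivb b₀ b₀' hb₀'
      rw [hq, Ideal.mem_span_singleton']
      exact ⟨q, rfl⟩
    · rw [Ideal.span_le, Set.singleton_subset_iff]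
      have haR : ∀ i, ∃ q : R[X], q.map (algebraMap R (KK R)) = a' i := fun i => hdiva _ _ (ha' i)
      have hbR : ∀ i, ∃ q : R[X], q.map (algebraMap R (KK R)) = b' i ∧ b i = q * gR :=
        fun i => hdivb _ _ (hb' i)
      choose aR haR using haR
      choose bR hbR hbR' using hbR
      have h1 : ∑ i, aR i * bR i = 1 := by
        apply hmapinj
        rw [Polynomial.map_sum, Polynomial.map_one, ← hab]
        apply Finset.sum_congr rfl
        intro i _
        rw [Polynomial.map_mul, haR, hbR]
      have h2 : gR = ∑ i, aR i * b i := by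
        calc gR = (∑ i, aR i * bR i) * gR := by rw [h1, one_mul]
          _ = ∑ i, aR i * b i := by
            rw [Finset.sum_mul]
            apply Finset.sum_congr rfl
            intro i _
            rw [hbR' i]; ring
      show gR ∈ J₂
      rw [h2]
      exact Ideal.sum_mem _ (fun i _ => Ideal.mul_mem_left _ _ (hb i))

end CoeffRange

end Groth.Agent.Lib.Helper83.Swan
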