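import Mathlib
import Groth.Agent.Lib.Helper83.Swan6
import Groth.Agent.Lib.Helper83.PicLaur4

set_option autoImplicit false

namespace Groth.Agent.Lib.Helper83.Swan

open Polynomial TensorProduct CommRing Groth.Agent.Lib.Helper83.PicLaur

universe u

section Pair

variable {A : Type u} [CommRing A]

/-- an invertible module that is free modulo `K` has a pairing `≡ 1` modulo `K`. -/
theorem exists_pair_of_subsingleton_pic (K : Ideal A) [Subsingleton (Pic (A ⧸ K))]
    (M : Type u) [AddCommGroup M] [Module A M] [Module.Invertible A M] :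
    ∃ (x : M) (φ : Module.Dual A M), φ x - 1 ∈ K := by
  have hfree : Module.Free (A ⧸ K) ((A ⧸ K) ⊗[A] M) := inferInstance
  obtain ⟨ε⟩ := Module.Invertible.free_iff_linearEquiv.mp hfree
  let ε₀ : M →ₗ[A] (A ⧸ K) :=
    (ε.restrictScalars A).toLinearMap ∘ₗ (TensorProduct.mk A (A ⧸ K) M 1)
  obtain ⟨φ, hφ⟩ := Module.projective_lifting_property (Algebra.linearMap A (A ⧸ K)) ε₀
    Ideal.Quotient.mk_surjective
  have hz : ∀ z : (A ⧸ K) ⊗[A] M, ∃ x : M, z = 1 ⊗ₜ x := by
    intro z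
    induction z using TensorProduct.induction_on with
    | zero => exact ⟨0, by simp⟩
    | tmul q m =>
      obtain ⟨q, rfl⟩ := Ideal.Quotient.mk_surjective q
      refine ⟨q • m, ?_⟩
      rw [← TensorProduct.smul_tmul]
      congr 1
      rw [← Ideal.Quotient.algebraMap_eq, Algebra.algebraMap_eq_smul_one]
    | add a b ha hb =>
      obtain ⟨x, rfl⟩ := ha
      obtain ⟨y, rfl⟩ := hb
      exact ⟨x + y, by rw [TensorProduct.tmul_add]⟩
  obtain ⟨x, hx⟩ := hz (ε.symm 1)
  refine ⟨x, φ, ?_⟩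
  have h1 : Ideal.Quotient.mk K (φ x) = 1 := by
    have := congrArg (fun f : M →ₗ[A] (A ⧸ K) => f x) hφ
    simp only [LinearMap.comp_apply, Algebra.linearMap_apply] at this
    rw [Ideal.Quotient.algebraMap_eq] at this
    rw [this]
    show ε ((1 : A ⧸ K) ⊗ₜ x) = 1
    rw [← hx, LinearEquiv.apply_symm_apply]
  rw [← Ideal.Quotient.eq, h1, map_one]

end Pair

section Local

variable {R : Type u} [CommRing R] [IsLocalRing R]

instance : IsLocalRing (R[X] ⧸ Ideal.span {(X : R[X])}) := by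
  have h : Ideal.span {(X : R[X])} = Ideal.span {X - C (0 : R)} := by simp
  exact RingEquiv.isLocalRing
    (((Ideal.quotEquivOfEq h).trans (Polynomial.quotientSpanXSubCAlgEquiv (0 : R)).toRingEquiv).symm)

/-- **Swan–Traverso** for a seminormal local ring: `Pic R[X]` is trivial. -/
theorem pic_polynomial_trivial (hR : HTop.IsSeminormalRing R) (y : Pic R[X]) : y = 1 := by
  classical
  obtain ⟨x, φ, hφ⟩ := exists_pair_of_subsingleton_pic (Ideal.span {(X : R[X])}) y
  have hG0 : (φ x).coeff 0 = 1 := by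
    rw [Ideal.mem_span_singleton, Polynomial.X_dvd_iff, coeff_sub, coeff_one_zero] at hφ
    exact sub_eq_zero.mp hφ
  have hGnz : φ x ∈ nonZeroDivisors R[X] :=
    Groth.Agent.Lib.Helper83.ZarLaur.mem_nonZeroDivisors_of_coeff_zero hG0
  have einj := ev_injective φ x hGnz
  have hJJ := range_mul_range φ x
  obtain ⟨S, hS⟩ := ((Module.Invertible.linearEquiv R[X] y).symm 1).exists_finset
  replace hS : (1 : R[X]) = ∑ i ∈ S, i.1 i.2 := by
    simpa [LinearEquiv.symm_apply_eq, Module.Invertible.linearEquiv] using hS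
  have hsum : ∑ i : S, φ (i.1.2) * (i.1.1 x) = φ x := by
    have h1 : φ x = ∑ i ∈ S, φ x * (i.1 i.2) := by
      rw [← Finset.mul_sum, ← hS, mul_one]
    rw [h1, ← Finset.sum_coe_sort S]
    apply Finset.sum_congr rfl
    intro i _
    exact (rank_one' φ i.1.1 x i.1.2).symm
  obtain ⟨gR, -, hJ₂⟩ := principal_of_mul_eq_span hR
    (LinearMap.range φ : Ideal R[X]) (LinearMap.range (ev (A := R[X]) x) : Ideal R[X])
    (φ x) hG0 ⟨x, rfl⟩ ⟨φ, rfl⟩ hJJ
    (fun i : S => φ (i.1.2)) (fun i : S => i.1.1 x)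
    (fun i => ⟨i.1.2, rfl⟩) (fun i => ⟨i.1.1, rfl⟩) hsum
  set I₂ : Ideal R[X] := LinearMap.range (ev (A := R[X]) x) with hI₂
  let eq₁ : Module.Dual R[X] y ≃ₗ[R[X]] I₂ := LinearEquiv.ofInjective (ev x) einj
  have _ : Module.Invertible R[X] I₂ := Module.Invertible.congr eq₁
  have hmk : Pic.mk R[X] I₂ = y⁻¹ := by
    rw [Pic.inv_eq_dual, Pic.mk_eq_mk_iff]
    exact ⟨eq₁.symm⟩
  have hgmem : gR ∈ I₂ := by rw [hJ₂]; exact Ideal.mem_span_singleton_self gR
  let g : R[X] →ₗ[R[X]] I₂ := LinearMap.toSpanSingleton R[X] I₂ ⟨gR, hgmem⟩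
  have hgs : Function.Surjective g := by
    rintro ⟨i, hi⟩
    have hi' := hi
    rw [hJ₂, Ideal.mem_span_singleton'] at hi'
    obtain ⟨a, ha⟩ := hi'
    refine ⟨a, Subtype.ext ?_⟩
    simp [g, ha]
  have hgb := Module.Invertible.bijective_of_surjective hgs
  have : Pic.mk R[X] I₂ = 1 := Pic.mk_eq_one_iff.mpr ⟨(LinearEquiv.ofBijective g hgb).symm⟩
  rw [hmk, inv_eq_one] at this
  exact this

end Local

theorem main_S15751 (R : Type u) [CommRing R]
    [HenselianLocalRing R] (hR : HTop.IsSeminormalRing R)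
    (M : Type u) [AddCommGroup M] [Module (LaurentSeries R) M] [Module.Invertible (LaurentSeries R) M] :
    Module.Free (LaurentSeries R) M := by
  let _ : Algebra R[X] (LaurentSeries R) :=
    (Polynomial.eval₂RingHom (HahnSeries.C) (HahnSeries.single (-1 : ℤ) (1 : R))).toAlgebra
  have halg : algebraMap R[X] (LaurentSeries R) =
      Polynomial.eval₂RingHom (HahnSeries.C) (HahnSeries.single (-1 : ℤ) (1 : R)) := rfl
  obtain ⟨M₀, _, _, _, ⟨e⟩⟩ := (main_S15753 R halg).2 M
  have h1 : Pic.mk R[X] M₀ = 1 := pic_polynomial_trivial hR _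
  have _ : Module.Free R[X] M₀ := Pic.mk_eq_one_iff_free.mp h1
  exact Module.Free.of_equiv e.symm

end Groth.Agent.Lib.Helper83.Swan
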