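import Mathlib

set_option autoImplicit false
universe u

namespace Groth.Agent.Lib.Helper83.TateSymp

open LinearMap Module

variable {K : Type u} [Field K] {V : Type u} [AddCommGroup V] [Module K V] [FiniteDimensional K V]

section idem
variable {F : Subalgebra K (Module.End K V)} {r : ℕ} (φ : F ≃ₐ[K] (Fin r → K))

/-- the idempotents of the split algebra -/
noncomputable def ε (i : Fin r) : Module.End K V := (φ.symm (Pi.single i 1) : F).1

omit [FiniteDimensional K V] in
theorem sum_ε : ∑ i, ε φ i = 1 := by
  have h1 : (∑ i, φ.symm (Pi.single i (1 : K)) : F) = 1 := by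
    rw [← map_sum]
    have : (∑ i, Pi.single i (1 : K) : Fin r → K) = 1 := by
      ext j; simp [Finset.sum_apply, Pi.single_apply]
    rw [this, map_one]
  have := congrArg (Subtype.val) h1
  simpa [ε] using this

omit [FiniteDimensional K V] in
theorem mul_ε (f : F) (i : Fin r) : f.1 * ε φ i = (φ f i) • ε φ i := by
  have h1 : f * φ.symm (Pi.single i (1 : K)) = (φ f i) • φ.symm (Pi.single i (1 : K)) := by
    apply φ.injective
    rw [map_mul, map_smul, AlgEquiv.apply_symm_apply]
    ext j
    by_cases hj : j = i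
    · subst hj; simp
    · simp [hj]
  have := congrArg (Subtype.val) h1
  simpa [ε] using this

omit [FiniteDimensional K V] in
theorem apply_of_ε_eq (f : F) (i : Fin r) {x : V} (hx : ε φ i x = x) : f.1 x = (φ f i) • x := by
  have := LinearMap.congr_fun (mul_ε φ f i) x
  rw [Module.End.mul_apply, hx, LinearMap.smul_apply, hx] at this
  exact this

omit [FiniteDimensional K V] in
theorem ε_mem (i : Fin r) : ε φ i ∈ F := (φ.symm (Pi.single i 1) : F).2

omit [FiniteDimensional K V] in
theorem ε_ε (i : Fin r) (x : V) : ε φ i (ε φ i x) = ε φ i x := by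
  have := LinearMap.congr_fun (mul_ε φ ⟨ε φ i, ε_mem φ i⟩ i) x
  rw [Module.End.mul_apply, LinearMap.smul_apply] at this
  rw [this]
  have h1 : φ ⟨ε φ i, ε_mem φ i⟩ i = 1 := by
    have : (⟨ε φ i, ε_mem φ i⟩ : F) = φ.symm (Pi.single i 1) := rfl
    rw [this, AlgEquiv.apply_symm_apply]
    simp
  rw [h1, one_smul]

end idem

section main
variable (g : ℕ) (hV : Module.finrank K V = 2 * g)
    (e : LinearMap.BilinForm K V) (he : e.IsAlt) (hnd : e.Nondegenerate)
    (F : Subalgebra K (Module.End K V)) (r : ℕ) (φ : F ≃ₐ[K] (Fin r → K))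
    (S : Set (Module.End K V)) (hS : Submodule.span K S = Subalgebra.toSubmodule F)
    (hsim : ∀ s ∈ S, ∃ c : K, c ≠ 0 ∧ ∀ x y : V, e (s x) (s y) = c * e x y)

include hnd hS hsim in
/-- the orthogonal of an `F`-stable subspace is `F`-stable -/
theorem orthogonal_stable (W : Submodule K V) (hWF : ∀ f ∈ F, ∀ w ∈ W, f w ∈ W) :
    ∀ f ∈ F, ∀ x ∈ e.orthogonal W, f x ∈ e.orthogonal W := by
  intro f hf
  have hf' : f ∈ Submodule.span K S := by rw [hS]; exact hf
  clear hf
  induction hf' using Submodule.span_induction with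
  | zero => intro x _; simp
  | add a b _ _ ha hb =>
    intro x hx
    rw [LinearMap.add_apply]
    exact Submodule.add_mem _ (ha x hx) (hb x hx)
  | smul c a _ ha =>
    intro x hx
    rw [LinearMap.smul_apply]
    exact Submodule.smul_mem _ _ (ha x hx)
  | mem s hs =>
    intro x hx
    obtain ⟨c, hc, hsc⟩ := hsim s hs
    have hsF : s ∈ F := by
      have : s ∈ Submodule.span K S := Submodule.subset_span hs
      rw [hS] at this; exact this
    -- s is injective on V
    have hinj : Function.Injective s := by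
      rw [injective_iff_map_eq_zero]
      intro v hv
      apply hnd.1 v
      intro y
      have := hsc v y
      rw [hv, map_zero, LinearMap.zero_apply] at this
      exact (mul_eq_zero.1 this.symm).resolve_left hc
    -- s restricted to W is surjective
    let sW : W →ₗ[K] W := s.restrict (hWF s hsF)
    have hsWinj : Function.Injective sW := by
      intro a b hab
      apply Subtype.ext
      apply hinj
      exact congrArg Subtype.val hab
    have hsWsurj : Function.Surjective sW := LinearMap.injective_iff_surjective.1 hsWinj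
    rw [BilinForm.mem_orthogonal_iff] at hx ⊢
    intro n hn
    obtain ⟨n', hn'⟩ := hsWsurj ⟨n, hn⟩
    have hn'' : s n'.1 = n := congrArg Subtype.val hn'
    rw [← hn'', hsc, hx n'.1 n'.2, mul_zero]

include hV he hnd hS hsim φ in
theorem stable_of_maximal (D : Set (Module.End K V))
    (hmax : ∀ W : Submodule K V, (∀ f ∈ F, ∀ w ∈ W, f w ∈ W) → (∀ x ∈ W, ∀ y ∈ W, e x y = 0) →
      Module.finrank K W = g → ∀ d ∈ D, ∀ w ∈ W, d w ∈ W) :
    ∀ (k : ℕ) (W : Submodule K V), g - Module.finrank K W = k →
      (∀ f ∈ F, ∀ w ∈ W, f w ∈ W) → (∀ x ∈ W, ∀ y ∈ W, e x y = 0) →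
      ∀ d ∈ D, ∀ w ∈ W, d w ∈ W := by
  intro k
  induction k using Nat.strong_induction_on with | _ k ih
  intro W hk hWF hWiso d hd w hw
  have hle : W ≤ e.orthogonal W := by
    intro x hx
    rw [BilinForm.mem_orthogonal_iff]
    intro n hn
    exact hWiso n hn x hx
  have hfo : Module.finrank K (e.orthogonal W) = 2 * g - Module.finrank K W := by
    rw [BilinForm.finrank_orthogonal hnd, hV]
  have hWg : Module.finrank K W ≤ g := by
    have := Submodule.finrank_mono hle
    omega
  rcases Nat.lt_or_ge (Module.finrank K W) g with hlt | hge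
  swap
  · exact hmax W hWF hWiso (le_antisymm hWg hge) d hd w hw
  by_contra hv
  set v := d w with hvdef
  have hostab := orthogonal_stable e hnd F S hS hsim W hWF
  -- every eigenvector in W^⊥ lies in W ⊔ span {v}
  have hkey : ∀ (i : Fin r) (x : V), x ∈ e.orthogonal W → ε φ i x = x →
      x ∈ W ⊔ Submodule.span K {v} := by
    intro i x hxo hxi
    by_cases hxW : x ∈ W
    · exact (le_sup_left : W ≤ W ⊔ Submodule.span K {v}) hxW
    set W' := W ⊔ Submodule.span K {x} with hW'
    have hWW' : W < W' := by
      refine lt_of_le_of_ne le_sup_left ?_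
      intro h
      apply hxW
      rw [h]
      exact (le_sup_right : Submodule.span K {x} ≤ W') (Submodule.mem_span_singleton_self x)
    have hW'F : ∀ f ∈ F, ∀ y ∈ W', f y ∈ W' := by
      intro f hf y hy
      obtain ⟨y1, hy1, y2, hy2, rfl⟩ := Submodule.mem_sup.1 hy
      obtain ⟨a, rfl⟩ := Submodule.mem_span_singleton.1 hy2
      rw [map_add, map_smul, apply_of_ε_eq φ ⟨f, hf⟩ i hxi]
      refine Submodule.add_mem _ (le_sup_left (a := W) (hWF f hf y1 hy1)) ?_
      apply (le_sup_right : Submodule.span K {x} ≤ W')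
      exact Submodule.smul_mem _ _ (Submodule.smul_mem _ _ (Submodule.mem_span_singleton_self x))
    have hxo' := BilinForm.mem_orthogonal_iff.1 hxo
    have hW'iso : ∀ y ∈ W', ∀ z ∈ W', e y z = 0 := by
      intro y hy z hz
      obtain ⟨y1, hy1, y2, hy2, rfl⟩ := Submodule.mem_sup.1 hy
      obtain ⟨a, rfl⟩ := Submodule.mem_span_singleton.1 hy2
      obtain ⟨z1, hz1, z2, hz2, rfl⟩ := Submodule.mem_sup.1 hz
      obtain ⟨b, rfl⟩ := Submodule.mem_span_singleton.1 hz2
      have h1 : e x z1 = 0 := by
        rw [← LinearMap.BilinForm.IsAlt.neg_eq he z1 x, hxo' z1 hz1, neg_zero]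
      simp only [map_add, map_smul, LinearMap.add_apply, LinearMap.smul_apply, smul_eq_mul,
        hWiso y1 hy1 z1 hz1, hxo' y1 hy1, h1, he x, mul_zero, add_zero]
    have hlt' : g - Module.finrank K W' < k := by
      have := Submodule.finrank_lt_finrank_of_lt hWW'
      omega
    have hvW' : v ∈ W' := ih _ hlt' W' rfl hW'F hW'iso d hd w (le_sup_left (a := W) hw)
    obtain ⟨w1, hw1, y2, hy2, hsum⟩ := Submodule.mem_sup.1 hvW'
    obtain ⟨a, rfl⟩ := Submodule.mem_span_singleton.1 hy2
    have ha : a ≠ 0 := by
      rintro rfl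
      apply hv
      rw [← hsum, zero_smul, add_zero]
      exact hw1
    have hx : x = a⁻¹ • (v - w1) := by
      rw [← hsum, add_sub_cancel_left, smul_smul, inv_mul_cancel₀ ha, one_smul]
    rw [hx]
    refine Submodule.smul_mem _ _ (Submodule.sub_mem _ ?_ ?_)
    · exact (le_sup_right : Submodule.span K {v} ≤ _) (Submodule.mem_span_singleton_self v)
    · exact (le_sup_left : W ≤ _) hw1
  have hsub : e.orthogonal W ≤ W ⊔ Submodule.span K {v} := by
    intro y hy
    have : y = ∑ i, ε φ i y := by
      rw [← LinearMap.sum_apply, sum_ε φ, Module.End.one_apply]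
    rw [this]
    refine Submodule.sum_mem _ fun i _ => ?_
    exact hkey i _ (hostab _ (ε_mem φ i) y hy) (ε_ε φ i y)
  have h1 := Submodule.finrank_mono hsub
  have h2 := Submodule.finrank_add_le_finrank_add_finrank W (Submodule.span K {v})
  have h3 : Module.finrank K (Submodule.span K {v}) ≤ 1 :=
    (finrank_span_le_card ({v} : Set V)).trans (by simp)
  omega

end main

end Groth.Agent.Lib.Helper83.TateSymp
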