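import Mathlib
import Groth.Agent.Lib.Helper9.TraceLength

namespace Groth.Agent.Lib.Helper83.TraceNe
open IsLocalRing

universe u

theorem main (k A : Type u) [Field k] [CommRing A]
    [Algebra k A] [FiniteDimensional k A] [IsLocalRing A] :
    Algebra.trace k A ≠ 0 ↔
      (Algebra.IsSeparable k (IsLocalRing.ResidueField A) ∧
        ∀ p : ℕ, p.Prime → CharP k p → ¬ p ∣ (Module.length A A).toNat) := by
  have hsurj : Algebra.trace k A ≠ 0 ↔ Function.Surjective (Algebra.trace k A) := by
    constructor
    · intro h
      obtain ⟨c, hc⟩ : ∃ c, Algebra.trace k A c ≠ 0 := by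
        by_contra h'
        push Not at h'
        exact h (LinearMap.ext h')
      intro a
      exact ⟨(a / Algebra.trace k A c) • c, by rw [map_smul, smul_eq_mul, div_mul_cancel₀ _ hc]⟩
    · intro h h0
      obtain ⟨c, hc⟩ := h 1
      rw [h0, LinearMap.zero_apply] at hc
      exact zero_ne_one hc
  rw [hsurj, Groth.Agent.Lib.Helper9.TraceLength.surjective_trace_iff]
  have := IsArtinianRing.of_finite k A
  have hlen0 : (Module.length A A).toNat ≠ 0 := by
    intro h0
    have hne : Module.length A A ≠ ⊤ := Module.length_ne_top
    have : Module.length A A = 0 := by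
      rw [← ENat.natCast_toNat hne, h0]; rfl
    rw [Module.length_eq_zero_iff] at this
    exact not_subsingleton A this
  refine and_congr_right fun _ => ?_
  constructor
  · intro hn p hp hcp hdvd
    exact hn ((CharP.cast_eq_zero_iff k p _).2 hdvd)
  · intro h h0
    obtain ⟨p, hcp⟩ := CharP.exists k
    rcases CharP.char_is_prime_or_zero k p with hp | hp0
    · exact h p hp hcp ((CharP.cast_eq_zero_iff k p _).1 h0)
    · subst hp0
      have := CharP.charP_to_charZero k
      exact hlen0 (Nat.cast_eq_zero.1 h0)

end Groth.Agent.Lib.Helper83.TraceNe
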