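import Mathlib

namespace Groth.Agent.Lib.Helper83.VandCoeff
open MvPolynomial Finset Matrix

variable (n : ℕ)

theorem prod_split : (∏ i : Fin n, ∏ j ∈ univ.erase i,
      (X i - X j : MvPolynomial (Fin n) ℤ)) =
    det (projVandermonde (1 : Fin n → MvPolynomial (Fin n) ℤ) X) *
      det (vandermonde (X : Fin n → MvPolynomial (Fin n) ℤ)) := by
  rw [det_projVandermonde, det_vandermonde]
  have h1 : ∀ i : Fin n, ∏ j ∈ univ.erase i, (X i - X j : MvPolynomial (Fin n) ℤ) =
      (∏ j ∈ Ioi i, (X i - X j)) * ∏ j ∈ Iio i, (X i - X j) := by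
    intro i
    rw [← Finset.prod_union]
    · congr 1
      ext j
      simp only [mem_erase, mem_univ, and_true, mem_union, mem_Ioi, mem_Iio]
      constructor
      · intro h; exact (lt_or_gt_of_ne h).symm
      · rintro (h | h)
        · exact h.ne'
        · exact h.ne
    · rw [Finset.disjoint_left]
      intro j hj hj'
      rw [mem_Ioi] at hj
      rw [mem_Iio] at hj'
      exact lt_asymm hj hj'
  simp_rw [h1]
  rw [Finset.prod_mul_distrib]
  congr 1
  · simp
  · rw [Finset.prod_comm' (s := univ) (t := fun i => Iio i) (t' := univ) (s' := fun j => Ioi j)]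
    intro i j
    simp only [mem_univ, true_and, and_true, mem_Iio, mem_Ioi]

/-- exponent vector of the `(σ, τ)`-term -/
noncomputable def expo (σ τ : Equiv.Perm (Fin n)) : Fin n →₀ ℕ :=
  Finsupp.equivFunOnFinite.symm
    (fun j => ((σ⁻¹ j : Fin n) : ℕ) + (((τ⁻¹ j : Fin n).rev : Fin n) : ℕ))

theorem monomial_eq_prod (e : Fin n →₀ ℕ) :
    (monomial e (1 : ℤ) : MvPolynomial (Fin n) ℤ) = ∏ j, X j ^ e j := by
  rw [MvPolynomial.monomial_eq, C_1, one_mul, Finsupp.prod_fintype]
  intro i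
  exact pow_zero _

theorem term_eq (σ τ : Equiv.Perm (Fin n)) :
    (∏ i, (projVandermonde (1 : Fin n → MvPolynomial (Fin n) ℤ) X) (τ i) i) *
      (∏ i, vandermonde (X : Fin n → MvPolynomial (Fin n) ℤ) (σ i) i) =
    monomial (expo n σ τ) 1 := by
  rw [monomial_eq_prod]
  have h1 : (∏ i, (projVandermonde (1 : Fin n → MvPolynomial (Fin n) ℤ) X) (τ i) i) =
      ∏ j, (X j : MvPolynomial (Fin n) ℤ) ^ (((τ⁻¹ j : Fin n).rev : Fin n) : ℕ) := by
    rw [← Equiv.prod_comp τ
      (fun j => (X j : MvPolynomial (Fin n) ℤ) ^ (((τ⁻¹ j : Fin n).rev : Fin n) : ℕ))]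
    refine Finset.prod_congr rfl fun i _ => ?_
    have hτ : τ⁻¹ (τ i) = i := τ.symm_apply_apply i
    rw [projVandermonde_apply, hτ, Pi.one_apply, one_pow, one_mul]
  have h2 : (∏ i, vandermonde (X : Fin n → MvPolynomial (Fin n) ℤ) (σ i) i) =
      ∏ j, (X j : MvPolynomial (Fin n) ℤ) ^ ((σ⁻¹ j : Fin n) : ℕ) := by
    rw [← Equiv.prod_comp σ
      (fun j => (X j : MvPolynomial (Fin n) ℤ) ^ ((σ⁻¹ j : Fin n) : ℕ))]
    refine Finset.prod_congr rfl fun i _ => ?_
    have hσ : σ⁻¹ (σ i) = i := σ.symm_apply_apply i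
    rw [vandermonde_apply, hσ]
  rw [h1, h2, ← Finset.prod_mul_distrib]
  refine Finset.prod_congr rfl fun j _ => ?_
  rw [← pow_add, add_comm]
  rfl

theorem expo_eq_iff (σ τ : Equiv.Perm (Fin n)) :
    expo n σ τ = Finsupp.equivFunOnFinite.symm (fun _ : Fin n => n - 1) ↔ σ = τ := by
  constructor
  · intro h
    have h' : ∀ j : Fin n, ((σ⁻¹ j : Fin n) : ℕ) + (((τ⁻¹ j : Fin n).rev : Fin n) : ℕ) = n - 1 := by
      intro j
      have := DFunLike.congr_fun h j
      exact this
    have h3 : σ⁻¹ = τ⁻¹ := by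
      ext j
      have := h' j
      rw [Fin.val_rev] at this
      have h1 := (σ⁻¹ j).isLt
      have h2 := (τ⁻¹ j).isLt
      omega
    exact inv_injective h3
  · rintro rfl
    ext j
    change ((σ⁻¹ j : Fin n) : ℕ) + (((σ⁻¹ j : Fin n).rev : Fin n) : ℕ) = n - 1
    rw [Fin.val_rev]
    have h1 := (σ⁻¹ j).isLt
    omega

theorem main : MvPolynomial.coeff (Finsupp.equivFunOnFinite.symm (fun _ : Fin n => n - 1))
      (∏ i : Fin n, ∏ j ∈ Finset.univ.erase i,
        (MvPolynomial.X i - MvPolynomial.X j : MvPolynomial (Fin n) ℤ)) = (n.factorial : ℤ) := by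
  classical
  rw [prod_split, det_apply, det_apply, Finset.sum_mul_sum, coeff_sum]
  simp_rw [coeff_sum, smul_mul_smul_comm, term_eq, coeff_smul, coeff_monomial, expo_eq_iff]
  have : ∀ τ : Equiv.Perm (Fin n), (∑ σ : Equiv.Perm (Fin n),
      (Equiv.Perm.sign τ * Equiv.Perm.sign σ) • (if σ = τ then (1 : ℤ) else 0)) = 1 := by
    intro τ
    rw [Finset.sum_eq_single τ]
    · rw [if_pos rfl, ← sq, Int.units_sq, one_smul]
    · intro σ _ h
      rw [if_neg h, smul_zero]
    · intro h; exact absurd (Finset.mem_univ τ) h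
  simp_rw [this]
  rw [Finset.sum_const, Finset.card_univ, Fintype.card_perm, Fintype.card_fin]
  simp

end Groth.Agent.Lib.Helper83.VandCoeff
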