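import Mathlib

/-!
# Continuous characters for the weak topology defined by a torsion group of characters (helper83)

`exists_int_mul`: an endomorphism of `ℚ/ℤ` acts on `n`-torsion by an integer.
`exists_finset`: continuity w.r.t. an infimum of induced discrete topologies is controlled by finitely
many of the maps. `main`: every continuous character is `β f'`.
-/

set_option autoImplicit false
universe u

namespace Groth.Agent.Lib.Helper83.WeakChar

open Filter Topology

/-- An endomorphism of `ℚ/ℤ` acts on the `n`-torsion by multiplication by an integer. -/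
theorem exists_int_mul (n : ℕ) (hn : 0 < n) (c : AddCircle (1 : ℚ) →+ AddCircle (1 : ℚ)) :
    ∃ m : ℤ, ∀ y : AddCircle (1 : ℚ), n • y = 0 → c y = m • y := by
  set g : AddCircle (1 : ℚ) := ((1 / n : ℚ) : AddCircle (1 : ℚ)) with hg
  have hn0 : (n : ℚ) ≠ 0 := by exact_mod_cast hn.ne'
  have key : ∀ y : AddCircle (1 : ℚ), n • y = 0 → ∃ j : ℤ, y = j • g := by
    intro y hy
    obtain ⟨q, rfl⟩ := QuotientAddGroup.mk_surjective y
    have h1 : ((n • q : ℚ) : AddCircle (1 : ℚ)) = 0 := hy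
    rw [AddCircle.coe_eq_zero_iff] at h1
    obtain ⟨j, hj⟩ := h1
    refine ⟨j, ?_⟩
    have h2 : q = j • (1 / n : ℚ) := by
      simp only [zsmul_eq_mul, mul_one, nsmul_eq_mul] at hj ⊢
      field_simp
      linarith
    rw [h2]
    rfl
  have hng : n • g = 0 := by
    have : ((n • (1 / n : ℚ) : ℚ) : AddCircle (1 : ℚ)) = 0 := by
      rw [AddCircle.coe_eq_zero_iff]
      exact ⟨1, by simp [hn0]⟩
    exact this
  obtain ⟨m, hm⟩ := key (c g) (by rw [← map_nsmul, hng, map_zero])
  refine ⟨m, fun y hy => ?_⟩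
  obtain ⟨j, rfl⟩ := key y hy
  rw [map_zsmul, hm, smul_comm]

/-- continuity for the weak topology gives a finite set of characters controlling the kernel. -/
theorem exists_finset {G : Type u} {ι : Type*} {Q : Type*} [AddGroup G] [AddGroup Q]
    (b : ι → G →+ Q) (χ : G →+ Q)
    (hχ : @Continuous G Q (⨅ i : ι, TopologicalSpace.induced (fun x : G => b i x) ⊥) ⊥ χ) :
    ∃ T : Finset ι, ∀ x : G, (∀ i ∈ T, b i x = 0) → χ x = 0 := by
  let t : TopologicalSpace G := ⨅ i : ι, TopologicalSpace.induced (fun x : G => b i x) ⊥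
  have hopen : @IsOpen G t (χ ⁻¹' {0}) := by
    apply @IsOpen.preimage G Q t ⊥ χ hχ
    trivial
  have hmem : χ ⁻¹' {0} ∈ @nhds G t 0 := @IsOpen.mem_nhds G t 0 _ hopen (by simp)
  have hnhds : @nhds G t 0 = ⨅ i : ι, 𝓟 ((fun x : G => b i x) ⁻¹' {0}) := by
    change @nhds G (⨅ i : ι, TopologicalSpace.induced (fun x : G => b i x) ⊥) 0 = _
    rw [nhds_iInf]
    congr 1
    funext i
    rw [@nhds_induced Q G ⊥, @nhds_discrete Q ⊥ (@DiscreteTopology.mk Q ⊥ rfl), map_zero,
      Filter.comap_pure]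
  rw [hnhds, Filter.mem_iInf_finite] at hmem
  obtain ⟨T, hT⟩ := hmem
  rw [Filter.iInf_principal_finset, Filter.mem_principal] at hT
  refine ⟨T, fun x hx => ?_⟩
  have : x ∈ ⋂ i ∈ T, (fun x : G => b i x) ⁻¹' {0} := by
    simp only [Set.mem_iInter, Set.mem_preimage, Set.mem_singleton_iff]
    exact hx
  exact hT this

theorem main
    (G : Type u) (G' : Type u) [AddCommGroup G] [AddCommGroup G'] (hG' : IsAddTorsion G')
    (β : G' →+ (G →+ AddCircle (1 : ℚ)))
    (χ : G →+ AddCircle (1 : ℚ))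
    (hχ : @Continuous G (AddCircle (1 : ℚ)) (⨅ f' : G', TopologicalSpace.induced (fun x : G => β f' x) ⊥) ⊥ χ) :
    ∃ f' : G', β f' = χ := by
  classical
  obtain ⟨T, hT⟩ := exists_finset (fun i => β i) χ hχ
  let Φ : G →+ (T → AddCircle (1 : ℚ)) := AddMonoidHom.pi (fun t : T => β t.1)
  have hΦ : ∀ x t, Φ x t = β t.1 x := fun x t => rfl
  have hker : Φ.rangeRestrict.ker ≤ χ.ker := by
    rw [AddMonoidHom.ker_rangeRestrict]
    intro x hx
    rw [AddMonoidHom.mem_ker] at hx ⊢
    apply hT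
    intro i hi
    have := congrFun hx ⟨i, hi⟩
    exact this
  let ψ : Φ.range →+ AddCircle (1 : ℚ) :=
    Φ.rangeRestrict.liftOfSurjective Φ.rangeRestrict_surjective ⟨χ, hker⟩
  have hψ : ∀ x, ψ (Φ.rangeRestrict x) = χ x := fun x =>
    AddMonoidHom.liftOfRightInverse_comp_apply _ _ _ ⟨χ, hker⟩ x
  obtain ⟨ψ', hψ'⟩ := (Module.Baer.of_divisible (AddCircle (1 : ℚ))).extension_property_addMonoidHom
    Φ.range.subtype Subtype.val_injective ψ
  have h1 : ∀ x, χ x = ψ' (Φ x) := by
    intro x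
    rw [← hψ x, ← hψ']
    rfl
  -- the integers
  have hm : ∀ t : T, ∃ m : ℤ, ∀ x : G,
      (ψ'.comp (AddMonoidHom.single (fun _ : T => AddCircle (1 : ℚ)) t)) (β t.1 x) = m • β t.1 x := by
    intro t
    have hpos : 0 < addOrderOf t.1 := addOrderOf_pos_iff.2 (hG' t.1)
    obtain ⟨m, hm⟩ := exists_int_mul (addOrderOf t.1) hpos
      (ψ'.comp (AddMonoidHom.single (fun _ : T => AddCircle (1 : ℚ)) t))
    refine ⟨m, fun x => hm _ ?_⟩
    rw [← AddMonoidHom.smul_apply, ← map_nsmul, addOrderOf_nsmul_eq_zero, map_zero]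
    rfl
  choose m hm using hm
  refine ⟨∑ t : T, m t • t.1, ?_⟩
  ext x
  rw [h1, map_sum, AddMonoidHom.finsetSum_apply]
  have h2 : Φ x = ∑ t : T, Pi.single t (Φ x t) := (Finset.univ_sum_single (Φ x)).symm
  rw [h2, map_sum]
  refine Finset.sum_congr rfl (fun t _ => ?_)
  rw [map_zsmul, AddMonoidHom.smul_apply, ← hm t x, hΦ]
  rfl

end Groth.Agent.Lib.Helper83.WeakChar
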