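import Groth.Prelude.Def_W4bk4bump814p2PDiff
import Mathlib

/-!
# The filtration `Σ^i` of Kaehler differentials via the Witt ghost identity (helper83)

`diff_id_alg`: `δ_n x + δ_n y = ∑_j δ_{n-j}(t_j(x,y))` with `t_j` the coefficients of `[X]+[Y]`.
`defect_mem` (S12623), `sigma_submodule` (S12624), `sigma_eq_closure` (S12625).
-/
set_option autoImplicit false
universe u v

namespace Groth.Agent.Lib.Helper83.WittDiff

open MvPolynomial Finset W4bk4bump814p2

variable (p : ℕ) [hp : Fact p.Prime]

abbrev R := MvPolynomial (Fin 2) ℤ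

noncomputable def t (j : ℕ) : R :=
  (WittVector.teichmuller p (X 0 : R) + WittVector.teichmuller p (X 1 : R)).coeff j

theorem t_zero : t p 0 = X 0 + X 1 := by
  rw [t, WittVector.add_coeff_zero, WittVector.teichmuller_coeff_zero,
    WittVector.teichmuller_coeff_zero]

theorem ghost_id (n : ℕ) :
    (X 0 : R) ^ p ^ n + (X 1 : R) ^ p ^ n =
      ∑ j ∈ range (n + 1), (p : R) ^ j * (t p j) ^ p ^ (n - j) := by
  have h := WittVector.ghostComponent_apply (p := p) n
    (WittVector.teichmuller p (X 0 : R) + WittVector.teichmuller p (X 1 : R))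
  rw [map_add, WittVector.ghostComponent_teichmuller, WittVector.ghostComponent_teichmuller,
    aeval_wittPolynomial] at h
  exact h

instance : Module.Free R (Ω[R⁄ℤ]) := Module.Free.of_basis (KaehlerDifferential.mvPolynomialBasis ℤ (Fin 2))

theorem D_pow_eq (k : ℕ) (r : R) :
    KaehlerDifferential.D ℤ R (r ^ p ^ k) = (p ^ k : ℕ) • delta ℤ R p k r := by
  rw [Derivation.leibniz_pow, delta]

theorem diff_id (n : ℕ) :
    delta ℤ R p n (X 0) + delta ℤ R p n (X 1) = ∑ j ∈ range (n + 1), delta ℤ R p (n - j) (t p j) := by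
  have h := congrArg (KaehlerDifferential.D ℤ R) (ghost_id p n)
  rw [map_add, map_sum, D_pow_eq, D_pow_eq] at h
  have h2 : ∀ j ∈ range (n + 1), KaehlerDifferential.D ℤ R ((p : R) ^ j * (t p j) ^ p ^ (n - j)) =
      (p ^ n : ℕ) • delta ℤ R p (n - j) (t p j) := by
    intro j hj
    have hjn : j ≤ n := Nat.lt_succ_iff.1 (mem_range.1 hj)
    have : (p : R) ^ j * (t p j) ^ p ^ (n - j) = (p ^ j : ℕ) • (t p j) ^ p ^ (n - j) := by
      rw [nsmul_eq_mul]; push_cast; rfl
    rw [this, map_nsmul, D_pow_eq, smul_smul, ← pow_add, Nat.add_sub_cancel' hjn]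
  rw [sum_congr rfl h2, ← smul_sum, ← smul_add] at h
  have hne : ((p ^ n : ℕ) : R) ≠ 0 := by
    exact_mod_cast pow_ne_zero n hp.out.ne_zero
  have h3 := h
  rw [← Nat.cast_smul_eq_nsmul R, ← Nat.cast_smul_eq_nsmul R] at h3
  exact smul_right_injective _ hne h3

section transfer
variable (K : Type u) (A : Type v) [CommRing K] [CommRing A] [Algebra K A]

/-- the identity `δ_n x + δ_n y = ∑_j δ_{n-j} (t_j(x,y))` in any algebra. -/
theorem diff_id_alg (n : ℕ) (x y : A) :
    delta K A p n x + delta K A p n y =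
      ∑ j ∈ range (n + 1), delta K A p (n - j) (aeval ![x, y] (t p j)) := by
  letI : Algebra R A := (aeval ![x, y] : R →ₐ[ℤ] A).toRingHom.toAlgebra
  have halg : ∀ r : R, algebraMap R A r = aeval ![x, y] r := fun r => rfl
  haveI : SMulCommClass K R A := ⟨fun k r a => by
    rw [Algebra.smul_def r, Algebra.smul_def r, Algebra.smul_def k, Algebra.smul_def k]
    ring⟩
  let ψ := KaehlerDifferential.map ℤ K R A
  have hψ : ∀ (k : ℕ) (r : R), ψ (delta ℤ R p k r) = delta K A p k (aeval ![x, y] r) := by
    intro k r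
    rw [delta, delta, map_smul, KaehlerDifferential.map_D, ← map_pow, ← halg (r ^ (p ^ k - 1)),
      algebraMap_smul, halg]
  have h := congrArg ψ (diff_id p n)
  rw [map_add, map_sum, hψ, hψ] at h
  simp_rw [hψ] at h
  simpa using h

theorem delta_zero (k : ℕ) : delta K A p k 0 = 0 := by
  rw [delta, map_zero, smul_zero]

/-- sums of one `δ_k` per level below `i` lie in `Σ^i`. -/
theorem sum_mem_sigma (i : ℕ) (u : ℕ → A) :
    ∑ k ∈ range i, delta K A p k (u k) ∈ sigma K A p i := by
  induction i with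
  | zero => simp
  | succ i ih =>
    rw [mem_sigma_succ]
    refine ⟨u i, ?_⟩
    rw [sum_range_succ, add_sub_cancel_right]
    exact ih

theorem exists_of_mem_sigma (i : ℕ) {ω : Ω[A⁄K]} (hω : ω ∈ sigma K A p i) :
    ∃ u : ℕ → A, ω = ∑ k ∈ range i, delta K A p k (u k) := by
  induction i generalizing ω with
  | zero =>
    refine ⟨fun _ => 0, ?_⟩
    simpa using hω
  | succ i ih =>
    obtain ⟨x, hx⟩ := (mem_sigma_succ K A p i ω).1 hω
    obtain ⟨u, hu⟩ := ih hx
    refine ⟨fun k => if k = i then x else u k, ?_⟩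
    rw [sum_range_succ]
    dsimp only
    rw [if_pos rfl]
    have : ∑ k ∈ range i, delta K A p k (if k = i then x else u k) =
        ∑ k ∈ range i, delta K A p k (u k) := by
      refine sum_congr rfl (fun k hk => ?_)
      rw [if_neg (ne_of_lt (mem_range.1 hk))]
    rw [this, ← hu]
    abel

theorem delta_mem_sigma {i j : ℕ} (hj : j < i) (x : A) : delta K A p j x ∈ sigma K A p i := by
  classical
  have := sum_mem_sigma p K A i (fun k => if k = j then x else 0)
  rw [sum_eq_single j] at this
  · simpa using this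
  · intro k _ hkj
    rw [if_neg hkj, delta_zero]
  · intro h
    exact absurd (mem_range.2 hj) h

/-- `δ_k (b • s) = b^(p^k) • δ_k s` for scalars `b`. -/
theorem delta_smul (k : ℕ) (b : K) (s : A) :
    delta K A p k (b • s) = b ^ p ^ k • delta K A p k s := by
  have hpos : 0 < p ^ k := pow_pos hp.out.pos k
  rw [delta, delta, Derivation.map_smul, smul_pow, smul_assoc, smul_comm (s ^ (p ^ k - 1)) b,
    smul_smul, ← pow_succ, Nat.sub_add_cancel hpos]

end transfer

section charp
variable (K : Type u) (A : Type v) [Field K] [CharP K p] [CommRing A] [Algebra K A]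

theorem delta_neg (k : ℕ) (s : A) : delta K A p k (-s) = - delta K A p k s := by
  have h := delta_smul p K A k (-1 : K) s
  rw [neg_one_pow_char_pow, neg_smul, one_smul, neg_smul, one_smul] at h
  exact h

theorem neg_mem_sigma (i : ℕ) {ω : Ω[A⁄K]} (hω : ω ∈ sigma K A p i) : -ω ∈ sigma K A p i := by
  obtain ⟨u, rfl⟩ := exists_of_mem_sigma p K A i hω
  rw [← sum_neg_distrib]
  simp_rw [← delta_neg]
  exact sum_mem_sigma p K A i (fun k => -u k)

/-- S12623. -/
theorem defect_mem (i : ℕ) (x y : A) :
    delta K A p i (x + y) - delta K A p i x - delta K A p i y ∈ sigma K A p i := by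
  have h := diff_id_alg p K A i x y
  rw [sum_range_succ', Nat.sub_zero, t_zero, map_add, aeval_X, aeval_X] at h
  have h0 : (![x, y] : Fin 2 → A) 0 = x := rfl
  have h1 : (![x, y] : Fin 2 → A) 1 = y := rfl
  rw [h0, h1] at h
  have h2 : delta K A p i (x + y) - delta K A p i x - delta K A p i y =
      - ∑ j ∈ range i, delta K A p (i - (j + 1)) (aeval ![x, y] (t p (j + 1))) := by
    rw [sub_sub, h]; abel
  rw [h2]
  apply neg_mem_sigma
  have h3 : ∑ j ∈ range i, delta K A p (i - (j + 1)) (aeval ![x, y] (t p (j + 1))) =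
      ∑ k ∈ range i, delta K A p k (aeval ![x, y] (t p (i - k))) := by
    rw [← sum_range_reflect (fun k => delta K A p k (aeval ![x, y] (t p (i - k)))) i]
    refine sum_congr rfl (fun j hj => ?_)
    have hj' := mem_range.1 hj
    have e1 : i - 1 - j = i - (j + 1) := by omega
    have e2 : i - (i - (j + 1)) = j + 1 := by omega
    rw [e1, e2]
  rw [h3]
  exact sum_mem_sigma p K A i _

theorem add_mem_sigma (i : ℕ) {ω ω' : Ω[A⁄K]} (hω : ω ∈ sigma K A p i) (hω' : ω' ∈ sigma K A p i) :
    ω + ω' ∈ sigma K A p i := by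
  induction i generalizing ω ω' with
  | zero =>
    simp only [sigma_zero, Set.mem_singleton_iff] at hω hω' ⊢
    rw [hω, hω', add_zero]
  | succ i ih =>
    obtain ⟨a, ha⟩ := (mem_sigma_succ K A p i ω).1 hω
    obtain ⟨b, hb⟩ := (mem_sigma_succ K A p i ω').1 hω'
    rw [mem_sigma_succ]
    refine ⟨a + b, ?_⟩
    have : ω + ω' - delta K A p i (a + b) =
        (ω - delta K A p i a) + ((ω' - delta K A p i b) +
          -(delta K A p i (a + b) - delta K A p i a - delta K A p i b)) := by abel
    rw [this]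
    exact ih ha (ih hb (neg_mem_sigma p K A i (defect_mem p K A i a b)))

theorem zero_mem_sigma (i : ℕ) : (0 : Ω[A⁄K]) ∈ sigma K A p i := by
  have := sum_mem_sigma p K A i (fun _ => (0 : A))
  simpa [delta_zero] using this

/-- S12625. -/
theorem sigma_eq_closure (i : ℕ) :
    sigma K A p i =
      (AddSubgroup.closure (⋃ j ∈ Finset.range i, Set.range (delta K A p j)) : Set (Ω[A⁄K])) := by
  apply Set.Subset.antisymm
  · intro ω hω
    obtain ⟨u, rfl⟩ := exists_of_mem_sigma p K A i hω
    refine sum_mem (fun k hk => AddSubgroup.subset_closure ?_)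
    simp only [Set.mem_iUnion, Set.mem_range]
    exact ⟨k, hk, u k, rfl⟩
  · let S : AddSubgroup (Ω[A⁄K]) :=
      { carrier := sigma K A p i
        add_mem' := fun h h' => add_mem_sigma p K A i h h'
        zero_mem' := zero_mem_sigma p K A i
        neg_mem' := fun h => neg_mem_sigma p K A i h }
    have : AddSubgroup.closure (⋃ j ∈ Finset.range i, Set.range (delta K A p j)) ≤ S := by
      rw [AddSubgroup.closure_le]
      intro ω hω
      simp only [Set.mem_iUnion, Set.mem_range] at hω
      obtain ⟨j, hj, x, rfl⟩ := hω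
      exact delta_mem_sigma p K A (Finset.mem_range.1 hj) x
    exact this

variable [PerfectField K]

theorem smul_mem_sigma (i : ℕ) (c : K) {ω : Ω[A⁄K]} (hω : ω ∈ sigma K A p i) :
    c • ω ∈ sigma K A p i := by
  haveI : PerfectRing K p := PerfectField.toPerfectRing p
  obtain ⟨u, rfl⟩ := exists_of_mem_sigma p K A i hω
  rw [smul_sum]
  have : ∀ k, c • delta K A p k (u k) =
      delta K A p k (((iterateFrobeniusEquiv K p k).symm c) • u k) := by
    intro k
    rw [delta_smul, ← iterateFrobeniusEquiv_def, RingEquiv.apply_symm_apply]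
  simp_rw [this]
  exact sum_mem_sigma p K A i _

/-- S12624. -/
theorem sigma_submodule (i : ℕ) :
    ∃ S : Submodule K (Ω[A⁄K]), (S : Set (Ω[A⁄K])) = sigma K A p i :=
  ⟨{ carrier := sigma K A p i
     add_mem' := fun h h' => add_mem_sigma p K A i h h'
     zero_mem' := zero_mem_sigma p K A i
     smul_mem' := fun c _ h => smul_mem_sigma p K A i c h }, rfl⟩

end charp

end Groth.Agent.Lib.Helper83.WittDiff
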