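import Groth.Prelude.Def_WittGrp
import Mathlib

set_option autoImplicit false
universe u

namespace Groth.Agent.Lib.Helper83.WittTrunc

open Polynomial

section Field

variable {k : Type u} [Field k] [IsAlgClosed k]

/-- A polynomial over an algebraically closed field with two different monomials has a nonzero
root. -/
theorem exists_ne_zero_root (P : k[X]) (i j : ℕ) (hij : i ≠ j) (hi : P.coeff i ≠ 0)
    (hj : P.coeff j ≠ 0) : ∃ x : k, x ≠ 0 ∧ P.eval x = 0 := by
  by_contra hcon
  push Not at hcon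
  have hroots : ∀ r ∈ P.roots, r = 0 := by
    intro r hr
    by_contra hr0
    exact hcon r hr0 ((Polynomial.mem_roots'.mp hr).2)
  have h1 : P.roots = Multiset.replicate (Multiset.card P.roots) 0 :=
    Multiset.eq_replicate.mpr ⟨rfl, hroots⟩
  have h2 := (IsAlgClosed.splits P).eq_prod_roots
  rw [h1] at h2
  simp only [Multiset.map_replicate, map_zero, sub_zero, Multiset.prod_replicate] at h2
  have hci : P.coeff i = if i = Multiset.card P.roots then P.leadingCoeff else 0 := by
    conv_lhs => rw [h2]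
    rw [Polynomial.coeff_C_mul_X_pow]
  have hcj : P.coeff j = if j = Multiset.card P.roots then P.leadingCoeff else 0 := by
    conv_lhs => rw [h2]
    rw [Polynomial.coeff_C_mul_X_pow]
  by_cases h3 : i = Multiset.card P.roots
  · by_cases h4 : j = Multiset.card P.roots
    · exact hij (h3.trans h4.symm)
    · rw [if_neg h4] at hcj; exact hj hcj
  · rw [if_neg h3] at hci; exact hi hci

variable (p : ℕ) [hp : Fact p.Prime]

omit [IsAlgClosed k] in
/-- coefficients of an additive polynomial -/
theorem coeff_sum_C_mul_X_pow_pow (N : ℕ) (a : ℕ → k) (i : ℕ) (hi : i < N) :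
    (∑ l ∈ Finset.range N, C (a l) * X ^ (p ^ l) : k[X]).coeff (p ^ i) = a i := by
  rw [Polynomial.finsetSum_coeff]
  simp only [Polynomial.coeff_C_mul_X_pow]
  rw [Finset.sum_eq_single i]
  · simp
  · intro l _ hl
    rw [if_neg]
    intro h
    exact hl (Nat.pow_right_injective hp.out.two_le h).symm
  · intro h
    exact absurd (Finset.mem_range.mpr hi) h

/-- An additive polynomial with two nonzero coefficients has a nonzero root. -/
theorem exists_ne_zero_root_additive (N : ℕ) (a : ℕ → k) (i j : ℕ) (hi : i < N) (hj : j < N)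
    (hij : i ≠ j) (hai : a i ≠ 0) (haj : a j ≠ 0) :
    ∃ x : k, x ≠ 0 ∧ ∑ l ∈ Finset.range N, a l * x ^ (p ^ l) = 0 := by
  obtain ⟨x, hx0, hx⟩ := exists_ne_zero_root (∑ l ∈ Finset.range N, C (a l) * X ^ (p ^ l) : k[X])
    (p ^ i) (p ^ j) (fun h => hij (Nat.pow_right_injective hp.out.two_le h))
    (by rw [coeff_sum_C_mul_X_pow_pow p N a i hi]; exact hai)
    (by rw [coeff_sum_C_mul_X_pow_pow p N a j hj]; exact haj)
  refine ⟨x, hx0, ?_⟩
  simpa [Polynomial.eval_finsetSum] using hx

end Field

section Frob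

variable {k : Type u} [Field k] [IsAlgClosed k] (p : ℕ) [hp : Fact p.Prime] [CharP k p]

/-- the hypothesis `h2` for the Frobenius -/
theorem h2_frobenius (n : ℕ) (b : Fin (n + 1) → k) (hb : b ≠ 0) :
    ∃ x : k, x ≠ 0 ∧ x = ∑ i : Fin (n + 1),
      (⇑(frobenius k p))^[i.val + 1] x * (⇑(frobenius k p))^[i.val] (b (Fin.rev i)) := by
  classical
  obtain ⟨j, hj⟩ : ∃ j, b j ≠ 0 := by
    by_contra h
    push Not at h
    exact hb (funext h)
  let a : ℕ → k := fun l => if l = 0 then -1 else
    if h : l - 1 < n + 1 then (b (Fin.rev ⟨l - 1, h⟩)) ^ (p ^ (l - 1)) else 0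
  have ha0 : a 0 = -1 := by simp [a]
  have hasucc : ∀ i : Fin (n + 1), a (i.val + 1) = (b (Fin.rev i)) ^ (p ^ i.val) := by
    intro i
    have h1 : i.val + 1 ≠ 0 := by omega
    have h2 : i.val + 1 - 1 < n + 1 := by have := i.2; omega
    simp only [a, if_neg h1, Nat.add_sub_cancel]
    rw [dif_pos i.2]
  obtain ⟨x, hx0, hx⟩ := exists_ne_zero_root_additive p (n + 2) a 0 ((Fin.rev j).val + 1)
    (by omega) (by have := (Fin.rev j).2; omega) (by omega) (by rw [ha0]; simp)
    (by rw [hasucc, Fin.rev_rev]; exact pow_ne_zero _ hj)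
  refine ⟨x, hx0, ?_⟩
  rw [Finset.sum_range_succ', ha0] at hx
  have h1 : ∑ l ∈ Finset.range (n + 1), a (l + 1) * x ^ p ^ (l + 1) =
      ∑ i : Fin (n + 1), a (i.val + 1) * x ^ p ^ (i.val + 1) :=
    (Fin.sum_univ_eq_sum_range (fun l => a (l + 1) * x ^ p ^ (l + 1)) (n + 1)).symm
  rw [h1] at hx
  have h2 : ∑ i : Fin (n + 1), (⇑(frobenius k p))^[i.val + 1] x *
      (⇑(frobenius k p))^[i.val] (b (Fin.rev i)) =
      ∑ i : Fin (n + 1), a (i.val + 1) * x ^ p ^ (i.val + 1) := by
    refine Finset.sum_congr rfl fun i _ => ?_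
    rw [iterate_frobenius, iterate_frobenius, hasucc, mul_comm]
  rw [h2]
  have : ∑ i : Fin (n + 1), a (i.val + 1) * x ^ p ^ (i.val + 1) + -1 * x ^ p ^ 0 = 0 := hx
  rw [pow_zero, pow_one] at this
  linear_combination -this

/-- the hypothesis `h3` for the Frobenius -/
theorem h3_frobenius (c : k) : ∃ y : k, frobenius k p y - y + c = 0 := by
  have hdeg : (X ^ p - X + C c : k[X]).degree ≠ 0 := by
    have h1 : (X ^ p - X + C c : k[X]).natDegree = p := by
      have : (X ^ p - X + C c : k[X]) = X ^ p + (-X + C c) := by ring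
      rw [this]
      rw [Polynomial.natDegree_add_eq_left_of_natDegree_lt]
      · simp
      · rw [Polynomial.natDegree_X_pow]
        refine lt_of_le_of_lt (Polynomial.natDegree_add_le _ _) ?_
        simp only [natDegree_neg, natDegree_X, natDegree_C]
        have := hp.out.two_le
        omega
    intro h
    have := Polynomial.natDegree_eq_of_degree_eq_some h
    rw [h1] at this
    exact hp.out.ne_zero (by exact_mod_cast this)
  obtain ⟨y, hy⟩ := IsAlgClosed.exists_root _ hdeg
  refine ⟨y, ?_⟩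
  simpa [frobenius_def] using hy

end Frob

section FrobInv

variable {k : Type u} [Field k] [IsAlgClosed k] (p : ℕ) [hp : Fact p.Prime] [CharP k p]

omit [IsAlgClosed k] in
theorem pow_p_pow_inj (m : ℕ) {a b : k} (h : a ^ p ^ m = b ^ p ^ m) : a = b := by
  rw [← iterate_frobenius, ← iterate_frobenius] at h
  exact (frobenius_inj k p).iterate m h

theorem iterate_symm_pow (m r : ℕ) (z : k) :
    (⇑(frobeniusEquiv k p).symm.toRingHom)^[m] (z ^ p ^ (m + r)) = z ^ p ^ r := by
  apply pow_p_pow_inj p m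
  have := iterate_frobeniusEquiv_symm_pow_p_pow (R := k) p (z ^ p ^ (m + r)) m
  rw [RingEquiv.toRingHom_eq_coe, RingEquiv.coe_toRingHom, this, ← pow_mul, ← pow_add, add_comm]

theorem iterate_symm_eq (m r : ℕ) (w : k) :
    (⇑(frobeniusEquiv k p).symm.toRingHom)^[m] w =
      ((⇑(frobeniusEquiv k p).symm.toRingHom)^[m + r] w) ^ p ^ r := by
  apply pow_p_pow_inj p m
  have h1 := iterate_frobeniusEquiv_symm_pow_p_pow (R := k) p w m
  have h2 := iterate_frobeniusEquiv_symm_pow_p_pow (R := k) p w (m + r)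
  rw [RingEquiv.toRingHom_eq_coe, RingEquiv.coe_toRingHom, h1, ← pow_mul, ← pow_add, add_comm r m,
    h2]

/-- the hypothesis `h2` for the inverse of the Frobenius -/
theorem h2_frobenius_symm (n : ℕ) (b : Fin (n + 1) → k) (hb : b ≠ 0) :
    ∃ x : k, x ≠ 0 ∧ x = ∑ i : Fin (n + 1),
      (⇑(frobeniusEquiv k p).symm.toRingHom)^[i.val + 1] x *
        (⇑(frobeniusEquiv k p).symm.toRingHom)^[i.val] (b (Fin.rev i)) := by
  classical
  obtain ⟨j, hj⟩ : ∃ j, b j ≠ 0 := by
    by_contra h
    push Not at h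
    exact hb (funext h)
  set ψ := (frobeniusEquiv k p).symm.toRingHom with hψ
  let β : Fin (n + 1) → k := fun j => (⇑ψ)^[n + 1] (b j)
  have hβj : β j ≠ 0 := by
    intro h
    apply hj
    have h1 : Function.Injective ((⇑ψ)^[n + 1]) :=
      ((frobeniusEquiv k p).symm.injective).iterate (n + 1)
    apply h1
    show β j = _
    rw [h]
    exact (iterate_map_zero ψ (n + 1)).symm
  let a : ℕ → k := fun l => if h : l < n + 1 then -(β ⟨l, h⟩) ^ p ^ (l + 1) else
    if l = n + 1 then 1 else 0
  have ha1 : a (n + 1) = 1 := by simp [a]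
  have haj : ∀ i : Fin (n + 1), a i.val = -(β i) ^ p ^ (i.val + 1) := by
    intro i
    simp only [a]
    rw [dif_pos i.2]
  obtain ⟨y, hy0, hy⟩ := exists_ne_zero_root_additive p (n + 2) a (n + 1) j.val
    (by omega) (by have := j.2; omega) (by have := j.2; omega) (by rw [ha1]; exact one_ne_zero)
    (by rw [haj]; exact neg_ne_zero.mpr (pow_ne_zero _ hβj))
  refine ⟨y ^ p ^ (n + 1), pow_ne_zero _ hy0, ?_⟩
  rw [Finset.sum_range_succ, ha1, one_mul] at hy
  have h1 : ∑ l ∈ Finset.range (n + 1), a l * y ^ p ^ l =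
      ∑ i : Fin (n + 1), a i.val * y ^ p ^ i.val :=
    (Fin.sum_univ_eq_sum_range (fun l => a l * y ^ p ^ l) (n + 1)).symm
  rw [h1] at hy
  let g : Fin (n + 1) → k := fun j => y ^ p ^ j.val * (β j) ^ p ^ (j.val + 1)
  have h2 : ∑ i : Fin (n + 1), (⇑ψ)^[i.val + 1] (y ^ p ^ (n + 1)) * (⇑ψ)^[i.val] (b (Fin.rev i)) =
      ∑ i : Fin (n + 1), g (Fin.rev i) := by
    refine Finset.sum_congr rfl fun i _ => ?_
    have hi := i.2
    have e1 : n + 1 = (i.val + 1) + (Fin.rev i).val := by rw [Fin.val_rev]; omega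
    have e2 : n + 1 = i.val + ((Fin.rev i).val + 1) := by rw [Fin.val_rev]; omega
    have t1 : ∀ N : ℕ, N = (i.val + 1) + (Fin.rev i).val →
        (⇑ψ)^[i.val + 1] (y ^ p ^ N) = y ^ p ^ (Fin.rev i).val := by
      intro N hN
      subst hN
      exact iterate_symm_pow p _ _ y
    have t2 : ∀ N : ℕ, N = i.val + ((Fin.rev i).val + 1) → (⇑ψ)^[i.val] (b (Fin.rev i)) =
        ((⇑ψ)^[N] (b (Fin.rev i))) ^ p ^ ((Fin.rev i).val + 1) := by
      intro N hN
      subst hN
      exact iterate_symm_eq p i.val ((Fin.rev i).val + 1) (b (Fin.rev i))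
    rw [t1 (n + 1) e1, t2 (n + 1) e2]
  have h3 : ∑ i : Fin (n + 1), g (Fin.rev i) = ∑ j : Fin (n + 1), g j :=
    Equiv.sum_comp Fin.revPerm g
  rw [h2, h3]
  have h4 : ∑ i : Fin (n + 1), a i.val * y ^ p ^ i.val = -∑ j : Fin (n + 1), g j := by
    rw [← Finset.sum_neg_distrib]
    refine Finset.sum_congr rfl fun i _ => ?_
    rw [haj]
    simp only [g]
    ring
  rw [h4] at hy
  linear_combination hy

/-- the hypothesis `h3` for the inverse of the Frobenius -/
theorem h3_frobenius_symm (c : k) :
    ∃ y : k, (frobeniusEquiv k p).symm.toRingHom y - y + c = 0 := by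
  obtain ⟨z, hz⟩ := h3_frobenius p (-c)
  refine ⟨frobenius k p z, ?_⟩
  rw [RingEquiv.toRingHom_eq_coe, RingEquiv.coe_toRingHom, frobeniusEquiv_symm_apply_frobenius]
  linear_combination -hz

end FrobInv

section Witt

open WittVector

variable (p : ℕ) [hp : Fact p.Prime] (k : Type u) [Field k] [CharP k p] [IsAlgClosed k] (m : ℕ)

/-- the constant coefficient `W_{m+1}(k) → k` -/
noncomputable def c₀ : TruncatedWittVector p (m + 1) k →+* k where
  toFun x := x.coeff 0
  map_one' := by
    rw [← map_one (WittVector.truncate (p := p) (R := k) (m + 1)), WittVector.coeff_truncate]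
    exact WittVector.one_coeff_zero p k
  map_zero' := TruncatedWittVector.coeff_zero p (m + 1) k 0
  map_mul' x y := by
    obtain ⟨X, rfl⟩ := WittVector.truncate_surjective p (m + 1) k x
    obtain ⟨Y, rfl⟩ := WittVector.truncate_surjective p (m + 1) k y
    rw [← map_mul, WittVector.coeff_truncate, WittVector.coeff_truncate, WittVector.coeff_truncate]
    exact WittVector.mul_coeff_zero X Y
  map_add' x y := by
    obtain ⟨X, rfl⟩ := WittVector.truncate_surjective p (m + 1) k x
    obtain ⟨Y, rfl⟩ := WittVector.truncate_surjective p (m + 1) k y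
    rw [← map_add, WittVector.coeff_truncate, WittVector.coeff_truncate, WittVector.coeff_truncate]
    exact WittVector.add_coeff_zero X Y

theorem c₀_apply (x : TruncatedWittVector p (m + 1) k) : c₀ p k m x = x.coeff 0 := rfl

theorem c₀_surjective : Function.Surjective (c₀ p k m) := fun a =>
  ⟨TruncatedWittVector.mk p fun _ => a, by rw [c₀_apply, TruncatedWittVector.coeff_mk]⟩

instance nontrivial_trunc : Nontrivial (TruncatedWittVector p (m + 1) k) :=
  ⟨⟨0, 1, fun h => by
    have := congrArg (c₀ p k m) h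
    rw [map_zero, map_one] at this
    exact zero_ne_one this⟩⟩

noncomputable instance isLocalRing_trunc : IsLocalRing (TruncatedWittVector p (m + 1) k) :=
  IsLocalRing.of_surjective' (WittVector.truncate (p := p) (R := k) (m + 1))
    (WittVector.truncate_surjective p (m + 1) k)

theorem ker_c₀ : RingHom.ker (c₀ p k m) =
    IsLocalRing.maximalIdeal (TruncatedWittVector p (m + 1) k) := by
  have : (RingHom.ker (c₀ p k m)).IsMaximal :=
    RingHom.ker_isMaximal_of_surjective _ (c₀_surjective p k m)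
  exact IsLocalRing.eq_maximalIdeal this

theorem maximalIdeal_eq : IsLocalRing.maximalIdeal (TruncatedWittVector p (m + 1) k) =
    Ideal.span {(p : TruncatedWittVector p (m + 1) k)} := by
  rw [← ker_c₀]
  apply le_antisymm
  · intro x hx
    obtain ⟨X, rfl⟩ := WittVector.truncate_surjective p (m + 1) k x
    have hX : X.coeff 0 = 0 := by
      rwa [RingHom.mem_ker, c₀_apply, WittVector.coeff_truncate] at hx
    have hXm : X ∈ IsLocalRing.maximalIdeal (WittVector p k) := by
      rw [IsLocalRing.mem_maximalIdeal, mem_nonunits_iff]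
      intro hu
      have := hu.map (WittVector.constantCoeff (p := p) (R := k))
      exact this.ne_zero hX
    rw [(WittVector.irreducible p).maximalIdeal_eq, Ideal.mem_span_singleton'] at hXm
    obtain ⟨Y, hY⟩ := hXm
    rw [Ideal.mem_span_singleton']
    exact ⟨WittVector.truncate (m + 1) Y, by rw [← hY, map_mul, map_natCast]⟩
  · rw [Ideal.span_le, Set.singleton_subset_iff]
    show c₀ p k m (p : TruncatedWittVector p (m + 1) k) = 0
    rw [map_natCast]
    exact CharP.cast_eq_zero k p

theorem p_pow_eq_zero : (p : TruncatedWittVector p (m + 1) k) ^ (m + 1) = 0 := by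
  have : (p : TruncatedWittVector p (m + 1) k) ^ (m + 1) =
      WittVector.truncate (m + 1) ((p : WittVector p k) ^ (m + 1)) := by
    rw [map_pow, map_natCast]
  rw [this]
  ext i
  rw [WittVector.coeff_truncate, WittVector.coeff_p_pow_eq_zero p k (ne_of_lt i.2),
    TruncatedWittVector.coeff_zero]

/-- the residue field of `W_{m+1}(k)` is `k` -/
noncomputable def e : IsLocalRing.ResidueField (TruncatedWittVector p (m + 1) k) ≃+* k :=
  RingEquiv.ofBijective
    (Ideal.Quotient.lift (IsLocalRing.maximalIdeal (TruncatedWittVector p (m + 1) k)) (c₀ p k m)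
      (fun a ha => by rw [← ker_c₀] at ha; exact ha))
    ⟨RingHom.injective _, Ideal.Quotient.lift_surjective_of_surjective _ _ (c₀_surjective p k m)⟩

theorem e_residue (r : TruncatedWittVector p (m + 1) k) :
    e p k m (IsLocalRing.residue _ r) = c₀ p k m r := rfl

/-- the endomorphism of the residue field induced by `φ` -/
noncomputable def σbar (φ : k →+* k) :
    IsLocalRing.ResidueField (TruncatedWittVector p (m + 1) k) →+*
      IsLocalRing.ResidueField (TruncatedWittVector p (m + 1) k) :=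
  (e p k m).symm.toRingHom.comp (φ.comp (e p k m).toRingHom)

theorem σbar_apply (φ : k →+* k) (x) : σbar p k m φ x = (e p k m).symm (φ (e p k m x)) := rfl

theorem e_σbar (φ : k →+* k) (x) : e p k m (σbar p k m φ x) = φ (e p k m x) := by
  rw [σbar_apply, RingEquiv.apply_symm_apply]

theorem σbar_residue (φ : k →+* k) (r : TruncatedWittVector p (m + 1) k) :
    σbar p k m φ (IsLocalRing.residue _ r) =
      IsLocalRing.residue _ (WittGrp.truncMap p (m + 1) φ r) := by
  apply (e p k m).injective
  rw [e_σbar, e_residue, e_residue, c₀_apply, c₀_apply, WittGrp.coeff_truncMap]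

theorem e_iterate_σbar (φ : k →+* k) (i : ℕ) (x) :
    e p k m ((⇑(σbar p k m φ))^[i] x) = (⇑φ)^[i] (e p k m x) := by
  induction i with
  | zero => rfl
  | succ i ih => rw [Function.iterate_succ_apply', Function.iterate_succ_apply', e_σbar, ih]

theorem σbar_surjective (φ : k →+* k) (hφ : Function.Surjective φ) :
    Function.Surjective (σbar p k m φ) := by
  intro x
  obtain ⟨a, ha⟩ := hφ (e p k m x)
  refine ⟨(e p k m).symm a, ?_⟩
  apply (e p k m).injective
  rw [e_σbar, RingEquiv.apply_symm_apply, ha]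

theorem h2_σbar (φ : k →+* k)
    (h2 : ∀ (n : ℕ) (b : Fin (n + 1) → k), b ≠ 0 → ∃ x : k, x ≠ 0 ∧
      x = ∑ i : Fin (n + 1), (⇑φ)^[i.val + 1] x * (⇑φ)^[i.val] (b (Fin.rev i)))
    (n : ℕ) (b : Fin (n + 1) → IsLocalRing.ResidueField (TruncatedWittVector p (m + 1) k))
    (hb : b ≠ 0) :
    ∃ x, x ≠ 0 ∧ x = ∑ i : Fin (n + 1),
      (⇑(σbar p k m φ))^[i.val + 1] x * (⇑(σbar p k m φ))^[i.val] (b (Fin.rev i)) := by
  have hb' : (fun i => e p k m (b i)) ≠ 0 := by
    intro h
    apply hb
    funext i
    have := congrFun h i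
    exact (e p k m).injective (by rw [this]; simp)
  obtain ⟨x, hx0, hx⟩ := h2 n _ hb'
  refine ⟨(e p k m).symm x, ?_, ?_⟩
  · intro h
    apply hx0
    have := congrArg (e p k m) h
    rwa [RingEquiv.apply_symm_apply, map_zero] at this
  · apply (e p k m).injective
    rw [RingEquiv.apply_symm_apply, map_sum]
    conv_lhs => rw [hx]
    refine Finset.sum_congr rfl fun i _ => ?_
    rw [map_mul, e_iterate_σbar, e_iterate_σbar, RingEquiv.apply_symm_apply]

theorem h3_σbar (φ : k →+* k) (h3 : ∀ c : k, ∃ y : k, φ y - y + c = 0)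
    (c : IsLocalRing.ResidueField (TruncatedWittVector p (m + 1) k)) :
    ∃ y, σbar p k m φ y - y + c = 0 := by
  obtain ⟨y, hy⟩ := h3 (e p k m c)
  refine ⟨(e p k m).symm y, ?_⟩
  apply (e p k m).injective
  rw [map_add, map_sub, e_σbar, RingEquiv.apply_symm_apply, hy, map_zero]

theorem hlift_σbar (φ : k →+* k) (hφ : ∀ a : k, φ a = a → a ^ p = a)
    (x : IsLocalRing.ResidueField (TruncatedWittVector p (m + 1) k))
    (hx : σbar p k m φ x = x) :
    ∃ r : TruncatedWittVector p (m + 1) k, WittGrp.truncMap p (m + 1) φ r = r ∧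
      IsLocalRing.residue _ r = x := by
  have h1 : φ (e p k m x) = e p k m x := by rw [← e_σbar, hx]
  have h2 := (Subfield.mem_bot_iff_pow_eq_self k p).mpr (hφ _ h1)
  obtain ⟨z, hz⟩ := (mem_bot_iff_intCast p k).mp h2
  refine ⟨(z : TruncatedWittVector p (m + 1) k), map_intCast _ z, ?_⟩
  apply (e p k m).injective
  rw [e_residue, map_intCast, hz]

theorem finite_fixed (φ : k →+* k) (hφ : ∀ a : k, φ a = a → a ^ p = a) :
    {r : TruncatedWittVector p (m + 1) k | WittGrp.truncMap p (m + 1) φ r = r}.Finite := by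
  have hA : {a : k | a ^ p = a}.Finite := by
    have : {a : k | a ^ p = a} = ((⊥ : Subfield k) : Set k) := by
      ext a
      exact (Subfield.mem_bot_iff_pow_eq_self k p).symm
    rw [this]
    have := Subfield.fintypeBot k p
    exact Set.toFinite _
  have hpi : (Set.pi Set.univ fun _ : Fin (m + 1) => {a : k | a ^ p = a}).Finite :=
    Set.Finite.pi fun _ => hA
  refine Set.Finite.subset (hpi.preimage (f := fun r : TruncatedWittVector p (m + 1) k =>
    fun i => r.coeff i) ?_) ?_
  · intro x _ y _ hxy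
    exact TruncatedWittVector.ext fun i => congrFun hxy i
  · intro r hr i _
    apply hφ
    have := congrArg (fun s => TruncatedWittVector.coeff i s) hr
    simpa [WittGrp.coeff_truncMap] using this

end Witt

end Groth.Agent.Lib.Helper83.WittTrunc
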